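/-
Certificate data of a coset enumeration.
-/
import Cfsg.Agent.Lib.CosetEnum.ONJA.Data

set_option autoImplicit false
set_option maxRecDepth 1000000

namespace CfsgLib.CosetEnum.ONJA

open CfsgLib.CosetEnum

/-- Completion of the rows from 0. -/
noncomputable def rows0 : List (List ℕ) := [[(nat_lit 0x1), (nat_lit 0x1001), (nat_lit 0x2001)], [(nat_lit 0x3001), (nat_lit 0x4001), (nat_lit 0x2001)], [(nat_lit 0x5001), (nat_lit 0x4001), (nat_lit 0x6001)], [(nat_lit 0x5001), (nat_lit 0x7001), (nat_lit 0x8001)], [(nat_lit 0x9001), (nat_lit 0xa001), (nat_lit 0x6001)], [(nat_lit 0xb001), (nat_lit 0x7001), (nat_lit 0xc001)], [(nat_lit 0x9001), (nat_lit 0xd001), (nat_lit 0x8001)], [(nat_lit 0xe001), (nat_lit 0xa001), (nat_lit 0xf001)], [(nat_lit 0xb001), (nat_lit 0x10001), (nat_lit 0x12001)], [(nat_lit 0x13001), (nat_lit 0x14001), (nat_lit 0xc001)], [(nat_lit 0x15001), (nat_lit 0xd001), (nat_lit 0x16001)], [(nat_lit 0xe001), (nat_lit 0x17001), (nat_lit 0x18001)], [(nat_lit 0x19001), (nat_lit 0x1a001), (nat_lit 0xf001)], [(nat_lit 0x11001), (nat_lit 0x10001), (nat_lit 0x1b001)], [(nat_lit 0x13001), (nat_lit 0x1d001), (nat_lit 0x12001)], [(nat_lit 0x1e001), (nat_lit 0x14001), (nat_lit 0x1f001)], [(nat_lit 0x15001), (nat_lit 0x20001), (nat_lit 0x21001)], [(nat_lit 0x22001), (nat_lit 0x23001), (nat_lit 0x16001)], [(nat_lit 0x24001), (nat_lit 0x17001), (nat_lit 0x25001)], [(nat_lit 0x19001), (nat_lit 0x26001), (nat_lit 0x18001)], [(nat_lit 0x27001), (nat_lit 0x1a001), (nat_lit 0x28001)], [(nat_lit 0x1c001), (nat_lit 0x29001), (nat_lit 0x1b001)], [(nat_lit 0x2a001), (nat_lit 0x1d001), (nat_lit 0x2b001)], [(nat_lit 0x1e001), (nat_lit 0x2c001), (nat_lit 0x2d001)], [(nat_lit 0x2e001), (nat_lit 0x2f001), (nat_lit 0x1f001)], [(nat_lit 0x30001), (nat_lit 0x20001), (nat_lit 0x31001)], [(nat_lit 0x22001), (nat_lit 0x32001), (nat_lit 0x21001)], [(nat_lit 0x33001), (nat_lit 0x23001), (nat_lit 0x34001)], [(nat_lit 0x24001), (nat_lit 0x35001), (nat_lit 0x36001)], [(nat_lit 0x37001), (nat_lit 0x38001), (nat_lit 0x25001)], [(nat_lit 0x39001), (nat_lit 0x26001), (nat_lit 0x3a001)], [(nat_lit 0x27001), (nat_lit 0x3b001), (nat_lit 0x3c001)], [(nat_lit 0x3d001), (nat_lit 0x3e001), (nat_lit 0x28001)], [(nat_lit 0x3f001), (nat_lit 0x29001), (nat_lit 0x40001)], [(nat_lit 0x2a001), (nat_lit 0x41001), (nat_lit 0x42001)], [(nat_lit 0x43001), (nat_lit 0x44001), (nat_lit 0x2b001)], [(nat_lit 0x45001), (nat_lit 0x2c001), (nat_lit 0x24b9c00046002)], [(nat_lit 0x2e001), (nat_lit 0x47001), (nat_lit 0x2d001)], [(nat_lit 0x48001), (nat_lit 0x2f001), (nat_lit 0x49001)], [(nat_lit 0x30001), (nat_lit 0x4a001), (nat_lit 0x4c001)], [(nat_lit 0x4d001), (nat_lit 0x4e001), (nat_lit 0x31001)], [(nat_lit 0x4f001), (nat_lit 0x32001), (nat_lit 0x50001)], [(nat_lit 0x33001), (nat_lit 0x51001), (nat_lit 0x52001)], [(nat_lit 0x53001), (nat_lit 0x54001), (nat_lit 0x34001)], [(nat_lit 0x4b001), (nat_lit 0x35001), (nat_lit 0x55001)], [(nat_lit 0x37001), (nat_lit 0x56001), (nat_lit 0x36001)], [(nat_lit 0x57001), (nat_lit 0x38001), (nat_lit 0x58001)], [(nat_lit 0x39001), (nat_lit 0x59001), (nat_lit 0x5a001)], [(nat_lit 0x5b001), (nat_lit 0x5c001), (nat_lit 0x3a001)], [(nat_lit 0x5d001), (nat_lit 0x3b001), (nat_lit 0x5e001)], [(nat_lit 0x3d001), (nat_lit 0x5f001), (nat_lit 0x3c001)], [(nat_lit 0x61001), (nat_lit 0x3e001), (nat_lit 0x62001)], [(nat_lit 0x3f001), (nat_lit 0x63001), (nat_lit 0x64001)], [(nat_lit 0x65001), (nat_lit 0x66001), (nat_lit 0x40001)], [(nat_lit 0x67001), (nat_lit 0x41001), (nat_lit 0x2581e00068002)], [(nat_lit 0x43001), (nat_lit 0x69001), (nat_lit 0x42001)], [(nat_lit 0x6a001), (nat_lit 0x44001), (nat_lit 0x6b001)], [(nat_lit 0x45001), (nat_lit 0x6c001), (nat_lit 0x24e850006d002)], [(nat_lit 0x70001), (nat_lit 0x47001), (nat_lit 0x71001)], [(nat_lit 0x48001), (nat_lit 0x72001), (nat_lit 0x73001)], [(nat_lit 0x74001), (nat_lit 0x75001), (nat_lit 0x49001)], [(nat_lit 0x4b001), (nat_lit 0x4a001), (nat_lit 0x76001)], [(nat_lit 0x4d001), (nat_lit 0x78001), (nat_lit 0x4c001)], [(nat_lit 0x79001), (nat_lit 0x4e001), (nat_lit 0x7a001)], [(nat_lit 0x4f001), (nat_lit 0x7b001), (nat_lit 0x7c001)], [(nat_lit 0x7d001), (nat_lit 0x7e001), (nat_lit 0x50001)], [(nat_lit 0x7f001), (nat_lit 0x51001), (nat_lit 0x80001)], [(nat_lit 0x53001), (nat_lit 0x81001), (nat_lit 0x52001)], [(nat_lit 0x82001), (nat_lit 0x54001), (nat_lit 0x83001)], [(nat_lit 0x77001), (nat_lit 0x84001), (nat_lit 0x55001)], [(nat_lit 0x85001), (nat_lit 0x56001), (nat_lit 0x86001)], [(nat_lit 0x57001), (nat_lit 0x87001), (nat_lit 0x88001)], [(nat_lit 0x89001), (nat_lit 0x8a001), (nat_lit 0x58001)], [(nat_lit 0x8b001), (nat_lit 0x59001), (nat_lit 0x8c001)], [(nat_lit 0x5b001), (nat_lit 0x8d001), (nat_lit 0x5a001)], [(nat_lit 0x8e001), (nat_lit 0x5c001), (nat_lit 0x60001)], [(nat_lit 0x5d001), (nat_lit 0x8f001), (nat_lit 0x90001)], [(nat_lit 0x91001), (nat_lit 0x92001), (nat_lit 0x5e001)], [(nat_lit 0x93001), (nat_lit 0x5f001), (nat_lit 0x60001)], [(nat_lit 0x61001), (nat_lit 0x95001), (nat_lit 0x96001)], [(nat_lit 0x97001), (nat_lit 0x98001), (nat_lit 0x62001)], [(nat_lit 0x99001), (nat_lit 0x63001), (nat_lit 0x9a001)], [(nat_lit 0x65001), (nat_lit 0x9b001), (nat_lit 0x64001)], [(nat_lit 0x9c001), (nat_lit 0x66001), (nat_lit 0x9d001)], [(nat_lit 0x67001), (nat_lit 0x9e001), (nat_lit 0x25b9b000a0002)], [(nat_lit 0xa3001), (nat_lit 0x69001), (nat_lit 0xa4001)], [(nat_lit 0x6a001), (nat_lit 0xa5001), (nat_lit 0xa6001)], [(nat_lit 0xa7001), (nat_lit 0xa8001), (nat_lit 0x6b001)], [(nat_lit 0x9f001), (nat_lit 0x6c001), (nat_lit 0xa9001)], [(nat_lit 0x70001), (nat_lit 0xad001), (nat_lit 0xae001)], [(nat_lit 0xaf001), (nat_lit 0xb0001), (nat_lit 0x71001)], [(nat_lit 0xb1001), (nat_lit 0x72001), (nat_lit 0xb2001)], [(nat_lit 0x74001), (nat_lit 0xb3001), (nat_lit 0x73001)], [(nat_lit 0xb4001), (nat_lit 0x75001), (nat_lit 0xb5001)], [(nat_lit 0x77001), (nat_lit 0xb6001), (nat_lit 0x76001)], [(nat_lit 0xb7001), (nat_lit 0x78001), (nat_lit 0xb8001)], [(nat_lit 0x79001), (nat_lit 0xb9001), (nat_lit 0xba001)], [(nat_lit 0xbb001), (nat_lit 0xbc001), (nat_lit 0x7a001)], [(nat_lit 0xbd001), (nat_lit 0x7b001), (nat_lit 0xbe001)], [(nat_lit 0x7d001), (nat_lit 0xbf001), (nat_lit 0x7c001)], [(nat_lit 0xc0001), (nat_lit 0x7e001), (nat_lit 0xc1001)], [(nat_lit 0x7f001), (nat_lit 0xc2001), (nat_lit 0xc3001)], [(nat_lit 0xc4001), (nat_lit 0xc5001), (nat_lit 0x80001)], [(nat_lit 0xc6001), (nat_lit 0x81001), (nat_lit 0xc7001)], [(nat_lit 0x82001), (nat_lit 0xc8001), (nat_lit 0x83001)], [(nat_lit 0xc9001), (nat_lit 0x84001), (nat_lit 0xca001)], [(nat_lit 0x85001), (nat_lit 0xcb001), (nat_lit 0xcc001)], [(nat_lit 0xcd001), (nat_lit 0xce001), (nat_lit 0x86001)], [(nat_lit 0xcf001), (nat_lit 0x87001), (nat_lit 0x24786000d0002)], [(nat_lit 0x89001), (nat_lit 0xd1001), (nat_lit 0x88001)], [(nat_lit 0xd2001), (nat_lit 0x8a001), (nat_lit 0xd3001)], [(nat_lit 0x8b001), (nat_lit 0xd4001), (nat_lit 0xd6001)], [(nat_lit 0xd7001), (nat_lit 0xd8001), (nat_lit 0x8c001)], [(nat_lit 0xd9001), (nat_lit 0x8d001), (nat_lit 0xda001)], [(nat_lit 0x8e001), (nat_lit 0xdb001), (nat_lit 0x94001)], [(nat_lit 0xd5001), (nat_lit 0x8f001), (nat_lit 0xdc001)], [(nat_lit 0x91001), (nat_lit 0xdd001), (nat_lit 0x90001)], [(nat_lit 0xde001), (nat_lit 0x92001), (nat_lit 0xdf001)], [(nat_lit 0x93001), (nat_lit 0xe0001), (nat_lit 0x94001)], [(nat_lit 0xe1001), (nat_lit 0x95001), (nat_lit 0xe2001)], [(nat_lit 0x97001), (nat_lit 0xe3001), (nat_lit 0x96001)], [(nat_lit 0xe4001), (nat_lit 0x98001), (nat_lit 0xe5001)], [(nat_lit 0x99001), (nat_lit 0xe6001), (nat_lit 0xe8001)], [(nat_lit 0xe9001), (nat_lit 0xea001), (nat_lit 0x9a001)], [(nat_lit 0xeb001), (nat_lit 0x9b001), (nat_lit 0xec001)], [(nat_lit 0x9c001), (nat_lit 0xed001), (nat_lit 0xee001)], [(nat_lit 0xef001), (nat_lit 0xf0001), (nat_lit 0x9d001)], [(nat_lit 0x9f001), (nat_lit 0x9e001), (nat_lit 0xf1001)], [(nat_lit 0xa3001), (nat_lit 0xf6001), (nat_lit 0xf7001)], [(nat_lit 0xf8001), (nat_lit 0xf9001), (nat_lit 0xa4001)], [(nat_lit 0xfa001), (nat_lit 0xa5001), (nat_lit 0xfb001)], [(nat_lit 0xa7001), (nat_lit 0xfc001), (nat_lit 0xa6001)], [(nat_lit 0xfd001), (nat_lit 0xa8001), (nat_lit 0xfe001)], [(nat_lit 0xf2001), (nat_lit 0xff001), (nat_lit 0xa9001)], [(nat_lit 0x106001), (nat_lit 0xad001), (nat_lit 0x107001)], [(nat_lit 0xaf001), (nat_lit 0x108001), (nat_lit 0xae001)], [(nat_lit 0x109001), (nat_lit 0xb0001), (nat_lit 0x10a001)], [(nat_lit 0xb1001), (nat_lit 0x10b001), (nat_lit 0x10c001)], [(nat_lit 0x10d001), (nat_lit 0x10e001), (nat_lit 0xb2001)], [(nat_lit 0x10f001), (nat_lit 0xb3001), (nat_lit 0x110001)], [(nat_lit 0xb4001), (nat_lit 0x111001), (nat_lit 0x112001)], [(nat_lit 0x113001), (nat_lit 0x114001), (nat_lit 0xb5001)], [(nat_lit 0x115001), (nat_lit 0xb6001), (nat_lit 0x116001)], [(nat_lit 0xb7001), (nat_lit 0x117001), (nat_lit 0x118001)], [(nat_lit 0x119001), (nat_lit 0x11a001), (nat_lit 0xb8001)], [(nat_lit 0x11b001), (nat_lit 0xb9001), (nat_lit 0x11c001)], [(nat_lit 0xbb001), (nat_lit 0x11d001), (nat_lit 0xba001)], [(nat_lit 0x11e001), (nat_lit 0xbc001), (nat_lit 0x11f001)], [(nat_lit 0xbd001), (nat_lit 0x120001), (nat_lit 0x122001)], [(nat_lit 0x123001), (nat_lit 0x124001), (nat_lit 0xbe001)], [(nat_lit 0x125001), (nat_lit 0xbf001), (nat_lit 0x126001)], [(nat_lit 0xc0001), (nat_lit 0x127001), (nat_lit 0x128001)], [(nat_lit 0x129001), (nat_lit 0x12a001), (nat_lit 0xc1001)], [(nat_lit 0x121001), (nat_lit 0xc2001), (nat_lit 0x12b001)], [(nat_lit 0xc4001), (nat_lit 0x12c001), (nat_lit 0xc3001)], [(nat_lit 0x12d001), (nat_lit 0xc5001), (nat_lit 0x12e001)], [(nat_lit 0xc6001), (nat_lit 0x12f001), (nat_lit 0x130001)], [(nat_lit 0x131001), (nat_lit 0x132001), (nat_lit 0xc7001)], [(nat_lit 0x133001), (nat_lit 0xc8001), (nat_lit 0x134001)], [(nat_lit 0xc9001), (nat_lit 0x135001), (nat_lit 0x136001)], [(nat_lit 0x137001), (nat_lit 0x138001), (nat_lit 0xca001)], [(nat_lit 0x139001), (nat_lit 0xcb001), (nat_lit 0x13a001)], [(nat_lit 0xcd001), (nat_lit 0x13b001), (nat_lit 0xcc001)], [(nat_lit 0x13c001), (nat_lit 0xce001), (nat_lit 0x13d001)], [(nat_lit 0xcf001), (nat_lit 0x13e001), (nat_lit 0x244eb0013f002)], [(nat_lit 0x142001), (nat_lit 0xd1001), (nat_lit 0x143001)], [(nat_lit 0xd2001), (nat_lit 0x144001), (nat_lit 0x145001)], [(nat_lit 0x146001), (nat_lit 0x147001), (nat_lit 0xd3001)], [(nat_lit 0xd5001), (nat_lit 0xd4001), (nat_lit 0x148001)], [(nat_lit 0xd7001), (nat_lit 0x14a001), (nat_lit 0xd6001)], [(nat_lit 0x14b001), (nat_lit 0xd8001), (nat_lit 0x14c001)], [(nat_lit 0xd9001), (nat_lit 0x14d001), (nat_lit 0x14e001)], [(nat_lit 0x14f001), (nat_lit 0x150001), (nat_lit 0xda001)], [(nat_lit 0x151001), (nat_lit 0xdb001), (nat_lit 0x152001)], [(nat_lit 0x149001), (nat_lit 0x153001), (nat_lit 0xdc001)], [(nat_lit 0x154001), (nat_lit 0xdd001), (nat_lit 0x155001)], [(nat_lit 0xde001), (nat_lit 0x156001), (nat_lit 0x157001)], [(nat_lit 0x158001), (nat_lit 0x159001), (nat_lit 0xdf001)], [(nat_lit 0x15a001), (nat_lit 0xe0001), (nat_lit 0x15b001)], [(nat_lit 0xe1001), (nat_lit 0x15c001), (nat_lit 0x15d001)], [(nat_lit 0x15e001), (nat_lit 0x15f001), (nat_lit 0xe2001)], [(nat_lit 0x160001), (nat_lit 0xe3001), (nat_lit 0x161001)], [(nat_lit 0xe4001), (nat_lit 0x163001), (nat_lit 0x164001)], [(nat_lit 0x165001), (nat_lit 0x166001), (nat_lit 0xe5001)], [(nat_lit 0xe7001), (nat_lit 0xe6001), (nat_lit 0x2dec700167002)], [(nat_lit 0xe9001), (nat_lit 0x168001), (nat_lit 0xe8001)], [(nat_lit 0x169001), (nat_lit 0xea001), (nat_lit 0x16a001)], [(nat_lit 0xeb001), (nat_lit 0x16b001), (nat_lit 0x16c001)], [(nat_lit 0x16d001), (nat_lit 0x16e001), (nat_lit 0xec001)], [(nat_lit 0x16f001), (nat_lit 0xed001), (nat_lit 0x170001)], [(nat_lit 0xef001), (nat_lit 0x171001), (nat_lit 0xee001)], [(nat_lit 0x172001), (nat_lit 0xf0001), (nat_lit 0x173001)], [(nat_lit 0xf2001), (nat_lit 0x174001), (nat_lit 0xf1001)], [(nat_lit 0x17b001), (nat_lit 0xf6001), (nat_lit 0x17c001)], [(nat_lit 0xf8001), (nat_lit 0x17d001), (nat_lit 0xf7001)], [(nat_lit 0x17e001), (nat_lit 0xf9001), (nat_lit 0x17f001)], [(nat_lit 0xfa001), (nat_lit 0x180001), (nat_lit 0x181001)], [(nat_lit 0x182001), (nat_lit 0x183001), (nat_lit 0xfb001)], [(nat_lit 0x184001), (nat_lit 0xfc001), (nat_lit 0x185001)], [(nat_lit 0xfd001), (nat_lit 0x186001), (nat_lit 0x187001)], [(nat_lit 0x188001), (nat_lit 0x189001), (nat_lit 0xfe001)], [(nat_lit 0x18a001), (nat_lit 0xff001), (nat_lit 0x18b001)], [(nat_lit 0x106001), (nat_lit 0x192001), (nat_lit 0x194001)], [(nat_lit 0x195001), (nat_lit 0x196001), (nat_lit 0x107001)], [(nat_lit 0x197001), (nat_lit 0x108001), (nat_lit 0x198001)], [(nat_lit 0x109001), (nat_lit 0x199001), (nat_lit 0x19a001)], [(nat_lit 0x19b001), (nat_lit 0x19c001), (nat_lit 0x10a001)], [(nat_lit 0x193001), (nat_lit 0x10b001), (nat_lit 0x19d001)], [(nat_lit 0x10d001), (nat_lit 0x19e001), (nat_lit 0x10c001)], [(nat_lit 0x19f001), (nat_lit 0x10e001), (nat_lit 0x1a0001)], [(nat_lit 0x10f001), (nat_lit 0x1a1001), (nat_lit 0x1a2001)], [(nat_lit 0x1a3001), (nat_lit 0x162001), (nat_lit 0x110001)], [(nat_lit 0x1a4001), (nat_lit 0x111001), (nat_lit 0x1a5001)], [(nat_lit 0x113001), (nat_lit 0x1a6001), (nat_lit 0x112001)], [(nat_lit 0x1a7001), (nat_lit 0x114001), (nat_lit 0x1a8001)], [(nat_lit 0x115001), (nat_lit 0x1a9001), (nat_lit 0x1aa001)], [(nat_lit 0x1ab001), (nat_lit 0x1ac001), (nat_lit 0x116001)], [(nat_lit 0x1ad001), (nat_lit 0x117001), (nat_lit 0x2e8c0001ae002)], [(nat_lit 0x119001), (nat_lit 0x1af001), (nat_lit 0x118001)], [(nat_lit 0x1b0001), (nat_lit 0x11a001), (nat_lit 0x1b1001)], [(nat_lit 0x11b001), (nat_lit 0x1b2001), (nat_lit 0x1b3001)], [(nat_lit 0x1b4001), (nat_lit 0x2dda6001b5002), (nat_lit 0x11c001)], [(nat_lit 0x1b6001), (nat_lit 0x11d001), (nat_lit 0x1b7001)], [(nat_lit 0x11e001), (nat_lit 0x1b8001), (nat_lit 0x1b9001)], [(nat_lit 0x1ba001), (nat_lit 0x1bb001), (nat_lit 0x11f001)], [(nat_lit 0x121001), (nat_lit 0x120001), (nat_lit 0x1bc001)], [(nat_lit 0x123001), (nat_lit 0x1be001), (nat_lit 0x122001)], [(nat_lit 0x1bf001), (nat_lit 0x124001), (nat_lit 0x1c0001)], [(nat_lit 0x125001), (nat_lit 0x1c1001), (nat_lit 0x1c2001)], [(nat_lit 0x1c3001), (nat_lit 0x1c4001), (nat_lit 0x126001)], [(nat_lit 0x1c5001), (nat_lit 0x127001), (nat_lit 0x1c6001)], [(nat_lit 0x129001), (nat_lit 0x1c7001), (nat_lit 0x128001)], [(nat_lit 0x1c8001), (nat_lit 0x12a001), (nat_lit 0x1ca001)], [(nat_lit 0x1bd001), (nat_lit 0x1cc001), (nat_lit 0x12b001)], [(nat_lit 0x1cd001), (nat_lit 0x12c001), (nat_lit 0x1ce001)], [(nat_lit 0x12d001), (nat_lit 0x1cf001), (nat_lit 0x1d0001)], [(nat_lit 0x1d1001), (nat_lit 0x1d2001), (nat_lit 0x12e001)], [(nat_lit 0x1d3001), (nat_lit 0x12f001), (nat_lit 0x1d4001)], [(nat_lit 0x131001), (nat_lit 0x1d5001), (nat_lit 0x130001)], [(nat_lit 0x1d6001), (nat_lit 0x132001), (nat_lit 0x1d7001)], [(nat_lit 0x133001), (nat_lit 0x1d9001), (nat_lit 0x1da001)], [(nat_lit 0x1db001), (nat_lit 0x1dc001), (nat_lit 0x134001)], [(nat_lit 0x1dd001), (nat_lit 0x135001), (nat_lit 0x1de001)], [(nat_lit 0x137001), (nat_lit 0x1df001), (nat_lit 0x136001)], [(nat_lit 0x1e0001), (nat_lit 0x138001), (nat_lit 0x1e1001)], [(nat_lit 0x139001), (nat_lit 0x1e2001), (nat_lit 0x1e4001)], [(nat_lit 0x1e5001), (nat_lit 0x1e6001), (nat_lit 0x13a001)], [(nat_lit 0x1e7001), (nat_lit 0x13b001), (nat_lit 0x1e8001)], [(nat_lit 0x13c001), (nat_lit 0x1e9001), (nat_lit 0x1ea001)], [(nat_lit 0x1eb001), (nat_lit 0x1ec001), (nat_lit 0x13d001)], [(nat_lit 0x1e3001), (nat_lit 0x13e001), (nat_lit 0x1ed001)], [(nat_lit 0x142001), (nat_lit 0x1f1001), (nat_lit 0x1f2001)], [(nat_lit 0x1f3001), (nat_lit 0x1f4001), (nat_lit 0x143001)], [(nat_lit 0x1f5001), (nat_lit 0x144001), (nat_lit 0x1f6001)], [(nat_lit 0x146001), (nat_lit 0x1f7001), (nat_lit 0x145001)], [(nat_lit 0x1f8001), (nat_lit 0x147001), (nat_lit 0x1f9001)], [(nat_lit 0x149001), (nat_lit 0x1fa001), (nat_lit 0x148001)], [(nat_lit 0x1fb001), (nat_lit 0x14a001), (nat_lit 0x1fc001)], [(nat_lit 0x14b001), (nat_lit 0x1fd001), (nat_lit 0x1fe001)], [(nat_lit 0x1ff001), (nat_lit 0x200001), (nat_lit 0x14c001)], [(nat_lit 0x201001), (nat_lit 0x14d001), (nat_lit 0x202001)], [(nat_lit 0x14f001), (nat_lit 0x203001), (nat_lit 0x14e001)], [(nat_lit 0x204001), (nat_lit 0x150001), (nat_lit 0x205001)], [(nat_lit 0x151001), (nat_lit 0x206001), (nat_lit 0x207001)], [(nat_lit 0x208001), (nat_lit 0x209001), (nat_lit 0x152001)], [(nat_lit 0x20a001), (nat_lit 0x153001), (nat_lit 0x20b001)], [(nat_lit 0x154001), (nat_lit 0x20c001), (nat_lit 0x20d001)], [(nat_lit 0x20e001), (nat_lit 0x20f001), (nat_lit 0x155001)], [(nat_lit 0x210001), (nat_lit 0x156001), (nat_lit 0x21f6800211002)], [(nat_lit 0x158001), (nat_lit 0x212001), (nat_lit 0x157001)], [(nat_lit 0x213001), (nat_lit 0x159001), (nat_lit 0x214001)], [(nat_lit 0x15a001), (nat_lit 0x215001), (nat_lit 0x217001)], [(nat_lit 0x218001), (nat_lit 0x219001), (nat_lit 0x15b001)], [(nat_lit 0x216001), (nat_lit 0x15c001), (nat_lit 0x21a001)], [(nat_lit 0x15e001), (nat_lit 0x21b001), (nat_lit 0x15d001)], [(nat_lit 0x21c001), (nat_lit 0x15f001), (nat_lit 0x21d001)], [(nat_lit 0x160001), (nat_lit 0x21e001), (nat_lit 0x21f001)], [(nat_lit 0x220001), (nat_lit 0x162001), (nat_lit 0x161001)], [(nat_lit 0x221001), (nat_lit 0x163001), (nat_lit 0x222001)], [(nat_lit 0x165001), (nat_lit 0x223001), (nat_lit 0x164001)], [(nat_lit 0x224001), (nat_lit 0x166001), (nat_lit 0x225001)], [(nat_lit 0x227001), (nat_lit 0x168001), (nat_lit 0x228001)], [(nat_lit 0x169001), (nat_lit 0x2dec600229002), (nat_lit 0x22a001)], [(nat_lit 0x22b001), (nat_lit 0x22c001), (nat_lit 0x16a001)], [(nat_lit 0x22d001), (nat_lit 0x16b001), (nat_lit 0x22e001)], [(nat_lit 0x16d001), (nat_lit 0x22f001), (nat_lit 0x16c001)], [(nat_lit 0x230001), (nat_lit 0x16e001), (nat_lit 0x231001)], [(nat_lit 0x16f001), (nat_lit 0x232001), (nat_lit 0x233001)], [(nat_lit 0x234001), (nat_lit 0x235001), (nat_lit 0x170001)], [(nat_lit 0x236001), (nat_lit 0x171001), (nat_lit 0x237001)], [(nat_lit 0x172001), (nat_lit 0x238001), (nat_lit 0x239001)], [(nat_lit 0x23a001), (nat_lit 0x23b001), (nat_lit 0x173001)], [(nat_lit 0x23c001), (nat_lit 0x174001), (nat_lit 0x23d001)], [(nat_lit 0x17b001), (nat_lit 0x247001), (nat_lit 0x249001)], [(nat_lit 0x24a001), (nat_lit 0x24b001), (nat_lit 0x17c001)], [(nat_lit 0x24c001), (nat_lit 0x17d001), (nat_lit 0x24d001)], [(nat_lit 0x17e001), (nat_lit 0x24e001), (nat_lit 0x24f001)], [(nat_lit 0x250001), (nat_lit 0x251001), (nat_lit 0x17f001)], [(nat_lit 0x248001), (nat_lit 0x180001), (nat_lit 0x252001)], [(nat_lit 0x182001), (nat_lit 0x253001), (nat_lit 0x181001)], [(nat_lit 0x254001), (nat_lit 0x183001), (nat_lit 0x255001)], [(nat_lit 0x184001), (nat_lit 0x256001), (nat_lit 0x257001)], [(nat_lit 0x258001), (nat_lit 0x259001), (nat_lit 0x185001)], [(nat_lit 0x25a001), (nat_lit 0x186001), (nat_lit 0x25b001)], [(nat_lit 0x188001), (nat_lit 0x1d8001), (nat_lit 0x187001)], [(nat_lit 0x25c001), (nat_lit 0x189001), (nat_lit 0x25d001)], [(nat_lit 0x18a001), (nat_lit 0x25e001), (nat_lit 0x25f001)], [(nat_lit 0x260001), (nat_lit 0x261001), (nat_lit 0x18b001)], [(nat_lit 0x193001), (nat_lit 0x192001), (nat_lit 0x26c001)], [(nat_lit 0x195001), (nat_lit 0x26e001), (nat_lit 0x194001)], [(nat_lit 0x26f001), (nat_lit 0x196001), (nat_lit 0x270001)], [(nat_lit 0x197001), (nat_lit 0x271001), (nat_lit 0x272001)], [(nat_lit 0x273001), (nat_lit 0x274001), (nat_lit 0x198001)], [(nat_lit 0x275001), (nat_lit 0x199001), (nat_lit 0x276001)], [(nat_lit 0x19b001), (nat_lit 0x277001), (nat_lit 0x19a001)], [(nat_lit 0x1cb001), (nat_lit 0x19c001), (nat_lit 0x1c9001)], [(nat_lit 0x26d001), (nat_lit 0x278001), (nat_lit 0x19d001)], [(nat_lit 0x279001), (nat_lit 0x19e001), (nat_lit 0x27a001)], [(nat_lit 0x19f001), (nat_lit 0x27b001), (nat_lit 0x27c001)], [(nat_lit 0x27d001), (nat_lit 0x27e001), (nat_lit 0x1a0001)], [(nat_lit 0x27f001), (nat_lit 0x1a1001), (nat_lit 0x280001)], [(nat_lit 0x1a3001), (nat_lit 0x281001), (nat_lit 0x1a2001)], [(nat_lit 0x1a4001), (nat_lit 0x282001), (nat_lit 0x283001)], [(nat_lit 0x284001), (nat_lit 0x285001), (nat_lit 0x1a5001)], [(nat_lit 0x286001), (nat_lit 0x1a6001), (nat_lit 0x287001)], [(nat_lit 0x1a7001), (nat_lit 0x289001), (nat_lit 0x28a001)], [(nat_lit 0x28b001), (nat_lit 0x28c001), (nat_lit 0x1a8001)], [(nat_lit 0x28d001), (nat_lit 0x1a9001), (nat_lit 0x28e001)], [(nat_lit 0x1ab001), (nat_lit 0x28f001), (nat_lit 0x1aa001)], [(nat_lit 0x290001), (nat_lit 0x1ac001), (nat_lit 0x291001)], [(nat_lit 0x1ad001), (nat_lit 0x292001), (nat_lit 0x2ea3e00294002)], [(nat_lit 0x297001), (nat_lit 0x1af001), (nat_lit 0x298001)], [(nat_lit 0x1b0001), (nat_lit 0x299001), (nat_lit 0x29a001)], [(nat_lit 0x29b001), (nat_lit 0x29c001), (nat_lit 0x1b1001)], [(nat_lit 0x293001), (nat_lit 0x1b2001), (nat_lit 0x29d001)], [(nat_lit 0x1b4001), (nat_lit 0x29e001), (nat_lit 0x1b3001)], [(nat_lit 0x1b6001), (nat_lit 0x2a1001), (nat_lit 0x2a2001)], [(nat_lit 0x2a3001), (nat_lit 0x2a4001), (nat_lit 0x1b7001)], [(nat_lit 0x2a5001), (nat_lit 0x1b8001), (nat_lit 0x2a6001)], [(nat_lit 0x1ba001), (nat_lit 0x2a7001), (nat_lit 0x1b9001)], [(nat_lit 0x2a8001), (nat_lit 0x1bb001), (nat_lit 0x2a9001)], [(nat_lit 0x1bd001), (nat_lit 0x2aa001), (nat_lit 0x1bc001)], [(nat_lit 0x2ab001), (nat_lit 0x1be001), (nat_lit 0x2ac001)], [(nat_lit 0x1bf001), (nat_lit 0x2ad001), (nat_lit 0x2ae001)], [(nat_lit 0x2af001), (nat_lit 0x2b0001), (nat_lit 0x1c0001)], [(nat_lit 0x2b1001), (nat_lit 0x1c1001), (nat_lit 0x2b2001)], [(nat_lit 0x1c3001), (nat_lit 0x2b3001), (nat_lit 0x1c2001)], [(nat_lit 0x2b4001), (nat_lit 0x1c4001), (nat_lit 0x2b5001)], [(nat_lit 0x1c5001), (nat_lit 0x2b6001), (nat_lit 0x2b7001)], [(nat_lit 0x2b8001), (nat_lit 0x2b9001), (nat_lit 0x1c6001)], [(nat_lit 0x2ba001), (nat_lit 0x1c7001), (nat_lit 0x2bb001)], [(nat_lit 0x1c8001), (nat_lit 0x2bc001), (nat_lit 0x1c9001)], [(nat_lit 0x1cb001), (nat_lit 0x2bd001), (nat_lit 0x1ca001)], [(nat_lit 0x2be001), (nat_lit 0x1cc001), (nat_lit 0x2bf001)], [(nat_lit 0x1cd001), (nat_lit 0x2c0001), (nat_lit 0x2c1001)], [(nat_lit 0x2c2001), (nat_lit 0x2c3001), (nat_lit 0x1ce001)], [(nat_lit 0x2c4001), (nat_lit 0x1cf001), (nat_lit 0x2202d002c5002)], [(nat_lit 0x1d1001), (nat_lit 0x2c6001), (nat_lit 0x1d0001)], [(nat_lit 0x2c7001), (nat_lit 0x1d2001), (nat_lit 0x2c8001)], [(nat_lit 0x1d3001), (nat_lit 0x2c9001), (nat_lit 0x2cb001)], [(nat_lit 0x2cc001), (nat_lit 0x2cd001), (nat_lit 0x1d4001)], [(nat_lit 0x2ce001), (nat_lit 0x1d5001), (nat_lit 0x2cf001)], [(nat_lit 0x1d6001), (nat_lit 0x2d0001), (nat_lit 0x2d1001)], [(nat_lit 0x2d2001), (nat_lit 0x1d8001), (nat_lit 0x1d7001)], [(nat_lit 0x2ca001), (nat_lit 0x1d9001), (nat_lit 0x2d3001)], [(nat_lit 0x1db001), (nat_lit 0x2d4001), (nat_lit 0x1da001)], [(nat_lit 0x2d5001), (nat_lit 0x1dc001), (nat_lit 0x2d6001)], [(nat_lit 0x1dd001), (nat_lit 0x2d7001), (nat_lit 0x2d8001)], [(nat_lit 0x2d9001), (nat_lit 0x2da001), (nat_lit 0x1de001)], [(nat_lit 0x2db001), (nat_lit 0x1df001), (nat_lit 0x2dc001)], [(nat_lit 0x1e0001), (nat_lit 0x2dd001), (nat_lit 0x2de001)], [(nat_lit 0x2df001), (nat_lit 0x2e0001), (nat_lit 0x1e1001)], [(nat_lit 0x1e3001), (nat_lit 0x1e2001), (nat_lit 0x2e1001)], [(nat_lit 0x1e5001), (nat_lit 0x2ce44002e3002), (nat_lit 0x1e4001)], [(nat_lit 0x1dfde002e4002), (nat_lit 0x1e6001), (nat_lit 0x2e6001)], [(nat_lit 0x1e7001), (nat_lit 0x2e5001), (nat_lit 0x2e7001)], [(nat_lit 0x2e8001), (nat_lit 0x2e9001), (nat_lit 0x1e8001)], [(nat_lit 0x2ea001), (nat_lit 0x1e9001), (nat_lit 0x2eb001)], [(nat_lit 0x1eb001), (nat_lit 0x2ec001), (nat_lit 0x1ea001)], [(nat_lit 0x2ed001), (nat_lit 0x1ec001), (nat_lit 0x2ef001)], [(nat_lit 0x2e2001), (nat_lit 0x2ee001), (nat_lit 0x1ed001)], [(nat_lit 0x2f5001), (nat_lit 0x1f1001), (nat_lit 0x2f7001)], [(nat_lit 0x1f3001), (nat_lit 0x2f6001), (nat_lit 0x1f2001)], [(nat_lit 0x2f8001), (nat_lit 0x1f4001), (nat_lit 0x2f9001)], [(nat_lit 0x1f5001), (nat_lit 0x2fa001), (nat_lit 0x2fb001)], [(nat_lit 0x2fc001), (nat_lit 0x2fd001), (nat_lit 0x1f6001)], [(nat_lit 0x2fe001), (nat_lit 0x1f7001), (nat_lit 0x300001)], [(nat_lit 0x1f8001), (nat_lit 0x2ff001), (nat_lit 0x301001)], [(nat_lit 0x302001), (nat_lit 0x303001), (nat_lit 0x1f9001)], [(nat_lit 0x304001), (nat_lit 0x1fa001), (nat_lit 0x305001)], [(nat_lit 0x1fb001), (nat_lit 0x306001), (nat_lit 0x307001)], [(nat_lit 0x308001), (nat_lit 0x309001), (nat_lit 0x1fc001)], [(nat_lit 0x30a001), (nat_lit 0x1fd001), (nat_lit 0x30c001)], [(nat_lit 0x1ff001), (nat_lit 0x30b001), (nat_lit 0x1fe001)], [(nat_lit 0x30d001), (nat_lit 0x200001), (nat_lit 0x30e001)], [(nat_lit 0x201001), (nat_lit 0x30f001), (nat_lit 0x311001)], [(nat_lit 0x312001), (nat_lit 0x313001), (nat_lit 0x202001)], [(nat_lit 0x314001), (nat_lit 0x203001), (nat_lit 0x316001)], [(nat_lit 0x204001), (nat_lit 0x315001), (nat_lit 0x317001)], [(nat_lit 0x318001), (nat_lit 0x319001), (nat_lit 0x205001)], [(nat_lit 0x310001), (nat_lit 0x206001), (nat_lit 0x31a001)], [(nat_lit 0x208001), (nat_lit 0x31b001), (nat_lit 0x207001)], [(nat_lit 0x31c001), (nat_lit 0x209001), (nat_lit 0x31d001)], [(nat_lit 0x20a001), (nat_lit 0x31e001), (nat_lit 0x31f001)], [(nat_lit 0x320001), (nat_lit 0x321001), (nat_lit 0x20b001)], [(nat_lit 0x322001), (nat_lit 0x20c001), (nat_lit 0x324001)], [(nat_lit 0x20e001), (nat_lit 0x323001), (nat_lit 0x20d001)], [(nat_lit 0x325001), (nat_lit 0x20f001), (nat_lit 0x326001)], [(nat_lit 0x210001), (nat_lit 0x327001), (nat_lit 0x2202c00328002)], [(nat_lit 0x32b001), (nat_lit 0x212001), (nat_lit 0x32d001)], [(nat_lit 0x213001), (nat_lit 0x32c001), (nat_lit 0x32e001)], [(nat_lit 0x32f001), (nat_lit 0x330001), (nat_lit 0x214001)], [(nat_lit 0x216001), (nat_lit 0x215001), (nat_lit 0x331001)], [(nat_lit 0x218001), (nat_lit 0x333001), (nat_lit 0x217001)], [(nat_lit 0x334001), (nat_lit 0x219001), (nat_lit 0x335001)], [(nat_lit 0x332001), (nat_lit 0x336001), (nat_lit 0x21a001)], [(nat_lit 0x337001), (nat_lit 0x21b001), (nat_lit 0x339001)], [(nat_lit 0x21c001), (nat_lit 0x338001), (nat_lit 0x33a001)], [(nat_lit 0x33b001), (nat_lit 0x33c001), (nat_lit 0x21d001)], [(nat_lit 0x33d001), (nat_lit 0x21e001), (nat_lit 0x33e001)], [(nat_lit 0x220001), (nat_lit 0x33f001), (nat_lit 0x21f001)], [(nat_lit 0x221001), (nat_lit 0x340001), (nat_lit 0x342001)], [(nat_lit 0x341001), (nat_lit 0x343001), (nat_lit 0x222001)], [(nat_lit 0x344001), (nat_lit 0x223001), (nat_lit 0x345001)], [(nat_lit 0x224001), (nat_lit 0x347001), (nat_lit 0x348001)], [(nat_lit 0x349001), (nat_lit 0x34a001), (nat_lit 0x225001)], [(nat_lit 0x227001), (nat_lit 0x2c98e0034c002), (nat_lit 0x34e001)], [(nat_lit 0x34f001), (nat_lit 0x350001), (nat_lit 0x228001)], [(nat_lit 0x22b001), (nat_lit 0x352001), (nat_lit 0x22a001)], [(nat_lit 0x353001), (nat_lit 0x22c001), (nat_lit 0x356001)], [(nat_lit 0x22d001), (nat_lit 0x354001), (nat_lit 0x357001)], [(nat_lit 0x358001), (nat_lit 0x359001), (nat_lit 0x22e001)], [(nat_lit 0x35a001), (nat_lit 0x22f001), (nat_lit 0x35b001)], [(nat_lit 0x230001), (nat_lit 0x35c001), (nat_lit 0x35d001)], [(nat_lit 0x35e001), (nat_lit 0x35f001), (nat_lit 0x231001)], [(nat_lit 0x355001), (nat_lit 0x232001), (nat_lit 0x360001)], [(nat_lit 0x234001), (nat_lit 0x361001), (nat_lit 0x233001)], [(nat_lit 0x362001), (nat_lit 0x235001), (nat_lit 0x364001)], [(nat_lit 0x236001), (nat_lit 0x363001), (nat_lit 0x365001)], [(nat_lit 0x366001), (nat_lit 0x288001), (nat_lit 0x237001)], [(nat_lit 0x367001), (nat_lit 0x238001), (nat_lit 0x36a001)], [(nat_lit 0x23a001), (nat_lit 0x368001), (nat_lit 0x239001)], [(nat_lit 0x36b001), (nat_lit 0x23b001), (nat_lit 0x36c001)], [(nat_lit 0x23c001), (nat_lit 0x36d001), (nat_lit 0x36e001)], [(nat_lit 0x36f001), (nat_lit 0x370001), (nat_lit 0x23d001)], [(nat_lit 0x248001), (nat_lit 0x247001), (nat_lit 0x37e001)], [(nat_lit 0x24a001), (nat_lit 0x380001), (nat_lit 0x249001)], [(nat_lit 0x381001), (nat_lit 0x24b001), (nat_lit 0x382001)], [(nat_lit 0x24c001), (nat_lit 0x383001), (nat_lit 0x384001)], [(nat_lit 0x385001), (nat_lit 0x386001), (nat_lit 0x24d001)], [(nat_lit 0x387001), (nat_lit 0x24e001), (nat_lit 0x389001)], [(nat_lit 0x250001), (nat_lit 0x388001), (nat_lit 0x24f001)], [(nat_lit 0x38a001), (nat_lit 0x251001), (nat_lit 0x38c001)], [(nat_lit 0x37f001), (nat_lit 0x38e001), (nat_lit 0x252001)], [(nat_lit 0x38f001), (nat_lit 0x253001), (nat_lit 0x391001)], [(nat_lit 0x254001), (nat_lit 0x390001), (nat_lit 0x392001)], [(nat_lit 0x393001), (nat_lit 0x394001), (nat_lit 0x255001)], [(nat_lit 0x395001), (nat_lit 0x256001), (nat_lit 0x396001)], [(nat_lit 0x258001), (nat_lit 0x397001), (nat_lit 0x257001)], [(nat_lit 0x398001), (nat_lit 0x259001), (nat_lit 0x369001)], [(nat_lit 0x25a001), (nat_lit 0x399001), (nat_lit 0x39a001)], [(nat_lit 0x39b001), (nat_lit 0x39c001), (nat_lit 0x25b001)], [(nat_lit 0x25c001), (nat_lit 0x39d001), (nat_lit 0x39f001)], [(nat_lit 0x39e001), (nat_lit 0x3a0001), (nat_lit 0x25d001)], [(nat_lit 0x3a1001), (nat_lit 0x25e001), (nat_lit 0x3a2001)], [(nat_lit 0x260001), (nat_lit 0x3a3001), (nat_lit 0x25f001)], [(nat_lit 0x3a4001), (nat_lit 0x261001), (nat_lit 0x3a5001)], [(nat_lit 0x26d001), (nat_lit 0x3b1001), (nat_lit 0x26c001)], [(nat_lit 0x3b3001), (nat_lit 0x26e001), (nat_lit 0x3b4001)], [(nat_lit 0x26f001), (nat_lit 0x3b5001), (nat_lit 0x3b6001)], [(nat_lit 0x3b7001), (nat_lit 0x3b8001), (nat_lit 0x270001)], [(nat_lit 0x3b9001), (nat_lit 0x271001), (nat_lit 0x3bb001)], [(nat_lit 0x273001), (nat_lit 0x3ba001), (nat_lit 0x272001)], [(nat_lit 0x3bc001), (nat_lit 0x274001), (nat_lit 0x3bd001)], [(nat_lit 0x275001), (nat_lit 0x3be001), (nat_lit 0x3bf001)], [(nat_lit 0x3c0001), (nat_lit 0x3c1001), (nat_lit 0x276001)], [(nat_lit 0x3c2001), (nat_lit 0x277001), (nat_lit 0x3c4001)], [(nat_lit 0x3c3001), (nat_lit 0x278001), (nat_lit 0x3c5001)], [(nat_lit 0x279001), (nat_lit 0x3c6001), (nat_lit 0x3c8001)], [(nat_lit 0x3c7001), (nat_lit 0x3c9001), (nat_lit 0x27a001)], [(nat_lit 0x3ca001), (nat_lit 0x27b001), (nat_lit 0x2b8c6003cb002)], [(nat_lit 0x27d001), (nat_lit 0x3cc001), (nat_lit 0x27c001)], [(nat_lit 0x3cd001), (nat_lit 0x27e001), (nat_lit 0x3d0001)], [(nat_lit 0x27f001), (nat_lit 0x3ce001), (nat_lit 0x3d1001)], [(nat_lit 0x3d2001), (nat_lit 0x3d3001), (nat_lit 0x280001)], [(nat_lit 0x3d4001), (nat_lit 0x281001), (nat_lit 0x3d5001)], [(nat_lit 0x3cf001), (nat_lit 0x282001), (nat_lit 0x3d6001)], [(nat_lit 0x284001), (nat_lit 0x3d7001), (nat_lit 0x283001)], [(nat_lit 0x3d8001), (nat_lit 0x285001), (nat_lit 0x3d9001)], [(nat_lit 0x286001), (nat_lit 0x3da001), (nat_lit 0x3db001)], [(nat_lit 0x3dc001), (nat_lit 0x288001), (nat_lit 0x287001)], [(nat_lit 0x3dd001), (nat_lit 0x289001), (nat_lit 0x3de001)], [(nat_lit 0x28b001), (nat_lit 0x248bf003df002), (nat_lit 0x28a001)], [(nat_lit 0x3e0001), (nat_lit 0x28c001), (nat_lit 0x3e3001)], [(nat_lit 0x28d001), (nat_lit 0x3e1001), (nat_lit 0x3e4001)], [(nat_lit 0x3e5001), (nat_lit 0x3e6001), (nat_lit 0x28e001)], [(nat_lit 0x3e7001), (nat_lit 0x28f001), (nat_lit 0x3e8001)], [(nat_lit 0x290001), (nat_lit 0x3e9001), (nat_lit 0x3ea001)], [(nat_lit 0x3eb001), (nat_lit 0x3ec001), (nat_lit 0x291001)], [(nat_lit 0x293001), (nat_lit 0x292001), (nat_lit 0x3ed001)], [(nat_lit 0x297001), (nat_lit 0x3ef001), (nat_lit 0x3f1001)], [(nat_lit 0x3f2001), (nat_lit 0x3f3001), (nat_lit 0x298001)], [(nat_lit 0x3f4001), (nat_lit 0x299001), (nat_lit 0x3f5001)], [(nat_lit 0x29b001), (nat_lit 0x3f6001), (nat_lit 0x29a001)], [(nat_lit 0x3f7001), (nat_lit 0x29c001), (nat_lit 0x3f9001)], [(nat_lit 0x3ee001), (nat_lit 0x3f8001), (nat_lit 0x29d001)], [(nat_lit 0x1dfd9003fa002), (nat_lit 0x29e001), (nat_lit 0x3fb001)], [(nat_lit 0x400001), (nat_lit 0x2a1001), (nat_lit 0x402001)], [(nat_lit 0x2a3001), (nat_lit 0x401001), (nat_lit 0x2a2001)], [(nat_lit 0x403001), (nat_lit 0x2a4001), (nat_lit 0x404001)], [(nat_lit 0x2a5001), (nat_lit 0x405001), (nat_lit 0x406001)], [(nat_lit 0x407001), (nat_lit 0x408001), (nat_lit 0x2a6001)], [(nat_lit 0x409001), (nat_lit 0x2a7001), (nat_lit 0x40b001)], [(nat_lit 0x2a8001), (nat_lit 0x40a001), (nat_lit 0x40c001)], [(nat_lit 0x40d001), (nat_lit 0x40e001), (nat_lit 0x2a9001)], [(nat_lit 0x40f001), (nat_lit 0x2aa001), (nat_lit 0x410001)], [(nat_lit 0x2ab001), (nat_lit 0x411001), (nat_lit 0x412001)], [(nat_lit 0x413001), (nat_lit 0x414001), (nat_lit 0x2ac001)], [(nat_lit 0x415001), (nat_lit 0x2ad001), (nat_lit 0x417001)], [(nat_lit 0x2af001), (nat_lit 0x416001), (nat_lit 0x2ae001)], [(nat_lit 0x418001), (nat_lit 0x2b0001), (nat_lit 0x419001)], [(nat_lit 0x2b1001), (nat_lit 0x41a001), (nat_lit 0x41c001)], [(nat_lit 0x41d001), (nat_lit 0x41e001), (nat_lit 0x2b2001)], [(nat_lit 0x41f001), (nat_lit 0x2b3001), (nat_lit 0x421001)], [(nat_lit 0x2b4001), (nat_lit 0x420001), (nat_lit 0x422001)], [(nat_lit 0x423001), (nat_lit 0x424001), (nat_lit 0x2b5001)], [(nat_lit 0x41b001), (nat_lit 0x2b6001), (nat_lit 0x425001)], [(nat_lit 0x2b8001), (nat_lit 0x426001), (nat_lit 0x2b7001)], [(nat_lit 0x427001), (nat_lit 0x2b9001), (nat_lit 0x428001)], [(nat_lit 0x2ba001), (nat_lit 0x429001), (nat_lit 0x42a001)], [(nat_lit 0x42b001), (nat_lit 0x42c001), (nat_lit 0x2bb001)], [(nat_lit 0x42d001), (nat_lit 0x2bc001), (nat_lit 0x42f001)], [(nat_lit 0x42e001), (nat_lit 0x2bd001), (nat_lit 0x430001)], [(nat_lit 0x2be001), (nat_lit 0x431001), (nat_lit 0x433001)], [(nat_lit 0x432001), (nat_lit 0x434001), (nat_lit 0x2bf001)], [(nat_lit 0x435001), (nat_lit 0x2c0001), (nat_lit 0x436001)], [(nat_lit 0x2c2001), (nat_lit 0x437001), (nat_lit 0x2c1001)], [(nat_lit 0x438001), (nat_lit 0x2c3001), (nat_lit 0x43a001)], [(nat_lit 0x2c4001), (nat_lit 0x439001), (nat_lit 0x220fd0043b002)], [(nat_lit 0x43c001), (nat_lit 0x2c6001), (nat_lit 0x43d001)], [(nat_lit 0x2c7001), (nat_lit 0x43e001), (nat_lit 0x43f001)], [(nat_lit 0x440001), (nat_lit 0x441001), (nat_lit 0x2c8001)], [(nat_lit 0x2ca001), (nat_lit 0x2c9001), (nat_lit 0x442001)], [(nat_lit 0x2cc001), (nat_lit 0x444001), (nat_lit 0x2cb001)], [(nat_lit 0x445001), (nat_lit 0x2cd001), (nat_lit 0x447001)], [(nat_lit 0x2ce001), (nat_lit 0x446001), (nat_lit 0x448001)], [(nat_lit 0x449001), (nat_lit 0x44a001), (nat_lit 0x2cf001)], [(nat_lit 0x44b001), (nat_lit 0x2d0001), (nat_lit 0x44e001)], [(nat_lit 0x2d2001), (nat_lit 0x44c001), (nat_lit 0x2d1001)], [(nat_lit 0x443001), (nat_lit 0x44d001), (nat_lit 0x2d3001)], [(nat_lit 0x44f001), (nat_lit 0x2d4001), (nat_lit 0x451001)], [(nat_lit 0x2d5001), (nat_lit 0x450001), (nat_lit 0x453001)], [(nat_lit 0x454001), (nat_lit 0x455001), (nat_lit 0x2d6001)], [(nat_lit 0x3e2001), (nat_lit 0x2d7001), (nat_lit 0x456001)], [(nat_lit 0x2d9001), (nat_lit 0x457001), (nat_lit 0x2d8001)], [(nat_lit 0x458001), (nat_lit 0x2da001), (nat_lit 0x459001)], [(nat_lit 0x2db001), (nat_lit 0x45a001), (nat_lit 0x45c001)], [(nat_lit 0x45b001), (nat_lit 0x45d001), (nat_lit 0x2dc001)], [(nat_lit 0x45e001), (nat_lit 0x2dd001), (nat_lit 0x460001)], [(nat_lit 0x2df001), (nat_lit 0x45f001), (nat_lit 0x2de001)], [(nat_lit 0x461001), (nat_lit 0x2e0001), (nat_lit 0x463001)], [(nat_lit 0x2e2001), (nat_lit 0x462001), (nat_lit 0x2e1001)], [(nat_lit 0x1dfe500467002), (nat_lit 0x46a001), (nat_lit 0x2e6001)], [(nat_lit 0x468001), (nat_lit 0x2e5001), (nat_lit 0x469001)], [(nat_lit 0x2e8001), (nat_lit 0x46b001), (nat_lit 0x2e7001)], [(nat_lit 0x46c001), (nat_lit 0x2e9001), (nat_lit 0x470001)], [(nat_lit 0x2ea001), (nat_lit 0x46d001), (nat_lit 0x46f001)], [(nat_lit 0x46e001), (nat_lit 0x471001), (nat_lit 0x2eb001)], [(nat_lit 0x472001), (nat_lit 0x2ec001), (nat_lit 0x473001)], [(nat_lit 0x2ed001), (nat_lit 0x474001), (nat_lit 0x476001)], [(nat_lit 0x477001), (nat_lit 0x47a001), (nat_lit 0x2ef001)], [(nat_lit 0x475001), (nat_lit 0x2ee001), (nat_lit 0x479001)], [(nat_lit 0x2f5001), (nat_lit 0x481001), (nat_lit 0x485001)], [(nat_lit 0x486001), (nat_lit 0x488001), (nat_lit 0x2f7001)], [(nat_lit 0x483001), (nat_lit 0x2f6001), (nat_lit 0x487001)], [(nat_lit 0x2f8001), (nat_lit 0x489001), (nat_lit 0x48b001)], [(nat_lit 0x48a001), (nat_lit 0x48c001), (nat_lit 0x2f9001)], [(nat_lit 0x482001), (nat_lit 0x2fa001), (nat_lit 0x48d001)], [(nat_lit 0x2fc001), (nat_lit 0x48e001), (nat_lit 0x2fb001)], [(nat_lit 0x48f001), (nat_lit 0x2fd001), (nat_lit 0x492001)], [(nat_lit 0x2fe001), (nat_lit 0x490001), (nat_lit 0x493001)], [(nat_lit 0x494001), (nat_lit 0x346001), (nat_lit 0x300001)], [(nat_lit 0x491001), (nat_lit 0x2ff001), (nat_lit 0x495001)], [(nat_lit 0x302001), (nat_lit 0x496001), (nat_lit 0x301001)], [(nat_lit 0x497001), (nat_lit 0x303001), (nat_lit 0x499001)], [(nat_lit 0x304001), (nat_lit 0x498001), (nat_lit 0x49a001)], [(nat_lit 0x49b001), (nat_lit 0x49c001), (nat_lit 0x305001)], [(nat_lit 0x49d001), (nat_lit 0x306001), (nat_lit 0x4a0001)], [(nat_lit 0x308001), (nat_lit 0x49e001), (nat_lit 0x307001)], [(nat_lit 0x49f001), (nat_lit 0x309001), (nat_lit 0x4a1001)], [(nat_lit 0x30a001), (nat_lit 0x4a2001), (nat_lit 0x4a3001)], [(nat_lit 0x4a4001), (nat_lit 0x225cd004a6002), (nat_lit 0x30c001)], [(nat_lit 0x4a5001), (nat_lit 0x30b001), (nat_lit 0x4a7001)], [(nat_lit 0x30d001), (nat_lit 0x4a8001), (nat_lit 0x4aa001)], [(nat_lit 0x4a9001), (nat_lit 0x4ac001), (nat_lit 0x30e001)], [(nat_lit 0x310001), (nat_lit 0x30f001), (nat_lit 0x4ad001)], [(nat_lit 0x312001), (nat_lit 0x4af001), (nat_lit 0x311001)], [(nat_lit 0x4b0001), (nat_lit 0x313001), (nat_lit 0x4b3001)], [(nat_lit 0x314001), (nat_lit 0x4b1001), (nat_lit 0x4b4001)], [(nat_lit 0x4b5001), (nat_lit 0x4b7001), (nat_lit 0x316001)], [(nat_lit 0x4b2001), (nat_lit 0x315001), (nat_lit 0x4b6001)], [(nat_lit 0x318001), (nat_lit 0x4b8001), (nat_lit 0x317001)], [(nat_lit 0x4b9001), (nat_lit 0x319001), (nat_lit 0x4bb001)], [(nat_lit 0x4ae001), (nat_lit 0x4bd001), (nat_lit 0x31a001)], [(nat_lit 0x4be001), (nat_lit 0x31b001), (nat_lit 0x4bf001)], [(nat_lit 0x31c001), (nat_lit 0x4c0001), (nat_lit 0x4c2001)], [(nat_lit 0x4c1001), (nat_lit 0x4c3001), (nat_lit 0x31d001)], [(nat_lit 0x4c4001), (nat_lit 0x31e001), (nat_lit 0x4c6001)], [(nat_lit 0x320001), (nat_lit 0x4c5001), (nat_lit 0x31f001)], [(nat_lit 0x4c7001), (nat_lit 0x321001), (nat_lit 0x4ca001)], [(nat_lit 0x322001), (nat_lit 0x4c8001), (nat_lit 0x4cb001)], [(nat_lit 0x4cc001), (nat_lit 0x4cf001), (nat_lit 0x324001)], [(nat_lit 0x4cd001), (nat_lit 0x323001), (nat_lit 0x4ce001)], [(nat_lit 0x325001), (nat_lit 0x4d0001), (nat_lit 0x4d1001)], [(nat_lit 0x4d2001), (nat_lit 0x4ab001), (nat_lit 0x326001)], [(nat_lit 0x4c9001), (nat_lit 0x327001), (nat_lit 0x4d3001)], [(nat_lit 0x32b001), (nat_lit 0x4d6001), (nat_lit 0x4d9001)], [(nat_lit 0x4da001), (nat_lit 0x4dc001), (nat_lit 0x32d001)], [(nat_lit 0x4d7001), (nat_lit 0x32c001), (nat_lit 0x4db001)], [(nat_lit 0x32f001), (nat_lit 0x4dd001), (nat_lit 0x32e001)], [(nat_lit 0x4de001), (nat_lit 0x330001), (nat_lit 0x4df001)], [(nat_lit 0x332001), (nat_lit 0x4e0001), (nat_lit 0x331001)], [(nat_lit 0x4e1001), (nat_lit 0x333001), (nat_lit 0x4e2001)], [(nat_lit 0x334001), (nat_lit 0x4e3001), (nat_lit 0x4e5001)], [(nat_lit 0x4e4001), (nat_lit 0x478001), (nat_lit 0x335001)], [(nat_lit 0x4e6001), (nat_lit 0x336001), (nat_lit 0x4e9001)], [(nat_lit 0x337001), (nat_lit 0x4e7001), (nat_lit 0x4ea001)], [(nat_lit 0x4eb001), (nat_lit 0x4ed001), (nat_lit 0x339001)], [(nat_lit 0x4e8001), (nat_lit 0x338001), (nat_lit 0x2c469004ec002)], [(nat_lit 0x33b001), (nat_lit 0x4ee001), (nat_lit 0x33a001)], [(nat_lit 0x4ef001), (nat_lit 0x33c001), (nat_lit 0x4f0001)], [(nat_lit 0x33d001), (nat_lit 0x4f1001), (nat_lit 0x4f4001)], [(nat_lit 0x4f3001), (nat_lit 0x4f5001), (nat_lit 0x33e001)], [(nat_lit 0x4f6001), (nat_lit 0x33f001), (nat_lit 0x4f8001)], [(nat_lit 0x4f2001), (nat_lit 0x340001), (nat_lit 0x4f7001)], [(nat_lit 0x341001), (nat_lit 0x4f9001), (nat_lit 0x342001)], [(nat_lit 0x4fa001), (nat_lit 0x343001), (nat_lit 0x4fb001)], [(nat_lit 0x344001), (nat_lit 0x4fc001), (nat_lit 0x4fe001)], [(nat_lit 0x4fd001), (nat_lit 0x346001), (nat_lit 0x345001)], [(nat_lit 0x4ff001), (nat_lit 0x347001), (nat_lit 0x502001)], [(nat_lit 0x349001), (nat_lit 0x500001), (nat_lit 0x348001)], [(nat_lit 0x501001), (nat_lit 0x34a001), (nat_lit 0x503001)], [(nat_lit 0x34f001), (nat_lit 0x508001), (nat_lit 0x34e001)], [(nat_lit 0x509001), (nat_lit 0x350001), (nat_lit 0x50a001)], [(nat_lit 0x50c001), (nat_lit 0x352001), (nat_lit 0x50e001)], [(nat_lit 0x353001), (nat_lit 0x50d001), (nat_lit 0x50f001)], [(nat_lit 0x510001), (nat_lit 0x513001), (nat_lit 0x356001)], [(nat_lit 0x355001), (nat_lit 0x354001), (nat_lit 0x511001)], [(nat_lit 0x358001), (nat_lit 0x514001), (nat_lit 0x357001)], [(nat_lit 0x2d7e400515002), (nat_lit 0x359001), (nat_lit 0x516001)], [(nat_lit 0x35a001), (nat_lit 0x517001), (nat_lit 0x519001)], [(nat_lit 0x518001), (nat_lit 0x51a001), (nat_lit 0x35b001)], [(nat_lit 0x51b001), (nat_lit 0x35c001), (nat_lit 0x51d001)], [(nat_lit 0x35e001), (nat_lit 0x51c001), (nat_lit 0x35d001)], [(nat_lit 0x38d001), (nat_lit 0x35f001), (nat_lit 0x38b001)], [(nat_lit 0x512001), (nat_lit 0x51e001), (nat_lit 0x360001)], [(nat_lit 0x1b8a20051f002), (nat_lit 0x361001), (nat_lit 0x520001)], [(nat_lit 0x362001), (nat_lit 0x521001), (nat_lit 0x523001)], [(nat_lit 0x524001), (nat_lit 0x526001), (nat_lit 0x364001)], [(nat_lit 0x522001), (nat_lit 0x363001), (nat_lit 0x525001)], [(nat_lit 0x366001), (nat_lit 0x527001), (nat_lit 0x365001)], [(nat_lit 0x367001), (nat_lit 0x528001), (nat_lit 0x52b001)], [(nat_lit 0x52c001), (nat_lit 0x52d001), (nat_lit 0x36a001)], [(nat_lit 0x529001), (nat_lit 0x368001), (nat_lit 0x369001)], [(nat_lit 0x36b001), (nat_lit 0x52e001), (nat_lit 0x52f001)], [(nat_lit 0x530001), (nat_lit 0x531001), (nat_lit 0x36c001)], [(nat_lit 0x532001), (nat_lit 0x36d001), (nat_lit 0x533001)], [(nat_lit 0x36f001), (nat_lit 0x534001), (nat_lit 0x36e001)], [(nat_lit 0x535001), (nat_lit 0x370001), (nat_lit 0x536001)], [(nat_lit 0x37f001), (nat_lit 0x542001), (nat_lit 0x37e001)], [(nat_lit 0x544001), (nat_lit 0x380001), (nat_lit 0x546001)], [(nat_lit 0x381001), (nat_lit 0x545001), (nat_lit 0x547001)], [(nat_lit 0x548001), (nat_lit 0x549001), (nat_lit 0x382001)], [(nat_lit 0x54a001), (nat_lit 0x383001), (nat_lit 0x54d001)], [(nat_lit 0x385001), (nat_lit 0x54b001), (nat_lit 0x384001)], [(nat_lit 0x54c001), (nat_lit 0x386001), (nat_lit 0x54e001)], [(nat_lit 0x387001), (nat_lit 0x54f001), (nat_lit 0x550001)], [(nat_lit 0x551001), (nat_lit 0x553001), (nat_lit 0x389001)], [(nat_lit 0x552001), (nat_lit 0x388001), (nat_lit 0x554001)], [(nat_lit 0x38a001), (nat_lit 0x555001), (nat_lit 0x38b001)], [(nat_lit 0x38d001), (nat_lit 0x556001), (nat_lit 0x38c001)], [(nat_lit 0x557001), (nat_lit 0x38e001), (nat_lit 0x55a001)], [(nat_lit 0x38f001), (nat_lit 0x558001), (nat_lit 0x55b001)], [(nat_lit 0x55c001), (nat_lit 0x55e001), (nat_lit 0x391001)], [(nat_lit 0x559001), (nat_lit 0x390001), (nat_lit 0x2bdfc0055d002)], [(nat_lit 0x393001), (nat_lit 0x55f001), (nat_lit 0x392001)], [(nat_lit 0x560001), (nat_lit 0x394001), (nat_lit 0x561001)], [(nat_lit 0x395001), (nat_lit 0x562001), (nat_lit 0x565001)], [(nat_lit 0x564001), (nat_lit 0x566001), (nat_lit 0x396001)], [(nat_lit 0x567001), (nat_lit 0x397001), (nat_lit 0x569001)], [(nat_lit 0x398001), (nat_lit 0x568001), (nat_lit 0x52a001)], [(nat_lit 0x563001), (nat_lit 0x399001), (nat_lit 0x56a001)], [(nat_lit 0x39b001), (nat_lit 0x56b001), (nat_lit 0x39a001)], [(nat_lit 0x56c001), (nat_lit 0x39c001), (nat_lit 0x56f001)], [(nat_lit 0x56d001), (nat_lit 0x39d001), (nat_lit 0x570001)], [(nat_lit 0x39e001), (nat_lit 0x56e001), (nat_lit 0x39f001)], [(nat_lit 0x571001), (nat_lit 0x3a0001), (nat_lit 0x572001)], [(nat_lit 0x3a1001), (nat_lit 0x573001), (nat_lit 0x575001)], [(nat_lit 0x574001), (nat_lit 0x576001), (nat_lit 0x3a2001)], [(nat_lit 0x577001), (nat_lit 0x3a3001), (nat_lit 0x579001)], [(nat_lit 0x3a4001), (nat_lit 0x578001), (nat_lit 0x57a001)], [(nat_lit 0x57b001), (nat_lit 0x57c001), (nat_lit 0x3a5001)], [(nat_lit 0x58d001), (nat_lit 0x3b1001), (nat_lit 0x590001)], [(nat_lit 0x3b3001), (nat_lit 0x592001), (nat_lit 0x594001)], [(nat_lit 0x593001), (nat_lit 0x597001), (nat_lit 0x3b4001)], [(nat_lit 0x595001), (nat_lit 0x3b5001), (nat_lit 0x598001)], [(nat_lit 0x3b7001), (nat_lit 0x596001), (nat_lit 0x3b6001)], [(nat_lit 0x599001), (nat_lit 0x3b8001), (nat_lit 0x59c001)], [(nat_lit 0x3b9001), (nat_lit 0x59a001), (nat_lit 0x59d001)], [(nat_lit 0x59e001), (nat_lit 0x5a0001), (nat_lit 0x3bb001)], [(nat_lit 0x59f001), (nat_lit 0x3ba001), (nat_lit 0x5a1001)], [(nat_lit 0x3bc001), (nat_lit 0x5a2001), (nat_lit 0x5a4001)], [(nat_lit 0x5a3001), (nat_lit 0x24b79005a6002), (nat_lit 0x3bd001)], [(nat_lit 0x59b001), (nat_lit 0x3be001), (nat_lit 0x5a5001)], [(nat_lit 0x3c0001), (nat_lit 0x5a7001), (nat_lit 0x3bf001)], [(nat_lit 0x5a8001), (nat_lit 0x3c1001), (nat_lit 0x5aa001)], [(nat_lit 0x3c2001), (nat_lit 0x5a9001), (nat_lit 0x5ab001)], [(nat_lit 0x5ac001), (nat_lit 0x5ae001), (nat_lit 0x3c4001)], [(nat_lit 0x3c3001), (nat_lit 0x17110005ad002), (nat_lit 0x5af001)], [(nat_lit 0x5b0001), (nat_lit 0x5b1001), (nat_lit 0x3c5001)], [(nat_lit 0x5b2001), (nat_lit 0x3c6001), (nat_lit 0x5b4001)], [(nat_lit 0x3c7001), (nat_lit 0x5b3001), (nat_lit 0x3c8001)], [(nat_lit 0x5b5001), (nat_lit 0x3c9001), (nat_lit 0x5b9001)], [(nat_lit 0x3ca001), (nat_lit 0x5b6001), (nat_lit 0x2bdfb005b8002)], [(nat_lit 0x5bb001), (nat_lit 0x3cc001), (nat_lit 0x5bd001)], [(nat_lit 0x3cd001), (nat_lit 0x5bc001), (nat_lit 0x5be001)], [(nat_lit 0x5bf001), (nat_lit 0x5c2001), (nat_lit 0x3d0001)], [(nat_lit 0x3cf001), (nat_lit 0x3ce001), (nat_lit 0x5c0001)], [(nat_lit 0x3d2001), (nat_lit 0x5c3001), (nat_lit 0x3d1001)], [(nat_lit 0x5c4001), (nat_lit 0x3d3001), (nat_lit 0x5c8001)], [(nat_lit 0x3d4001), (nat_lit 0x5c5001), (nat_lit 0x5c7001)], [(nat_lit 0x5c6001), (nat_lit 0x5c9001), (nat_lit 0x3d5001)], [(nat_lit 0x5c1001), (nat_lit 0x5ca001), (nat_lit 0x3d6001)], [(nat_lit 0x5cb001), (nat_lit 0x3d7001), (nat_lit 0x5cc001)], [(nat_lit 0x3d8001), (nat_lit 0x5cd001), (nat_lit 0x5cf001)], [(nat_lit 0x5ce001), (nat_lit 0x5d1001), (nat_lit 0x3d9001)], [(nat_lit 0x5d0001), (nat_lit 0x3da001), (nat_lit 0x5d2001)], [(nat_lit 0x3dc001), (nat_lit 0x5d3001), (nat_lit 0x3db001)], [(nat_lit 0x3dd001), (nat_lit 0x5d4001), (nat_lit 0x5d5001)], [(nat_lit 0x5d6001), (nat_lit 0x5d7001), (nat_lit 0x3de001)], [(nat_lit 0x3e0001), (nat_lit 0x5d9001), (nat_lit 0x5dc001)], [(nat_lit 0x5dd001), (nat_lit 0x5e0001), (nat_lit 0x3e3001)], [(nat_lit 0x3e2001), (nat_lit 0x3e1001), (nat_lit 0x266dc005de002)], [(nat_lit 0x3e5001), (nat_lit 0x5e1001), (nat_lit 0x3e4001)], [(nat_lit 0x5e2001), (nat_lit 0x3e6001), (nat_lit 0x5e6001)], [(nat_lit 0x3e7001), (nat_lit 0x5e3001), (nat_lit 0x5e5001)], [(nat_lit 0x5e4001), (nat_lit 0x5e7001), (nat_lit 0x3e8001)], [(nat_lit 0x5e8001), (nat_lit 0x3e9001), (nat_lit 0x5ea001)], [(nat_lit 0x3eb001), (nat_lit 0x5e9001), (nat_lit 0x3ea001)], [(nat_lit 0x5eb001), (nat_lit 0x3ec001), (nat_lit 0x5ed001)], [(nat_lit 0x3ee001), (nat_lit 0x5ec001), (nat_lit 0x3ed001)], [(nat_lit 0x5ee001), (nat_lit 0x3ef001), (nat_lit 0x5ef001)], [(nat_lit 0x3f2001), (nat_lit 0x5f1001), (nat_lit 0x3f1001)], [(nat_lit 0x5f2001), (nat_lit 0x3f3001), (nat_lit 0x5f7001)], [(nat_lit 0x3f4001), (nat_lit 0x5f3001), (nat_lit 0x5f5001)], [(nat_lit 0x5f4001), (nat_lit 0x5f8001), (nat_lit 0x3f5001)], [(nat_lit 0x5f6001), (nat_lit 0x3f6001), (nat_lit 0x5f9001)], [(nat_lit 0x3f7001), (nat_lit 0x5fa001), (nat_lit 0x5fb001)], [(nat_lit 0x5fc001), (nat_lit 0x5fe001), (nat_lit 0x3f9001)], [(nat_lit 0x5fd001), (nat_lit 0x3f8001), (nat_lit 0x600001)], [(nat_lit 0x1dfdf00602002), (nat_lit 0x603001), (nat_lit 0x3fb001)], [(nat_lit 0x400001), (nat_lit 0x608001), (nat_lit 0x60b001)], [(nat_lit 0x60c001), (nat_lit 0x60e001), (nat_lit 0x402001)], [(nat_lit 0x60d001), (nat_lit 0x401001), (nat_lit 0x60f001)], [(nat_lit 0x403001), (nat_lit 0x610001), (nat_lit 0x612001)], [(nat_lit 0x611001), (nat_lit 0x614001), (nat_lit 0x404001)], [(nat_lit 0x609001), (nat_lit 0x405001), (nat_lit 0x613001)], [(nat_lit 0x407001), (nat_lit 0x615001), (nat_lit 0x406001)], [(nat_lit 0x616001), (nat_lit 0x408001), (nat_lit 0x618001)], [(nat_lit 0x409001), (nat_lit 0x617001), (nat_lit 0x619001)], [(nat_lit 0x61a001), (nat_lit 0x452001), (nat_lit 0x40b001)], [(nat_lit 0x61b001), (nat_lit 0x40a001), (nat_lit 0x61d001)], [(nat_lit 0x40d001), (nat_lit 0x61c001), (nat_lit 0x40c001)], [(nat_lit 0x61e001), (nat_lit 0x40e001), (nat_lit 0x622001)], [(nat_lit 0x40f001), (nat_lit 0x61f001), (nat_lit 0x621001)], [(nat_lit 0x620001), (nat_lit 0x623001), (nat_lit 0x410001)], [(nat_lit 0x2399f00624002), (nat_lit 0x411001), (nat_lit 0x239a000626002)], [(nat_lit 0x413001), (nat_lit 0x625001), (nat_lit 0x412001)], [(nat_lit 0x627001), (nat_lit 0x414001), (nat_lit 0x62a001)], [(nat_lit 0x415001), (nat_lit 0x628001), (nat_lit 0x62b001)], [(nat_lit 0x62c001), (nat_lit 0x2ce170062e002), (nat_lit 0x417001)], [(nat_lit 0x629001), (nat_lit 0x416001), (nat_lit 0x62d001)], [(nat_lit 0x418001), (nat_lit 0x62f001), (nat_lit 0x631001)], [(nat_lit 0x630001), (nat_lit 0x635001), (nat_lit 0x419001)], [(nat_lit 0x41b001), (nat_lit 0x41a001), (nat_lit 0x632001)], [(nat_lit 0x41d001), (nat_lit 0x634001), (nat_lit 0x41c001)], [(nat_lit 0x636001), (nat_lit 0x41e001), (nat_lit 0x639001)], [(nat_lit 0x41f001), (nat_lit 0x637001), (nat_lit 0x63a001)], [(nat_lit 0x63b001), (nat_lit 0x63d001), (nat_lit 0x421001)], [(nat_lit 0x638001), (nat_lit 0x420001), (nat_lit 0x63c001)], [(nat_lit 0x423001), (nat_lit 0x63e001), (nat_lit 0x422001)], [(nat_lit 0x63f001), (nat_lit 0x424001), (nat_lit 0x643001)], [(nat_lit 0x633001), (nat_lit 0x641001), (nat_lit 0x425001)], [(nat_lit 0x642001), (nat_lit 0x426001), (nat_lit 0x645001)], [(nat_lit 0x427001), (nat_lit 0x646001), (nat_lit 0x648001)], [(nat_lit 0x647001), (nat_lit 0x649001), (nat_lit 0x428001)], [(nat_lit 0x64a001), (nat_lit 0x429001), (nat_lit 0x64d001)], [(nat_lit 0x42b001), (nat_lit 0x64b001), (nat_lit 0x42a001)], [(nat_lit 0x64c001), (nat_lit 0x42c001), (nat_lit 0x64e001)], [(nat_lit 0x42d001), (nat_lit 0x650001), (nat_lit 0x652001)], [(nat_lit 0x653001), (nat_lit 0x656001), (nat_lit 0x42f001)], [(nat_lit 0x42e001), (nat_lit 0x651001), (nat_lit 0x654001)], [(nat_lit 0x655001), (nat_lit 0x657001), (nat_lit 0x430001)], [(nat_lit 0x658001), (nat_lit 0x431001), (nat_lit 0x65d001)], [(nat_lit 0x432001), (nat_lit 0x659001), (nat_lit 0x433001)], [(nat_lit 0x65a001), (nat_lit 0x434001), (nat_lit 0x65e001)], [(nat_lit 0x435001), (nat_lit 0x65b001), (nat_lit 0x65f001)], [(nat_lit 0x660001), (nat_lit 0x661001), (nat_lit 0x436001)], [(nat_lit 0x662001), (nat_lit 0x437001), (nat_lit 0x667001)], [(nat_lit 0x438001), (nat_lit 0x663001), (nat_lit 0x666001)], [(nat_lit 0x665001), (nat_lit 0x668001), (nat_lit 0x43a001)], [(nat_lit 0x65c001), (nat_lit 0x439001), (nat_lit 0x664001)], [(nat_lit 0x43c001), (nat_lit 0x66a001), (nat_lit 0x66c001)], [(nat_lit 0x66b001), (nat_lit 0x66e001), (nat_lit 0x43d001)], [(nat_lit 0x66d001), (nat_lit 0x43e001), (nat_lit 0x66f001)], [(nat_lit 0x440001), (nat_lit 0x670001), (nat_lit 0x43f001)], [(nat_lit 0x671001), (nat_lit 0x441001), (nat_lit 0x672001)], [(nat_lit 0x443001), (nat_lit 0x673001), (nat_lit 0x442001)], [(nat_lit 0x674001), (nat_lit 0x444001), (nat_lit 0x676001)], [(nat_lit 0x445001), (nat_lit 0x675001), (nat_lit 0x677001)], [(nat_lit 0x678001), (nat_lit 0x67a001), (nat_lit 0x447001)], [(nat_lit 0x679001), (nat_lit 0x446001), (nat_lit 0x67b001)], [(nat_lit 0x449001), (nat_lit 0x67c001), (nat_lit 0x448001)], [(nat_lit 0x67d001), (nat_lit 0x44a001), (nat_lit 0x67f001)], [(nat_lit 0x44b001), (nat_lit 0x67e001), (nat_lit 0x680001)], [(nat_lit 0x681001), (nat_lit 0x686001), (nat_lit 0x44e001)], [(nat_lit 0x682001), (nat_lit 0x44c001), (nat_lit 0x684001)], [(nat_lit 0x683001), (nat_lit 0x44d001), (nat_lit 0x685001)], [(nat_lit 0x44f001), (nat_lit 0x687001), (nat_lit 0x688001)], [(nat_lit 0x689001), (nat_lit 0x452001), (nat_lit 0x451001)], [(nat_lit 0x68a001), (nat_lit 0x450001), (nat_lit 0x2a6e60068d002)], [(nat_lit 0x454001), (nat_lit 0x68b001), (nat_lit 0x453001)], [(nat_lit 0x68c001), (nat_lit 0x455001), (nat_lit 0x68e001)], [(nat_lit 0x266dc005df002), (nat_lit 0x26f160068f002), (nat_lit 0x456001)], [(nat_lit 0x690001), (nat_lit 0x457001), (nat_lit 0x691001)], [(nat_lit 0x458001), (nat_lit 0x2274300692002), (nat_lit 0x694001)], [(nat_lit 0x693001), (nat_lit 0x696001), (nat_lit 0x459001)], [(nat_lit 0x695001), (nat_lit 0x45a001), (nat_lit 0x697001)], [(nat_lit 0x45b001), (nat_lit 0x698001), (nat_lit 0x45c001)], [(nat_lit 0x699001), (nat_lit 0x45d001), (nat_lit 0x69a001)], [(nat_lit 0x45e001), (nat_lit 0x69b001), (nat_lit 0x69e001)], [(nat_lit 0x69d001), (nat_lit 0x6a0001), (nat_lit 0x460001)], [(nat_lit 0x69c001), (nat_lit 0x45f001), (nat_lit 0x69f001)], [(nat_lit 0x461001), (nat_lit 0x6a1001), (nat_lit 0x6a3001)], [(nat_lit 0x6a4001), (nat_lit 0x6a6001), (nat_lit 0x463001)], [(nat_lit 0x6a2001), (nat_lit 0x462001), (nat_lit 0x6a5001)], [(nat_lit 0x6b0001), (nat_lit 0x46a001), (nat_lit 0x6b2001)], [(nat_lit 0x468001), (nat_lit 0x6ac001), (nat_lit 0x6af001)], [(nat_lit 0x6ae001), (nat_lit 0x6b1001), (nat_lit 0x469001)], [(nat_lit 0x6b3001), (nat_lit 0x46b001), (nat_lit 0x6b5001)], [(nat_lit 0x46c001), (nat_lit 0x6b4001), (nat_lit 0x6b6001)], [(nat_lit 0x6b7001), (nat_lit 0x6ba001), (nat_lit 0x470001)], [(nat_lit 0x6ad001), (nat_lit 0x46d001), (nat_lit 0x6b8001)], [(nat_lit 0x46e001), (nat_lit 0x6b9001), (nat_lit 0x46f001)], [(nat_lit 0x6bb001), (nat_lit 0x471001), (nat_lit 0x6bf001)], [(nat_lit 0x472001), (nat_lit 0x6bc001), (nat_lit 0x6be001)], [(nat_lit 0x6bd001), (nat_lit 0x6c0001), (nat_lit 0x473001)], [(nat_lit 0x6c1001), (nat_lit 0x474001), (nat_lit 0x6c3001)], [(nat_lit 0x477001), (nat_lit 0x478001), (nat_lit 0x476001)], [(nat_lit 0x6c7001), (nat_lit 0x47a001), (nat_lit 0x6c8001)], [(nat_lit 0x475001), (nat_lit 0x6c2001), (nat_lit 0x6c4001)], [(nat_lit 0x6c5001), (nat_lit 0x6c6001), (nat_lit 0x479001)], [(nat_lit 0x482001), (nat_lit 0x481001), (nat_lit 0x6ce001)], [(nat_lit 0x486001), (nat_lit 0x6d7001), (nat_lit 0x485001)], [(nat_lit 0x6d9001), (nat_lit 0x488001), (nat_lit 0x6da001)], [(nat_lit 0x483001), (nat_lit 0x6d3001), (nat_lit 0x6d5001)], [(nat_lit 0x6d6001), (nat_lit 0x6d8001), (nat_lit 0x487001)], [(nat_lit 0x6db001), (nat_lit 0x489001), (nat_lit 0x6de001)], [(nat_lit 0x48a001), (nat_lit 0x6dc001), (nat_lit 0x48b001)], [(nat_lit 0x4bc001), (nat_lit 0x48c001), (nat_lit 0x4ba001)], [(nat_lit 0x6cf001), (nat_lit 0x6dd001), (nat_lit 0x48d001)], [(nat_lit 0x6df001), (nat_lit 0x48e001), (nat_lit 0x6e2001)], [(nat_lit 0x48f001), (nat_lit 0x6e0001), (nat_lit 0x6e3001)], [(nat_lit 0x6e4001), (nat_lit 0x6e9001), (nat_lit 0x492001)], [(nat_lit 0x6e1001), (nat_lit 0x490001), (nat_lit 0x6e5001)], [(nat_lit 0x494001), (nat_lit 0x6ea001), (nat_lit 0x493001)], [(nat_lit 0x491001), (nat_lit 0x6e6001), (nat_lit 0x6e7001)], [(nat_lit 0x6e8001), (nat_lit 0x6eb001), (nat_lit 0x495001)], [(nat_lit 0x6ec001), (nat_lit 0x496001), (nat_lit 0x6f1001)], [(nat_lit 0x497001), (nat_lit 0x6ed001), (nat_lit 0x6f0001)], [(nat_lit 0x6ef001), (nat_lit 0x6f4001), (nat_lit 0x499001)], [(nat_lit 0x6ee001), (nat_lit 0x498001), (nat_lit 0x6f3001)], [(nat_lit 0x49b001), (nat_lit 0x6f5001), (nat_lit 0x49a001)], [(nat_lit 0x6f6001), (nat_lit 0x49c001), (nat_lit 0x6fb001)], [(nat_lit 0x49d001), (nat_lit 0x6f7001), (nat_lit 0x2377a006fc002)], [(nat_lit 0x2377a006fd002), (nat_lit 0x701001), (nat_lit 0x4a0001)], [(nat_lit 0x6f9001), (nat_lit 0x49e001), (nat_lit 0x6fe001)], [(nat_lit 0x49f001), (nat_lit 0x6fa001), (nat_lit 0x6ff001)], [(nat_lit 0x700001), (nat_lit 0x702001), (nat_lit 0x4a1001)], [(nat_lit 0x6f8001), (nat_lit 0x4a2001), (nat_lit 0x703001)], [(nat_lit 0x4a4001), (nat_lit 0x704001), (nat_lit 0x4a3001)], [(nat_lit 0x4a5001), (nat_lit 0x705001), (nat_lit 0x708001)], [(nat_lit 0x707001), (nat_lit 0x70c001), (nat_lit 0x4a7001)], [(nat_lit 0x709001), (nat_lit 0x4a8001), (nat_lit 0x70d001)], [(nat_lit 0x4a9001), (nat_lit 0x4ab001), (nat_lit 0x4aa001)], [(nat_lit 0x70a001), (nat_lit 0x4ac001), (nat_lit 0x70e001)], [(nat_lit 0x4ae001), (nat_lit 0x70f001), (nat_lit 0x4ad001)], [(nat_lit 0x710001), (nat_lit 0x4af001), (nat_lit 0x716001)], [(nat_lit 0x4b0001), (nat_lit 0x711001), (nat_lit 0x715001)], [(nat_lit 0x714001), (nat_lit 0x71a001), (nat_lit 0x4b3001)], [(nat_lit 0x712001), (nat_lit 0x4b1001), (nat_lit 0x717001)], [(nat_lit 0x4b5001), (nat_lit 0x71b001), (nat_lit 0x4b4001)], [(nat_lit 0x71d001), (nat_lit 0x4b7001), (nat_lit 0x721001)], [(nat_lit 0x4b2001), (nat_lit 0x713001), (nat_lit 0x718001)], [(nat_lit 0x719001), (nat_lit 0x2c8f70071c002), (nat_lit 0x4b6001)], [(nat_lit 0x71e001), (nat_lit 0x4b8001), (nat_lit 0x722001)], [(nat_lit 0x4b9001), (nat_lit 0x71f001), (nat_lit 0x4ba001)], [(nat_lit 0x4bc001), (nat_lit 0x720001), (nat_lit 0x4bb001)], [(nat_lit 0x723001), (nat_lit 0x4bd001), (nat_lit 0x727001)], [(nat_lit 0x4be001), (nat_lit 0x724001), (nat_lit 0x726001)], [(nat_lit 0x725001), (nat_lit 0x728001), (nat_lit 0x4bf001)], [(nat_lit 0x729001), (nat_lit 0x4c0001), (nat_lit 0x2c94f0072c002)], [(nat_lit 0x4c1001), (nat_lit 0x72a001), (nat_lit 0x4c2001)], [(nat_lit 0x72b001), (nat_lit 0x4c3001), (nat_lit 0x72d001)], [(nat_lit 0x4c4001), (nat_lit 0x72e001), (nat_lit 0x731001)], [(nat_lit 0x730001), (nat_lit 0x733001), (nat_lit 0x4c6001)], [(nat_lit 0x72f001), (nat_lit 0x4c5001), (nat_lit 0x732001)], [(nat_lit 0x4c7001), (nat_lit 0x734001), (nat_lit 0x738001)], [(nat_lit 0x737001), (nat_lit 0x739001), (nat_lit 0x4ca001)], [(nat_lit 0x4c9001), (nat_lit 0x4c8001), (nat_lit 0x735001)], [(nat_lit 0x4cc001), (nat_lit 0x73a001), (nat_lit 0x4cb001)], [(nat_lit 0x73e001), (nat_lit 0x4cf001), (nat_lit 0x740001)], [(nat_lit 0x4cd001), (nat_lit 0x73b001), (nat_lit 0x73d001)], [(nat_lit 0x73c001), (nat_lit 0x73f001), (nat_lit 0x4ce001)], [(nat_lit 0x741001), (nat_lit 0x4d0001), (nat_lit 0x744001)], [(nat_lit 0x4d2001), (nat_lit 0x742001), (nat_lit 0x4d1001)], [(nat_lit 0x736001), (nat_lit 0x743001), (nat_lit 0x4d3001)], [(nat_lit 0x747001), (nat_lit 0x4d6001), (nat_lit 0x74c001)], [(nat_lit 0x4da001), (nat_lit 0x750001), (nat_lit 0x4d9001)], [(nat_lit 0x752001), (nat_lit 0x4dc001), (nat_lit 0x755001)], [(nat_lit 0x4d7001), (nat_lit 0x748001), (nat_lit 0x74d001)], [(nat_lit 0x74e001), (nat_lit 0x751001), (nat_lit 0x4db001)], [(nat_lit 0x753001), (nat_lit 0x4dd001), (nat_lit 0x756001)], [(nat_lit 0x4de001), (nat_lit 0x754001), (nat_lit 0x757001)], [(nat_lit 0x758001), (nat_lit 0x759001), (nat_lit 0x4df001)], [(nat_lit 0x75a001), (nat_lit 0x4e0001), (nat_lit 0x75b001)], [(nat_lit 0x4e1001), (nat_lit 0x75c001), (nat_lit 0x75e001)], [(nat_lit 0x75d001), (nat_lit 0x761001), (nat_lit 0x4e2001)], [(nat_lit 0x75f001), (nat_lit 0x4e3001), (nat_lit 0x762001)], [(nat_lit 0x4e4001), (nat_lit 0x760001), (nat_lit 0x4e5001)], [(nat_lit 0x4e6001), (nat_lit 0x763001), (nat_lit 0x766001)], [(nat_lit 0x767001), (nat_lit 0x76b001), (nat_lit 0x4e9001)], [(nat_lit 0x764001), (nat_lit 0x4e7001), (nat_lit 0x768001)], [(nat_lit 0x4eb001), (nat_lit 0x76c001), (nat_lit 0x4ea001)], [(nat_lit 0x76e001), (nat_lit 0x4ed001), (nat_lit 0x773001)], [(nat_lit 0x4e8001), (nat_lit 0x765001), (nat_lit 0x2c94e00769002)], [(nat_lit 0x76f001), (nat_lit 0x4ee001), (nat_lit 0x774001)], [(nat_lit 0x4ef001), (nat_lit 0x770001), (nat_lit 0x772001)], [(nat_lit 0x771001), (nat_lit 0x775001), (nat_lit 0x4f0001)], [(nat_lit 0x4f2001), (nat_lit 0x4f1001), (nat_lit 0x776001)], [(nat_lit 0x4f3001), (nat_lit 0x778001), (nat_lit 0x4f4001)], [(nat_lit 0x779001), (nat_lit 0x4f5001), (nat_lit 0x77f001)], [(nat_lit 0x4f6001), (nat_lit 0x77a001), (nat_lit 0x77d001)], [(nat_lit 0x77c001), (nat_lit 0x780001), (nat_lit 0x4f8001)], [(nat_lit 0x777001), (nat_lit 0x77b001), (nat_lit 0x4f7001)], [(nat_lit 0x77e001), (nat_lit 0x4f9001), (nat_lit 0x781001)], [(nat_lit 0x4fa001), (nat_lit 0x2c41900782002), (nat_lit 0x784001)], [(nat_lit 0x783001), (nat_lit 0x785001), (nat_lit 0x4fb001)], [(nat_lit 0x786001), (nat_lit 0x4fc001), (nat_lit 0x78a001)], [(nat_lit 0x4fd001), (nat_lit 0x787001), (nat_lit 0x4fe001)], [(nat_lit 0x4ff001), (nat_lit 0x788001), (nat_lit 0x78b001)], [(nat_lit 0x78c001), (nat_lit 0x790001), (nat_lit 0x502001)], [(nat_lit 0x789001), (nat_lit 0x500001), (nat_lit 0x78d001)], [(nat_lit 0x501001), (nat_lit 0x78f001), (nat_lit 0x791001)], [(nat_lit 0x792001), (nat_lit 0x793001), (nat_lit 0x503001)], [(nat_lit 0x79b001), (nat_lit 0x508001), (nat_lit 0x79d001)], [(nat_lit 0x509001), (nat_lit 0x79e001), (nat_lit 0x7a0001)], [(nat_lit 0x79f001), (nat_lit 0x7a1001), (nat_lit 0x50a001)], [(nat_lit 0x50c001), (nat_lit 0x7a2001), (nat_lit 0x7a4001)], [(nat_lit 0x7a5001), (nat_lit 0x7a7001), (nat_lit 0x50e001)], [(nat_lit 0x7a3001), (nat_lit 0x50d001), (nat_lit 0x7a6001)], [(nat_lit 0x510001), (nat_lit 0x7a8001), (nat_lit 0x50f001)], [(nat_lit 0x7aa001), (nat_lit 0x513001), (nat_lit 0x7ae001)], [(nat_lit 0x512001), (nat_lit 0x7a9001), (nat_lit 0x511001)], [(nat_lit 0x7ab001), (nat_lit 0x514001), (nat_lit 0x7af001)], [(nat_lit 0x2d3b0007ac002), (nat_lit 0x7b0001), (nat_lit 0x516001)], [(nat_lit 0x7b1001), (nat_lit 0x517001), (nat_lit 0x7b3001)], [(nat_lit 0x518001), (nat_lit 0x7b2001), (nat_lit 0x519001)], [(nat_lit 0x7b4001), (nat_lit 0x51a001), (nat_lit 0x7b9001)], [(nat_lit 0x51b001), (nat_lit 0x7b5001), (nat_lit 0x7b8001)], [(nat_lit 0x7b7001), (nat_lit 0x7bb001), (nat_lit 0x51d001)], [(nat_lit 0x7b6001), (nat_lit 0x51c001), (nat_lit 0x7ba001)], [(nat_lit 0x7bc001), (nat_lit 0x51e001), (nat_lit 0x7be001)], [(nat_lit 0x1b89d007c0002), (nat_lit 0x7c1001), (nat_lit 0x520001)], [(nat_lit 0x1b8bf007c2002), (nat_lit 0x521001), (nat_lit 0x28219007c5002)], [(nat_lit 0x524001), (nat_lit 0x7c8001), (nat_lit 0x523001)], [(nat_lit 0x7ca001), (nat_lit 0x526001), (nat_lit 0x7cb001)], [(nat_lit 0x522001), (nat_lit 0x7c3001), (nat_lit 0x7c6001)], [(nat_lit 0x7c7001), (nat_lit 0x7c9001), (nat_lit 0x525001)], [(nat_lit 0x7cc001), (nat_lit 0x527001), (nat_lit 0x7d0001)], [(nat_lit 0x7c4001), (nat_lit 0x528001), (nat_lit 0x7cd001)], [(nat_lit 0x52c001), (nat_lit 0x7cf001), (nat_lit 0x52b001)], [(nat_lit 0x7d1001), (nat_lit 0x52d001), (nat_lit 0x7d5001)], [(nat_lit 0x529001), (nat_lit 0x7ce001), (nat_lit 0x52a001)], [(nat_lit 0x7d2001), (nat_lit 0x52e001), (nat_lit 0x7d6001)], [(nat_lit 0x530001), (nat_lit 0x7d3001), (nat_lit 0x52f001)], [(nat_lit 0x7d4001), (nat_lit 0x531001), (nat_lit 0x7d7001)], [(nat_lit 0x532001), (nat_lit 0x26adf007d8002), (nat_lit 0x7db001)], [(nat_lit 0x7da001), (nat_lit 0x7dc001), (nat_lit 0x533001)], [(nat_lit 0x7dd001), (nat_lit 0x534001), (nat_lit 0x7e1001)], [(nat_lit 0x535001), (nat_lit 0x7de001), (nat_lit 0x7e0001)], [(nat_lit 0x7df001), (nat_lit 0x7e2001), (nat_lit 0x536001)], [(nat_lit 0x7f0001), (nat_lit 0x542001), (nat_lit 0x7f4001)], [(nat_lit 0x544001), (nat_lit 0x7f6001), (nat_lit 0x7f7001)], [(nat_lit 0x7f8001), (nat_lit 0x7fa001), (nat_lit 0x546001)], [(nat_lit 0x7f9001), (nat_lit 0x545001), (nat_lit 0x7fd001)], [(nat_lit 0x548001), (nat_lit 0x7fb001), (nat_lit 0x547001)], [(nat_lit 0x7fc001), (nat_lit 0x549001), (nat_lit 0x7fe001)], [(nat_lit 0x54a001), (nat_lit 0x7ff001), (nat_lit 0x803001)], [(nat_lit 0x804001), (nat_lit 0x808001), (nat_lit 0x54d001)], [(nat_lit 0x801001), (nat_lit 0x54b001), (nat_lit 0x805001)], [(nat_lit 0x54c001), (nat_lit 0x802001), (nat_lit 0x806001)], [(nat_lit 0x807001), (nat_lit 0x809001), (nat_lit 0x54e001)], [(nat_lit 0x800001), (nat_lit 0x54f001), (nat_lit 0x80a001)], [(nat_lit 0x551001), (nat_lit 0x80b001), (nat_lit 0x550001)], [(nat_lit 0x80d001), (nat_lit 0x553001), (nat_lit 0x810001)], [(nat_lit 0x552001), (nat_lit 0x80c001), (nat_lit 0x80f001)], [(nat_lit 0x80e001), (nat_lit 0x277fe00811002), (nat_lit 0x554001)], [(nat_lit 0x812001), (nat_lit 0x555001), (nat_lit 0x815001)], [(nat_lit 0x813001), (nat_lit 0x556001), (nat_lit 0x816001)], [(nat_lit 0x557001), (nat_lit 0x2e93a00814002), (nat_lit 0x817001)], [(nat_lit 0x818001), (nat_lit 0x81d001), (nat_lit 0x55a001)], [(nat_lit 0x819001), (nat_lit 0x558001), (nat_lit 0x81b001)], [(nat_lit 0x55c001), (nat_lit 0x81e001), (nat_lit 0x55b001)], [(nat_lit 0x820001), (nat_lit 0x55e001), (nat_lit 0x827001)], [(nat_lit 0x559001), (nat_lit 0x81a001), (nat_lit 0x2c3170081c002)], [(nat_lit 0x821001), (nat_lit 0x55f001), (nat_lit 0x828001)], [(nat_lit 0x560001), (nat_lit 0x822001), (nat_lit 0x824001)], [(nat_lit 0x823001), (nat_lit 0x829001), (nat_lit 0x561001)], [(nat_lit 0x563001), (nat_lit 0x562001), (nat_lit 0x825001)], [(nat_lit 0x564001), (nat_lit 0x82a001), (nat_lit 0x565001)], [(nat_lit 0x82b001), (nat_lit 0x566001), (nat_lit 0x82c001)], [(nat_lit 0x567001), (nat_lit 0x82d001), (nat_lit 0x830001)], [(nat_lit 0x82f001), (nat_lit 0x833001), (nat_lit 0x569001)], [(nat_lit 0x82e001), (nat_lit 0x568001), (nat_lit 0x832001)], [(nat_lit 0x826001), (nat_lit 0x831001), (nat_lit 0x56a001)], [(nat_lit 0x834001), (nat_lit 0x56b001), (nat_lit 0x837001)], [(nat_lit 0x56c001), (nat_lit 0x835001), (nat_lit 0x838001)], [(nat_lit 0x839001), (nat_lit 0x83d001), (nat_lit 0x56f001)], [(nat_lit 0x56d001), (nat_lit 0x836001), (nat_lit 0x83a001)], [(nat_lit 0x83b001), (nat_lit 0x840001), (nat_lit 0x570001)], [(nat_lit 0x83c001), (nat_lit 0x56e001), (nat_lit 0x83e001)], [(nat_lit 0x571001), (nat_lit 0x841001), (nat_lit 0x843001)], [(nat_lit 0x842001), (nat_lit 0x845001), (nat_lit 0x572001)], [(nat_lit 0x26adf007d9002), (nat_lit 0x573001), (nat_lit 0x26ae700844002)], [(nat_lit 0x574001), (nat_lit 0x846001), (nat_lit 0x575001)], [(nat_lit 0x847001), (nat_lit 0x576001), (nat_lit 0x84a001)], [(nat_lit 0x577001), (nat_lit 0x848001), (nat_lit 0x84b001)], [(nat_lit 0x84c001), (nat_lit 0x84e001), (nat_lit 0x579001)], [(nat_lit 0x849001), (nat_lit 0x578001), (nat_lit 0x84d001)], [(nat_lit 0x57b001), (nat_lit 0x84f001), (nat_lit 0x57a001)], [(nat_lit 0x850001), (nat_lit 0x57c001), (nat_lit 0x851001)], [(nat_lit 0x58d001), (nat_lit 0x1712300869002), (nat_lit 0x86d001)], [(nat_lit 0x86e001), (nat_lit 0x86f001), (nat_lit 0x590001)], [(nat_lit 0x871001), (nat_lit 0x592001), (nat_lit 0x873001)], [(nat_lit 0x593001), (nat_lit 0x874001), (nat_lit 0x594001)], [(nat_lit 0x877001), (nat_lit 0x597001), (nat_lit 0x87b001)], [(nat_lit 0x595001), (nat_lit 0x875001), (nat_lit 0x878001)], [(nat_lit 0x879001), (nat_lit 0x2d6df0087c002), (nat_lit 0x598001)], [(nat_lit 0x876001), (nat_lit 0x596001), (nat_lit 0x87a001)], [(nat_lit 0x599001), (nat_lit 0x87d001), (nat_lit 0x880001)], [(nat_lit 0x881001), (nat_lit 0x882001), (nat_lit 0x59c001)], [(nat_lit 0x59b001), (nat_lit 0x59a001), (nat_lit 0x87e001)], [(nat_lit 0x59e001), (nat_lit 0x883001), (nat_lit 0x59d001)], [(nat_lit 0x885001), (nat_lit 0x5a0001), (nat_lit 0x888001)], [(nat_lit 0x59f001), (nat_lit 0x884001), (nat_lit 0x887001)], [(nat_lit 0x886001), (nat_lit 0x889001), (nat_lit 0x5a1001)], [(nat_lit 0x88a001), (nat_lit 0x5a2001), (nat_lit 0x88e001)], [(nat_lit 0x5a3001), (nat_lit 0x88b001), (nat_lit 0x5a4001)], [(nat_lit 0x87f001), (nat_lit 0x88c001), (nat_lit 0x5a5001)], [(nat_lit 0x88f001), (nat_lit 0x5a7001), (nat_lit 0x894001)], [(nat_lit 0x5a8001), (nat_lit 0x890001), (nat_lit 0x893001)], [(nat_lit 0x892001), (nat_lit 0x896001), (nat_lit 0x5aa001)], [(nat_lit 0x891001), (nat_lit 0x5a9001), (nat_lit 0x895001)], [(nat_lit 0x5ac001), (nat_lit 0x897001), (nat_lit 0x5ab001)], [(nat_lit 0x899001), (nat_lit 0x5ae001), (nat_lit 0x25bab0089b002)], [(nat_lit 0x5b0001), (nat_lit 0x89d001), (nat_lit 0x5af001)], [(nat_lit 0x89e001), (nat_lit 0x5b1001), (nat_lit 0x8a2001)], [(nat_lit 0x5b2001), (nat_lit 0x89f001), (nat_lit 0x8a3001)], [(nat_lit 0x8a4001), (nat_lit 0x8a6001), (nat_lit 0x5b4001)], [(nat_lit 0x8a1001), (nat_lit 0x5b3001), (nat_lit 0x8a5001)], [(nat_lit 0x5b5001), (nat_lit 0x8a7001), (nat_lit 0x8a9001)], [(nat_lit 0x8aa001), (nat_lit 0x8ac001), (nat_lit 0x5b9001)], [(nat_lit 0x8a0001), (nat_lit 0x5b6001), (nat_lit 0x8a8001)], [(nat_lit 0x5bb001), (nat_lit 0x8ae001), (nat_lit 0x8b1001)], [(nat_lit 0x8b2001), (nat_lit 0x8b4001), (nat_lit 0x5bd001)], [(nat_lit 0x8af001), (nat_lit 0x5bc001), (nat_lit 0x8b3001)], [(nat_lit 0x5bf001), (nat_lit 0x8b5001), (nat_lit 0x5be001)], [(nat_lit 0x8b7001), (nat_lit 0x5c2001), (nat_lit 0x8be001)], [(nat_lit 0x5c1001), (nat_lit 0x8b6001), (nat_lit 0x5c0001)], [(nat_lit 0x8b8001), (nat_lit 0x5c3001), (nat_lit 0x8bf001)], [(nat_lit 0x5c4001), (nat_lit 0x8b9001), (nat_lit 0x8bd001)], [(nat_lit 0x8bc001), (nat_lit 0x8c1001), (nat_lit 0x5c8001)], [(nat_lit 0x8ba001), (nat_lit 0x5c5001), (nat_lit 0x8c0001)], [(nat_lit 0x5c6001), (nat_lit 0x8bb001), (nat_lit 0x5c7001)], [(nat_lit 0x8c2001), (nat_lit 0x5c9001), (nat_lit 0x8c4001)], [(nat_lit 0x8c3001), (nat_lit 0x5ca001), (nat_lit 0x8c5001)], [(nat_lit 0x5cb001), (nat_lit 0x8c6001), (nat_lit 0x8c8001)], [(nat_lit 0x8c7001), (nat_lit 0x8cb001), (nat_lit 0x5cc001)], [(nat_lit 0x8c9001), (nat_lit 0x5cd001), (nat_lit 0x25ba4008cc002)], [(nat_lit 0x5ce001), (nat_lit 0x8ca001), (nat_lit 0x5cf001)], [(nat_lit 0x8cf001), (nat_lit 0x5d1001), (nat_lit 0x8d3001)], [(nat_lit 0x5d0001), (nat_lit 0x8cd001), (nat_lit 0x8d1001)], [(nat_lit 0x8d0001), (nat_lit 0x8d4001), (nat_lit 0x5d2001)], [(nat_lit 0x8d2001), (nat_lit 0x5d3001), (nat_lit 0x8d5001)], [(nat_lit 0x8ce001), (nat_lit 0x5d4001), (nat_lit 0x8d6001)], [(nat_lit 0x5d6001), (nat_lit 0x8d7001), (nat_lit 0x5d5001)], [(nat_lit 0x8d8001), (nat_lit 0x5d7001), (nat_lit 0x8d9001)], [(nat_lit 0x8db001), (nat_lit 0x5d9001), (nat_lit 0x8e0001)], [(nat_lit 0x5dd001), (nat_lit 0x8de001), (nat_lit 0x5dc001)], [(nat_lit 0x8e1001), (nat_lit 0x5e0001), (nat_lit 0x8e6001)], [(nat_lit 0x2ca88008e2002), (nat_lit 0x5e1001), (nat_lit 0x8e7001)], [(nat_lit 0x5e2001), (nat_lit 0x2d2ca008e3002), (nat_lit 0x8e8001)], [(nat_lit 0x8e9001), (nat_lit 0x8eb001), (nat_lit 0x5e6001)], [(nat_lit 0x8e4001), (nat_lit 0x5e3001), (nat_lit 0x8ea001)], [(nat_lit 0x5e4001), (nat_lit 0x8e5001), (nat_lit 0x5e5001)], [(nat_lit 0x8ec001), (nat_lit 0x5e7001), (nat_lit 0x8ed001)], [(nat_lit 0x5e8001), (nat_lit 0x8ee001), (nat_lit 0x8f1001)], [(nat_lit 0x8f0001), (nat_lit 0x8f5001), (nat_lit 0x5ea001)], [(nat_lit 0x8ef001), (nat_lit 0x5e9001), (nat_lit 0x8f4001)], [(nat_lit 0x5eb001), (nat_lit 0x8f2001), (nat_lit 0x8f6001)], [(nat_lit 0x8f7001), (nat_lit 0x8f9001), (nat_lit 0x5ed001)], [(nat_lit 0x8f3001), (nat_lit 0x5ec001), (nat_lit 0x8f8001)], [(nat_lit 0x5ee001), (nat_lit 0x8fa001), (nat_lit 0x8fd001)], [(nat_lit 0x8fc001), (nat_lit 0x8fe001), (nat_lit 0x5ef001)], [(nat_lit 0x900001), (nat_lit 0x5f1001), (nat_lit 0x904001)], [(nat_lit 0x5f2001), (nat_lit 0x901001), (nat_lit 0x905001)], [(nat_lit 0x906001), (nat_lit 0x909001), (nat_lit 0x5f7001)], [(nat_lit 0x8fb001), (nat_lit 0x5f3001), (nat_lit 0x902001)], [(nat_lit 0x5f4001), (nat_lit 0x907001), (nat_lit 0x5f5001)], [(nat_lit 0x90c001), (nat_lit 0x5f8001), (nat_lit 0x911001)], [(nat_lit 0x5f6001), (nat_lit 0x908001), (nat_lit 0x90a001)], [(nat_lit 0x90b001), (nat_lit 0x90d001), (nat_lit 0x5f9001)], [(nat_lit 0x90e001), (nat_lit 0x5fa001), (nat_lit 0x912001)], [(nat_lit 0x5fc001), (nat_lit 0x64f001), (nat_lit 0x5fb001)], [(nat_lit 0x910001), (nat_lit 0x5fe001), (nat_lit 0x915001)], [(nat_lit 0x5fd001), (nat_lit 0x90f001), (nat_lit 0x913001)], [(nat_lit 0x914001), (nat_lit 0x917001), (nat_lit 0x600001)], [(nat_lit 0x91a001), (nat_lit 0x603001), (nat_lit 0x91e001)], [(nat_lit 0x609001), (nat_lit 0x608001), (nat_lit 0x922001)], [(nat_lit 0x60c001), (nat_lit 0x927001), (nat_lit 0x60b001)], [(nat_lit 0x929001), (nat_lit 0x60e001), (nat_lit 0x92d001)], [(nat_lit 0x60d001), (nat_lit 0x928001), (nat_lit 0x92b001)], [(nat_lit 0x92a001), (nat_lit 0x92e001), (nat_lit 0x60f001)], [(nat_lit 0x92c001), (nat_lit 0x610001), (nat_lit 0x92f001)], [(nat_lit 0x611001), (nat_lit 0x930001), (nat_lit 0x612001)], [(nat_lit 0x644001), (nat_lit 0x614001), (nat_lit 0x640001)], [(nat_lit 0x923001), (nat_lit 0x931001), (nat_lit 0x613001)], [(nat_lit 0x932001), (nat_lit 0x615001), (nat_lit 0x933001)], [(nat_lit 0x616001), (nat_lit 0x934001), (nat_lit 0x937001)], [(nat_lit 0x936001), (nat_lit 0x93b001), (nat_lit 0x618001)], [(nat_lit 0x935001), (nat_lit 0x617001), (nat_lit 0x93a001)], [(nat_lit 0x61a001), (nat_lit 0x938001), (nat_lit 0x619001)], [(nat_lit 0x61b001), (nat_lit 0x939001), (nat_lit 0x93c001)], [(nat_lit 0x93d001), (nat_lit 0x93f001), (nat_lit 0x61d001)], [(nat_lit 0x93e001), (nat_lit 0x61c001), (nat_lit 0x941001)], [(nat_lit 0x61e001), (nat_lit 0x940001), (nat_lit 0x943001)], [(nat_lit 0x944001), (nat_lit 0x947001), (nat_lit 0x622001)], [(nat_lit 0x945001), (nat_lit 0x61f001), (nat_lit 0x949001)], [(nat_lit 0x620001), (nat_lit 0x946001), (nat_lit 0x621001)], [(nat_lit 0x948001), (nat_lit 0x623001), (nat_lit 0x94a001)], [(nat_lit 0x94d001), (nat_lit 0x625001), (nat_lit 0x94f001)], [(nat_lit 0x627001), (nat_lit 0x94e001), (nat_lit 0x950001)], [(nat_lit 0x951001), (nat_lit 0x954001), (nat_lit 0x62a001)], [(nat_lit 0x23bca0094c002), (nat_lit 0x628001), (nat_lit 0x952001)], [(nat_lit 0x62c001), (nat_lit 0x2404900957002), (nat_lit 0x62b001)], [(nat_lit 0x629001), (nat_lit 0x953001), (nat_lit 0x955001)], [(nat_lit 0x956001), (nat_lit 0x958001), (nat_lit 0x62d001)], [(nat_lit 0x95a001), (nat_lit 0x62f001), (nat_lit 0x95d001)], [(nat_lit 0x630001), (nat_lit 0x95b001), (nat_lit 0x631001)], [(nat_lit 0x960001), (nat_lit 0x635001), (nat_lit 0x963001)], [(nat_lit 0x633001), (nat_lit 0x95e001), (nat_lit 0x632001)], [(nat_lit 0x95f001), (nat_lit 0x634001), (nat_lit 0x962001)], [(nat_lit 0x636001), (nat_lit 0x961001), (nat_lit 0x964001)], [(nat_lit 0x965001), (nat_lit 0x968001), (nat_lit 0x639001)], [(nat_lit 0x966001), (nat_lit 0x637001), (nat_lit 0x969001)], [(nat_lit 0x63b001), (nat_lit 0x96c001), (nat_lit 0x63a001)], [(nat_lit 0x96e001), (nat_lit 0x63d001), (nat_lit 0x970001)], [(nat_lit 0x638001), (nat_lit 0x967001), (nat_lit 0x96a001)], [(nat_lit 0x96b001), (nat_lit 0x96d001), (nat_lit 0x63c001)], [(nat_lit 0x96f001), (nat_lit 0x63e001), (nat_lit 0x971001)], [(nat_lit 0x63f001), (nat_lit 0x972001), (nat_lit 0x640001)], [(nat_lit 0x644001), (nat_lit 0x975001), (nat_lit 0x643001)], [(nat_lit 0x973001), (nat_lit 0x641001), (nat_lit 0x976001)], [(nat_lit 0x642001), (nat_lit 0x974001), (nat_lit 0x977001)], [(nat_lit 0x978001), (nat_lit 0x979001), (nat_lit 0x645001)], [(nat_lit 0x97a001), (nat_lit 0x646001), (nat_lit 0x2ac060097d002)], [(nat_lit 0x647001), (nat_lit 0x97b001), (nat_lit 0x648001)], [(nat_lit 0x97c001), (nat_lit 0x649001), (nat_lit 0x97e001)], [(nat_lit 0x64a001), (nat_lit 0x97f001), (nat_lit 0x984001)], [(nat_lit 0x983001), (nat_lit 0x988001), (nat_lit 0x64d001)], [(nat_lit 0x981001), (nat_lit 0x64b001), (nat_lit 0x985001)], [(nat_lit 0x64c001), (nat_lit 0x982001), (nat_lit 0x986001)], [(nat_lit 0x987001), (nat_lit 0x64f001), (nat_lit 0x64e001)], [(nat_lit 0x980001), (nat_lit 0x650001), (nat_lit 0x989001)], [(nat_lit 0x653001), (nat_lit 0x98c001), (nat_lit 0x652001)], [(nat_lit 0x98f001), (nat_lit 0x656001), (nat_lit 0x993001)], [(nat_lit 0x98a001), (nat_lit 0x651001), (nat_lit 0x98d001)], [(nat_lit 0x655001), (nat_lit 0x98e001), (nat_lit 0x654001)], [(nat_lit 0x990001), (nat_lit 0x657001), (nat_lit 0x994001)], [(nat_lit 0x658001), (nat_lit 0x991001), (nat_lit 0x995001)], [(nat_lit 0x996001), (nat_lit 0x99b001), (nat_lit 0x65d001)], [(nat_lit 0x992001), (nat_lit 0x659001), (nat_lit 0x997001)], [(nat_lit 0x65a001), (nat_lit 0x998001), (nat_lit 0x99c001)], [(nat_lit 0x99d001), (nat_lit 0x99e001), (nat_lit 0x65e001)], [(nat_lit 0x65c001), (nat_lit 0x65b001), (nat_lit 0x999001)], [(nat_lit 0x660001), (nat_lit 0x23c460099f002), (nat_lit 0x65f001)], [(nat_lit 0x237dd009a0002), (nat_lit 0x661001), (nat_lit 0x9a4001)], [(nat_lit 0x662001), (nat_lit 0x9a1001), (nat_lit 0x9a5001)], [(nat_lit 0x9a6001), (nat_lit 0x9a9001), (nat_lit 0x667001)], [(nat_lit 0x9a2001), (nat_lit 0x663001), (nat_lit 0x9a7001)], [(nat_lit 0x665001), (nat_lit 0x9a8001), (nat_lit 0x666001)], [(nat_lit 0x9aa001), (nat_lit 0x668001), (nat_lit 0x9ab001)], [(nat_lit 0x99a001), (nat_lit 0x9a3001), (nat_lit 0x664001)], [(nat_lit 0x9ad001), (nat_lit 0x66a001), (nat_lit 0x9b0001)], [(nat_lit 0x66b001), (nat_lit 0x9ae001), (nat_lit 0x66c001)], [(nat_lit 0x9b3001), (nat_lit 0x66e001), (nat_lit 0x9b7001)], [(nat_lit 0x66d001), (nat_lit 0x9af001), (nat_lit 0x9b1001)], [(nat_lit 0x9b2001), (nat_lit 0x9b4001), (nat_lit 0x66f001)], [(nat_lit 0x9b5001), (nat_lit 0x670001), (nat_lit 0x9b8001)], [(nat_lit 0x671001), (nat_lit 0x9b6001), (nat_lit 0x9b9001)], [(nat_lit 0x9ba001), (nat_lit 0x9bb001), (nat_lit 0x672001)], [(nat_lit 0x9bc001), (nat_lit 0x673001), (nat_lit 0x9bf001)], [(nat_lit 0x674001), (nat_lit 0x9bd001), (nat_lit 0x9c0001)], [(nat_lit 0x9c1001), (nat_lit 0x9c3001), (nat_lit 0x676001)], [(nat_lit 0x9be001), (nat_lit 0x675001), (nat_lit 0x9c2001)], [(nat_lit 0x678001), (nat_lit 0x9c4001), (nat_lit 0x677001)], [(nat_lit 0x9c7001), (nat_lit 0x67a001), (nat_lit 0x9ca001)], [(nat_lit 0x679001), (nat_lit 0x2a25a009c5002), (nat_lit 0x9c8001)], [(nat_lit 0x9c9001), (nat_lit 0x9cb001), (nat_lit 0x67b001)], [(nat_lit 0x9cc001), (nat_lit 0x67c001), (nat_lit 0x9d1001)], [(nat_lit 0x67d001), (nat_lit 0x9cd001), (nat_lit 0x9d0001)], [(nat_lit 0x9cf001), (nat_lit 0x9d2001), (nat_lit 0x67f001)], [(nat_lit 0x2a25a009c6002), (nat_lit 0x67e001), (nat_lit 0x2ac84009ce002)], [(nat_lit 0x681001), (nat_lit 0x9d3001), (nat_lit 0x680001)], [(nat_lit 0x9dd001), (nat_lit 0x686001), (nat_lit 0x9e2001)], [(nat_lit 0x682001), (nat_lit 0x9d4001), (nat_lit 0x9d8001)], [(nat_lit 0x9d7001), (nat_lit 0x9db001), (nat_lit 0x684001)], [(nat_lit 0x683001), (nat_lit 0x9d6001), (nat_lit 0x9da001)], [(nat_lit 0x9d9001), (nat_lit 0x9dc001), (nat_lit 0x685001)], [(nat_lit 0x9de001), (nat_lit 0x687001), (nat_lit 0x9e3001)], [(nat_lit 0x689001), (nat_lit 0x9df001), (nat_lit 0x688001)], [(nat_lit 0x68a001), (nat_lit 0x9e0001), (nat_lit 0x2ac05009e4002)], [(nat_lit 0x9e1001), (nat_lit 0x68b001), (nat_lit 0x9e6001)], [(nat_lit 0x68c001), (nat_lit 0x9e8001), (nat_lit 0x9eb001)], [(nat_lit 0x9ea001), (nat_lit 0x9ec001), (nat_lit 0x68e001)], [(nat_lit 0x690001), (nat_lit 0x23a0e009ee002), (nat_lit 0x9f0001)], [(nat_lit 0x9ef001), (nat_lit 0x9f6001), (nat_lit 0x691001)], [(nat_lit 0x693001), (nat_lit 0x9f2001), (nat_lit 0x694001)], [(nat_lit 0x9fa001), (nat_lit 0x696001), (nat_lit 0x9fd001)], [(nat_lit 0x695001), (nat_lit 0x9f3001), (nat_lit 0x9f8001)], [(nat_lit 0x9f9001), (nat_lit 0x9fb001), (nat_lit 0x697001)], [(nat_lit 0x9fc001), (nat_lit 0x698001), (nat_lit 0x9fe001)], [(nat_lit 0x699001), (nat_lit 0x9ff001), (nat_lit 0xa01001)], [(nat_lit 0xa00001), (nat_lit 0xa05001), (nat_lit 0x69a001)], [(nat_lit 0x9f4001), (nat_lit 0x69b001), (nat_lit 0xa02001)], [(nat_lit 0x69d001), (nat_lit 0xa04001), (nat_lit 0x69e001)], [(nat_lit 0xa08001), (nat_lit 0x6a0001), (nat_lit 0xa0f001)], [(nat_lit 0x69c001), (nat_lit 0xa03001), (nat_lit 0xa06001)], [(nat_lit 0xa07001), (nat_lit 0x6f2001), (nat_lit 0x69f001)], [(nat_lit 0xa09001), (nat_lit 0x6a1001), (nat_lit 0xa10001)], [(nat_lit 0x6a4001), (nat_lit 0xa0b001), (nat_lit 0x6a3001)], [(nat_lit 0xa12001), (nat_lit 0x6a6001), (nat_lit 0xa14001)], [(nat_lit 0x6a2001), (nat_lit 0xa0a001), (nat_lit 0xa0e001)], [(nat_lit 0xa0d001), (nat_lit 0xa11001), (nat_lit 0x6a5001)], [(nat_lit 0x6b0001), (nat_lit 0xa1c001), (nat_lit 0xa1f001)], [(nat_lit 0xa1e001), (nat_lit 0xa22001), (nat_lit 0x6b2001)], [(nat_lit 0x6ad001), (nat_lit 0x6ac001), (nat_lit 0xa17001)], [(nat_lit 0x6ae001), (nat_lit 0xa1b001), (nat_lit 0x6af001)], [(nat_lit 0xa1d001), (nat_lit 0x6b1001), (nat_lit 0xa21001)], [(nat_lit 0x6b3001), (nat_lit 0xa20001), (nat_lit 0xa23001)], [(nat_lit 0xa24001), (nat_lit 0xa26001), (nat_lit 0x6b5001)], [(nat_lit 0xa25001), (nat_lit 0x6b4001), (nat_lit 0xa29001)], [(nat_lit 0x6b7001), (nat_lit 0xa27001), (nat_lit 0x6b6001)], [(nat_lit 0xa2b001), (nat_lit 0x6ba001), (nat_lit 0xa33001)], [(nat_lit 0xa18001), (nat_lit 0xa28001), (nat_lit 0x6b8001)], [(nat_lit 0xa2a001), (nat_lit 0x6b9001), (nat_lit 0xa32001)], [(nat_lit 0x6bb001), (nat_lit 0xa2d001), (nat_lit 0xa31001)], [(nat_lit 0xa30001), (nat_lit 0xa36001), (nat_lit 0x6bf001)], [(nat_lit 0xa2e001), (nat_lit 0x6bc001), (nat_lit 0xa35001)], [(nat_lit 0x6bd001), (nat_lit 0xa2f001), (nat_lit 0x6be001)], [(nat_lit 0xa37001), (nat_lit 0x6c0001), (nat_lit 0xa3a001)], [(nat_lit 0x6c1001), (nat_lit 0xa38001), (nat_lit 0xa3c001)], [(nat_lit 0xa3d001), (nat_lit 0xa3f001), (nat_lit 0x6c3001)], [(nat_lit 0x6c7001), (nat_lit 0xa42001), (nat_lit 0xa44001)], [(nat_lit 0xa45001), (nat_lit 0xa46001), (nat_lit 0x6c8001)], [(nat_lit 0xa39001), (nat_lit 0x6c2001), (nat_lit 0xa3e001)], [(nat_lit 0x6c5001), (nat_lit 0xa40001), (nat_lit 0x6c4001)], [(nat_lit 0xa41001), (nat_lit 0x6c6001), (nat_lit 0xa43001)], [(nat_lit 0x6cf001), (nat_lit 0xa4d001), (nat_lit 0x6ce001)], [(nat_lit 0xa54001), (nat_lit 0x6d7001), (nat_lit 0xa59001)], [(nat_lit 0x6d9001), (nat_lit 0xa56001), (nat_lit 0xa5b001)], [(nat_lit 0xa5c001), (nat_lit 0xa5d001), (nat_lit 0x6da001)], [(nat_lit 0xa51001), (nat_lit 0x6d3001), (nat_lit 0xa57001)], [(nat_lit 0x6d6001), (nat_lit 0xa53001), (nat_lit 0x6d5001)], [(nat_lit 0xa55001), (nat_lit 0x6d8001), (nat_lit 0xa5a001)], [(nat_lit 0x6db001), (nat_lit 0xa5e001), (nat_lit 0xa5f001)], [(nat_lit 0xa60001), (nat_lit 0xa63001), (nat_lit 0x6de001)], [(nat_lit 0xa61001), (nat_lit 0x6dc001), (nat_lit 0xa68001)], [(nat_lit 0xa62001), (nat_lit 0x6dd001), (nat_lit 0xa69001)], [(nat_lit 0x6df001), (nat_lit 0xa64001), (nat_lit 0xa6a001)], [(nat_lit 0xa6b001), (nat_lit 0xa6f001), (nat_lit 0x6e2001)], [(nat_lit 0xa65001), (nat_lit 0x6e0001), (nat_lit 0x275bd00a6c002)], [(nat_lit 0x6e4001), (nat_lit 0xa70001), (nat_lit 0x6e3001)], [(nat_lit 0xa74001), (nat_lit 0x6e9001), (nat_lit 0xa78001)], [(nat_lit 0x6e1001), (nat_lit 0xa66001), (nat_lit 0xa6d001)], [(nat_lit 0xa6e001), (nat_lit 0xa71001), (nat_lit 0x6e5001)], [(nat_lit 0xa75001), (nat_lit 0x6ea001), (nat_lit 0xa79001)], [(nat_lit 0xa67001), (nat_lit 0x6e6001), (nat_lit 0xa72001)], [(nat_lit 0x6e8001), (nat_lit 0xa73001), (nat_lit 0x6e7001)], [(nat_lit 0xa76001), (nat_lit 0x6eb001), (nat_lit 0xa7a001)], [(nat_lit 0x6ec001), (nat_lit 0xa77001), (nat_lit 0xa7b001)], [(nat_lit 0xa7c001), (nat_lit 0x6f2001), (nat_lit 0x6f1001)], [(nat_lit 0xa7d001), (nat_lit 0x6ed001), (nat_lit 0xa81001)], [(nat_lit 0x6ef001), (nat_lit 0x25db600a80002), (nat_lit 0x6f0001)], [(nat_lit 0xa85001), (nat_lit 0x6f4001), (nat_lit 0xa8a001)], [(nat_lit 0x6ee001), (nat_lit 0xa7e001), (nat_lit 0xa82001)], [(nat_lit 0xa83001), (nat_lit 0xa84001), (nat_lit 0x6f3001)], [(nat_lit 0xa86001), (nat_lit 0x6f5001), (nat_lit 0xa8b001)], [(nat_lit 0x6f6001), (nat_lit 0xa87001), (nat_lit 0xa8c001)], [(nat_lit 0xa8d001), (nat_lit 0xa90001), (nat_lit 0x6fb001)], [(nat_lit 0x6f8001), (nat_lit 0x6f7001), (nat_lit 0xa88001)], [(nat_lit 0x23e0300a97002), (nat_lit 0x701001), (nat_lit 0xa9a001)], [(nat_lit 0x6f9001), (nat_lit 0xa8e001), (nat_lit 0xa92001)], [(nat_lit 0xa93001), (nat_lit 0xa95001), (nat_lit 0x6fe001)], [(nat_lit 0xa8f001), (nat_lit 0x6fa001), (nat_lit 0xa94001)], [(nat_lit 0x700001), (nat_lit 0xa96001), (nat_lit 0x6ff001)], [(nat_lit 0xa98001), (nat_lit 0x702001), (nat_lit 0xa9b001)], [(nat_lit 0xa89001), (nat_lit 0xa99001), (nat_lit 0x703001)], [(nat_lit 0x235b200a9c002), (nat_lit 0x704001), (nat_lit 0xaa0001)], [(nat_lit 0xa9d001), (nat_lit 0x705001), (nat_lit 0xaa1001)], [(nat_lit 0x707001), (nat_lit 0xa9e001), (nat_lit 0x708001)], [(nat_lit 0xaa8001), (nat_lit 0x70c001), (nat_lit 0xaab001)], [(nat_lit 0x709001), (nat_lit 0xa9f001), (nat_lit 0xaa4001)], [(nat_lit 0xaa5001), (nat_lit 0xaac001), (nat_lit 0x70d001)], [(nat_lit 0x70a001), (nat_lit 0xaa6001), (nat_lit 0xaa9001)], [(nat_lit 0xaaa001), (nat_lit 0xaad001), (nat_lit 0x70e001)], [(nat_lit 0xaae001), (nat_lit 0x70f001), (nat_lit 0xab1001)], [(nat_lit 0x710001), (nat_lit 0xaaf001), (nat_lit 0xab2001)], [(nat_lit 0xab3001), (nat_lit 0xab9001), (nat_lit 0x716001)], [(nat_lit 0xab0001), (nat_lit 0x711001), (nat_lit 0xab4001)], [(nat_lit 0x714001), (nat_lit 0xab8001), (nat_lit 0x715001)], [(nat_lit 0xabe001), (nat_lit 0x71a001), (nat_lit 0xac1001)], [(nat_lit 0x712001), (nat_lit 0xab5001), (nat_lit 0xaba001)], [(nat_lit 0xabb001), (nat_lit 0xabc001), (nat_lit 0x717001)], [(nat_lit 0xabf001), (nat_lit 0x71b001), (nat_lit 0xac2001)], [(nat_lit 0x71d001), (nat_lit 0xac0001), (nat_lit 0xac3001)], [(nat_lit 0xac4001), (nat_lit 0xacc001), (nat_lit 0x721001)], [(nat_lit 0xab6001), (nat_lit 0x713001), (nat_lit 0xab7001)], [(nat_lit 0x719001), (nat_lit 0xabd001), (nat_lit 0x718001)], [(nat_lit 0x71e001), (nat_lit 0xac5001), (nat_lit 0xac8001)], [(nat_lit 0xac9001), (nat_lit 0xacd001), (nat_lit 0x722001)], [(nat_lit 0xac6001), (nat_lit 0x71f001), (nat_lit 0xaca001)], [(nat_lit 0xac7001), (nat_lit 0x720001), (nat_lit 0xacb001)], [(nat_lit 0x723001), (nat_lit 0xace001), (nat_lit 0xad0001)], [(nat_lit 0xad1001), (nat_lit 0xad4001), (nat_lit 0x727001)], [(nat_lit 0xacf001), (nat_lit 0x724001), (nat_lit 0xad2001)], [(nat_lit 0x725001), (nat_lit 0xad3001), (nat_lit 0x726001)], [(nat_lit 0xad5001), (nat_lit 0x728001), (nat_lit 0xad8001)], [(nat_lit 0x729001), (nat_lit 0xad6001), (nat_lit 0x2cdfc00ad9002)], [(nat_lit 0xad7001), (nat_lit 0x72a001), (nat_lit 0xada001)], [(nat_lit 0x72b001), (nat_lit 0xadb001), (nat_lit 0xadd001)], [(nat_lit 0xadc001), (nat_lit 0xae0001), (nat_lit 0x72d001)], [(nat_lit 0xa7f001), (nat_lit 0x72e001), (nat_lit 0xadf001)], [(nat_lit 0x730001), (nat_lit 0xae2001), (nat_lit 0x731001)], [(nat_lit 0xae5001), (nat_lit 0x733001), (nat_lit 0xae9001)], [(nat_lit 0x72f001), (nat_lit 0xae1001), (nat_lit 0xae4001)], [(nat_lit 0xae3001), (nat_lit 0xae8001), (nat_lit 0x732001)], [(nat_lit 0xae6001), (nat_lit 0x734001), (nat_lit 0xaea001)], [(nat_lit 0x737001), (nat_lit 0xaeb001), (nat_lit 0x738001)], [(nat_lit 0xaec001), (nat_lit 0x739001), (nat_lit 0xaef001)], [(nat_lit 0x736001), (nat_lit 0xae7001), (nat_lit 0x735001)], [(nat_lit 0x2c5b400aed002), (nat_lit 0x73a001), (nat_lit 0xaf0001)], [(nat_lit 0x73e001), (nat_lit 0x2404800af3002), (nat_lit 0xaf6001)], [(nat_lit 0xaf5001), (nat_lit 0xaf8001), (nat_lit 0x740001)], [(nat_lit 0xaee001), (nat_lit 0x73b001), (nat_lit 0xaf1001)], [(nat_lit 0x73c001), (nat_lit 0xaf2001), (nat_lit 0x73d001)], [(nat_lit 0xaf4001), (nat_lit 0x73f001), (nat_lit 0xaf7001)], [(nat_lit 0x741001), (nat_lit 0xaf9001), (nat_lit 0xafd001)], [(nat_lit 0xafc001), (nat_lit 0xb01001), (nat_lit 0x744001)], [(nat_lit 0xafa001), (nat_lit 0x742001), (nat_lit 0xaff001)], [(nat_lit 0xafb001), (nat_lit 0x743001), (nat_lit 0xb00001)], [(nat_lit 0x747001), (nat_lit 0xb05001), (nat_lit 0xb0a001)], [(nat_lit 0xb0b001), (nat_lit 0xb0d001), (nat_lit 0x74c001)], [(nat_lit 0xb10001), (nat_lit 0x750001), (nat_lit 0xb13001)], [(nat_lit 0x752001), (nat_lit 0xb15001), (nat_lit 0xb19001)], [(nat_lit 0xb18001), (nat_lit 0xade001), (nat_lit 0x755001)], [(nat_lit 0xb06001), (nat_lit 0x748001), (nat_lit 0xb07001)], [(nat_lit 0x74e001), (nat_lit 0xb0e001), (nat_lit 0x74d001)], [(nat_lit 0xb11001), (nat_lit 0x751001), (nat_lit 0xb14001)], [(nat_lit 0x753001), (nat_lit 0xb16001), (nat_lit 0xb1b001)], [(nat_lit 0xb1a001), (nat_lit 0x78e001), (nat_lit 0x756001)], [(nat_lit 0xb17001), (nat_lit 0x754001), (nat_lit 0xb1c001)], [(nat_lit 0x758001), (nat_lit 0xb1d001), (nat_lit 0x757001)], [(nat_lit 0xb1e001), (nat_lit 0x759001), (nat_lit 0xb25001)], [(nat_lit 0x75a001), (nat_lit 0xb1f001), (nat_lit 0xb21001)], [(nat_lit 0xb20001), (nat_lit 0xb26001), (nat_lit 0x75b001)], [(nat_lit 0xb22001), (nat_lit 0x75c001), (nat_lit 0xb27001)], [(nat_lit 0x75d001), (nat_lit 0xb23001), (nat_lit 0x75e001)], [(nat_lit 0xb2b001), (nat_lit 0x761001), (nat_lit 0xb2f001)], [(nat_lit 0x75f001), (nat_lit 0xb24001), (nat_lit 0xb28001)], [(nat_lit 0xb29001), (nat_lit 0x23ed700b2c002), (nat_lit 0x762001)], [(nat_lit 0xb2a001), (nat_lit 0x760001), (nat_lit 0xb2e001)], [(nat_lit 0xb2d001), (nat_lit 0x763001), (nat_lit 0xb30001)], [(nat_lit 0x767001), (nat_lit 0xb34001), (nat_lit 0x766001)], [(nat_lit 0xb39001), (nat_lit 0x76b001), (nat_lit 0xb40001)], [(nat_lit 0x764001), (nat_lit 0xb31001), (nat_lit 0xb36001)], [(nat_lit 0xb35001), (nat_lit 0xb38001), (nat_lit 0x768001)], [(nat_lit 0xb3a001), (nat_lit 0x76c001), (nat_lit 0xb41001)], [(nat_lit 0x76e001), (nat_lit 0xb3c001), (nat_lit 0xb43001)], [(nat_lit 0xb44001), (nat_lit 0xb48001), (nat_lit 0x773001)], [(nat_lit 0xb32001), (nat_lit 0x765001), (nat_lit 0xb33001)], [(nat_lit 0x76f001), (nat_lit 0xb3d001), (nat_lit 0xb45001)], [(nat_lit 0xb46001), (nat_lit 0xb49001), (nat_lit 0x774001)], [(nat_lit 0xb3e001), (nat_lit 0x770001), (nat_lit 0xb47001)], [(nat_lit 0x771001), (nat_lit 0xb3f001), (nat_lit 0x772001)], [(nat_lit 0xb4a001), (nat_lit 0x775001), (nat_lit 0xb53001)], [(nat_lit 0x777001), (nat_lit 0xb4b001), (nat_lit 0x776001)], [(nat_lit 0xb4c001), (nat_lit 0x778001), (nat_lit 0xb54001)], [(nat_lit 0x779001), (nat_lit 0xb4d001), (nat_lit 0xb55001)], [(nat_lit 0xb56001), (nat_lit 0xb5b001), (nat_lit 0x77f001)], [(nat_lit 0xb4e001), (nat_lit 0x77a001), (nat_lit 0xb57001)], [(nat_lit 0x77c001), (nat_lit 0xb51001), (nat_lit 0x77d001)], [(nat_lit 0xb5c001), (nat_lit 0x780001), (nat_lit 0xb5d001)], [(nat_lit 0xb50001), (nat_lit 0x77b001), (nat_lit 0xb58001)], [(nat_lit 0x77e001), (nat_lit 0xb52001), (nat_lit 0xb59001)], [(nat_lit 0xb5a001), (nat_lit 0xb5e001), (nat_lit 0x781001)], [(nat_lit 0x783001), (nat_lit 0xb60001), (nat_lit 0x784001)], [(nat_lit 0xb61001), (nat_lit 0x785001), (nat_lit 0xb67001)], [(nat_lit 0x786001), (nat_lit 0xb62001), (nat_lit 0xb68001)], [(nat_lit 0xb69001), (nat_lit 0xb6c001), (nat_lit 0x78a001)], [(nat_lit 0xb64001), (nat_lit 0x787001), (nat_lit 0xb6a001)], [(nat_lit 0xb63001), (nat_lit 0x788001), (nat_lit 0xb65001)], [(nat_lit 0x78c001), (nat_lit 0xb6d001), (nat_lit 0x78b001)], [(nat_lit 0xb71001), (nat_lit 0x790001), (nat_lit 0xb75001)], [(nat_lit 0x789001), (nat_lit 0xb6b001), (nat_lit 0xb6f001)], [(nat_lit 0xb6e001), (nat_lit 0x78e001), (nat_lit 0x78d001)], [(nat_lit 0xb70001), (nat_lit 0x78f001), (nat_lit 0xb74001)], [(nat_lit 0x792001), (nat_lit 0xb72001), (nat_lit 0x791001)], [(nat_lit 0xb73001), (nat_lit 0x793001), (nat_lit 0xb76001)], [(nat_lit 0x79b001), (nat_lit 0xb7c001), (nat_lit 0xb7f001)], [(nat_lit 0xb7e001), (nat_lit 0xb82001), (nat_lit 0x79d001)], [(nat_lit 0xb80001), (nat_lit 0x79e001), (nat_lit 0xb83001)], [(nat_lit 0x79f001), (nat_lit 0xb81001), (nat_lit 0x7a0001)], [(nat_lit 0xb84001), (nat_lit 0x7a1001), (nat_lit 0xb87001)], [(nat_lit 0xb85001), (nat_lit 0x7a2001), (nat_lit 0xb88001)], [(nat_lit 0x7a5001), (nat_lit 0xb8b001), (nat_lit 0x7a4001)], [(nat_lit 0xb8d001), (nat_lit 0x7a7001), (nat_lit 0xb8e001)], [(nat_lit 0x7a3001), (nat_lit 0xb86001), (nat_lit 0xb89001)], [(nat_lit 0xb8a001), (nat_lit 0xb8c001), (nat_lit 0x7a6001)], [(nat_lit 0xb8f001), (nat_lit 0x7a8001), (nat_lit 0xb96001)], [(nat_lit 0x7aa001), (nat_lit 0xb91001), (nat_lit 0xb95001)], [(nat_lit 0xb94001), (nat_lit 0xb9a001), (nat_lit 0x7ae001)], [(nat_lit 0xb90001), (nat_lit 0x7a9001), (nat_lit 0xb97001)], [(nat_lit 0x7ab001), (nat_lit 0xb92001), (nat_lit 0xb98001)], [(nat_lit 0xb99001), (nat_lit 0xb9b001), (nat_lit 0x7af001)], [(nat_lit 0xb9c001), (nat_lit 0x7b0001), (nat_lit 0xb9f001)], [(nat_lit 0x7b1001), (nat_lit 0xb9d001), (nat_lit 0xba0001)], [(nat_lit 0xba1001), (nat_lit 0xba3001), (nat_lit 0x7b3001)], [(nat_lit 0xba2001), (nat_lit 0x7b2001), (nat_lit 0xba8001)], [(nat_lit 0x7b4001), (nat_lit 0xba4001), (nat_lit 0xba9001)], [(nat_lit 0xbaa001), (nat_lit 0xbad001), (nat_lit 0x7b9001)], [(nat_lit 0xb9e001), (nat_lit 0x7b5001), (nat_lit 0xba5001)], [(nat_lit 0x7b7001), (nat_lit 0xba7001), (nat_lit 0x7b8001)], [(nat_lit 0xbaf001), (nat_lit 0x7bb001), (nat_lit 0xbb2001)], [(nat_lit 0x7b6001), (nat_lit 0xba6001), (nat_lit 0xbab001)], [(nat_lit 0xbac001), (nat_lit 0xbae001), (nat_lit 0x7ba001)], [(nat_lit 0x7bc001), (nat_lit 0xbb0001), (nat_lit 0xbb3001)], [(nat_lit 0xbb4001), (nat_lit 0xbb6001), (nat_lit 0x7be001)], [(nat_lit 0xbb8001), (nat_lit 0x7c1001), (nat_lit 0xbbc001)], [(nat_lit 0xbc1001), (nat_lit 0x7c8001), (nat_lit 0xbc6001)], [(nat_lit 0x7ca001), (nat_lit 0xbc3001), (nat_lit 0xbc5001)], [(nat_lit 0xbc4001), (nat_lit 0xbc8001), (nat_lit 0x7cb001)], [(nat_lit 0x7c4001), (nat_lit 0x7c3001), (nat_lit 0xbba001)], [(nat_lit 0x7c7001), (nat_lit 0xbc0001), (nat_lit 0x7c6001)], [(nat_lit 0xbc2001), (nat_lit 0x7c9001), (nat_lit 0xbc7001)], [(nat_lit 0x7cc001), (nat_lit 0xbc9001), (nat_lit 0xbce001)], [(nat_lit 0xbcd001), (nat_lit 0xbd1001), (nat_lit 0x7d0001)], [(nat_lit 0xbbb001), (nat_lit 0xbca001), (nat_lit 0x7cd001)], [(nat_lit 0xbcc001), (nat_lit 0x7cf001), (nat_lit 0xbd0001)], [(nat_lit 0x7d1001), (nat_lit 0xbd2001), (nat_lit 0xbd7001)], [(nat_lit 0xbd6001), (nat_lit 0xbde001), (nat_lit 0x7d5001)], [(nat_lit 0xbcb001), (nat_lit 0x7ce001), (nat_lit 0xbcf001)], [(nat_lit 0x7d2001), (nat_lit 0xbd3001), (nat_lit 0xbd8001)], [(nat_lit 0xbd9001), (nat_lit 0xbdf001), (nat_lit 0x7d6001)], [(nat_lit 0xbd4001), (nat_lit 0x7d3001), (nat_lit 0xbda001)], [(nat_lit 0x7d4001), (nat_lit 0xbd5001), (nat_lit 0xbdc001)], [(nat_lit 0xbdd001), (nat_lit 0xbe0001), (nat_lit 0x7d7001)], [(nat_lit 0x7da001), (nat_lit 0xbe1001), (nat_lit 0x7db001)], [(nat_lit 0xbe2001), (nat_lit 0x7dc001), (nat_lit 0xbe9001)], [(nat_lit 0x7dd001), (nat_lit 0xbe3001), (nat_lit 0xbe7001)], [(nat_lit 0xbe6001), (nat_lit 0x26f1c00beb002), (nat_lit 0x7e1001)], [(nat_lit 0xbe4001), (nat_lit 0x7de001), (nat_lit 0xbea001)], [(nat_lit 0x7df001), (nat_lit 0xbe5001), (nat_lit 0x7e0001)], [(nat_lit 0xbe8001), (nat_lit 0x7e2001), (nat_lit 0xbec001)], [(nat_lit 0x7f0001), (nat_lit 0x2eaa200c01002), (nat_lit 0xc06001)], [(nat_lit 0xc07001), (nat_lit 0xc08001), (nat_lit 0x7f4001)], [(nat_lit 0x2cf5000c0a002), (nat_lit 0x7f6001), (nat_lit 0x2d1fe00c0f002)], [(nat_lit 0x7f8001), (nat_lit 0xc0b001), (nat_lit 0x7f7001)], [(nat_lit 0xc0d001), (nat_lit 0x7fa001), (nat_lit 0xc12001)], [(nat_lit 0x7f9001), (nat_lit 0xc0c001), (nat_lit 0xc10001)], [(nat_lit 0xc11001), (nat_lit 0x2889600c15002), (nat_lit 0x7fd001)], [(nat_lit 0xc13001), (nat_lit 0x7fb001), (nat_lit 0xc18001)], [(nat_lit 0x7fc001), (nat_lit 0xc14001), (nat_lit 0xc17001)], [(nat_lit 0xc16001), (nat_lit 0xc19001), (nat_lit 0x7fe001)], [(nat_lit 0x800001), (nat_lit 0x7ff001), (nat_lit 0xc1a001)], [(nat_lit 0x804001), (nat_lit 0xc1e001), (nat_lit 0x803001)], [(nat_lit 0xc24001), (nat_lit 0x808001), (nat_lit 0xc2b001)], [(nat_lit 0x801001), (nat_lit 0xc1c001), (nat_lit 0xc20001)], [(nat_lit 0xc1f001), (nat_lit 0xc23001), (nat_lit 0x805001)], [(nat_lit 0xc1d001), (nat_lit 0x802001), (nat_lit 0xc22001)], [(nat_lit 0x807001), (nat_lit 0xc21001), (nat_lit 0x806001)], [(nat_lit 0x26aee00c25002), (nat_lit 0x809001), (nat_lit 0x26aed00c2c002)], [(nat_lit 0xc1b001), (nat_lit 0xc27001), (nat_lit 0x80a001)], [(nat_lit 0xc28001), (nat_lit 0x80b001), (nat_lit 0xc2e001)], [(nat_lit 0x80d001), (nat_lit 0xc2a001), (nat_lit 0xc30001)], [(nat_lit 0xc31001), (nat_lit 0xc33001), (nat_lit 0x810001)], [(nat_lit 0xc29001), (nat_lit 0x80c001), (nat_lit 0xc2f001)], [(nat_lit 0x80e001), (nat_lit 0xc32001), (nat_lit 0x80f001)], [(nat_lit 0x812001), (nat_lit 0xc36001), (nat_lit 0xc3a001)], [(nat_lit 0xc39001), (nat_lit 0xc41001), (nat_lit 0x815001)], [(nat_lit 0x813001), (nat_lit 0xc37001), (nat_lit 0xc3c001)], [(nat_lit 0xc3b001), (nat_lit 0xc42001), (nat_lit 0x816001)], [(nat_lit 0x818001), (nat_lit 0xc3d001), (nat_lit 0x817001)], [(nat_lit 0xc47001), (nat_lit 0x81d001), (nat_lit 0xc48001)], [(nat_lit 0x819001), (nat_lit 0xc3e001), (nat_lit 0xc43001)], [(nat_lit 0xc44001), (nat_lit 0xc46001), (nat_lit 0x81b001)], [(nat_lit 0xc49001), (nat_lit 0x81e001), (nat_lit 0xc51001)], [(nat_lit 0x820001), (nat_lit 0xc4a001), (nat_lit 0xc50001)], [(nat_lit 0xc4f001), (nat_lit 0xc56001), (nat_lit 0x827001)], [(nat_lit 0xc3f001), (nat_lit 0x81a001), (nat_lit 0xc45001)], [(nat_lit 0x821001), (nat_lit 0xc4b001), (nat_lit 0xc53001)], [(nat_lit 0xc54001), (nat_lit 0xc57001), (nat_lit 0x828001)], [(nat_lit 0xc4c001), (nat_lit 0x822001), (nat_lit 0xc55001)], [(nat_lit 0x823001), (nat_lit 0xc4d001), (nat_lit 0x824001)], [(nat_lit 0xc58001), (nat_lit 0x829001), (nat_lit 0xc5b001)], [(nat_lit 0x826001), (nat_lit 0xc4e001), (nat_lit 0x825001)], [(nat_lit 0xc59001), (nat_lit 0x82a001), (nat_lit 0xc5c001)], [(nat_lit 0x82b001), (nat_lit 0xc5a001), (nat_lit 0xc5d001)], [(nat_lit 0xc5e001), (nat_lit 0xc5f001), (nat_lit 0x82c001)], [(nat_lit 0xc60001), (nat_lit 0x82d001), (nat_lit 0xc66001)], [(nat_lit 0x82f001), (nat_lit 0xc62001), (nat_lit 0x830001)], [(nat_lit 0xc69001), (nat_lit 0x833001), (nat_lit 0xc70001)], [(nat_lit 0x82e001), (nat_lit 0xc61001), (nat_lit 0xc65001)], [(nat_lit 0xc64001), (nat_lit 0xc68001), (nat_lit 0x832001)], [(nat_lit 0xc63001), (nat_lit 0x831001), (nat_lit 0xc67001)], [(nat_lit 0x834001), (nat_lit 0xc6a001), (nat_lit 0xc6e001)], [(nat_lit 0xc6d001), (nat_lit 0xc72001), (nat_lit 0x837001)], [(nat_lit 0xc6b001), (nat_lit 0x835001), (nat_lit 0x2e84100c71002)], [(nat_lit 0x839001), (nat_lit 0xc6f001), (nat_lit 0x838001)], [(nat_lit 0xc75001), (nat_lit 0x83d001), (nat_lit 0xc7a001)], [(nat_lit 0x9d5001), (nat_lit 0x836001), (nat_lit 0xc6c001)], [(nat_lit 0x83b001), (nat_lit 0xc73001), (nat_lit 0x83a001)], [(nat_lit 0xc78001), (nat_lit 0x840001), (nat_lit 0xc7b001)], [(nat_lit 0x83c001), (nat_lit 0xc74001), (nat_lit 0xc77001)], [(nat_lit 0xc76001), (nat_lit 0x26ae30083f002), (nat_lit 0x83e001)], [(nat_lit 0xc79001), (nat_lit 0x841001), (nat_lit 0xc7c001)], [(nat_lit 0x842001), (nat_lit 0xc7d001), (nat_lit 0x843001)], [(nat_lit 0xc7e001), (nat_lit 0x845001), (nat_lit 0xc82001)], [(nat_lit 0xc7f001), (nat_lit 0x846001), (nat_lit 0xc83001)], [(nat_lit 0x847001), (nat_lit 0x2dafc00c80002), (nat_lit 0xc84001)], [(nat_lit 0xc85001), (nat_lit 0xc88001), (nat_lit 0x84a001)], [(nat_lit 0xc81001), (nat_lit 0x848001), (nat_lit 0xc86001)], [(nat_lit 0x84c001), (nat_lit 0xc89001), (nat_lit 0x84b001)], [(nat_lit 0xc8c001), (nat_lit 0x84e001), (nat_lit 0xc8e001)], [(nat_lit 0x849001), (nat_lit 0xc87001), (nat_lit 0xc8b001)], [(nat_lit 0xc8a001), (nat_lit 0xc8d001), (nat_lit 0x84d001)], [(nat_lit 0xc8f001), (nat_lit 0x84f001), (nat_lit 0x2582600c93002)], [(nat_lit 0x850001), (nat_lit 0xc90001), (nat_lit 0x26f2a00c92002)], [(nat_lit 0x26f2a00c91002), (nat_lit 0xc94001), (nat_lit 0x851001)], [(nat_lit 0x86e001), (nat_lit 0xcb6001), (nat_lit 0x86d001)], [(nat_lit 0xcb7001), (nat_lit 0x86f001), (nat_lit 0xcb9001)], [(nat_lit 0x871001), (nat_lit 0xcba001), (nat_lit 0x2d3ed00cbe002)], [(nat_lit 0x2d3ed00cbd002), (nat_lit 0xcc3001), (nat_lit 0x873001)], [(nat_lit 0xcbf001), (nat_lit 0x874001), (nat_lit 0xcc4001)], [(nat_lit 0x877001), (nat_lit 0xcc2001), (nat_lit 0xcc7001)], [(nat_lit 0xcc8001), (nat_lit 0xccb001), (nat_lit 0x87b001)], [(nat_lit 0xcbb001), (nat_lit 0x875001), (nat_lit 0xcc0001)], [(nat_lit 0x879001), (nat_lit 0xcc9001), (nat_lit 0x878001)], [(nat_lit 0x876001), (nat_lit 0xcc1001), (nat_lit 0xcc5001)], [(nat_lit 0xcc6001), (nat_lit 0xcca001), (nat_lit 0x87a001)], [(nat_lit 0xccd001), (nat_lit 0x87d001), (nat_lit 0xccf001)], [(nat_lit 0x881001), (nat_lit 0xcd1001), (nat_lit 0x880001)], [(nat_lit 0xcd2001), (nat_lit 0x882001), (nat_lit 0xcd7001)], [(nat_lit 0x87f001), (nat_lit 0xcd0001), (nat_lit 0x87e001)], [(nat_lit 0xcd3001), (nat_lit 0x883001), (nat_lit 0xcd8001)], [(nat_lit 0x885001), (nat_lit 0xcd5001), (nat_lit 0xcda001)], [(nat_lit 0xcdb001), (nat_lit 0xcdc001), (nat_lit 0x888001)], [(nat_lit 0xcd4001), (nat_lit 0x884001), (nat_lit 0xcd9001)], [(nat_lit 0x886001), (nat_lit 0xcd6001), (nat_lit 0x887001)], [(nat_lit 0xcdd001), (nat_lit 0x889001), (nat_lit 0xce1001)], [(nat_lit 0x88a001), (nat_lit 0xcde001), (nat_lit 0xce2001)], [(nat_lit 0xce3001), (nat_lit 0xce7001), (nat_lit 0x88e001)], [(nat_lit 0xcdf001), (nat_lit 0x88b001), (nat_lit 0xce4001)], [(nat_lit 0xce0001), (nat_lit 0x88c001), (nat_lit 0xce5001)], [(nat_lit 0x88f001), (nat_lit 0xce8001), (nat_lit 0xcea001)], [(nat_lit 0xceb001), (nat_lit 0xcf0001), (nat_lit 0x894001)], [(nat_lit 0xce9001), (nat_lit 0x890001), (nat_lit 0x25f3d00cec002)], [(nat_lit 0x892001), (nat_lit 0xcef001), (nat_lit 0x893001)], [(nat_lit 0xcf2001), (nat_lit 0x896001), (nat_lit 0xcf5001)], [(nat_lit 0x891001), (nat_lit 0x98b001), (nat_lit 0xced001)], [(nat_lit 0xcee001), (nat_lit 0xcf1001), (nat_lit 0x895001)], [(nat_lit 0xcf3001), (nat_lit 0x897001), (nat_lit 0xcf6001)], [(nat_lit 0x899001), (nat_lit 0xcf9001), (nat_lit 0x25f4700cfc002)], [(nat_lit 0xcfd001), (nat_lit 0x89d001), (nat_lit 0xd01001)], [(nat_lit 0x89e001), (nat_lit 0xcfe001), (nat_lit 0xd02001)], [(nat_lit 0xd03001), (nat_lit 0xd05001), (nat_lit 0x8a2001)], [(nat_lit 0x8a0001), (nat_lit 0x89f001), (nat_lit 0x1cee200cff002)], [(nat_lit 0x8a4001), (nat_lit 0xd06001), (nat_lit 0x8a3001)], [(nat_lit 0xd09001), (nat_lit 0x8a6001), (nat_lit 0xd0d001)], [(nat_lit 0x8a1001), (nat_lit 0xd04001), (nat_lit 0xd08001)], [(nat_lit 0xd07001), (nat_lit 0xd0c001), (nat_lit 0x8a5001)], [(nat_lit 0xd0a001), (nat_lit 0x8a7001), (nat_lit 0xd0e001)], [(nat_lit 0x8aa001), (nat_lit 0xd0f001), (nat_lit 0x8a9001)], [(nat_lit 0xd11001), (nat_lit 0x8ac001), (nat_lit 0xd17001)], [(nat_lit 0x1cee200d00002), (nat_lit 0xd0b001), (nat_lit 0x8a8001)], [(nat_lit 0xd14001), (nat_lit 0x8ae001), (nat_lit 0xd1b001)], [(nat_lit 0x8b2001), (nat_lit 0xd1f001), (nat_lit 0x8b1001)], [(nat_lit 0xd21001), (nat_lit 0x8b4001), (nat_lit 0xd22001)], [(nat_lit 0x8af001), (nat_lit 0xd15001), (nat_lit 0x2a76200d1c002)], [(nat_lit 0x2a76200d1d002), (nat_lit 0x29d5e00d20002), (nat_lit 0x8b3001)], [(nat_lit 0xd23001), (nat_lit 0x8b5001), (nat_lit 0xd2c001)], [(nat_lit 0x8b7001), (nat_lit 0xd25001), (nat_lit 0xd2e001)], [(nat_lit 0xd2f001), (nat_lit 0xd34001), (nat_lit 0x8be001)], [(nat_lit 0xd24001), (nat_lit 0x8b6001), (nat_lit 0xd2d001)], [(nat_lit 0x8b8001), (nat_lit 0xd26001), (nat_lit 0xd30001)], [(nat_lit 0xd31001), (nat_lit 0xd35001), (nat_lit 0x8bf001)], [(nat_lit 0xd27001), (nat_lit 0x8b9001), (nat_lit 0xd32001)], [(nat_lit 0x8bc001), (nat_lit 0xd2b001), (nat_lit 0x8bd001)], [(nat_lit 0xd37001), (nat_lit 0x8c1001), (nat_lit 0xd43001)], [(nat_lit 0x8ba001), (nat_lit 0xb4f001), (nat_lit 0xd28001)], [(nat_lit 0xd29001), (nat_lit 0xd36001), (nat_lit 0x8c0001)], [(nat_lit 0xd2a001), (nat_lit 0x8bb001), (nat_lit 0xd33001)], [(nat_lit 0x8c2001), (nat_lit 0xd39001), (nat_lit 0xd3c001)], [(nat_lit 0xd3b001), (nat_lit 0xd45001), (nat_lit 0x8c4001)], [(nat_lit 0x8c3001), (nat_lit 0xd3a001), (nat_lit 0xd3e001)], [(nat_lit 0xd3d001), (nat_lit 0xd46001), (nat_lit 0x8c5001)], [(nat_lit 0xd3f001), (nat_lit 0x8c6001), (nat_lit 0xd47001)], [(nat_lit 0x8c7001), (nat_lit 0xd40001), (nat_lit 0x8c8001)], [(nat_lit 0xd4b001), (nat_lit 0x8cb001), (nat_lit 0xd4f001)], [(nat_lit 0x8c9001), (nat_lit 0xd41001), (nat_lit 0x25f3c00d48002)], [(nat_lit 0xd42001), (nat_lit 0x8ca001), (nat_lit 0xd4a001)], [(nat_lit 0x8cf001), (nat_lit 0xd50001), (nat_lit 0xd54001)], [(nat_lit 0xd53001), (nat_lit 0xd5a001), (nat_lit 0x8d3001)], [(nat_lit 0x8ce001), (nat_lit 0x8cd001), (nat_lit 0xd4d001)], [(nat_lit 0x8d0001), (nat_lit 0xd51001), (nat_lit 0x8d1001)], [(nat_lit 0xd55001), (nat_lit 0x8d4001), (nat_lit 0xd5b001)], [(nat_lit 0x8d2001), (nat_lit 0xd52001), (nat_lit 0xd57001)], [(nat_lit 0xd56001), (nat_lit 0xd5c001), (nat_lit 0x8d5001)], [(nat_lit 0xd4e001), (nat_lit 0xd58001), (nat_lit 0x8d6001)], [(nat_lit 0xd59001), (nat_lit 0x8d7001), (nat_lit 0xd5d001)], [(nat_lit 0x8d8001), (nat_lit 0xd5e001), (nat_lit 0xd60001)], [(nat_lit 0xd5f001), (nat_lit 0xd64001), (nat_lit 0x8d9001)], [(nat_lit 0x8db001), (nat_lit 0xd62001), (nat_lit 0xd66001)], [(nat_lit 0xd67001), (nat_lit 0xd69001), (nat_lit 0x8e0001)], [(nat_lit 0xd68001), (nat_lit 0x8de001), (nat_lit 0xd6c001)], [(nat_lit 0x8e1001), (nat_lit 0xd6a001), (nat_lit 0xd6f001)], [(nat_lit 0xd70001), (nat_lit 0xd76001), (nat_lit 0x8e6001)], [(nat_lit 0x2cf4200d72002), (nat_lit 0xd77001), (nat_lit 0x8e7001)], [(nat_lit 0x8e9001), (nat_lit 0xd7b001), (nat_lit 0x8e8001)], [(nat_lit 0xd7d001), (nat_lit 0x8eb001), (nat_lit 0xd83001)], [(nat_lit 0x8e4001), (nat_lit 0xd73001), (nat_lit 0xd78001)], [(nat_lit 0xd79001), (nat_lit 0xd7c001), (nat_lit 0x8ea001)], [(nat_lit 0xd75001), (nat_lit 0x8e5001), (nat_lit 0xd7a001)], [(nat_lit 0x8ec001), (nat_lit 0xd7e001), (nat_lit 0xd80001)], [(nat_lit 0xd7f001), (nat_lit 0xd84001), (nat_lit 0x8ed001)], [(nat_lit 0xd74001), (nat_lit 0x8ee001), (nat_lit 0xd81001)], [(nat_lit 0x8f0001), (nat_lit 0xd87001), (nat_lit 0x8f1001)], [(nat_lit 0xd8a001), (nat_lit 0x8f5001), (nat_lit 0xd8e001)], [(nat_lit 0x8ef001), (nat_lit 0xd82001), (nat_lit 0xd85001)], [(nat_lit 0xd86001), (nat_lit 0x942001), (nat_lit 0x8f4001)], [(nat_lit 0xd88001), (nat_lit 0x8f2001), (nat_lit 0xd8d001)], [(nat_lit 0x8f7001), (nat_lit 0xa3b001), (nat_lit 0x8f6001)], [(nat_lit 0xd90001), (nat_lit 0x8f9001), (nat_lit 0xd93001)], [(nat_lit 0x8f3001), (nat_lit 0xd89001), (nat_lit 0xd8c001)], [(nat_lit 0xd8b001), (nat_lit 0xd8f001), (nat_lit 0x8f8001)], [(nat_lit 0x8fb001), (nat_lit 0x8fa001), (nat_lit 0xd91001)], [(nat_lit 0x8fc001), (nat_lit 0xd94001), (nat_lit 0x8fd001)], [(nat_lit 0xd95001), (nat_lit 0x8fe001), (nat_lit 0xd99001)], [(nat_lit 0x900001), (nat_lit 0xd97001), (nat_lit 0xd9c001)], [(nat_lit 0xd9d001), (nat_lit 0xda1001), (nat_lit 0x904001)], [(nat_lit 0xd98001), (nat_lit 0x901001), (nat_lit 0xd9e001)], [(nat_lit 0x906001), (nat_lit 0xda2001), (nat_lit 0x905001)], [(nat_lit 0xda7001), (nat_lit 0x909001), (nat_lit 0xdb1001)], [(nat_lit 0xd92001), (nat_lit 0xd9f001), (nat_lit 0x902001)], [(nat_lit 0xda3001), (nat_lit 0x907001), (nat_lit 0xda5001)], [(nat_lit 0x90c001), (nat_lit 0xdaa001), (nat_lit 0xdb0001)], [(nat_lit 0xdaf001), (nat_lit 0xdb8001), (nat_lit 0x911001)], [(nat_lit 0xda4001), (nat_lit 0x908001), (nat_lit 0xda6001)], [(nat_lit 0x90b001), (nat_lit 0xda9001), (nat_lit 0x90a001)], [(nat_lit 0xdab001), (nat_lit 0x90d001), (nat_lit 0xa0c001)], [(nat_lit 0x90e001), (nat_lit 0xdac001), (nat_lit 0xdb3001)], [(nat_lit 0xdb4001), (nat_lit 0xdb9001), (nat_lit 0x912001)], [(nat_lit 0x910001), (nat_lit 0xdae001), (nat_lit 0xdb6001)], [(nat_lit 0xdb7001), (nat_lit 0xdbb001), (nat_lit 0x915001)], [(nat_lit 0xdad001), (nat_lit 0x90f001), (nat_lit 0xdb5001)], [(nat_lit 0x914001), (nat_lit 0xdba001), (nat_lit 0x913001)], [(nat_lit 0xdbe001), (nat_lit 0x917001), (nat_lit 0xdc1001)], [(nat_lit 0x91a001), (nat_lit 0xdc4001), (nat_lit 0xdc8001)], [(nat_lit 0xdc7001), (nat_lit 0xdca001), (nat_lit 0x91e001)], [(nat_lit 0x923001), (nat_lit 0xdce001), (nat_lit 0x922001)], [(nat_lit 0xdd1001), (nat_lit 0x927001), (nat_lit 0xdd4001)], [(nat_lit 0x929001), (nat_lit 0xdd6001), (nat_lit 0xdda001)], [(nat_lit 0xdd9001), (nat_lit 0xddf001), (nat_lit 0x92d001)], [(nat_lit 0xdd5001), (nat_lit 0x928001), (nat_lit 0xdde001)], [(nat_lit 0x92a001), (nat_lit 0xdd7001), (nat_lit 0x92b001)], [(nat_lit 0xddb001), (nat_lit 0x92e001), (nat_lit 0xde0001)], [(nat_lit 0x92c001), (nat_lit 0xdd8001), (nat_lit 0xddd001)], [(nat_lit 0xddc001), (nat_lit 0xde1001), (nat_lit 0x92f001)], [(nat_lit 0x24c1b00de2002), (nat_lit 0x930001), (nat_lit 0xdea001)], [(nat_lit 0xde3001), (nat_lit 0x931001), (nat_lit 0xdeb001)], [(nat_lit 0x932001), (nat_lit 0xde4001), (nat_lit 0xde6001)], [(nat_lit 0xde5001), (nat_lit 0xdec001), (nat_lit 0x933001)], [(nat_lit 0xde7001), (nat_lit 0x934001), (nat_lit 0x22fce00ded002)], [(nat_lit 0x936001), (nat_lit 0xdf0001), (nat_lit 0x937001)], [(nat_lit 0xdf4001), (nat_lit 0x93b001), (nat_lit 0xdf6001)], [(nat_lit 0x935001), (nat_lit 0xde8001), (nat_lit 0xdee001)], [(nat_lit 0xdef001), (nat_lit 0xdf3001), (nat_lit 0x93a001)], [(nat_lit 0xdf1001), (nat_lit 0x938001), (nat_lit 0xdf5001)], [(nat_lit 0xde9001), (nat_lit 0x939001), (nat_lit 0xdf2001)], [(nat_lit 0x93d001), (nat_lit 0xdf7001), (nat_lit 0x93c001)], [(nat_lit 0xdf9001), (nat_lit 0x93f001), (nat_lit 0xe01001)], [(nat_lit 0x93e001), (nat_lit 0xdf8001), (nat_lit 0xdfc001)], [(nat_lit 0xdfb001), (nat_lit 0x942001), (nat_lit 0x941001)], [(nat_lit 0xdfa001), (nat_lit 0x940001), (nat_lit 0xe02001)], [(nat_lit 0x944001), (nat_lit 0xdfd001), (nat_lit 0x943001)], [(nat_lit 0xe06001), (nat_lit 0x947001), (nat_lit 0xe0e001)], [(nat_lit 0x945001), (nat_lit 0xdfe001), (nat_lit 0xe03001)], [(nat_lit 0xe04001), (nat_lit 0xe08001), (nat_lit 0x949001)], [(nat_lit 0x2e44100e00002), (nat_lit 0x946001), (nat_lit 0xe05001)], [(nat_lit 0x948001), (nat_lit 0x2e4e600e07002), (nat_lit 0xe0a001)], [(nat_lit 0xe09001), (nat_lit 0xe0f001), (nat_lit 0x94a001)], [(nat_lit 0x94d001), (nat_lit 0xe0d001), (nat_lit 0xe10001)], [(nat_lit 0xe11001), (nat_lit 0xe13001), (nat_lit 0x94f001)], [(nat_lit 0xe12001), (nat_lit 0x94e001), (nat_lit 0xe17001)], [(nat_lit 0x951001), (nat_lit 0xe14001), (nat_lit 0x950001)], [(nat_lit 0xe19001), (nat_lit 0x954001), (nat_lit 0xe1e001)], [(nat_lit 0x23e0700e0c002), (nat_lit 0xe15001), (nat_lit 0x952001)], [(nat_lit 0xe16001), (nat_lit 0x953001), (nat_lit 0xe18001)], [(nat_lit 0x956001), (nat_lit 0xe1a001), (nat_lit 0x955001)], [(nat_lit 0xe1b001), (nat_lit 0x958001), (nat_lit 0xe20001)], [(nat_lit 0x95a001), (nat_lit 0xe1c001), (nat_lit 0xe23001)], [(nat_lit 0xe24001), (nat_lit 0xe27001), (nat_lit 0x95d001)], [(nat_lit 0xe1d001), (nat_lit 0x95b001), (nat_lit 0xe25001)], [(nat_lit 0x960001), (nat_lit 0xe2d001), (nat_lit 0xe31001)], [(nat_lit 0xe30001), (nat_lit 0xe38001), (nat_lit 0x963001)], [(nat_lit 0xe28001), (nat_lit 0x95e001), (nat_lit 0xe2a001)], [(nat_lit 0x95f001), (nat_lit 0xe29001), (nat_lit 0xe2b001)], [(nat_lit 0xe2c001), (nat_lit 0xe2f001), (nat_lit 0x962001)], [(nat_lit 0xe2e001), (nat_lit 0x961001), (nat_lit 0xe37001)], [(nat_lit 0x965001), (nat_lit 0xe32001), (nat_lit 0x964001)], [(nat_lit 0xe36001), (nat_lit 0x968001), (nat_lit 0xe3b001)], [(nat_lit 0x966001), (nat_lit 0xe33001), (nat_lit 0xe39001)], [(nat_lit 0xe3a001), (nat_lit 0xe3c001), (nat_lit 0x969001)], [(nat_lit 0xe3e001), (nat_lit 0x96c001), (nat_lit 0xe42001)], [(nat_lit 0x96e001), (nat_lit 0xe40001), (nat_lit 0xe44001)], [(nat_lit 0xe45001), (nat_lit 0xe48001), (nat_lit 0x970001)], [(nat_lit 0xe34001), (nat_lit 0x967001), (nat_lit 0xe35001)], [(nat_lit 0x96b001), (nat_lit 0xe3d001), (nat_lit 0x96a001)], [(nat_lit 0xe3f001), (nat_lit 0x96d001), (nat_lit 0xe43001)], [(nat_lit 0x96f001), (nat_lit 0xe41001), (nat_lit 0xe46001)], [(nat_lit 0xe47001), (nat_lit 0xe49001), (nat_lit 0x971001)], [(nat_lit 0xe4a001), (nat_lit 0x972001), (nat_lit 0xe4e001)], [(nat_lit 0xe4d001), (nat_lit 0x975001), (nat_lit 0xe52001)], [(nat_lit 0x973001), (nat_lit 0xe4b001), (nat_lit 0xe4f001)], [(nat_lit 0xe50001), (nat_lit 0xe53001), (nat_lit 0x976001)], [(nat_lit 0xe4c001), (nat_lit 0x974001), (nat_lit 0xe51001)], [(nat_lit 0x978001), (nat_lit 0xe54001), (nat_lit 0x977001)], [(nat_lit 0xe55001), (nat_lit 0x979001), (nat_lit 0xe59001)], [(nat_lit 0x97a001), (nat_lit 0xe56001), (nat_lit 0x2b12500e5a002)], [(nat_lit 0xe57001), (nat_lit 0x97b001), (nat_lit 0xe5b001)], [(nat_lit 0x97c001), (nat_lit 0xe58001), (nat_lit 0xe5c001)], [(nat_lit 0xe5d001), (nat_lit 0xe5f001), (nat_lit 0x97e001)], [(nat_lit 0x980001), (nat_lit 0x97f001), (nat_lit 0xe60001)], [(nat_lit 0x983001), (nat_lit 0xe64001), (nat_lit 0x984001)], [(nat_lit 0xe6a001), (nat_lit 0x988001), (nat_lit 0xe71001)], [(nat_lit 0x981001), (nat_lit 0xe62001), (nat_lit 0xe65001)], [(nat_lit 0xe66001), (nat_lit 0xe68001), (nat_lit 0x985001)], [(nat_lit 0xe63001), (nat_lit 0x982001), (nat_lit 0xe67001)], [(nat_lit 0x987001), (nat_lit 0xe69001), (nat_lit 0x986001)], [(nat_lit 0xe61001), (nat_lit 0xe6b001), (nat_lit 0x989001)], [(nat_lit 0xe6e001), (nat_lit 0x98c001), (nat_lit 0xe72001)], [(nat_lit 0x98f001), (nat_lit 0xe75001), (nat_lit 0xe7a001)], [(nat_lit 0xe79001), (nat_lit 0xe80001), (nat_lit 0x993001)], [(nat_lit 0x98a001), (nat_lit 0x98b001), (nat_lit 0xe6c001)], [(nat_lit 0xe6d001), (nat_lit 0xe6f001), (nat_lit 0x98d001)], [(nat_lit 0xe70001), (nat_lit 0x98e001), (nat_lit 0xe73001)], [(nat_lit 0x990001), (nat_lit 0xe76001), (nat_lit 0xe7c001)], [(nat_lit 0xe7b001), (nat_lit 0xe81001), (nat_lit 0x994001)], [(nat_lit 0xdff001), (nat_lit 0x991001), (nat_lit 0xe77001)], [(nat_lit 0x996001), (nat_lit 0xe7d001), (nat_lit 0x995001)], [(nat_lit 0xe85001), (nat_lit 0x99b001), (nat_lit 0xe89001)], [(nat_lit 0x992001), (nat_lit 0xe78001), (nat_lit 0xe7e001)], [(nat_lit 0xe7f001), (nat_lit 0xe82001), (nat_lit 0x997001)], [(nat_lit 0xe83001), (nat_lit 0x998001), (nat_lit 0xe88001)], [(nat_lit 0x99d001), (nat_lit 0xe86001), (nat_lit 0x99c001)], [(nat_lit 0xe87001), (nat_lit 0x99e001), (nat_lit 0xe8a001)], [(nat_lit 0x99a001), (nat_lit 0xe84001), (nat_lit 0x999001)], [(nat_lit 0x235b100e8f002), (nat_lit 0xe96001), (nat_lit 0x9a4001)], [(nat_lit 0xe8c001), (nat_lit 0x9a1001), (nat_lit 0xe92001)], [(nat_lit 0x9a6001), (nat_lit 0xe91001), (nat_lit 0x9a5001)], [(nat_lit 0xe99001), (nat_lit 0x9a9001), (nat_lit 0xe9e001)], [(nat_lit 0x9a2001), (nat_lit 0xe8d001), (nat_lit 0xe93001)], [(nat_lit 0xe94001), (nat_lit 0xe97001), (nat_lit 0x9a7001)], [(nat_lit 0xe98001), (nat_lit 0x9a8001), (nat_lit 0x2840a00e9d002)], [(nat_lit 0x9aa001), (nat_lit 0xe9a001), (nat_lit 0xe9c001)], [(nat_lit 0xe9b001), (nat_lit 0xe9f001), (nat_lit 0x9ab001)], [(nat_lit 0xe8e001), (nat_lit 0x9a3001), (nat_lit 0xe95001)], [(nat_lit 0x9ad001), (nat_lit 0xea1001), (nat_lit 0xea5001)], [(nat_lit 0xea6001), (nat_lit 0xea8001), (nat_lit 0x9b0001)], [(nat_lit 0xea3001), (nat_lit 0x9ae001), (nat_lit 0xea7001)], [(nat_lit 0x9b3001), (nat_lit 0xeaa001), (nat_lit 0xeae001)], [(nat_lit 0xeaf001), (nat_lit 0xeb4001), (nat_lit 0x9b7001)], [(nat_lit 0xea2001), (nat_lit 0x9af001), (nat_lit 0xea4001)], [(nat_lit 0x9b2001), (nat_lit 0xea9001), (nat_lit 0x9b1001)], [(nat_lit 0xeab001), (nat_lit 0x9b4001), (nat_lit 0xeb0001)], [(nat_lit 0x9b5001), (nat_lit 0xeac001), (nat_lit 0xeb1001)], [(nat_lit 0xeb2001), (nat_lit 0x9e7001), (nat_lit 0x9b8001)], [(nat_lit 0xead001), (nat_lit 0x9b6001), (nat_lit 0xeb3001)], [(nat_lit 0x9ba001), (nat_lit 0xeb5001), (nat_lit 0x9b9001)], [(nat_lit 0xeb6001), (nat_lit 0x9bb001), (nat_lit 0xeb9001)], [(nat_lit 0x9bc001), (nat_lit 0xeb7001), (nat_lit 0xeba001)], [(nat_lit 0xebb001), (nat_lit 0xebe001), (nat_lit 0x9bf001)], [(nat_lit 0xeb8001), (nat_lit 0x9bd001), (nat_lit 0xebc001)], [(nat_lit 0x9c1001), (nat_lit 0x2202800ebf002), (nat_lit 0x9c0001)], [(nat_lit 0xec2001), (nat_lit 0x9c3001), (nat_lit 0xec5001)], [(nat_lit 0x9be001), (nat_lit 0xebd001), (nat_lit 0xec1001)], [(nat_lit 0xec0001), (nat_lit 0x2848e00ec4002), (nat_lit 0x9c2001)], [(nat_lit 0xec3001), (nat_lit 0x9c4001), (nat_lit 0xec6001)], [(nat_lit 0x9c7001), (nat_lit 0xec7001), (nat_lit 0xeca001)], [(nat_lit 0xec9001), (nat_lit 0xecf001), (nat_lit 0x9ca001)], [(nat_lit 0x9c9001), (nat_lit 0xec8001), (nat_lit 0x9c8001)], [(nat_lit 0xecb001), (nat_lit 0x9cb001), (nat_lit 0xed0001)], [(nat_lit 0x9cc001), (nat_lit 0x2a76800ecc002), (nat_lit 0xed1001)], [(nat_lit 0xed2001), (nat_lit 0xed5001), (nat_lit 0x9d1001)], [(nat_lit 0xecd001), (nat_lit 0x9cd001), (nat_lit 0xed3001)], [(nat_lit 0x9cf001), (nat_lit 0xed4001), (nat_lit 0x9d0001)], [(nat_lit 0xed6001), (nat_lit 0x9d2001), (nat_lit 0xedc001)], [(nat_lit 0xed8001), (nat_lit 0x9d3001), (nat_lit 0xede001)], [(nat_lit 0x9dd001), (nat_lit 0x2baae00ee4002), (nat_lit 0xeeb001)], [(nat_lit 0xeec001), (nat_lit 0xef2001), (nat_lit 0x9e2001)], [(nat_lit 0x9d5001), (nat_lit 0x9d4001), (nat_lit 0xed9001)], [(nat_lit 0x9d7001), (nat_lit 0xee0001), (nat_lit 0x9d8001)], [(nat_lit 0xee2001), (nat_lit 0x9db001), (nat_lit 0xee8001)], [(nat_lit 0xedb001), (nat_lit 0x9d6001), (nat_lit 0xedf001)], [(nat_lit 0x9d9001), (nat_lit 0xee1001), (nat_lit 0x9da001)], [(nat_lit 0xee3001), (nat_lit 0x9dc001), (nat_lit 0xeea001)], [(nat_lit 0x9de001), (nat_lit 0xee5001), (nat_lit 0xeed001)], [(nat_lit 0xeee001), (nat_lit 0xef3001), (nat_lit 0x9e3001)], [(nat_lit 0xee7001), (nat_lit 0x9df001), (nat_lit 0xeef001)], [(nat_lit 0xee6001), (nat_lit 0x9e0001), (nat_lit 0xef0001)], [(nat_lit 0x9e1001), (nat_lit 0xef1001), (nat_lit 0xef6001)], [(nat_lit 0xef5001), (nat_lit 0x9e7001), (nat_lit 0x9e6001)], [(nat_lit 0xef7001), (nat_lit 0x9e8001), (nat_lit 0xf02001)], [(nat_lit 0x9ea001), (nat_lit 0xef9001), (nat_lit 0x9eb001)], [(nat_lit 0xefa001), (nat_lit 0x9ec001), (nat_lit 0xf04001)], [(nat_lit 0x9ef001), (nat_lit 0xefd001), (nat_lit 0x9f0001)], [(nat_lit 0xf0a001), (nat_lit 0x9f6001), (nat_lit 0xf0e001)], [(nat_lit 0xeff001), (nat_lit 0x9f2001), (nat_lit 0xf08001)], [(nat_lit 0x9fa001), (nat_lit 0xf0d001), (nat_lit 0xf0f001)], [(nat_lit 0xf10001), (nat_lit 0xf13001), (nat_lit 0x9fd001)], [(nat_lit 0x9f4001), (nat_lit 0x9f3001), (nat_lit 0xf00001)], [(nat_lit 0x9f9001), (nat_lit 0xf0c001), (nat_lit 0x9f8001)], [(nat_lit 0xf11001), (nat_lit 0x9fb001), (nat_lit 0xf1b001)], [(nat_lit 0x9fc001), (nat_lit 0xf12001), (nat_lit 0xf15001)], [(nat_lit 0xf14001), (nat_lit 0xf1c001), (nat_lit 0x9fe001)], [(nat_lit 0xf16001), (nat_lit 0x9ff001), (nat_lit 0xf1d001)], [(nat_lit 0xa00001), (nat_lit 0xf17001), (nat_lit 0xa01001)], [(nat_lit 0xa34001), (nat_lit 0xa05001), (nat_lit 0xa2c001)], [(nat_lit 0xf01001), (nat_lit 0xf18001), (nat_lit 0xa02001)], [(nat_lit 0xf1a001), (nat_lit 0xa04001), (nat_lit 0xf1f001)], [(nat_lit 0xa08001), (nat_lit 0xf21001), (nat_lit 0xf27001)], [(nat_lit 0xf28001), (nat_lit 0xf2c001), (nat_lit 0xa0f001)], [(nat_lit 0xf19001), (nat_lit 0xa03001), (nat_lit 0xf1e001)], [(nat_lit 0xa07001), (nat_lit 0xf20001), (nat_lit 0xa06001)], [(nat_lit 0xa09001), (nat_lit 0xf22001), (nat_lit 0xf29001)], [(nat_lit 0xf2a001), (nat_lit 0xf2d001), (nat_lit 0xa10001)], [(nat_lit 0xf24001), (nat_lit 0xa0b001), (nat_lit 0xa0c001)], [(nat_lit 0xa12001), (nat_lit 0xf2f001), (nat_lit 0xf32001)], [(nat_lit 0xf31001), (nat_lit 0xf35001), (nat_lit 0xa14001)], [(nat_lit 0xf23001), (nat_lit 0xa0a001), (nat_lit 0xf2b001)], [(nat_lit 0xa0d001), (nat_lit 0xf26001), (nat_lit 0xa0e001)], [(nat_lit 0xf2e001), (nat_lit 0xa11001), (nat_lit 0xf33001)], [(nat_lit 0xf3e001), (nat_lit 0xa1c001), (nat_lit 0xf46001)], [(nat_lit 0xa1e001), (nat_lit 0xf40001), (nat_lit 0xa1f001)], [(nat_lit 0xf44001), (nat_lit 0xa22001), (nat_lit 0xf49001)], [(nat_lit 0xa18001), (nat_lit 0xf38001), (nat_lit 0xa17001)], [(nat_lit 0xf3d001), (nat_lit 0xa1b001), (nat_lit 0xf45001)], [(nat_lit 0xa1d001), (nat_lit 0xf3f001), (nat_lit 0xf43001)], [(nat_lit 0xf42001), (nat_lit 0x2245400f48002), (nat_lit 0xa21001)], [(nat_lit 0xf41001), (nat_lit 0xa20001), (nat_lit 0xf47001)], [(nat_lit 0xa24001), (nat_lit 0xf4a001), (nat_lit 0xa23001)], [(nat_lit 0xf4c001), (nat_lit 0xa26001), (nat_lit 0xf51001)], [(nat_lit 0xa25001), (nat_lit 0xf4b001), (nat_lit 0xf50001)], [(nat_lit 0xf4f001), (nat_lit 0xf54001), (nat_lit 0xa29001)], [(nat_lit 0xf4d001), (nat_lit 0xa27001), (nat_lit 0xf52001)], [(nat_lit 0xa2b001), (nat_lit 0xf56001), (nat_lit 0xa2c001)], [(nat_lit 0xa34001), (nat_lit 0xf63001), (nat_lit 0xa33001)], [(nat_lit 0xf4e001), (nat_lit 0xa28001), (nat_lit 0xf53001)], [(nat_lit 0xa2a001), (nat_lit 0xf55001), (nat_lit 0xf5d001)], [(nat_lit 0xf5c001), (nat_lit 0xf62001), (nat_lit 0xa32001)], [(nat_lit 0xf57001), (nat_lit 0xa2d001), (nat_lit 0x275bb00f5e002)], [(nat_lit 0xa30001), (nat_lit 0xf5b001), (nat_lit 0xa31001)], [(nat_lit 0xf65001), (nat_lit 0xa36001), (nat_lit 0xf6b001)], [(nat_lit 0xa2e001), (nat_lit 0xf58001), (nat_lit 0xf5f001)], [(nat_lit 0xf60001), (nat_lit 0xf64001), (nat_lit 0xa35001)], [(nat_lit 0xf5a001), (nat_lit 0xa2f001), (nat_lit 0xf61001)], [(nat_lit 0xa37001), (nat_lit 0xf66001), (nat_lit 0xf6a001)], [(nat_lit 0xf69001), (nat_lit 0xa3b001), (nat_lit 0xa3a001)], [(nat_lit 0xf59001), (nat_lit 0xa38001), (nat_lit 0xf67001)], [(nat_lit 0xa3d001), (nat_lit 0xf6e001), (nat_lit 0xa3c001)], [(nat_lit 0xf70001), (nat_lit 0xa3f001), (nat_lit 0xf78001)], [(nat_lit 0xf73001), (nat_lit 0xa42001), (nat_lit 0xf7a001)], [(nat_lit 0xa45001), (nat_lit 0xf76001), (nat_lit 0xa44001)], [(nat_lit 0xf77001), (nat_lit 0xa46001), (nat_lit 0xf7c001)], [(nat_lit 0xa39001), (nat_lit 0xf68001), (nat_lit 0xf6c001)], [(nat_lit 0xf6d001), (nat_lit 0xf6f001), (nat_lit 0xa3e001)], [(nat_lit 0xf71001), (nat_lit 0xa40001), (nat_lit 0xf79001)], [(nat_lit 0xa41001), (nat_lit 0xf72001), (nat_lit 0xf75001)], [(nat_lit 0xf74001), (nat_lit 0xf7b001), (nat_lit 0xa43001)], [(nat_lit 0xf86001), (nat_lit 0xa4d001), (nat_lit 0xf8c001)], [(nat_lit 0xa54001), (nat_lit 0xf93001), (nat_lit 0xf9a001)], [(nat_lit 0xf9b001), (nat_lit 0xfa0001), (nat_lit 0xa59001)], [(nat_lit 0xf95001), (nat_lit 0xa56001), (nat_lit 0xf9e001)], [(nat_lit 0xa5c001), (nat_lit 0xfa2001), (nat_lit 0xa5b001)], [(nat_lit 0xfa3001), (nat_lit 0xa5d001), (nat_lit 0xfa6001)], [(nat_lit 0xa51001), (nat_lit 0xf8a001), (nat_lit 0xf8f001)], [(nat_lit 0xf90001), (nat_lit 0xf96001), (nat_lit 0xa57001)], [(nat_lit 0xf92001), (nat_lit 0xa53001), (nat_lit 0xf99001)], [(nat_lit 0xa55001), (nat_lit 0xf94001), (nat_lit 0xf9c001)], [(nat_lit 0xf9d001), (nat_lit 0x2616b00fa1002), (nat_lit 0xa5a001)], [(nat_lit 0xf8b001), (nat_lit 0xa5e001), (nat_lit 0xfa4001)], [(nat_lit 0xa60001), (nat_lit 0xfa5001), (nat_lit 0xa5f001)], [(nat_lit 0xfa9001), (nat_lit 0xa63001), (nat_lit 0xfb5001)], [(nat_lit 0xa61001), (nat_lit 0xfa7001), (nat_lit 0xfaf001)], [(nat_lit 0xfae001), (nat_lit 0xfb7001), (nat_lit 0xa68001)], [(nat_lit 0xa62001), (nat_lit 0xfa8001), (nat_lit 0xfb1001)], [(nat_lit 0xfb0001), (nat_lit 0xfb8001), (nat_lit 0xa69001)], [(nat_lit 0x2d8d100faa002), (nat_lit 0xa64001), (nat_lit 0xfb6001)], [(nat_lit 0xa6b001), (nat_lit 0xfb2001), (nat_lit 0xa6a001)], [(nat_lit 0xfbb001), (nat_lit 0xa6f001), (nat_lit 0xfc0001)], [(nat_lit 0xa65001), (nat_lit 0x2dcab00fab002), (nat_lit 0x275be00fb4002)], [(nat_lit 0xfbc001), (nat_lit 0xa70001), (nat_lit 0xfc1001)], [(nat_lit 0xa74001), (nat_lit 0xfc4001), (nat_lit 0xfc9001)], [(nat_lit 0xfc8001), (nat_lit 0xfcf001), (nat_lit 0xa78001)], [(nat_lit 0xa67001), (nat_lit 0xa66001), (nat_lit 0xfac001)], [(nat_lit 0xa6e001), (nat_lit 0xfba001), (nat_lit 0xa6d001)], [(nat_lit 0xfbd001), (nat_lit 0xa71001), (nat_lit 0xfc2001)], [(nat_lit 0xa75001), (nat_lit 0xfc5001), (nat_lit 0xfcb001)], [(nat_lit 0xfca001), (nat_lit 0xfd0001), (nat_lit 0xa79001)], [(nat_lit 0xfad001), (nat_lit 0xfbe001), (nat_lit 0xa72001)], [(nat_lit 0xfbf001), (nat_lit 0xa73001), (nat_lit 0xfc3001)], [(nat_lit 0xa76001), (nat_lit 0xfc6001), (nat_lit 0xfcd001)], [(nat_lit 0xfcc001), (nat_lit 0xfd1001), (nat_lit 0xa7a001)], [(nat_lit 0xfc7001), (nat_lit 0xa77001), (nat_lit 0xfce001)], [(nat_lit 0xa7c001), (nat_lit 0xfd2001), (nat_lit 0xa7b001)], [(nat_lit 0xa7d001), (nat_lit 0xfd3001), (nat_lit 0xfd8001)], [(nat_lit 0xfd7001), (nat_lit 0xfdd001), (nat_lit 0xa81001)], [(nat_lit 0xa85001), (nat_lit 0xfdf001), (nat_lit 0xfe4001)], [(nat_lit 0xfe3001), (nat_lit 0xfea001), (nat_lit 0xa8a001)], [(nat_lit 0xa7f001), (nat_lit 0xa7e001), (nat_lit 0xfd4001)], [(nat_lit 0xa83001), (nat_lit 0xfd9001), (nat_lit 0xa82001)], [(nat_lit 0xfda001), (nat_lit 0xa84001), (nat_lit 0xfde001)], [(nat_lit 0xa86001), (nat_lit 0xfe0001), (nat_lit 0xfe6001)], [(nat_lit 0xfe5001), (nat_lit 0xfeb001), (nat_lit 0xa8b001)], [(nat_lit 0xfe1001), (nat_lit 0xa87001), (nat_lit 0xfe9001)], [(nat_lit 0xa8d001), (nat_lit 0xfe7001), (nat_lit 0xa8c001)], [(nat_lit 0xfee001), (nat_lit 0xa90001), (nat_lit 0xff4001)], [(nat_lit 0xa89001), (nat_lit 0xfe2001), (nat_lit 0xa88001)], [(nat_lit 0x2404700ffc002), (nat_lit 0x1002001), (nat_lit 0xa9a001)], [(nat_lit 0xfe8001), (nat_lit 0xa8e001), (nat_lit 0xfec001)], [(nat_lit 0xa93001), (nat_lit 0xfef001), (nat_lit 0xa92001)], [(nat_lit 0xff2001), (nat_lit 0xa95001), (nat_lit 0xff7001)], [(nat_lit 0xa8f001), (nat_lit 0xfed001), (nat_lit 0xff1001)], [(nat_lit 0xff0001), (nat_lit 0xff6001), (nat_lit 0xa94001)], [(nat_lit 0xff3001), (nat_lit 0xa96001), (nat_lit 0xff8001)], [(nat_lit 0xa98001), (nat_lit 0xffa001), (nat_lit 0xfff001)], [(nat_lit 0xffe001), (nat_lit 0x1003001), (nat_lit 0xa9b001)], [(nat_lit 0xffb001), (nat_lit 0xa99001), (nat_lit 0x1001001)], [(nat_lit 0x2339b01005002), (nat_lit 0x100a001), (nat_lit 0xaa0001)], [(nat_lit 0xa9d001), (nat_lit 0x1006001), (nat_lit 0x100c001)], [(nat_lit 0x100b001), (nat_lit 0x100f001), (nat_lit 0xaa1001)], [(nat_lit 0x1008001), (nat_lit 0xa9e001), (nat_lit 0x100e001)], [(nat_lit 0xaa8001), (nat_lit 0x1013001), (nat_lit 0x1016001)], [(nat_lit 0x1015001), (nat_lit 0x101b001), (nat_lit 0xaab001)], [(nat_lit 0x1007001), (nat_lit 0xa9f001), (nat_lit 0x1009001)], [(nat_lit 0xaa5001), (nat_lit 0x1010001), (nat_lit 0xaa4001)], [(nat_lit 0x1017001), (nat_lit 0xaac001), (nat_lit 0x101c001)], [(nat_lit 0x1011001), (nat_lit 0xaa6001), (nat_lit 0x1019001)], [(nat_lit 0xaaa001), (nat_lit 0x1014001), (nat_lit 0xaa9001)], [(nat_lit 0x1018001), (nat_lit 0xaad001), (nat_lit 0x101d001)], [(nat_lit 0xaae001), (nat_lit 0x101e001), (nat_lit 0x1022001)], [(nat_lit 0x1021001), (nat_lit 0x1027001), (nat_lit 0xab1001)], [(nat_lit 0x2b3e30101f002), (nat_lit 0xaaf001), (nat_lit 0x2b3e401026002)], [(nat_lit 0xab3001), (nat_lit 0x1023001), (nat_lit 0xab2001)], [(nat_lit 0x102d001), (nat_lit 0xab9001), (nat_lit 0x1033001)], [(nat_lit 0xab0001), (nat_lit 0x1020001), (nat_lit 0x1025001)], [(nat_lit 0x1024001), (nat_lit 0x2cb3501028002), (nat_lit 0xab4001)], [(nat_lit 0x102c001), (nat_lit 0xab8001), (nat_lit 0x1032001)], [(nat_lit 0xabe001), (nat_lit 0x1031001), (nat_lit 0x1036001)]]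

theorem rows0_ok : okRows data table 191944 0 rows0 = true := by decide +kernel

theorem rows0_len : rows0.length = 2000 := by decide +kernel

end CfsgLib.CosetEnum.ONJA
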