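/-
Certificate data of a coset enumeration.
-/
import Cfsg.Agent.Lib.CosetEnum.ONJA.Data

set_option autoImplicit false
set_option maxRecDepth 1000000

namespace CfsgLib.CosetEnum.ONJA

open CfsgLib.CosetEnum

/-- Completion of the rows from 2000. -/
noncomputable def rows1 : List (List ℕ) := [[(nat_lit 0x1037001), (nat_lit 0x103a001), (nat_lit 0xac1001)], [(nat_lit 0xab6001), (nat_lit 0xab5001), (nat_lit 0x1029001)], [(nat_lit 0xabb001), (nat_lit 0x102e001), (nat_lit 0xaba001)], [(nat_lit 0x102f001), (nat_lit 0xabc001), (nat_lit 0x1034001)], [(nat_lit 0xabf001), (nat_lit 0x1038001), (nat_lit 0x103c001)], [(nat_lit 0x103b001), (nat_lit 0x103f001), (nat_lit 0xac2001)], [(nat_lit 0x1039001), (nat_lit 0xac0001), (nat_lit 0x103e001)], [(nat_lit 0xac4001), (nat_lit 0x103d001), (nat_lit 0xac3001)], [(nat_lit 0x1048001), (nat_lit 0xacc001), (nat_lit 0x104f001)], [(nat_lit 0x102a001), (nat_lit 0x102b001), (nat_lit 0xab7001)], [(nat_lit 0x1030001), (nat_lit 0xabd001), (nat_lit 0x1035001)], [(nat_lit 0x1040001), (nat_lit 0xac5001), (nat_lit 0x104c001)], [(nat_lit 0xac9001), (nat_lit 0x1043001), (nat_lit 0xac8001)], [(nat_lit 0x104a001), (nat_lit 0xacd001), (nat_lit 0x1051001)], [(nat_lit 0xac6001), (nat_lit 0x1041001), (nat_lit 0x1045001)], [(nat_lit 0x1044001), (nat_lit 0x104d001), (nat_lit 0xaca001)], [(nat_lit 0xac7001), (nat_lit 0x1042001), (nat_lit 0x1047001)], [(nat_lit 0x1046001), (nat_lit 0x104e001), (nat_lit 0xacb001)], [(nat_lit 0x104b001), (nat_lit 0xace001), (nat_lit 0x1053001)], [(nat_lit 0xad1001), (nat_lit 0x1056001), (nat_lit 0xad0001)], [(nat_lit 0x105a001), (nat_lit 0xad4001), (nat_lit 0x105e001)], [(nat_lit 0xacf001), (nat_lit 0x1054001), (nat_lit 0x1058001)], [(nat_lit 0x1057001), (nat_lit 0x105c001), (nat_lit 0xad2001)], [(nat_lit 0x24eff01059002), (nat_lit 0xad3001), (nat_lit 0x105d001)], [(nat_lit 0xad5001), (nat_lit 0x24f010105b002), (nat_lit 0x105f001)], [(nat_lit 0x1060001), (nat_lit 0x1063001), (nat_lit 0xad8001)], [(nat_lit 0x1055001), (nat_lit 0xad6001), (nat_lit 0x1061001)], [(nat_lit 0xad7001), (nat_lit 0x1062001), (nat_lit 0x1066001)], [(nat_lit 0x1065001), (nat_lit 0x1069001), (nat_lit 0xada001)], [(nat_lit 0x1067001), (nat_lit 0xadb001), (nat_lit 0x106a001)], [(nat_lit 0xadc001), (nat_lit 0xade001), (nat_lit 0xadd001)], [(nat_lit 0x106b001), (nat_lit 0xae0001), (nat_lit 0x1075001)], [(nat_lit 0xfd5001), (nat_lit 0x1068001), (nat_lit 0xadf001)], [(nat_lit 0x106d001), (nat_lit 0xae2001), (nat_lit 0x1077001)], [(nat_lit 0xae5001), (nat_lit 0x2412c0106f002), (nat_lit 0x1074001)], [(nat_lit 0x1073001), (nat_lit 0x107c001), (nat_lit 0xae9001)], [(nat_lit 0x106c001), (nat_lit 0xae1001), (nat_lit 0x1076001)], [(nat_lit 0xae3001), (nat_lit 0x106e001), (nat_lit 0xae4001)], [(nat_lit 0x1072001), (nat_lit 0xae8001), (nat_lit 0x107b001)], [(nat_lit 0xae6001), (nat_lit 0x1070001), (nat_lit 0x1078001)], [(nat_lit 0x1079001), (nat_lit 0x107d001), (nat_lit 0xaea001)], [(nat_lit 0x107e001), (nat_lit 0xaeb001), (nat_lit 0x1083001)], [(nat_lit 0xaec001), (nat_lit 0x107f001), (nat_lit 0x1084001)], [(nat_lit 0x1085001), (nat_lit 0x108a001), (nat_lit 0xaef001)], [(nat_lit 0x1071001), (nat_lit 0xae7001), (nat_lit 0x107a001)], [(nat_lit 0x2ca8901087002), (nat_lit 0x108b001), (nat_lit 0xaf0001)], [(nat_lit 0xaf5001), (nat_lit 0x1090001), (nat_lit 0xaf6001)], [(nat_lit 0x1096001), (nat_lit 0xaf8001), (nat_lit 0x10a1001)], [(nat_lit 0xaee001), (nat_lit 0x1081001), (nat_lit 0x1088001)], [(nat_lit 0x1089001), (nat_lit 0x108c001), (nat_lit 0xaf1001)], [(nat_lit 0x108d001), (nat_lit 0xaf2001), (nat_lit 0x1093001)], [(nat_lit 0xaf4001), (nat_lit 0x108f001), (nat_lit 0x1092001)], [(nat_lit 0x1091001), (nat_lit 0x1095001), (nat_lit 0xaf7001)], [(nat_lit 0x1082001), (nat_lit 0xaf9001), (nat_lit 0x1097001)], [(nat_lit 0xafc001), (nat_lit 0x109a001), (nat_lit 0xafd001)], [(nat_lit 0x10a0001), (nat_lit 0xb01001), (nat_lit 0x10a5001)], [(nat_lit 0xafa001), (nat_lit 0x1098001), (nat_lit 0x109d001)], [(nat_lit 0x109c001), (nat_lit 0x10a3001), (nat_lit 0xaff001)], [(nat_lit 0xafb001), (nat_lit 0x1099001), (nat_lit 0x109f001)], [(nat_lit 0x109e001), (nat_lit 0x10a4001), (nat_lit 0xb00001)], [(nat_lit 0xb06001), (nat_lit 0xb05001), (nat_lit 0x10a8001)], [(nat_lit 0xb0b001), (nat_lit 0x10ae001), (nat_lit 0xb0a001)], [(nat_lit 0x10b1001), (nat_lit 0xb0d001), (nat_lit 0x10be001)], [(nat_lit 0xb10001), (nat_lit 0x10b4001), (nat_lit 0x10b9001)], [(nat_lit 0x10b8001), (nat_lit 0x10c1001), (nat_lit 0xb13001)], [(nat_lit 0x10bc001), (nat_lit 0xb15001), (nat_lit 0x10c3001)], [(nat_lit 0xb18001), (nat_lit 0x10c6001), (nat_lit 0xb19001)], [(nat_lit 0x10a9001), (nat_lit 0x10aa001), (nat_lit 0xb07001)], [(nat_lit 0x10b2001), (nat_lit 0xb0e001), (nat_lit 0x10bf001)], [(nat_lit 0xb11001), (nat_lit 0x10b5001), (nat_lit 0x10bb001)], [(nat_lit 0x10ba001), (nat_lit 0x10c2001), (nat_lit 0xb14001)], [(nat_lit 0x10c4001), (nat_lit 0xb16001), (nat_lit 0x10ca001)], [(nat_lit 0xb1a001), (nat_lit 0x10c7001), (nat_lit 0xb1b001)], [(nat_lit 0xb17001), (nat_lit 0x10c5001), (nat_lit 0x10c9001)], [(nat_lit 0x10c8001), (nat_lit 0x10cb001), (nat_lit 0xb1c001)], [(nat_lit 0x10cc001), (nat_lit 0xb1d001), (nat_lit 0x10d9001)], [(nat_lit 0xb1e001), (nat_lit 0x10cd001), (nat_lit 0x10d5001)], [(nat_lit 0x10d4001), (nat_lit 0x10dd001), (nat_lit 0xb25001)], [(nat_lit 0x10ce001), (nat_lit 0xb1f001), (nat_lit 0x10db001)], [(nat_lit 0xb20001), (nat_lit 0x10cf001), (nat_lit 0xb21001)], [(nat_lit 0x10d6001), (nat_lit 0xb26001), (nat_lit 0x10de001)], [(nat_lit 0xb22001), (nat_lit 0x10d0001), (nat_lit 0x2aeb9010d8002)], [(nat_lit 0x2aeb9010d7002), (nat_lit 0x10df001), (nat_lit 0xb27001)], [(nat_lit 0x10d2001), (nat_lit 0xb23001), (nat_lit 0x10dc001)], [(nat_lit 0xb2b001), (nat_lit 0x10e2001), (nat_lit 0x10e6001)], [(nat_lit 0x10e7001), (nat_lit 0x10ec001), (nat_lit 0xb2f001)], [(nat_lit 0x10d1001), (nat_lit 0xb24001), (nat_lit 0x10d3001)], [(nat_lit 0xb29001), (nat_lit 0x10e0001), (nat_lit 0xb28001)], [(nat_lit 0xb2a001), (nat_lit 0x10e1001), (nat_lit 0x10e5001)], [(nat_lit 0x10e4001), (nat_lit 0x10eb001), (nat_lit 0xb2e001)], [(nat_lit 0xb2d001), (nat_lit 0x10e3001), (nat_lit 0x10e9001)], [(nat_lit 0x10ea001), (nat_lit 0x10ed001), (nat_lit 0xb30001)], [(nat_lit 0x10f1001), (nat_lit 0xb34001), (nat_lit 0x10f4001)], [(nat_lit 0xb39001), (nat_lit 0x10f7001), (nat_lit 0x10fe001)], [(nat_lit 0x10fd001), (nat_lit 0x1108001), (nat_lit 0xb40001)], [(nat_lit 0xb32001), (nat_lit 0xb31001), (nat_lit 0x10ee001)], [(nat_lit 0xb35001), (nat_lit 0x10f2001), (nat_lit 0xb36001)], [(nat_lit 0x10f3001), (nat_lit 0xb38001), (nat_lit 0x10f6001)], [(nat_lit 0xb3a001), (nat_lit 0x27241010f8002), (nat_lit 0x1100001)], [(nat_lit 0x10ff001), (nat_lit 0x1109001), (nat_lit 0xb41001)], [(nat_lit 0x10f9001), (nat_lit 0xb3c001), (nat_lit 0x1103001)], [(nat_lit 0xb44001), (nat_lit 0x110b001), (nat_lit 0xb43001)], [(nat_lit 0xd44001), (nat_lit 0xb48001), (nat_lit 0xd38001)], [(nat_lit 0x10ef001), (nat_lit 0x10f0001), (nat_lit 0xb33001)], [(nat_lit 0x10fa001), (nat_lit 0xb3d001), (nat_lit 0x1104001)], [(nat_lit 0xb46001), (nat_lit 0x110c001), (nat_lit 0xb45001)], [(nat_lit 0x110e001), (nat_lit 0xb49001), (nat_lit 0x110f001)], [(nat_lit 0xb3e001), (nat_lit 0x10fb001), (nat_lit 0x1105001)], [(nat_lit 0x1106001), (nat_lit 0x110d001), (nat_lit 0xb47001)], [(nat_lit 0x10fc001), (nat_lit 0xb3f001), (nat_lit 0x1107001)], [(nat_lit 0xb4a001), (nat_lit 0x1110001), (nat_lit 0x111a001)], [(nat_lit 0x1119001), (nat_lit 0x1124001), (nat_lit 0xb53001)], [(nat_lit 0x1111001), (nat_lit 0xb4b001), (nat_lit 0x111e001)], [(nat_lit 0xb4c001), (nat_lit 0x1112001), (nat_lit 0x111c001)], [(nat_lit 0x111b001), (nat_lit 0x1125001), (nat_lit 0xb54001)], [(nat_lit 0x1113001), (nat_lit 0xb4d001), (nat_lit 0x111f001)], [(nat_lit 0xb56001), (nat_lit 0x111d001), (nat_lit 0xb55001)], [(nat_lit 0xd18001), (nat_lit 0xb5b001), (nat_lit 0xd12001)], [(nat_lit 0xb4e001), (nat_lit 0xb4f001), (nat_lit 0x1114001)], [(nat_lit 0x1115001), (nat_lit 0x1126001), (nat_lit 0xb57001)], [(nat_lit 0x1117001), (nat_lit 0xb51001), (nat_lit 0x1122001)], [(nat_lit 0xb5c001), (nat_lit 0x1129001), (nat_lit 0x112b001)], [(nat_lit 0x112a001), (nat_lit 0x112c001), (nat_lit 0xb5d001)], [(nat_lit 0xb50001), (nat_lit 0x1116001), (nat_lit 0x1120001)], [(nat_lit 0x1121001), (nat_lit 0x1127001), (nat_lit 0xb58001)], [(nat_lit 0x1118001), (nat_lit 0xb52001), (nat_lit 0x1123001)], [(nat_lit 0xb5a001), (nat_lit 0x1128001), (nat_lit 0xb59001)], [(nat_lit 0x112d001), (nat_lit 0xb5e001), (nat_lit 0x113c001)], [(nat_lit 0x112f001), (nat_lit 0xb60001), (nat_lit 0x113d001)], [(nat_lit 0xb61001), (nat_lit 0x1130001), (nat_lit 0x1138001)], [(nat_lit 0x1137001), (nat_lit 0x113f001), (nat_lit 0xb67001)], [(nat_lit 0xb63001), (nat_lit 0xb62001), (nat_lit 0x1131001)], [(nat_lit 0xb69001), (nat_lit 0x1139001), (nat_lit 0xb68001)], [(nat_lit 0x1142001), (nat_lit 0xb6c001), (nat_lit 0x1149001)], [(nat_lit 0xb64001), (nat_lit 0x1133001), (nat_lit 0x113b001)], [(nat_lit 0x113a001), (nat_lit 0x1140001), (nat_lit 0xb6a001)], [(nat_lit 0x1132001), (nat_lit 0x1134001), (nat_lit 0xb65001)], [(nat_lit 0x1143001), (nat_lit 0xb6d001), (nat_lit 0x114a001)], [(nat_lit 0xb71001), (nat_lit 0x1146001), (nat_lit 0x114d001)], [(nat_lit 0x114e001), (nat_lit 0x1155001), (nat_lit 0xb75001)], [(nat_lit 0x1141001), (nat_lit 0xb6b001), (nat_lit 0x1148001)], [(nat_lit 0xb6e001), (nat_lit 0x1144001), (nat_lit 0xb6f001)], [(nat_lit 0xb70001), (nat_lit 0x1145001), (nat_lit 0x114b001)], [(nat_lit 0x114c001), (nat_lit 0x1152001), (nat_lit 0xb74001)], [(nat_lit 0x1147001), (nat_lit 0xb72001), (nat_lit 0x114f001)], [(nat_lit 0xb73001), (nat_lit 0x1151001), (nat_lit 0x1153001)], [(nat_lit 0x1154001), (nat_lit 0x1156001), (nat_lit 0xb76001)], [(nat_lit 0x115b001), (nat_lit 0xb7c001), (nat_lit 0x115f001)], [(nat_lit 0xb7e001), (nat_lit 0x1160001), (nat_lit 0xb7f001)], [(nat_lit 0x1163001), (nat_lit 0xb82001), (nat_lit 0x1168001)], [(nat_lit 0xb80001), (nat_lit 0x1161001), (nat_lit 0x1165001)], [(nat_lit 0x1164001), (nat_lit 0x1169001), (nat_lit 0xb83001)], [(nat_lit 0x1162001), (nat_lit 0xb81001), (nat_lit 0x1167001)], [(nat_lit 0xb84001), (nat_lit 0x116a001), (nat_lit 0x116f001)], [(nat_lit 0x116e001), (nat_lit 0x1172001), (nat_lit 0xb87001)], [(nat_lit 0xb85001), (nat_lit 0x116b001), (nat_lit 0x1170001)], [(nat_lit 0x1171001), (nat_lit 0x1173001), (nat_lit 0xb88001)], [(nat_lit 0x1175001), (nat_lit 0xb8b001), (nat_lit 0x117a001)], [(nat_lit 0xb8d001), (nat_lit 0x1177001), (nat_lit 0x1179001)], [(nat_lit 0x1178001), (nat_lit 0x117c001), (nat_lit 0xb8e001)], [(nat_lit 0x116c001), (nat_lit 0xb86001), (nat_lit 0x116d001)], [(nat_lit 0xb8a001), (nat_lit 0x2a46901174002), (nat_lit 0xb89001)], [(nat_lit 0x2907c01176002), (nat_lit 0xb8c001), (nat_lit 0x290710117b002)], [(nat_lit 0xb8f001), (nat_lit 0x117d001), (nat_lit 0x1184001)], [(nat_lit 0x1183001), (nat_lit 0xbdb001), (nat_lit 0xb96001)], [(nat_lit 0x117f001), (nat_lit 0xb91001), (nat_lit 0x1187001)], [(nat_lit 0xb94001), (nat_lit 0x2dfec01182002), (nat_lit 0xb95001)], [(nat_lit 0x118c001), (nat_lit 0xb9a001), (nat_lit 0x1191001)], [(nat_lit 0xb90001), (nat_lit 0x117e001), (nat_lit 0x1185001)], [(nat_lit 0x1186001), (nat_lit 0x118a001), (nat_lit 0xb97001)], [(nat_lit 0x2db1f01180002), (nat_lit 0xb92001), (nat_lit 0x2db2101188002)], [(nat_lit 0xb99001), (nat_lit 0x118b001), (nat_lit 0xb98001)], [(nat_lit 0x118d001), (nat_lit 0xb9b001), (nat_lit 0x1192001)], [(nat_lit 0xb9c001), (nat_lit 0x118e001), (nat_lit 0x1193001)], [(nat_lit 0x1194001), (nat_lit 0x1195001), (nat_lit 0xb9f001)], [(nat_lit 0xb9e001), (nat_lit 0xb9d001), (nat_lit 0x118f001)], [(nat_lit 0xba1001), (nat_lit 0x1196001), (nat_lit 0xba0001)], [(nat_lit 0x1198001), (nat_lit 0xba3001), (nat_lit 0x119f001)], [(nat_lit 0xba2001), (nat_lit 0x1197001), (nat_lit 0x119e001)], [(nat_lit 0x119d001), (nat_lit 0x11a3001), (nat_lit 0xba8001)], [(nat_lit 0x1199001), (nat_lit 0xba4001), (nat_lit 0x11a0001)], [(nat_lit 0xbaa001), (nat_lit 0x11a4001), (nat_lit 0xba9001)], [(nat_lit 0x11a6001), (nat_lit 0xbad001), (nat_lit 0x11af001)], [(nat_lit 0x1190001), (nat_lit 0x119a001), (nat_lit 0xba5001)], [(nat_lit 0x119c001), (nat_lit 0xba7001), (nat_lit 0x11a2001)], [(nat_lit 0xbaf001), (nat_lit 0x11a9001), (nat_lit 0x11ae001)], [(nat_lit 0x11ad001), (nat_lit 0x11b4001), (nat_lit 0xbb2001)], [(nat_lit 0x119b001), (nat_lit 0xba6001), (nat_lit 0x11a1001)], [(nat_lit 0xbac001), (nat_lit 0x2e009011a5002), (nat_lit 0xbab001)], [(nat_lit 0x2d8d0011a8002), (nat_lit 0xbae001), (nat_lit 0x11b1001)], [(nat_lit 0x11aa001), (nat_lit 0xbb0001), (nat_lit 0x11b3001)], [(nat_lit 0xbb4001), (nat_lit 0x11b5001), (nat_lit 0xbb3001)], [(nat_lit 0x11b7001), (nat_lit 0xbb6001), (nat_lit 0x11be001)], [(nat_lit 0xbb8001), (nat_lit 0x11b9001), (nat_lit 0x11bd001)], [(nat_lit 0x11bc001), (nat_lit 0x11c0001), (nat_lit 0xbbc001)], [(nat_lit 0xbc1001), (nat_lit 0x11c3001), (nat_lit 0x11c8001)], [(nat_lit 0x11c7001), (nat_lit 0x11cf001), (nat_lit 0xbc6001)], [(nat_lit 0x11c5001), (nat_lit 0xbc3001), (nat_lit 0x11ce001)], [(nat_lit 0xbc4001), (nat_lit 0x11c6001), (nat_lit 0xbc5001)], [(nat_lit 0x11cb001), (nat_lit 0xbc8001), (nat_lit 0x11d1001)], [(nat_lit 0xbbb001), (nat_lit 0x11bb001), (nat_lit 0xbba001)], [(nat_lit 0x11c2001), (nat_lit 0xbc0001), (nat_lit 0x11cd001)], [(nat_lit 0xbc2001), (nat_lit 0x11c4001), (nat_lit 0x11ca001)], [(nat_lit 0x11c9001), (nat_lit 0x11d0001), (nat_lit 0xbc7001)], [(nat_lit 0x11d2001), (nat_lit 0xbc9001), (nat_lit 0x11dc001)], [(nat_lit 0xbcd001), (nat_lit 0x11d7001), (nat_lit 0xbce001)], [(nat_lit 0x11e0001), (nat_lit 0xbd1001), (nat_lit 0x11ea001)], [(nat_lit 0x11d3001), (nat_lit 0xbca001), (nat_lit 0x11dd001)], [(nat_lit 0xbcc001), (nat_lit 0x11d6001), (nat_lit 0x11db001)], [(nat_lit 0x11da001), (nat_lit 0x11df001), (nat_lit 0xbd0001)], [(nat_lit 0x11e1001), (nat_lit 0xbd2001), (nat_lit 0x2ebab011eb002)], [(nat_lit 0xbd6001), (nat_lit 0x11e5001), (nat_lit 0xbd7001)], [(nat_lit 0x11ed001), (nat_lit 0xbde001), (nat_lit 0x11f5001)], [(nat_lit 0xbcb001), (nat_lit 0x11d4001), (nat_lit 0x11d9001)], [(nat_lit 0x11d8001), (nat_lit 0x11de001), (nat_lit 0xbcf001)], [(nat_lit 0x11d5001), (nat_lit 0xbd3001), (nat_lit 0x11e2001)], [(nat_lit 0xbd9001), (nat_lit 0x11e6001), (nat_lit 0xbd8001)], [(nat_lit 0x11ee001), (nat_lit 0xbdf001), (nat_lit 0x11f6001)], [(nat_lit 0xbd4001), (nat_lit 0x11e3001), (nat_lit 0x11e8001)], [(nat_lit 0x11e7001), (nat_lit 0xbdb001), (nat_lit 0xbda001)], [(nat_lit 0x11e4001), (nat_lit 0xbd5001), (nat_lit 0x11ec001)], [(nat_lit 0xbdd001), (nat_lit 0x11e9001), (nat_lit 0xbdc001)], [(nat_lit 0x11ef001), (nat_lit 0xbe0001), (nat_lit 0x11f7001)], [(nat_lit 0x27375011f0002), (nat_lit 0xbe1001), (nat_lit 0x11f8001)], [(nat_lit 0xbe2001), (nat_lit 0x2889d011f1002), (nat_lit 0x11f9001)], [(nat_lit 0x11fa001), (nat_lit 0x1201001), (nat_lit 0xbe9001)], [(nat_lit 0x11f2001), (nat_lit 0xbe3001), (nat_lit 0x11fb001)], [(nat_lit 0xbe6001), (nat_lit 0x11ff001), (nat_lit 0xbe7001)], [(nat_lit 0xbe4001), (nat_lit 0x11f3001), (nat_lit 0x11fc001)], [(nat_lit 0x11fd001), (nat_lit 0x1204001), (nat_lit 0xbea001)], [(nat_lit 0x11f4001), (nat_lit 0xbe5001), (nat_lit 0x11fe001)], [(nat_lit 0xbe8001), (nat_lit 0x1200001), (nat_lit 0x1202001)], [(nat_lit 0x1203001), (nat_lit 0x1205001), (nat_lit 0xbec001)], [(nat_lit 0xc07001), (nat_lit 0x1227001), (nat_lit 0xc06001)], [(nat_lit 0x1228001), (nat_lit 0xc08001), (nat_lit 0x122d001)], [(nat_lit 0x122c001), (nat_lit 0xc0b001), (nat_lit 0x1230001)], [(nat_lit 0xc0d001), (nat_lit 0x1232001), (nat_lit 0x1236001)], [(nat_lit 0x1235001), (nat_lit 0x1239001), (nat_lit 0xc12001)], [(nat_lit 0x2cf510122b002), (nat_lit 0xc0c001), (nat_lit 0x1231001)], [(nat_lit 0xc11001), (nat_lit 0x2928101234002), (nat_lit 0xc10001)], [(nat_lit 0xc13001), (nat_lit 0x1237001), (nat_lit 0x123a001)], [(nat_lit 0x123b001), (nat_lit 0x123f001), (nat_lit 0xc18001)], [(nat_lit 0x1238001), (nat_lit 0xc14001), (nat_lit 0x123c001)], [(nat_lit 0xc16001), (nat_lit 0x123e001), (nat_lit 0xc17001)], [(nat_lit 0x1240001), (nat_lit 0xc19001), (nat_lit 0x1247001)], [(nat_lit 0xc1b001), (nat_lit 0x1241001), (nat_lit 0xc1a001)], [(nat_lit 0x1244001), (nat_lit 0xc1e001), (nat_lit 0x124b001)], [(nat_lit 0xc24001), (nat_lit 0x124f001), (nat_lit 0x1257001)], [(nat_lit 0x1258001), (nat_lit 0x125f001), (nat_lit 0xc2b001)], [(nat_lit 0x1242001), (nat_lit 0xc1c001), (nat_lit 0x1248001)], [(nat_lit 0xc1f001), (nat_lit 0x1245001), (nat_lit 0xc20001)], [(nat_lit 0x124e001), (nat_lit 0xc23001), (nat_lit 0x1256001)], [(nat_lit 0xc1d001), (nat_lit 0x1243001), (nat_lit 0x1249001)], [(nat_lit 0x124a001), (nat_lit 0x124d001), (nat_lit 0xc22001)], [(nat_lit 0x1246001), (nat_lit 0xc21001), (nat_lit 0x124c001)], [(nat_lit 0x1251001), (nat_lit 0xc27001), (nat_lit 0x1259001)], [(nat_lit 0xc28001), (nat_lit 0x1252001), (nat_lit 0x125a001)], [(nat_lit 0x125b001), (nat_lit 0x1261001), (nat_lit 0xc2e001)], [(nat_lit 0x1255001), (nat_lit 0xc2a001), (nat_lit 0x2e9de0125e002)], [(nat_lit 0xc31001), (nat_lit 0x1263001), (nat_lit 0xc30001)], [(nat_lit 0x2d9a501265002), (nat_lit 0xc33001), (nat_lit 0x2e0b601267002)], [(nat_lit 0xc29001), (nat_lit 0x1253001), (nat_lit 0x125c001)], [(nat_lit 0x125d001), (nat_lit 0x1262001), (nat_lit 0xc2f001)], [(nat_lit 0x1264001), (nat_lit 0xc32001), (nat_lit 0x1266001)], [(nat_lit 0x1254001), (nat_lit 0xc36001), (nat_lit 0x1269001)], [(nat_lit 0xc39001), (nat_lit 0x126d001), (nat_lit 0xc3a001)], [(nat_lit 0x1274001), (nat_lit 0xc41001), (nat_lit 0x1278001)], [(nat_lit 0x126a001), (nat_lit 0xc37001), (nat_lit 0x1275001)], [(nat_lit 0xc3b001), (nat_lit 0x126e001), (nat_lit 0xc3c001)], [(nat_lit 0x1279001), (nat_lit 0xc42001), (nat_lit 0x1281001)], [(nat_lit 0x126f001), (nat_lit 0xc3d001), (nat_lit 0x1276001)], [(nat_lit 0xc47001), (nat_lit 0x127d001), (nat_lit 0x127f001)], [(nat_lit 0x127e001), (nat_lit 0x1283001), (nat_lit 0xc48001)], [(nat_lit 0xc3f001), (nat_lit 0xc3e001), (nat_lit 0x1270001)], [(nat_lit 0xc44001), (nat_lit 0x2bd960127a002), (nat_lit 0xc43001)], [(nat_lit 0x2dc4c0127c002), (nat_lit 0xc46001), (nat_lit 0x1282001)], [(nat_lit 0xc49001), (nat_lit 0x1280001), (nat_lit 0x1284001)], [(nat_lit 0x1285001), (nat_lit 0x128c001), (nat_lit 0xc51001)], [(nat_lit 0x1286001), (nat_lit 0xc4a001), (nat_lit 0x128d001)], [(nat_lit 0xc4f001), (nat_lit 0x128b001), (nat_lit 0xc50001)], [(nat_lit 0x1296001), (nat_lit 0xc56001), (nat_lit 0x129b001)], [(nat_lit 0x1271001), (nat_lit 0x127b001), (nat_lit 0xc45001)], [(nat_lit 0x1287001), (nat_lit 0xc4b001), (nat_lit 0x128e001)], [(nat_lit 0xc54001), (nat_lit 0x1294001), (nat_lit 0xc53001)], [(nat_lit 0x1297001), (nat_lit 0xc57001), (nat_lit 0x129c001)], [(nat_lit 0xc4c001), (nat_lit 0x1288001), (nat_lit 0x128f001)], [(nat_lit 0x1290001), (nat_lit 0x1295001), (nat_lit 0xc55001)], [(nat_lit 0x1289001), (nat_lit 0xc4d001), (nat_lit 0x1291001)], [(nat_lit 0xc58001), (nat_lit 0x1298001), (nat_lit 0x129d001)], [(nat_lit 0x129e001), (nat_lit 0x12a2001), (nat_lit 0xc5b001)], [(nat_lit 0x128a001), (nat_lit 0xc4e001), (nat_lit 0x1292001)], [(nat_lit 0xc59001), (nat_lit 0x1299001), (nat_lit 0x129f001)], [(nat_lit 0x12a0001), (nat_lit 0x12a3001), (nat_lit 0xc5c001)], [(nat_lit 0x129a001), (nat_lit 0xc5a001), (nat_lit 0x12a1001)], [(nat_lit 0xc5e001), (nat_lit 0x12a4001), (nat_lit 0xc5d001)], [(nat_lit 0x12a5001), (nat_lit 0xc5f001), (nat_lit 0x12ab001)], [(nat_lit 0xc60001), (nat_lit 0x12a6001), (nat_lit 0x12ac001)], [(nat_lit 0x12ad001), (nat_lit 0x12b2001), (nat_lit 0xc66001)], [(nat_lit 0x12a9001), (nat_lit 0xc62001), (nat_lit 0x12ae001)], [(nat_lit 0xc69001), (nat_lit 0x12b5001), (nat_lit 0x12bb001)], [(nat_lit 0x12bc001), (nat_lit 0x12c1001), (nat_lit 0xc70001)], [(nat_lit 0x12a7001), (nat_lit 0xc61001), (nat_lit 0x12a8001)], [(nat_lit 0xc64001), (nat_lit 0x2beb2012b1002), (nat_lit 0xc65001)], [(nat_lit 0x12b4001), (nat_lit 0xc68001), (nat_lit 0x12ba001)], [(nat_lit 0xc63001), (nat_lit 0x12aa001), (nat_lit 0x12af001)], [(nat_lit 0x12b0001), (nat_lit 0x12b3001), (nat_lit 0xc67001)], [(nat_lit 0x12b6001), (nat_lit 0xc6a001), (nat_lit 0x12bd001)], [(nat_lit 0xc6d001), (nat_lit 0x12b9001), (nat_lit 0xc6e001)], [(nat_lit 0x12c3001), (nat_lit 0xc72001), (nat_lit 0x12ca001)], [(nat_lit 0xc6b001), (nat_lit 0x12b7001), (nat_lit 0x2e9dd012be002)], [(nat_lit 0x12c0001), (nat_lit 0xc6f001), (nat_lit 0x12c9001)], [(nat_lit 0xc75001), (nat_lit 0x12c6001), (nat_lit 0x12ce001)], [(nat_lit 0x12cf001), (nat_lit 0x12d3001), (nat_lit 0xc7a001)], [(nat_lit 0xeda001), (nat_lit 0x12b8001), (nat_lit 0xc6c001)], [(nat_lit 0x12c4001), (nat_lit 0xc73001), (nat_lit 0x12cc001)], [(nat_lit 0xc78001), (nat_lit 0x12c8001), (nat_lit 0x12d0001)], [(nat_lit 0x12d1001), (nat_lit 0x12d4001), (nat_lit 0xc7b001)], [(nat_lit 0x1cee8012c5002), (nat_lit 0xc74001), (nat_lit 0x1cee9012cd002)], [(nat_lit 0xc76001), (nat_lit 0x12c7001), (nat_lit 0xc77001)], [(nat_lit 0xc79001), (nat_lit 0x12d2001), (nat_lit 0x12d6001)], [(nat_lit 0x12d5001), (nat_lit 0x12da001), (nat_lit 0xc7c001)], [(nat_lit 0x12d7001), (nat_lit 0xc7d001), (nat_lit 0x12db001)], [(nat_lit 0xc7e001), (nat_lit 0x265b3012d8002), (nat_lit 0x12dd001)], [(nat_lit 0x12de001), (nat_lit 0x12e4001), (nat_lit 0xc82001)], [(nat_lit 0xc7f001), (nat_lit 0x2c2a6012d9002), (nat_lit 0x12df001)], [(nat_lit 0x12e0001), (nat_lit 0x12e5001), (nat_lit 0xc83001)], [(nat_lit 0xc85001), (nat_lit 0x12e6001), (nat_lit 0xc84001)], [(nat_lit 0x12ea001), (nat_lit 0xc88001), (nat_lit 0x12ed001)], [(nat_lit 0xc81001), (nat_lit 0x12e2001), (nat_lit 0x12e8001)], [(nat_lit 0x12e7001), (nat_lit 0x12ec001), (nat_lit 0xc86001)], [(nat_lit 0x12eb001), (nat_lit 0xc89001), (nat_lit 0x12ee001)], [(nat_lit 0xc8c001), (nat_lit 0x12f0001), (nat_lit 0x12f3001)], [(nat_lit 0x12f2001), (nat_lit 0x27f38012f7002), (nat_lit 0xc8e001)], [(nat_lit 0x12e3001), (nat_lit 0xc87001), (nat_lit 0x12e9001)], [(nat_lit 0xc8a001), (nat_lit 0x1e34c012ef002), (nat_lit 0xc8b001)], [(nat_lit 0x12f1001), (nat_lit 0xc8d001), (nat_lit 0x12f6001)], [(nat_lit 0xc8f001), (nat_lit 0x12f4001), (nat_lit 0x25baa012f8002)], [(nat_lit 0x12f5001), (nat_lit 0xc90001), (nat_lit 0x12fa001)], [(nat_lit 0x12fb001), (nat_lit 0xc94001), (nat_lit 0x12fc001)], [(nat_lit 0x1326001), (nat_lit 0xcb6001), (nat_lit 0x1329001)], [(nat_lit 0xcb7001), (nat_lit 0x132a001), (nat_lit 0x132d001)], [(nat_lit 0x132c001), (nat_lit 0x1336001), (nat_lit 0xcb9001)], [(nat_lit 0xcbb001), (nat_lit 0xcba001), (nat_lit 0x132e001)], [(nat_lit 0x2d3ef0133c002), (nat_lit 0xcc3001), (nat_lit 0x1344001)], [(nat_lit 0xcbf001), (nat_lit 0x1332001), (nat_lit 0x1338001)], [(nat_lit 0x1339001), (nat_lit 0x133d001), (nat_lit 0xcc4001)], [(nat_lit 0x1335001), (nat_lit 0xcc2001), (nat_lit 0x133b001)], [(nat_lit 0xcc8001), (nat_lit 0x133f001), (nat_lit 0xcc7001)], [(nat_lit 0x1342001), (nat_lit 0xccb001), (nat_lit 0x1347001)], [(nat_lit 0x132f001), (nat_lit 0x1333001), (nat_lit 0xcc0001)], [(nat_lit 0x2dfae01340002), (nat_lit 0xcc9001), (nat_lit 0x1345001)], [(nat_lit 0x1334001), (nat_lit 0xcc1001), (nat_lit 0x133a001)], [(nat_lit 0xcc6001), (nat_lit 0x133e001), (nat_lit 0xcc5001)], [(nat_lit 0x1341001), (nat_lit 0xcca001), (nat_lit 0x1346001)], [(nat_lit 0xccd001), (nat_lit 0x134a001), (nat_lit 0x134d001)], [(nat_lit 0x134c001), (nat_lit 0x1355001), (nat_lit 0xccf001)], [(nat_lit 0x134f001), (nat_lit 0xcd1001), (nat_lit 0x1357001)], [(nat_lit 0xcd2001), (nat_lit 0x1350001), (nat_lit 0x1359001)], [(nat_lit 0x135a001), (nat_lit 0x1361001), (nat_lit 0xcd7001)], [(nat_lit 0x134e001), (nat_lit 0xcd0001), (nat_lit 0x1356001)], [(nat_lit 0xcd3001), (nat_lit 0x1351001), (nat_lit 0x135b001)], [(nat_lit 0x135c001), (nat_lit 0x26deb01362002), (nat_lit 0xcd8001)], [(nat_lit 0x1354001), (nat_lit 0xcd5001), (nat_lit 0x135f001)], [(nat_lit 0xcdb001), (nat_lit 0x1364001), (nat_lit 0xcda001)], [(nat_lit 0x1365001), (nat_lit 0xcdc001), (nat_lit 0x1368001)], [(nat_lit 0xcd4001), (nat_lit 0x1352001), (nat_lit 0x135d001)], [(nat_lit 0x135e001), (nat_lit 0x1363001), (nat_lit 0xcd9001)], [(nat_lit 0x1360001), (nat_lit 0xcd6001), (nat_lit 0x1367001)], [(nat_lit 0xcdd001), (nat_lit 0x2ab6701366002), (nat_lit 0x1369001)], [(nat_lit 0x136a001), (nat_lit 0x136e001), (nat_lit 0xce1001)], [(nat_lit 0x1353001), (nat_lit 0xcde001), (nat_lit 0x136b001)], [(nat_lit 0xce3001), (nat_lit 0x136f001), (nat_lit 0xce2001)], [(nat_lit 0x1374001), (nat_lit 0xce7001), (nat_lit 0x1379001)], [(nat_lit 0xcdf001), (nat_lit 0x136c001), (nat_lit 0x1371001)], [(nat_lit 0x1370001), (nat_lit 0x2d07201376002), (nat_lit 0xce4001)], [(nat_lit 0xce0001), (nat_lit 0x269bf0136d002), (nat_lit 0x1373001)], [(nat_lit 0x1372001), (nat_lit 0x1377001), (nat_lit 0xce5001)], [(nat_lit 0x1375001), (nat_lit 0xce8001), (nat_lit 0x137a001)], [(nat_lit 0xceb001), (nat_lit 0x137c001), (nat_lit 0xcea001)], [(nat_lit 0x1381001), (nat_lit 0xcf0001), (nat_lit 0x1385001)], [(nat_lit 0xce9001), (nat_lit 0x137b001), (nat_lit 0x263010137e002)], [(nat_lit 0x1380001), (nat_lit 0xcef001), (nat_lit 0x1384001)], [(nat_lit 0xcf2001), (nat_lit 0x1383001), (nat_lit 0x1387001)], [(nat_lit 0x1388001), (nat_lit 0x138b001), (nat_lit 0xcf5001)], [(nat_lit 0xcee001), (nat_lit 0x2c3bd0137f002), (nat_lit 0xced001)], [(nat_lit 0x1382001), (nat_lit 0xcf1001), (nat_lit 0x1386001)], [(nat_lit 0xcf3001), (nat_lit 0x1389001), (nat_lit 0x138d001)], [(nat_lit 0x138c001), (nat_lit 0x1392001), (nat_lit 0xcf6001)], [(nat_lit 0x138e001), (nat_lit 0xcf9001), (nat_lit 0x1393001)], [(nat_lit 0xcfd001), (nat_lit 0x2a84601391002), (nat_lit 0x1395001)], [(nat_lit 0x1396001), (nat_lit 0x1399001), (nat_lit 0xd01001)], [(nat_lit 0x2659f01397002), (nat_lit 0xcfe001), (nat_lit 0x2659e013a1002)], [(nat_lit 0xd03001), (nat_lit 0x139a001), (nat_lit 0xd02001)], [(nat_lit 0x139c001), (nat_lit 0xd05001), (nat_lit 0x13a3001)], [(nat_lit 0x274a50139d002), (nat_lit 0xd06001), (nat_lit 0x13a4001)], [(nat_lit 0xd09001), (nat_lit 0x28d970139f002), (nat_lit 0x13a5001)], [(nat_lit 0x13a6001), (nat_lit 0x13ab001), (nat_lit 0xd0d001)], [(nat_lit 0x139b001), (nat_lit 0xd04001), (nat_lit 0x13a2001)], [(nat_lit 0xd07001), (nat_lit 0x139e001), (nat_lit 0xd08001)], [(nat_lit 0x2ad68013aa002), (nat_lit 0xd0c001), (nat_lit 0x2a33b013b0002)], [(nat_lit 0xd0a001), (nat_lit 0x13a0001), (nat_lit 0x13a7001)], [(nat_lit 0x13a8001), (nat_lit 0x2a25d013ac002), (nat_lit 0xd0e001)], [(nat_lit 0x13ad001), (nat_lit 0xd0f001), (nat_lit 0x13b1001)], [(nat_lit 0xd11001), (nat_lit 0x13ae001), (nat_lit 0xd12001)], [(nat_lit 0xd18001), (nat_lit 0x13b9001), (nat_lit 0xd17001)], [(nat_lit 0x1cef4013a9002), (nat_lit 0xd0b001), (nat_lit 0x13af001)], [(nat_lit 0xd14001), (nat_lit 0x13b5001), (nat_lit 0x13bb001)], [(nat_lit 0x13ba001), (nat_lit 0x13bf001), (nat_lit 0xd1b001)], [(nat_lit 0x13be001), (nat_lit 0xd1f001), (nat_lit 0x13c1001)], [(nat_lit 0xd21001), (nat_lit 0x13c3001), (nat_lit 0x13c5001)], [(nat_lit 0x13c4001), (nat_lit 0x13cf001), (nat_lit 0xd22001)], [(nat_lit 0x13b6001), (nat_lit 0xd15001), (nat_lit 0x13b7001)], [(nat_lit 0xd23001), (nat_lit 0x13c6001), (nat_lit 0x13d0001)], [(nat_lit 0x13d1001), (nat_lit 0xd6d001), (nat_lit 0xd2c001)], [(nat_lit 0x13c8001), (nat_lit 0xd25001), (nat_lit 0x13d4001)], [(nat_lit 0xd2f001), (nat_lit 0x13dc001), (nat_lit 0xd2e001)], [(nat_lit 0x13e0001), (nat_lit 0xd34001), (nat_lit 0x13f1001)], [(nat_lit 0xd24001), (nat_lit 0x13c7001), (nat_lit 0x13d2001)], [(nat_lit 0x13d3001), (nat_lit 0x13db001), (nat_lit 0xd2d001)], [(nat_lit 0x13c9001), (nat_lit 0xd26001), (nat_lit 0x13d5001)], [(nat_lit 0xd31001), (nat_lit 0x13dd001), (nat_lit 0xd30001)], [(nat_lit 0x275d1013e1002), (nat_lit 0xd35001), (nat_lit 0x13f2001)], [(nat_lit 0xd27001), (nat_lit 0x13ca001), (nat_lit 0x13d6001)], [(nat_lit 0x13d7001), (nat_lit 0x2a33e013de002), (nat_lit 0xd32001)], [(nat_lit 0x13cd001), (nat_lit 0xd2b001), (nat_lit 0x13da001)], [(nat_lit 0xd37001), (nat_lit 0x13e3001), (nat_lit 0xd38001)], [(nat_lit 0xd44001), (nat_lit 0x13ed001), (nat_lit 0xd43001)], [(nat_lit 0xd29001), (nat_lit 0x13cb001), (nat_lit 0xd28001)], [(nat_lit 0x13e2001), (nat_lit 0xd36001), (nat_lit 0x13f3001)], [(nat_lit 0xd2a001), (nat_lit 0x13cc001), (nat_lit 0x13d8001)], [(nat_lit 0x13d9001), (nat_lit 0x13df001), (nat_lit 0xd33001)], [(nat_lit 0x13e4001), (nat_lit 0xd39001), (nat_lit 0x1feaa013f4002)], [(nat_lit 0xd3b001), (nat_lit 0x13e6001), (nat_lit 0xd3c001)], [(nat_lit 0x13ee001), (nat_lit 0xd45001), (nat_lit 0x13fb001)], [(nat_lit 0x13e5001), (nat_lit 0xd3a001), (nat_lit 0x13f5001)], [(nat_lit 0xd3d001), (nat_lit 0x13e7001), (nat_lit 0xd3e001)], [(nat_lit 0x13f0001), (nat_lit 0xd46001), (nat_lit 0x13fd001)], [(nat_lit 0xd3f001), (nat_lit 0x13e8001), (nat_lit 0x235ea013f6002)], [(nat_lit 0x235ea013f7002), (nat_lit 0x13fe001), (nat_lit 0xd47001)], [(nat_lit 0x13ea001), (nat_lit 0xd40001), (nat_lit 0x13f8001)], [(nat_lit 0xd4b001), (nat_lit 0x1401001), (nat_lit 0x1403001)], [(nat_lit 0x1404001), (nat_lit 0x1407001), (nat_lit 0xd4f001)], [(nat_lit 0x13e9001), (nat_lit 0xd41001), (nat_lit 0x13eb001)], [(nat_lit 0xd42001), (nat_lit 0x13ec001), (nat_lit 0x13f9001)], [(nat_lit 0x13fa001), (nat_lit 0x1400001), (nat_lit 0xd4a001)], [(nat_lit 0x1408001), (nat_lit 0xd50001), (nat_lit 0x1415001)], [(nat_lit 0xd53001), (nat_lit 0x140c001), (nat_lit 0xd54001)], [(nat_lit 0x2df5201411002), (nat_lit 0xd5a001), (nat_lit 0x141b001)], [(nat_lit 0xd4e001), (nat_lit 0x1406001), (nat_lit 0xd4d001)], [(nat_lit 0x1409001), (nat_lit 0xd51001), (nat_lit 0x1416001)], [(nat_lit 0xd55001), (nat_lit 0x140d001), (nat_lit 0x1413001)], [(nat_lit 0x1412001), (nat_lit 0x141c001), (nat_lit 0xd5b001)], [(nat_lit 0x140a001), (nat_lit 0xd52001), (nat_lit 0x1417001)], [(nat_lit 0xd56001), (nat_lit 0x140e001), (nat_lit 0xd57001)], [(nat_lit 0x1414001), (nat_lit 0xd5c001), (nat_lit 0x141d001)], [(nat_lit 0x272fe0140f002), (nat_lit 0xd58001), (nat_lit 0x1418001)], [(nat_lit 0xd59001), (nat_lit 0x1410001), (nat_lit 0x1419001)], [(nat_lit 0x141a001), (nat_lit 0x141e001), (nat_lit 0xd5d001)], [(nat_lit 0x141f001), (nat_lit 0xd5e001), (nat_lit 0x28b1f01425002)], [(nat_lit 0xd5f001), (nat_lit 0x1420001), (nat_lit 0xd60001)], [(nat_lit 0x1424001), (nat_lit 0xd64001), (nat_lit 0x1429001)], [(nat_lit 0x248be01422002), (nat_lit 0xd62001), (nat_lit 0x1423001)], [(nat_lit 0xd67001), (nat_lit 0x142b001), (nat_lit 0xd66001)], [(nat_lit 0x142d001), (nat_lit 0xd69001), (nat_lit 0x1432001)], [(nat_lit 0xd68001), (nat_lit 0x142c001), (nat_lit 0x1430001)], [(nat_lit 0x142f001), (nat_lit 0xd6d001), (nat_lit 0xd6c001)], [(nat_lit 0x220850142e002), (nat_lit 0xd6a001), (nat_lit 0x2208401433002)], [(nat_lit 0xd70001), (nat_lit 0x1431001), (nat_lit 0xd6f001)], [(nat_lit 0x143a001), (nat_lit 0xd76001), (nat_lit 0x1441001)], [(nat_lit 0x143b001), (nat_lit 0xd77001), (nat_lit 0x1442001)], [(nat_lit 0x143f001), (nat_lit 0xd7b001), (nat_lit 0x1444001)], [(nat_lit 0xd7d001), (nat_lit 0x1446001), (nat_lit 0x144c001)], [(nat_lit 0x144b001), (nat_lit 0x1453001), (nat_lit 0xd83001)], [(nat_lit 0xd74001), (nat_lit 0xd73001), (nat_lit 0x1437001)], [(nat_lit 0xd79001), (nat_lit 0x143c001), (nat_lit 0xd78001)], [(nat_lit 0x2be1901440002), (nat_lit 0xd7c001), (nat_lit 0x1445001)], [(nat_lit 0xd75001), (nat_lit 0x2e48e01439002), (nat_lit 0x143e001)], [(nat_lit 0x143d001), (nat_lit 0x1443001), (nat_lit 0xd7a001)], [(nat_lit 0x2e69701447002), (nat_lit 0xd7e001), (nat_lit 0x1451001)], [(nat_lit 0xd7f001), (nat_lit 0x1448001), (nat_lit 0xd80001)], [(nat_lit 0xdb2001), (nat_lit 0xd84001), (nat_lit 0xda8001)], [(nat_lit 0x1438001), (nat_lit 0x1449001), (nat_lit 0xd81001)], [(nat_lit 0x144e001), (nat_lit 0xd87001), (nat_lit 0x1454001)], [(nat_lit 0xd8a001), (nat_lit 0x1458001), (nat_lit 0x145c001)], [(nat_lit 0x145b001), (nat_lit 0x145f001), (nat_lit 0xd8e001)], [(nat_lit 0x144a001), (nat_lit 0xd82001), (nat_lit 0x1452001)], [(nat_lit 0xd86001), (nat_lit 0x144d001), (nat_lit 0xd85001)], [(nat_lit 0xd88001), (nat_lit 0x144f001), (nat_lit 0x1455001)], [(nat_lit 0x1456001), (nat_lit 0x145a001), (nat_lit 0xd8d001)], [(nat_lit 0xd90001), (nat_lit 0x145e001), (nat_lit 0x1461001)], [(nat_lit 0x1462001), (nat_lit 0x1464001), (nat_lit 0xd93001)], [(nat_lit 0x2df6701450002), (nat_lit 0xd89001), (nat_lit 0x1457001)], [(nat_lit 0xd8b001), (nat_lit 0x1459001), (nat_lit 0xd8c001)], [(nat_lit 0x145d001), (nat_lit 0xd8f001), (nat_lit 0x1460001)], [(nat_lit 0xd92001), (nat_lit 0x1463001), (nat_lit 0xd91001)], [(nat_lit 0x1465001), (nat_lit 0xd94001), (nat_lit 0x1466001)], [(nat_lit 0xd95001), (nat_lit 0x1467001), (nat_lit 0x146c001)], [(nat_lit 0x146b001), (nat_lit 0x1476001), (nat_lit 0xd99001)], [(nat_lit 0x1469001), (nat_lit 0xd97001), (nat_lit 0x1475001)], [(nat_lit 0xd9d001), (nat_lit 0x146e001), (nat_lit 0xd9c001)], [(nat_lit 0x1473001), (nat_lit 0xda1001), (nat_lit 0x147a001)], [(nat_lit 0xd98001), (nat_lit 0x146a001), (nat_lit 0x1470001)], [(nat_lit 0x146f001), (nat_lit 0x2d65f01477002), (nat_lit 0xd9e001)], [(nat_lit 0x147b001), (nat_lit 0xda2001), (nat_lit 0x1486001)], [(nat_lit 0xda7001), (nat_lit 0x1483001), (nat_lit 0xda8001)], [(nat_lit 0xdb2001), (nat_lit 0x1490001), (nat_lit 0xdb1001)], [(nat_lit 0x1471001), (nat_lit 0xd9f001), (nat_lit 0x1478001)], [(nat_lit 0xda3001), (nat_lit 0x147c001), (nat_lit 0x1480001)], [(nat_lit 0x147f001), (nat_lit 0x1487001), (nat_lit 0xda5001)], [(nat_lit 0x1485001), (nat_lit 0xdaa001), (nat_lit 0x22dce0148a002)], [(nat_lit 0xdaf001), (nat_lit 0x148f001), (nat_lit 0xdb0001)], [(nat_lit 0x1495001), (nat_lit 0xdb8001), (nat_lit 0x1498001)], [(nat_lit 0xda4001), (nat_lit 0x147d001), (nat_lit 0x1482001)], [(nat_lit 0x1481001), (nat_lit 0x1488001), (nat_lit 0xda6001)], [(nat_lit 0x1484001), (nat_lit 0xda9001), (nat_lit 0x1489001)], [(nat_lit 0xdab001), (nat_lit 0x21f650148b002), (nat_lit 0xf25001)], [(nat_lit 0x147e001), (nat_lit 0xdac001), (nat_lit 0x148c001)], [(nat_lit 0xdb4001), (nat_lit 0x1491001), (nat_lit 0xdb3001)], [(nat_lit 0x2b82b01499002), (nat_lit 0xdb9001), (nat_lit 0x14a2001)], [(nat_lit 0x148e001), (nat_lit 0xdae001), (nat_lit 0x1496001)], [(nat_lit 0xdb7001), (nat_lit 0x1494001), (nat_lit 0xdb6001)], [(nat_lit 0x149b001), (nat_lit 0xdbb001), (nat_lit 0x14a4001)], [(nat_lit 0xdad001), (nat_lit 0x2d8100148d002), (nat_lit 0x1493001)], [(nat_lit 0x1492001), (nat_lit 0x1497001), (nat_lit 0xdb5001)], [(nat_lit 0x149a001), (nat_lit 0xdba001), (nat_lit 0x14a3001)], [(nat_lit 0xdbe001), (nat_lit 0x149c001), (nat_lit 0x149e001)], [(nat_lit 0x149d001), (nat_lit 0x14a5001), (nat_lit 0xdc1001)], [(nat_lit 0x14a0001), (nat_lit 0xdc4001), (nat_lit 0x14a7001)], [(nat_lit 0xdc7001), (nat_lit 0x14a9001), (nat_lit 0xdc8001)], [(nat_lit 0x14ab001), (nat_lit 0xdca001), (nat_lit 0x14ac001)], [(nat_lit 0x14af001), (nat_lit 0xdce001), (nat_lit 0x14be001)], [(nat_lit 0xdd1001), (nat_lit 0x14b2001), (nat_lit 0x2e35d014b8002)], [(nat_lit 0x2e35d014b7002), (nat_lit 0x2aeb0014c2002), (nat_lit 0xdd4001)], [(nat_lit 0x14bb001), (nat_lit 0xdd6001), (nat_lit 0x14c5001)], [(nat_lit 0xdd9001), (nat_lit 0x14c8001), (nat_lit 0xdda001)], [(nat_lit 0x14cc001), (nat_lit 0xddf001), (nat_lit 0x14cf001)], [(nat_lit 0xdd5001), (nat_lit 0x14b9001), (nat_lit 0x14c3001)], [(nat_lit 0x14c4001), (nat_lit 0x14cb001), (nat_lit 0xdde001)], [(nat_lit 0x14bc001), (nat_lit 0xdd7001), (nat_lit 0x14c6001)], [(nat_lit 0xddb001), (nat_lit 0x14c9001), (nat_lit 0x14cd001)], [(nat_lit 0x14ce001), (nat_lit 0x14d0001), (nat_lit 0xde0001)], [(nat_lit 0x14ba001), (nat_lit 0xdd8001), (nat_lit 0x14c7001)], [(nat_lit 0xddc001), (nat_lit 0x14ca001), (nat_lit 0xddd001)], [(nat_lit 0x14d1001), (nat_lit 0xde1001), (nat_lit 0x14e1001)], [(nat_lit 0x24f00014d9002), (nat_lit 0x14e3001), (nat_lit 0xdea001)], [(nat_lit 0xde3001), (nat_lit 0x18fd2014d3002), (nat_lit 0x14dc001)], [(nat_lit 0x14db001), (nat_lit 0x14e4001), (nat_lit 0xdeb001)], [(nat_lit 0x14d4001), (nat_lit 0xde4001), (nat_lit 0x14e2001)], [(nat_lit 0xde5001), (nat_lit 0x14d5001), (nat_lit 0xde6001)], [(nat_lit 0x14dd001), (nat_lit 0xdec001), (nat_lit 0x14e5001)], [(nat_lit 0xde7001), (nat_lit 0x14d6001), (nat_lit 0x231eb014df002)], [(nat_lit 0x14e7001), (nat_lit 0xdf0001), (nat_lit 0x14f2001)], [(nat_lit 0xdf4001), (nat_lit 0x14eb001), (nat_lit 0x14ef001)], [(nat_lit 0x14ee001), (nat_lit 0x14f5001), (nat_lit 0xdf6001)], [(nat_lit 0xde9001), (nat_lit 0xde8001), (nat_lit 0x14d7001)], [(nat_lit 0xdef001), (nat_lit 0x14e0001), (nat_lit 0xdee001)], [(nat_lit 0x14ea001), (nat_lit 0xdf3001), (nat_lit 0x14f3001)], [(nat_lit 0xdf1001), (nat_lit 0x14e8001), (nat_lit 0x14ed001)], [(nat_lit 0x14ec001), (nat_lit 0x14f4001), (nat_lit 0xdf5001)], [(nat_lit 0x14d8001), (nat_lit 0x14e9001), (nat_lit 0xdf2001)], [(nat_lit 0x14f0001), (nat_lit 0xdf7001), (nat_lit 0x14f6001)], [(nat_lit 0xdf9001), (nat_lit 0x14f8001), (nat_lit 0x1500001)], [(nat_lit 0x14ff001), (nat_lit 0x1508001), (nat_lit 0xe01001)], [(nat_lit 0x2e0b9014f1002), (nat_lit 0xdf8001), (nat_lit 0x2e0b8014f7002)], [(nat_lit 0xdfb001), (nat_lit 0x14fa001), (nat_lit 0xdfc001)], [(nat_lit 0xdfa001), (nat_lit 0x2d20a014f9002), (nat_lit 0x1502001)], [(nat_lit 0x1501001), (nat_lit 0x1509001), (nat_lit 0xe02001)], [(nat_lit 0x2b2f7014fb002), (nat_lit 0xdfd001), (nat_lit 0x1504001)], [(nat_lit 0xe06001), (nat_lit 0x150b001), (nat_lit 0x1510001)], [(nat_lit 0x150f001), (nat_lit 0x1515001), (nat_lit 0xe0e001)], [(nat_lit 0xdff001), (nat_lit 0xdfe001), (nat_lit 0x2cd94014fc002)], [(nat_lit 0xe04001), (nat_lit 0x1503001), (nat_lit 0xe03001)], [(nat_lit 0x150c001), (nat_lit 0xe08001), (nat_lit 0x23bd101513002)], [(nat_lit 0x2e69801507002), (nat_lit 0x150a001), (nat_lit 0xe05001)], [(nat_lit 0xe09001), (nat_lit 0x150d001), (nat_lit 0xe0a001)], [(nat_lit 0x1511001), (nat_lit 0xe0f001), (nat_lit 0x1516001)], [(nat_lit 0x150e001), (nat_lit 0xe0d001), (nat_lit 0x1514001)], [(nat_lit 0xe11001), (nat_lit 0x1512001), (nat_lit 0xe10001)], [(nat_lit 0x2405001518002), (nat_lit 0xe13001), (nat_lit 0x1522001)], [(nat_lit 0xe12001), (nat_lit 0x1517001), (nat_lit 0x240530151e002)], [(nat_lit 0x240530151d002), (nat_lit 0x1525001), (nat_lit 0xe17001)], [(nat_lit 0x1519001), (nat_lit 0xe14001), (nat_lit 0x1523001)], [(nat_lit 0xe19001), (nat_lit 0x1521001), (nat_lit 0x1527001)], [(nat_lit 0x1528001), (nat_lit 0x152d001), (nat_lit 0xe1e001)], [(nat_lit 0x151a001), (nat_lit 0xe15001), (nat_lit 0x1524001)], [(nat_lit 0xe16001), (nat_lit 0x151b001), (nat_lit 0x1520001)], [(nat_lit 0x151f001), (nat_lit 0x1526001), (nat_lit 0xe18001)], [(nat_lit 0x1529001), (nat_lit 0xe1a001), (nat_lit 0x1530001)], [(nat_lit 0xe1b001), (nat_lit 0x152a001), (nat_lit 0x152f001)], [(nat_lit 0x152e001), (nat_lit 0x1534001), (nat_lit 0xe20001)], [(nat_lit 0x151c001), (nat_lit 0xe1c001), (nat_lit 0x152b001)], [(nat_lit 0xe24001), (nat_lit 0x1536001), (nat_lit 0xe23001)], [(nat_lit 0x1538001), (nat_lit 0xe27001), (nat_lit 0x1542001)], [(nat_lit 0xe1d001), (nat_lit 0x152c001), (nat_lit 0x1531001)], [(nat_lit 0x1532001), (nat_lit 0xe74001), (nat_lit 0xe25001)], [(nat_lit 0x153e001), (nat_lit 0xe2d001), (nat_lit 0x1545001)], [(nat_lit 0xe30001), (nat_lit 0x1549001), (nat_lit 0xe31001)], [(nat_lit 0x1550001), (nat_lit 0xe38001), (nat_lit 0x1555001)], [(nat_lit 0xe28001), (nat_lit 0x1539001), (nat_lit 0x153c001)], [(nat_lit 0x153b001), (nat_lit 0x1544001), (nat_lit 0xe2a001)], [(nat_lit 0x2789f0153a002), (nat_lit 0xe29001), (nat_lit 0x2823f01543002)], [(nat_lit 0xe2c001), (nat_lit 0x153d001), (nat_lit 0xe2b001)], [(nat_lit 0x1540001), (nat_lit 0xe2f001), (nat_lit 0x1548001)], [(nat_lit 0xe2e001), (nat_lit 0x153f001), (nat_lit 0x1546001)], [(nat_lit 0x1547001), (nat_lit 0x2b5020154f002), (nat_lit 0xe37001)], [(nat_lit 0x154a001), (nat_lit 0xe32001), (nat_lit 0x1554001)], [(nat_lit 0xe36001), (nat_lit 0x154e001), (nat_lit 0x1553001)], [(nat_lit 0x1552001), (nat_lit 0x1556001), (nat_lit 0xe3b001)], [(nat_lit 0xe34001), (nat_lit 0xe33001), (nat_lit 0x154b001)], [(nat_lit 0xe3a001), (nat_lit 0x1551001), (nat_lit 0xe39001)], [(nat_lit 0x1557001), (nat_lit 0xe3c001), (nat_lit 0x1567001)], [(nat_lit 0xe3e001), (nat_lit 0x1559001), (nat_lit 0x155e001)], [(nat_lit 0x155d001), (nat_lit 0x156b001), (nat_lit 0xe42001)], [(nat_lit 0x155b001), (nat_lit 0xe40001), (nat_lit 0x1569001)], [(nat_lit 0xe45001), (nat_lit 0x1561001), (nat_lit 0xe44001)], [(nat_lit 0x1563001), (nat_lit 0xe48001), (nat_lit 0x156d001)], [(nat_lit 0x154c001), (nat_lit 0x154d001), (nat_lit 0xe35001)], [(nat_lit 0x2e27901558002), (nat_lit 0xe3d001), (nat_lit 0x1568001)], [(nat_lit 0xe3f001), (nat_lit 0x155a001), (nat_lit 0x1560001)], [(nat_lit 0x155f001), (nat_lit 0x156c001), (nat_lit 0xe43001)], [(nat_lit 0x155c001), (nat_lit 0xe41001), (nat_lit 0x156a001)], [(nat_lit 0xe47001), (nat_lit 0x1562001), (nat_lit 0xe46001)], [(nat_lit 0x1565001), (nat_lit 0xe49001), (nat_lit 0x156f001)], [(nat_lit 0xe4a001), (nat_lit 0x1566001), (nat_lit 0x1571001)], [(nat_lit 0x1572001), (nat_lit 0x1577001), (nat_lit 0xe4e001)], [(nat_lit 0xe4d001), (nat_lit 0x24c1c01576002), (nat_lit 0x157c001)], [(nat_lit 0x157b001), (nat_lit 0x157f001), (nat_lit 0xe52001)], [(nat_lit 0x1573001), (nat_lit 0xe4b001), (nat_lit 0x157d001)], [(nat_lit 0xe50001), (nat_lit 0x1578001), (nat_lit 0xe4f001)], [(nat_lit 0x1580001), (nat_lit 0xe53001), (nat_lit 0x158d001)], [(nat_lit 0xe4c001), (nat_lit 0x1574001), (nat_lit 0x157a001)], [(nat_lit 0x1579001), (nat_lit 0x157e001), (nat_lit 0xe51001)], [(nat_lit 0x1581001), (nat_lit 0xe54001), (nat_lit 0x158e001)], [(nat_lit 0xe55001), (nat_lit 0x1582001), (nat_lit 0x1587001)], [(nat_lit 0x1586001), (nat_lit 0x1590001), (nat_lit 0xe59001)], [(nat_lit 0x1575001), (nat_lit 0xe56001), (nat_lit 0x1583001)], [(nat_lit 0xe57001), (nat_lit 0x1584001), (nat_lit 0x1589001)], [(nat_lit 0x1588001), (nat_lit 0x1591001), (nat_lit 0xe5b001)], [(nat_lit 0x1585001), (nat_lit 0xe58001), (nat_lit 0x158f001)], [(nat_lit 0xe5d001), (nat_lit 0x158a001), (nat_lit 0xe5c001)], [(nat_lit 0x158b001), (nat_lit 0xe5f001), (nat_lit 0x1f11401593002)], [(nat_lit 0xe61001), (nat_lit 0x158c001), (nat_lit 0xe60001)], [(nat_lit 0x1596001), (nat_lit 0xe64001), (nat_lit 0x159f001)], [(nat_lit 0xe6a001), (nat_lit 0x2a4170159c002), (nat_lit 0x15a3001)], [(nat_lit 0x15a4001), (nat_lit 0x15aa001), (nat_lit 0xe71001)], [(nat_lit 0x2a6d701594002), (nat_lit 0xe62001), (nat_lit 0x159e001)], [(nat_lit 0xe66001), (nat_lit 0x1597001), (nat_lit 0xe65001)], [(nat_lit 0x159a001), (nat_lit 0xe68001), (nat_lit 0x15a1001)], [(nat_lit 0xe63001), (nat_lit 0x2b11401595002), (nat_lit 0x1599001)], [(nat_lit 0x1598001), (nat_lit 0x15a0001), (nat_lit 0xe67001)], [(nat_lit 0x159b001), (nat_lit 0xe69001), (nat_lit 0x15a2001)], [(nat_lit 0x159d001), (nat_lit 0xe6b001), (nat_lit 0x2ddae015a5002)], [(nat_lit 0xe6e001), (nat_lit 0x15a7001), (nat_lit 0x15ac001)], [(nat_lit 0x15ab001), (nat_lit 0x1358001), (nat_lit 0xe72001)], [(nat_lit 0x15af001), (nat_lit 0xe75001), (nat_lit 0x2ce34015b2002)], [(nat_lit 0xe79001), (nat_lit 0x15b6001), (nat_lit 0xe7a001)], [(nat_lit 0x15ba001), (nat_lit 0xe80001), (nat_lit 0x15c3001)], [(nat_lit 0xe6d001), (nat_lit 0x15a6001), (nat_lit 0xe6c001)], [(nat_lit 0x15a8001), (nat_lit 0xe6f001), (nat_lit 0x15b1001)], [(nat_lit 0xe70001), (nat_lit 0x15a9001), (nat_lit 0x15ae001)], [(nat_lit 0x15ad001), (nat_lit 0xe74001), (nat_lit 0xe73001)], [(nat_lit 0x15b0001), (nat_lit 0xe76001), (nat_lit 0x15b3001)], [(nat_lit 0xe7b001), (nat_lit 0x15b7001), (nat_lit 0xe7c001)], [(nat_lit 0x15bb001), (nat_lit 0xe81001), (nat_lit 0x15c4001)], [(nat_lit 0x2cd94014fd002), (nat_lit 0x2d695015b4002), (nat_lit 0xe77001)], [(nat_lit 0x15b8001), (nat_lit 0xe7d001), (nat_lit 0x15c2001)], [(nat_lit 0xe85001), (nat_lit 0x28495015bf002), (nat_lit 0x15c9001)], [(nat_lit 0x15ca001), (nat_lit 0x15ce001), (nat_lit 0xe89001)], [(nat_lit 0x15b5001), (nat_lit 0xe78001), (nat_lit 0x15c1001)], [(nat_lit 0xe7f001), (nat_lit 0x15b9001), (nat_lit 0xe7e001)], [(nat_lit 0x15bc001), (nat_lit 0xe82001), (nat_lit 0x15c5001)], [(nat_lit 0xe83001), (nat_lit 0x15bd001), (nat_lit 0x15c6001)], [(nat_lit 0x15c7001), (nat_lit 0x15cd001), (nat_lit 0xe88001)], [(nat_lit 0x15c0001), (nat_lit 0xe86001), (nat_lit 0x15cb001)], [(nat_lit 0xe87001), (nat_lit 0x15cc001), (nat_lit 0x15d0001)], [(nat_lit 0x15cf001), (nat_lit 0x15d1001), (nat_lit 0xe8a001)], [(nat_lit 0x2435b015be002), (nat_lit 0xe84001), (nat_lit 0x15c8001)], [(nat_lit 0x15de001), (nat_lit 0xe96001), (nat_lit 0x15e6001)], [(nat_lit 0xe8c001), (nat_lit 0x15d3001), (nat_lit 0x2889b015da002)], [(nat_lit 0x2889b015d9002), (nat_lit 0x15e4001), (nat_lit 0xe92001)], [(nat_lit 0x15d8001), (nat_lit 0xe91001), (nat_lit 0x15e3001)], [(nat_lit 0xe99001), (nat_lit 0x15e1001), (nat_lit 0x15ea001)], [(nat_lit 0x15eb001), (nat_lit 0x15ee001), (nat_lit 0xe9e001)], [(nat_lit 0x15d4001), (nat_lit 0xe8d001), (nat_lit 0x15d5001)], [(nat_lit 0xe94001), (nat_lit 0x15db001), (nat_lit 0xe93001)], [(nat_lit 0x15df001), (nat_lit 0xe97001), (nat_lit 0x15e7001)], [(nat_lit 0xe98001), (nat_lit 0x15e0001), (nat_lit 0x27f26015e8002)], [(nat_lit 0x15e2001), (nat_lit 0xe9a001), (nat_lit 0x15ec001)], [(nat_lit 0xe9b001), (nat_lit 0xee9001), (nat_lit 0xe9c001)], [(nat_lit 0x15ef001), (nat_lit 0xe9f001), (nat_lit 0x15f0001)], [(nat_lit 0xe8e001), (nat_lit 0x15d6001), (nat_lit 0x15dd001)], [(nat_lit 0x15dc001), (nat_lit 0x225a8015e5002), (nat_lit 0xe95001)], [(nat_lit 0xea2001), (nat_lit 0xea1001), (nat_lit 0x15f2001)], [(nat_lit 0xea6001), (nat_lit 0x15f6001), (nat_lit 0xea5001)], [(nat_lit 0x15f9001), (nat_lit 0xea8001), (nat_lit 0x15fe001)], [(nat_lit 0xea3001), (nat_lit 0x15f4001), (nat_lit 0x15f8001)], [(nat_lit 0x15f7001), (nat_lit 0x15fd001), (nat_lit 0xea7001)], [(nat_lit 0x15fb001), (nat_lit 0xeaa001), (nat_lit 0x1600001)], [(nat_lit 0xeaf001), (nat_lit 0x1605001), (nat_lit 0xeae001)], [(nat_lit 0xedd001), (nat_lit 0xeb4001), (nat_lit 0xed7001)], [(nat_lit 0x15f3001), (nat_lit 0x15f5001), (nat_lit 0xea4001)], [(nat_lit 0x15fa001), (nat_lit 0xea9001), (nat_lit 0x15ff001)], [(nat_lit 0xeab001), (nat_lit 0x15fc001), (nat_lit 0x2445f01601002)], [(nat_lit 0x2445f01602002), (nat_lit 0x1606001), (nat_lit 0xeb0001)], [(nat_lit 0x24a1601603002), (nat_lit 0xeac001), (nat_lit 0x247650160d002)], [(nat_lit 0xeb2001), (nat_lit 0x255b601607002), (nat_lit 0xeb1001)], [(nat_lit 0xead001), (nat_lit 0x1604001), (nat_lit 0x2e11101609002)], [(nat_lit 0x2e11101608002), (nat_lit 0x160e001), (nat_lit 0xeb3001)], [(nat_lit 0x160a001), (nat_lit 0xeb5001), (nat_lit 0x160f001)], [(nat_lit 0xeb6001), (nat_lit 0x160b001), (nat_lit 0x1611001)], [(nat_lit 0x1612001), (nat_lit 0x1616001), (nat_lit 0xeb9001)], [(nat_lit 0x160c001), (nat_lit 0xeb7001), (nat_lit 0x1613001)], [(nat_lit 0xebb001), (nat_lit 0x1617001), (nat_lit 0xeba001)], [(nat_lit 0x161b001), (nat_lit 0xebe001), (nat_lit 0x1620001)], [(nat_lit 0xeb8001), (nat_lit 0x1614001), (nat_lit 0x27d5e01619002)], [(nat_lit 0x27d5e01618002), (nat_lit 0x161f001), (nat_lit 0xebc001)], [(nat_lit 0xec2001), (nat_lit 0x161d001), (nat_lit 0x1622001)], [(nat_lit 0x1623001), (nat_lit 0x1627001), (nat_lit 0xec5001)], [(nat_lit 0x1615001), (nat_lit 0xebd001), (nat_lit 0x161a001)], [(nat_lit 0xec0001), (nat_lit 0x161c001), (nat_lit 0xec1001)], [(nat_lit 0xec3001), (nat_lit 0x161e001), (nat_lit 0x1624001)], [(nat_lit 0x1625001), (nat_lit 0x1628001), (nat_lit 0xec6001)], [(nat_lit 0x1629001), (nat_lit 0xec7001), (nat_lit 0x1633001)], [(nat_lit 0xec9001), (nat_lit 0x12cb001), (nat_lit 0xeca001)], [(nat_lit 0x162f001), (nat_lit 0xecf001), (nat_lit 0x1638001)], [(nat_lit 0x2ac880162a002), (nat_lit 0xec8001), (nat_lit 0x1634001)], [(nat_lit 0xecb001), (nat_lit 0x162b001), (nat_lit 0x1631001)], [(nat_lit 0x1630001), (nat_lit 0x1639001), (nat_lit 0xed0001)], [(nat_lit 0xed2001), (nat_lit 0x163a001), (nat_lit 0xed1001)], [(nat_lit 0x163d001), (nat_lit 0xed5001), (nat_lit 0x1643001)], [(nat_lit 0xecd001), (nat_lit 0x162d001), (nat_lit 0x1635001)], [(nat_lit 0x1636001), (nat_lit 0x163b001), (nat_lit 0xed3001)], [(nat_lit 0x163c001), (nat_lit 0xed4001), (nat_lit 0x1642001)], [(nat_lit 0xed6001), (nat_lit 0x21f5e0163e002), (nat_lit 0xed7001)], [(nat_lit 0xedd001), (nat_lit 0x1648001), (nat_lit 0xedc001)], [(nat_lit 0xed8001), (nat_lit 0x163f001), (nat_lit 0x1644001)], [(nat_lit 0x1645001), (nat_lit 0x1649001), (nat_lit 0xede001)], [(nat_lit 0x1647001), (nat_lit 0x2b55e0164a002), (nat_lit 0xedf001)], [(nat_lit 0xeec001), (nat_lit 0x165c001), (nat_lit 0xeeb001)], [(nat_lit 0x1661001), (nat_lit 0xef2001), (nat_lit 0x1668001)], [(nat_lit 0xeda001), (nat_lit 0x1640001), (nat_lit 0xed9001)], [(nat_lit 0x164b001), (nat_lit 0xee0001), (nat_lit 0x1657001)], [(nat_lit 0xee2001), (nat_lit 0x164d001), (nat_lit 0x1654001)], [(nat_lit 0x1653001), (nat_lit 0xee9001), (nat_lit 0xee8001)], [(nat_lit 0xedb001), (nat_lit 0x1641001), (nat_lit 0x1646001)], [(nat_lit 0x164c001), (nat_lit 0xee1001), (nat_lit 0x1658001)], [(nat_lit 0xee3001), (nat_lit 0x164e001), (nat_lit 0x1656001)], [(nat_lit 0x1655001), (nat_lit 0x165b001), (nat_lit 0xeea001)], [(nat_lit 0xee6001), (nat_lit 0xee5001), (nat_lit 0x1650001)], [(nat_lit 0xeee001), (nat_lit 0x165d001), (nat_lit 0xeed001)], [(nat_lit 0x1662001), (nat_lit 0xef3001), (nat_lit 0x1669001)], [(nat_lit 0xee7001), (nat_lit 0x1652001), (nat_lit 0x1659001)], [(nat_lit 0x165a001), (nat_lit 0x165e001), (nat_lit 0xeef001)], [(nat_lit 0x1651001), (nat_lit 0x165f001), (nat_lit 0xef0001)], [(nat_lit 0x1660001), (nat_lit 0xef1001), (nat_lit 0x1667001)], [(nat_lit 0xef5001), (nat_lit 0x1664001), (nat_lit 0xef6001)], [(nat_lit 0xef7001), (nat_lit 0x1665001), (nat_lit 0x166b001)], [(nat_lit 0x166c001), (nat_lit 0x1677001), (nat_lit 0xf02001)], [(nat_lit 0x166f001), (nat_lit 0xef9001), (nat_lit 0x1679001)], [(nat_lit 0xefa001), (nat_lit 0x1670001), (nat_lit 0x167b001)], [(nat_lit 0x167c001), (nat_lit 0x1683001), (nat_lit 0xf04001)], [(nat_lit 0x1673001), (nat_lit 0xefd001), (nat_lit 0x1680001)], [(nat_lit 0xf0a001), (nat_lit 0x1688001), (nat_lit 0x168d001)], [(nat_lit 0x168c001), (nat_lit 0x1693001), (nat_lit 0xf0e001)], [(nat_lit 0xeff001), (nat_lit 0x1675001), (nat_lit 0x1681001)], [(nat_lit 0x1682001), (nat_lit 0x1686001), (nat_lit 0xf08001)], [(nat_lit 0x168b001), (nat_lit 0xf0d001), (nat_lit 0x1692001)], [(nat_lit 0xf10001), (nat_lit 0x168e001), (nat_lit 0xf0f001)], [(nat_lit 0x1696001), (nat_lit 0xf13001), (nat_lit 0x16a4001)], [(nat_lit 0xf01001), (nat_lit 0x1676001), (nat_lit 0xf00001)], [(nat_lit 0x168a001), (nat_lit 0xf0c001), (nat_lit 0x1691001)], [(nat_lit 0xf11001), (nat_lit 0x27aee01694002), (nat_lit 0x169f001)], [(nat_lit 0x169e001), (nat_lit 0x16ab001), (nat_lit 0xf1b001)], [(nat_lit 0x1695001), (nat_lit 0xf12001), (nat_lit 0x16a3001)], [(nat_lit 0xf14001), (nat_lit 0x1697001), (nat_lit 0xf15001)], [(nat_lit 0x16a0001), (nat_lit 0xf1c001), (nat_lit 0x16ac001)], [(nat_lit 0xf16001), (nat_lit 0x1698001), (nat_lit 0x16a2001)], [(nat_lit 0x16a1001), (nat_lit 0x16ad001), (nat_lit 0xf1d001)], [(nat_lit 0x1699001), (nat_lit 0xf17001), (nat_lit 0x16a5001)], [(nat_lit 0x169a001), (nat_lit 0xf18001), (nat_lit 0x16a6001)], [(nat_lit 0xf1a001), (nat_lit 0x1e33a0169d002), (nat_lit 0x16a9001)], [(nat_lit 0x16aa001), (nat_lit 0x16af001), (nat_lit 0xf1f001)], [(nat_lit 0x16b1001), (nat_lit 0xf21001), (nat_lit 0x20685016b8002)], [(nat_lit 0xf28001), (nat_lit 0x16bc001), (nat_lit 0xf27001)], [(nat_lit 0x16bf001), (nat_lit 0xf2c001), (nat_lit 0x16c7001)], [(nat_lit 0xf19001), (nat_lit 0x169b001), (nat_lit 0x16a7001)], [(nat_lit 0x16a8001), (nat_lit 0x16ae001), (nat_lit 0xf1e001)], [(nat_lit 0x16b0001), (nat_lit 0xf20001), (nat_lit 0x16b7001)], [(nat_lit 0x169c001), (nat_lit 0xf22001), (nat_lit 0x16b2001)], [(nat_lit 0xf2a001), (nat_lit 0x16bd001), (nat_lit 0xf29001)], [(nat_lit 0x16c0001), (nat_lit 0xf2d001), (nat_lit 0x16c8001)], [(nat_lit 0xf24001), (nat_lit 0x16b5001), (nat_lit 0xf25001)], [(nat_lit 0x16c2001), (nat_lit 0xf2f001), (nat_lit 0x16c9001)], [(nat_lit 0xf31001), (nat_lit 0x16c4001), (nat_lit 0xf32001)], [(nat_lit 0x16ce001), (nat_lit 0xf35001), (nat_lit 0x16d4001)], [(nat_lit 0xf23001), (nat_lit 0x2d24a016b3002), (nat_lit 0x2b3fd016b9002)], [(nat_lit 0x2b3fd016ba002), (nat_lit 0x16be001), (nat_lit 0xf2b001)], [(nat_lit 0x16b6001), (nat_lit 0xf26001), (nat_lit 0x2ba6e016bb002)], [(nat_lit 0xf2e001), (nat_lit 0x16c1001), (nat_lit 0x16c6001)], [(nat_lit 0x16c5001), (nat_lit 0x16cc001), (nat_lit 0xf33001)], [(nat_lit 0xf3e001), (nat_lit 0x16da001), (nat_lit 0x16831016e4002)], [(nat_lit 0x16831016e5002), (nat_lit 0x16ed001), (nat_lit 0xf46001)], [(nat_lit 0x16dc001), (nat_lit 0xf40001), (nat_lit 0x16e7001)], [(nat_lit 0xf44001), (nat_lit 0x22f5e016e0002), (nat_lit 0x16ea001)], [(nat_lit 0x16eb001), (nat_lit 0x16f0001), (nat_lit 0xf49001)], [(nat_lit 0x16d1001), (nat_lit 0xf38001), (nat_lit 0x16d7001)], [(nat_lit 0xf3d001), (nat_lit 0x16d9001), (nat_lit 0x16e2001)], [(nat_lit 0x16e1001), (nat_lit 0x2c986016ec002), (nat_lit 0xf45001)], [(nat_lit 0x16db001), (nat_lit 0xf3f001), (nat_lit 0x16e6001)], [(nat_lit 0xf42001), (nat_lit 0x16df001), (nat_lit 0xf43001)], [(nat_lit 0xf41001), (nat_lit 0x16dd001), (nat_lit 0x16e8001)], [(nat_lit 0x16e9001), (nat_lit 0x16ee001), (nat_lit 0xf47001)], [(nat_lit 0x16f1001), (nat_lit 0xf4a001), (nat_lit 0x16f8001)], [(nat_lit 0xf4c001), (nat_lit 0x16f3001), (nat_lit 0x16f9001)], [(nat_lit 0x16fa001), (nat_lit 0x16ff001), (nat_lit 0xf51001)], [(nat_lit 0x16de001), (nat_lit 0xf4b001), (nat_lit 0x16f2001)], [(nat_lit 0xf4f001), (nat_lit 0x16f6001), (nat_lit 0xf50001)], [(nat_lit 0x1702001), (nat_lit 0xf54001), (nat_lit 0x170d001)], [(nat_lit 0xf4d001), (nat_lit 0x16f4001), (nat_lit 0x16fb001)], [(nat_lit 0x16fc001), (nat_lit 0x1700001), (nat_lit 0xf52001)], [(nat_lit 0x1704001), (nat_lit 0xf56001), (nat_lit 0x170f001)], [(nat_lit 0x1717001), (nat_lit 0xf63001), (nat_lit 0x1721001)], [(nat_lit 0xf4e001), (nat_lit 0x27142016f5002), (nat_lit 0x16fd001)], [(nat_lit 0x16fe001), (nat_lit 0x1701001), (nat_lit 0xf53001)], [(nat_lit 0x1703001), (nat_lit 0xf55001), (nat_lit 0x170e001)], [(nat_lit 0xf5c001), (nat_lit 0x170a001), (nat_lit 0xf5d001)], [(nat_lit 0x1716001), (nat_lit 0xf62001), (nat_lit 0x1720001)], [(nat_lit 0xf57001), (nat_lit 0x1705001), (nat_lit 0x274c60170c002)], [(nat_lit 0x1709001), (nat_lit 0xf5b001), (nat_lit 0x1712001)], [(nat_lit 0xf65001), (nat_lit 0x1719001), (nat_lit 0x171f001)], [(nat_lit 0x171e001), (nat_lit 0x1724001), (nat_lit 0xf6b001)], [(nat_lit 0xf59001), (nat_lit 0xf58001), (nat_lit 0x1706001)], [(nat_lit 0xf60001), (nat_lit 0x1714001), (nat_lit 0xf5f001)], [(nat_lit 0x1718001), (nat_lit 0xf64001), (nat_lit 0x1722001)], [(nat_lit 0xf5a001), (nat_lit 0x1708001), (nat_lit 0x2e37301710002)], [(nat_lit 0x2e37301711002), (nat_lit 0x1715001), (nat_lit 0xf61001)], [(nat_lit 0x171a001), (nat_lit 0xf66001), (nat_lit 0x1723001)], [(nat_lit 0xf69001), (nat_lit 0x171d001), (nat_lit 0xf6a001)], [(nat_lit 0x1707001), (nat_lit 0x171b001), (nat_lit 0xf67001)], [(nat_lit 0x1726001), (nat_lit 0xf6e001), (nat_lit 0x1734001)], [(nat_lit 0xf70001), (nat_lit 0x1728001), (nat_lit 0x1731001)], [(nat_lit 0x1730001), (nat_lit 0x173d001), (nat_lit 0xf78001)], [(nat_lit 0xf73001), (nat_lit 0x172b001), (nat_lit 0x1737001)], [(nat_lit 0x1738001), (nat_lit 0x173f001), (nat_lit 0xf7a001)], [(nat_lit 0x1681d0172e002), (nat_lit 0xf76001), (nat_lit 0x1739001)], [(nat_lit 0xf77001), (nat_lit 0x172f001), (nat_lit 0x173b001)], [(nat_lit 0x173c001), (nat_lit 0x1741001), (nat_lit 0xf7c001)], [(nat_lit 0x2d24a016b4002), (nat_lit 0xf68001), (nat_lit 0x2c8df0171c002)], [(nat_lit 0xf6d001), (nat_lit 0x1725001), (nat_lit 0xf6c001)], [(nat_lit 0x1727001), (nat_lit 0xf6f001), (nat_lit 0x1735001)], [(nat_lit 0xf71001), (nat_lit 0x1729001), (nat_lit 0x1733001)], [(nat_lit 0x1732001), (nat_lit 0x173e001), (nat_lit 0xf79001)], [(nat_lit 0x172a001), (nat_lit 0xf72001), (nat_lit 0x1736001)], [(nat_lit 0xf74001), (nat_lit 0x172d001), (nat_lit 0xf75001)], [(nat_lit 0x1740001), (nat_lit 0xf7b001), (nat_lit 0x26a1e01743002)], [(nat_lit 0xf86001), (nat_lit 0x1750001), (nat_lit 0x1752001)], [(nat_lit 0x1753001), (nat_lit 0x175b001), (nat_lit 0xf8c001)], [(nat_lit 0x1760001), (nat_lit 0xf93001), (nat_lit 0x1768001)], [(nat_lit 0xf9b001), (nat_lit 0x176e001), (nat_lit 0xf9a001)], [(nat_lit 0x1772001), (nat_lit 0xfa0001), (nat_lit 0x177c001)], [(nat_lit 0xf95001), (nat_lit 0x1762001), (nat_lit 0x176a001)], [(nat_lit 0x176b001), (nat_lit 0x25bd001770002), (nat_lit 0xf9e001)], [(nat_lit 0x1775001), (nat_lit 0xfa2001), (nat_lit 0x177f001)], [(nat_lit 0xfa3001), (nat_lit 0x1776001), (nat_lit 0x177a001)], [(nat_lit 0x1779001), (nat_lit 0x1781001), (nat_lit 0xfa6001)], [(nat_lit 0xf8b001), (nat_lit 0xf8a001), (nat_lit 0x1759001)], [(nat_lit 0xf90001), (nat_lit 0x175d001), (nat_lit 0xf8f001)], [(nat_lit 0x1763001), (nat_lit 0xf96001), (nat_lit 0x176c001)], [(nat_lit 0xf92001), (nat_lit 0x175f001), (nat_lit 0x1766001)], [(nat_lit 0x1765001), (nat_lit 0x176d001), (nat_lit 0xf99001)], [(nat_lit 0x1761001), (nat_lit 0xf94001), (nat_lit 0x1769001)], [(nat_lit 0xf9d001), (nat_lit 0x176f001), (nat_lit 0xf9c001)], [(nat_lit 0x175a001), (nat_lit 0x1777001), (nat_lit 0xfa4001)], [(nat_lit 0x1778001), (nat_lit 0xfa5001), (nat_lit 0x1780001)], [(nat_lit 0xfa9001), (nat_lit 0x1784001), (nat_lit 0x178e001)], [(nat_lit 0x178d001), (nat_lit 0x2527b01794002), (nat_lit 0xfb5001)], [(nat_lit 0x1782001), (nat_lit 0xfa7001), (nat_lit 0x178f001)], [(nat_lit 0xfae001), (nat_lit 0x1789001), (nat_lit 0xfaf001)], [(nat_lit 0x1796001), (nat_lit 0xfb7001), (nat_lit 0x24f79017a2002)], [(nat_lit 0x1783001), (nat_lit 0xfa8001), (nat_lit 0x1790001)], [(nat_lit 0xfb0001), (nat_lit 0x178a001), (nat_lit 0xfb1001)], [(nat_lit 0x1797001), (nat_lit 0xfb8001), (nat_lit 0x17a4001)], [(nat_lit 0x2d6b001792002), (nat_lit 0x1795001), (nat_lit 0xfb6001)], [(nat_lit 0x178b001), (nat_lit 0xfb2001), (nat_lit 0x1793001)], [(nat_lit 0xfbb001), (nat_lit 0x1799001), (nat_lit 0x179f001)], [(nat_lit 0x179e001), (nat_lit 0x17ac001), (nat_lit 0xfc0001)], [(nat_lit 0xfbc001), (nat_lit 0x179a001), (nat_lit 0x17a1001)], [(nat_lit 0x17a0001), (nat_lit 0x27973017ad002), (nat_lit 0xfc1001)], [(nat_lit 0x17b0001), (nat_lit 0xfc4001), (nat_lit 0x17b8001)], [(nat_lit 0xfc8001), (nat_lit 0x17b5001), (nat_lit 0xfc9001)], [(nat_lit 0x17bf001), (nat_lit 0xfcf001), (nat_lit 0x17ce001)], [(nat_lit 0xfad001), (nat_lit 0x1788001), (nat_lit 0xfac001)], [(nat_lit 0x1798001), (nat_lit 0xfba001), (nat_lit 0x17a6001)], [(nat_lit 0xfbd001), (nat_lit 0x179b001), (nat_lit 0x17a7001)], [(nat_lit 0x17a8001), (nat_lit 0x17ae001), (nat_lit 0xfc2001)], [(nat_lit 0x17b1001), (nat_lit 0xfc5001), (nat_lit 0x17ba001)], [(nat_lit 0xfca001), (nat_lit 0x17b6001), (nat_lit 0xfcb001)], [(nat_lit 0x17c0001), (nat_lit 0xfd0001), (nat_lit 0x274db017cf002)], [(nat_lit 0x179c001), (nat_lit 0xfbe001), (nat_lit 0x17a9001)], [(nat_lit 0xfbf001), (nat_lit 0x2d28b0179d002), (nat_lit 0x17aa001)], [(nat_lit 0x17ab001), (nat_lit 0x17af001), (nat_lit 0xfc3001)], [(nat_lit 0x17b2001), (nat_lit 0xfc6001), (nat_lit 0x25945017bb002)], [(nat_lit 0xfcc001), (nat_lit 0x17b7001), (nat_lit 0xfcd001)], [(nat_lit 0x11f1d017c1002), (nat_lit 0xfd1001), (nat_lit 0x17d0001)], [(nat_lit 0xfc7001), (nat_lit 0x17b3001), (nat_lit 0x17bc001)], [(nat_lit 0x17bd001), (nat_lit 0x17be001), (nat_lit 0xfce001)], [(nat_lit 0x17c2001), (nat_lit 0xfd2001), (nat_lit 0x17d1001)], [(nat_lit 0x17b4001), (nat_lit 0xfd3001), (nat_lit 0x17c3001)], [(nat_lit 0xfd7001), (nat_lit 0x17c6001), (nat_lit 0xfd8001)], [(nat_lit 0x17cb001), (nat_lit 0xfdd001), (nat_lit 0x17d3001)], [(nat_lit 0x17d5001), (nat_lit 0xfdf001), (nat_lit 0x17e2001)], [(nat_lit 0xfe3001), (nat_lit 0x17d9001), (nat_lit 0xfe4001)], [(nat_lit 0x17e0001), (nat_lit 0xfea001), (nat_lit 0x17e9001)], [(nat_lit 0xfd5001), (nat_lit 0x2d3de017c4002), (nat_lit 0xfd4001)], [(nat_lit 0x2c542017c7002), (nat_lit 0xfd9001), (nat_lit 0x17d2001)], [(nat_lit 0xfda001), (nat_lit 0x2cfea017c8002), (nat_lit 0x17cd001)], [(nat_lit 0x17cc001), (nat_lit 0x17d4001), (nat_lit 0xfde001)], [(nat_lit 0x17d6001), (nat_lit 0xfe0001), (nat_lit 0x17e3001)], [(nat_lit 0xfe5001), (nat_lit 0x17da001), (nat_lit 0xfe6001)], [(nat_lit 0x17e1001), (nat_lit 0xfeb001), (nat_lit 0x17ea001)], [(nat_lit 0xfe1001), (nat_lit 0x17d7001), (nat_lit 0x17df001)], [(nat_lit 0x17de001), (nat_lit 0x17e8001), (nat_lit 0xfe9001)], [(nat_lit 0x17db001), (nat_lit 0xfe7001), (nat_lit 0x17e5001)], [(nat_lit 0xfee001), (nat_lit 0x17ed001), (nat_lit 0x17f3001)], [(nat_lit 0x17f2001), (nat_lit 0x17f9001), (nat_lit 0xff4001)], [(nat_lit 0x17d8001), (nat_lit 0xfe2001), (nat_lit 0x17e4001)], [(nat_lit 0x1803001), (nat_lit 0x1002001), (nat_lit 0x180c001)], [(nat_lit 0xfe8001), (nat_lit 0x17dc001), (nat_lit 0x17e6001)], [(nat_lit 0x17e7001), (nat_lit 0x2cb92017eb002), (nat_lit 0xfec001)], [(nat_lit 0x17ee001), (nat_lit 0xfef001), (nat_lit 0x17f4001)], [(nat_lit 0xff2001), (nat_lit 0x17f0001), (nat_lit 0x17f5001)], [(nat_lit 0x17f6001), (nat_lit 0x17fc001), (nat_lit 0xff7001)], [(nat_lit 0x17dd001), (nat_lit 0xfed001), (nat_lit 0x17ec001)], [(nat_lit 0xff0001), (nat_lit 0x2977d017ef002), (nat_lit 0xff1001)], [(nat_lit 0x17fb001), (nat_lit 0xff6001), (nat_lit 0x1808001)], [(nat_lit 0xff3001), (nat_lit 0x17f1001), (nat_lit 0x17f7001)], [(nat_lit 0x17f8001), (nat_lit 0x17fd001), (nat_lit 0xff8001)], [(nat_lit 0x17fe001), (nat_lit 0xffa001), (nat_lit 0x180a001)], [(nat_lit 0xffe001), (nat_lit 0x1052001), (nat_lit 0xfff001)], [(nat_lit 0x1804001), (nat_lit 0x1003001), (nat_lit 0x180d001)], [(nat_lit 0xffb001), (nat_lit 0x17ff001), (nat_lit 0x1802001)], [(nat_lit 0x1801001), (nat_lit 0x180b001), (nat_lit 0x1001001)], [(nat_lit 0x1810001), (nat_lit 0x100a001), (nat_lit 0x1818001)], [(nat_lit 0x1007001), (nat_lit 0x1006001), (nat_lit 0x1806001)], [(nat_lit 0x100b001), (nat_lit 0x1811001), (nat_lit 0x100c001)], [(nat_lit 0x1814001), (nat_lit 0x100f001), (nat_lit 0x181b001)], [(nat_lit 0x1008001), (nat_lit 0x29fa80180e002), (nat_lit 0x1813001)], [(nat_lit 0x1812001), (nat_lit 0x181a001), (nat_lit 0x100e001)], [(nat_lit 0x1820001), (nat_lit 0x1013001), (nat_lit 0x182d001)], [(nat_lit 0x1015001), (nat_lit 0x1822001), (nat_lit 0x1016001)], [(nat_lit 0x1050001), (nat_lit 0x101b001), (nat_lit 0x1049001)], [(nat_lit 0x1807001), (nat_lit 0x180f001), (nat_lit 0x1009001)], [(nat_lit 0x1815001), (nat_lit 0x1010001), (nat_lit 0x181c001)], [(nat_lit 0x1017001), (nat_lit 0x1823001), (nat_lit 0x1829001)], [(nat_lit 0x1828001), (nat_lit 0x1831001), (nat_lit 0x101c001)], [(nat_lit 0x1011001), (nat_lit 0x1816001), (nat_lit 0x181d001)], [(nat_lit 0x181e001), (nat_lit 0x1825001), (nat_lit 0x1019001)], [(nat_lit 0x1821001), (nat_lit 0x1014001), (nat_lit 0x182e001)], [(nat_lit 0x1018001), (nat_lit 0x1824001), (nat_lit 0x182b001)], [(nat_lit 0x182a001), (nat_lit 0x1832001), (nat_lit 0x101d001)], [(nat_lit 0x182c001), (nat_lit 0x101e001), (nat_lit 0x2956501833002)], [(nat_lit 0x1021001), (nat_lit 0x1837001), (nat_lit 0x1022001)], [(nat_lit 0x183a001), (nat_lit 0x1027001), (nat_lit 0x1841001)], [(nat_lit 0x1838001), (nat_lit 0x1023001), (nat_lit 0x1840001)], [(nat_lit 0x102d001), (nat_lit 0x183f001), (nat_lit 0x1846001)], [(nat_lit 0x1847001), (nat_lit 0x184d001), (nat_lit 0x1033001)], [(nat_lit 0x2b92001835002), (nat_lit 0x1020001), (nat_lit 0x1836001)], [(nat_lit 0x1024001), (nat_lit 0x2dc7c01839002), (nat_lit 0x1025001)], [(nat_lit 0x102c001), (nat_lit 0x183e001), (nat_lit 0x1844001)], [(nat_lit 0x1845001), (nat_lit 0x184c001), (nat_lit 0x1032001)], [(nat_lit 0x184b001), (nat_lit 0x1031001), (nat_lit 0x1f58c01855002)], [(nat_lit 0x1037001), (nat_lit 0x1852001), (nat_lit 0x1036001)], [(nat_lit 0x185a001), (nat_lit 0x103a001), (nat_lit 0x1866001)], [(nat_lit 0x102a001), (nat_lit 0x183c001), (nat_lit 0x1029001)], [(nat_lit 0x1848001), (nat_lit 0x102e001), (nat_lit 0x1854001)], [(nat_lit 0x102f001), (nat_lit 0x1849001), (nat_lit 0x184f001)], [(nat_lit 0x184e001), (nat_lit 0x1856001), (nat_lit 0x1034001)], [(nat_lit 0x1853001), (nat_lit 0x1038001), (nat_lit 0x1858001)], [(nat_lit 0x103b001), (nat_lit 0x185b001), (nat_lit 0x103c001)], [(nat_lit 0x185f001), (nat_lit 0x103f001), (nat_lit 0x1869001)], [(nat_lit 0x1039001), (nat_lit 0x1859001), (nat_lit 0x185e001)], [(nat_lit 0x185d001), (nat_lit 0x1868001), (nat_lit 0x103e001)], [(nat_lit 0x2404f0185c002), (nat_lit 0x103d001), (nat_lit 0x1867001)], [(nat_lit 0x1048001), (nat_lit 0x1870001), (nat_lit 0x1049001)], [(nat_lit 0x1050001), (nat_lit 0x1876001), (nat_lit 0x104f001)], [(nat_lit 0x183d001), (nat_lit 0x102b001), (nat_lit 0x1843001)], [(nat_lit 0x1030001), (nat_lit 0x2d6ad0184a002), (nat_lit 0x1851001)], [(nat_lit 0x1850001), (nat_lit 0x1857001), (nat_lit 0x1035001)], [(nat_lit 0x1040001), (nat_lit 0x1860001), (nat_lit 0x186a001)], [(nat_lit 0x186b001), (nat_lit 0x1873001), (nat_lit 0x104c001)], [(nat_lit 0x1865001), (nat_lit 0x1043001), (nat_lit 0x186d001)], [(nat_lit 0x104a001), (nat_lit 0x1871001), (nat_lit 0x1878001)], [(nat_lit 0x1877001), (nat_lit 0x1052001), (nat_lit 0x1051001)], [(nat_lit 0x1861001), (nat_lit 0x1041001), (nat_lit 0x1862001)], [(nat_lit 0x1044001), (nat_lit 0x186e001), (nat_lit 0x1045001)], [(nat_lit 0x246f701874002), (nat_lit 0x104d001), (nat_lit 0x241e90187b002)], [(nat_lit 0x1863001), (nat_lit 0x1042001), (nat_lit 0x186c001)], [(nat_lit 0x1046001), (nat_lit 0x186f001), (nat_lit 0x1047001)], [(nat_lit 0x1875001), (nat_lit 0x104e001), (nat_lit 0x187c001)], [(nat_lit 0x104b001), (nat_lit 0x1872001), (nat_lit 0x1879001)], [(nat_lit 0x187a001), (nat_lit 0x187d001), (nat_lit 0x1053001)], [(nat_lit 0x1880001), (nat_lit 0x1056001), (nat_lit 0x188c001)], [(nat_lit 0x105a001), (nat_lit 0x1882001), (nat_lit 0x1887001)], [(nat_lit 0x1886001), (nat_lit 0x1890001), (nat_lit 0x105e001)], [(nat_lit 0x1055001), (nat_lit 0x1054001), (nat_lit 0x187e001)], [(nat_lit 0x1057001), (nat_lit 0x2bed701881002), (nat_lit 0x1058001)], [(nat_lit 0x2d23101883002), (nat_lit 0x105c001), (nat_lit 0x188e001)], [(nat_lit 0x2521001884002), (nat_lit 0x188f001), (nat_lit 0x105d001)], [(nat_lit 0x1060001), (nat_lit 0x1888001), (nat_lit 0x105f001)], [(nat_lit 0x188b001), (nat_lit 0x1063001), (nat_lit 0x1892001)], [(nat_lit 0x187f001), (nat_lit 0x1889001), (nat_lit 0x1061001)], [(nat_lit 0x188a001), (nat_lit 0x1062001), (nat_lit 0x1891001)], [(nat_lit 0x1065001), (nat_lit 0x1894001), (nat_lit 0x1066001)], [(nat_lit 0x1897001), (nat_lit 0x1069001), (nat_lit 0x189f001)], [(nat_lit 0x1067001), (nat_lit 0x1895001), (nat_lit 0x1899001)], [(nat_lit 0x1898001), (nat_lit 0x18a0001), (nat_lit 0x106a001)], [(nat_lit 0x106b001), (nat_lit 0x189a001), (nat_lit 0x18a1001)], [(nat_lit 0x18a2001), (nat_lit 0x18ad001), (nat_lit 0x1075001)], [(nat_lit 0x2e55401896002), (nat_lit 0x1068001), (nat_lit 0x189e001)], [(nat_lit 0x106d001), (nat_lit 0x2c3e50189d002), (nat_lit 0x18a5001)], [(nat_lit 0x18a6001), (nat_lit 0x18af001), (nat_lit 0x1077001)], [(nat_lit 0x1073001), (nat_lit 0x18ac001), (nat_lit 0x1074001)], [(nat_lit 0x18b8001), (nat_lit 0x107c001), (nat_lit 0x18c7001)], [(nat_lit 0x106c001), (nat_lit 0x189b001), (nat_lit 0x18a3001)], [(nat_lit 0x18a4001), (nat_lit 0x18ae001), (nat_lit 0x1076001)], [(nat_lit 0x18a7001), (nat_lit 0x106e001), (nat_lit 0x18b3001)], [(nat_lit 0x1072001), (nat_lit 0x18ab001), (nat_lit 0x18b4001)], [(nat_lit 0x18b5001), (nat_lit 0x18b7001), (nat_lit 0x107b001)], [(nat_lit 0x189c001), (nat_lit 0x1070001), (nat_lit 0x18a9001)], [(nat_lit 0x1079001), (nat_lit 0x18b0001), (nat_lit 0x1078001)], [(nat_lit 0x18b9001), (nat_lit 0x107d001), (nat_lit 0x18c8001)], [(nat_lit 0x107e001), (nat_lit 0x18ba001), (nat_lit 0x18bf001)], [(nat_lit 0x18be001), (nat_lit 0x10da001), (nat_lit 0x1083001)], [(nat_lit 0x18bb001), (nat_lit 0x107f001), (nat_lit 0x18c9001)], [(nat_lit 0x1085001), (nat_lit 0x18c0001), (nat_lit 0x1084001)], [(nat_lit 0x18c4001), (nat_lit 0x108a001), (nat_lit 0x18cb001)], [(nat_lit 0x1071001), (nat_lit 0x18aa001), (nat_lit 0x18b2001)], [(nat_lit 0x18b1001), (nat_lit 0x18b6001), (nat_lit 0x107a001)], [(nat_lit 0x18c5001), (nat_lit 0x108b001), (nat_lit 0x18cc001)], [(nat_lit 0x18d1001), (nat_lit 0x1090001), (nat_lit 0x20f4d018dd002)], [(nat_lit 0x1096001), (nat_lit 0x18d9001), (nat_lit 0x18e2001)], [(nat_lit 0x18e3001), (nat_lit 0x18eb001), (nat_lit 0x10a1001)], [(nat_lit 0x1082001), (nat_lit 0x1081001), (nat_lit 0x18bc001)], [(nat_lit 0x1089001), (nat_lit 0x18c3001), (nat_lit 0x1088001)], [(nat_lit 0x18c6001), (nat_lit 0x108c001), (nat_lit 0x18cd001)], [(nat_lit 0x108d001), (nat_lit 0x18ce001), (nat_lit 0x18d4001)], [(nat_lit 0x18d3001), (nat_lit 0x18de001), (nat_lit 0x1093001)], [(nat_lit 0x18d0001), (nat_lit 0x108f001), (nat_lit 0x18dc001)], [(nat_lit 0x1091001), (nat_lit 0x18d2001), (nat_lit 0x1092001)], [(nat_lit 0x18d7001), (nat_lit 0x1095001), (nat_lit 0x18e0001)], [(nat_lit 0x18bd001), (nat_lit 0x18da001), (nat_lit 0x1097001)], [(nat_lit 0x2c2e4018e5002), (nat_lit 0x109a001), (nat_lit 0x2b89c018f2002)], [(nat_lit 0x10a0001), (nat_lit 0x18ea001), (nat_lit 0x18ef001)], [(nat_lit 0x18ee001), (nat_lit 0x18f7001), (nat_lit 0x10a5001)], [(nat_lit 0x1817001), (nat_lit 0x1098001), (nat_lit 0x18db001)], [(nat_lit 0x109c001), (nat_lit 0x18e8001), (nat_lit 0x109d001)], [(nat_lit 0x18ec001), (nat_lit 0x10a3001), (nat_lit 0x18f4001)], [(nat_lit 0x18e4001), (nat_lit 0x1099001), (nat_lit 0x18f1001)], [(nat_lit 0x109e001), (nat_lit 0x18e9001), (nat_lit 0x109f001)], [(nat_lit 0x18ed001), (nat_lit 0x10a4001), (nat_lit 0x18f6001)], [(nat_lit 0x10a9001), (nat_lit 0x18f9001), (nat_lit 0x10a8001)], [(nat_lit 0x18fc001), (nat_lit 0x10ae001), (nat_lit 0x1902001)], [(nat_lit 0x10b1001), (nat_lit 0x18ff001), (nat_lit 0x1905001)], [(nat_lit 0x1906001), (nat_lit 0x1911001), (nat_lit 0x10be001)], [(nat_lit 0x2be920190a002), (nat_lit 0x10b4001), (nat_lit 0x2be9301916002)], [(nat_lit 0x10b8001), (nat_lit 0x190d001), (nat_lit 0x10b9001)], [(nat_lit 0x1914001), (nat_lit 0x10c1001), (nat_lit 0x191b001)], [(nat_lit 0x10bc001), (nat_lit 0x190f001), (nat_lit 0x1918001)], [(nat_lit 0x1919001), (nat_lit 0x1e8ba0191d002), (nat_lit 0x10c3001)], [(nat_lit 0x1921001), (nat_lit 0x10c6001), (nat_lit 0x192d001)], [(nat_lit 0x18fa001), (nat_lit 0x10aa001), (nat_lit 0x1901001)], [(nat_lit 0x10b2001), (nat_lit 0x1900001), (nat_lit 0x1907001)], [(nat_lit 0x1908001), (nat_lit 0x1912001), (nat_lit 0x10bf001)], [(nat_lit 0x190b001), (nat_lit 0x10b5001), (nat_lit 0x2d5bb01917002)], [(nat_lit 0x10ba001), (nat_lit 0x190e001), (nat_lit 0x10bb001)], [(nat_lit 0x191c001), (nat_lit 0x10c2001), (nat_lit 0x192c001)], [(nat_lit 0x10c4001), (nat_lit 0x191e001), (nat_lit 0x2215f01925002)], [(nat_lit 0x2215f01924002), (nat_lit 0x192f001), (nat_lit 0x10ca001)], [(nat_lit 0x1922001), (nat_lit 0x10c7001), (nat_lit 0x192e001)], [(nat_lit 0x191f001), (nat_lit 0x10c5001), (nat_lit 0x1920001)], [(nat_lit 0x10c8001), (nat_lit 0x2a64a01923002), (nat_lit 0x10c9001)], [(nat_lit 0x1926001), (nat_lit 0x10cb001), (nat_lit 0x1930001)], [(nat_lit 0x10cc001), (nat_lit 0x1927001), (nat_lit 0x1931001)], [(nat_lit 0x1932001), (nat_lit 0x10da001), (nat_lit 0x10d9001)], [(nat_lit 0x1928001), (nat_lit 0x10cd001), (nat_lit 0x1933001)], [(nat_lit 0x10d4001), (nat_lit 0x193b001), (nat_lit 0x10d5001)], [(nat_lit 0x1941001), (nat_lit 0x10dd001), (nat_lit 0x1945001)], [(nat_lit 0x10ce001), (nat_lit 0x1929001), (nat_lit 0x2e62a01934002)], [(nat_lit 0x2e62a01935002), (nat_lit 0x193e001), (nat_lit 0x10db001)], [(nat_lit 0x192b001), (nat_lit 0x10cf001), (nat_lit 0x1936001)], [(nat_lit 0x10d6001), (nat_lit 0x193c001), (nat_lit 0x1943001)], [(nat_lit 0x1942001), (nat_lit 0x1946001), (nat_lit 0x10de001)], [(nat_lit 0x10d1001), (nat_lit 0x10d0001), (nat_lit 0x1937001)], [(nat_lit 0x2be5501947002), (nat_lit 0x10df001), (nat_lit 0x1956001)], [(nat_lit 0x10d2001), (nat_lit 0x1939001), (nat_lit 0x1940001)], [(nat_lit 0x193f001), (nat_lit 0x1944001), (nat_lit 0x10dc001)], [(nat_lit 0x194a001), (nat_lit 0x10e2001), (nat_lit 0x1958001)], [(nat_lit 0x10e7001), (nat_lit 0x194d001), (nat_lit 0x10e6001)], [(nat_lit 0x1951001), (nat_lit 0x10ec001), (nat_lit 0x195b001)], [(nat_lit 0x1938001), (nat_lit 0x193a001), (nat_lit 0x10d3001)], [(nat_lit 0x2cd7801948002), (nat_lit 0x10e0001), (nat_lit 0x1957001)], [(nat_lit 0x172c001), (nat_lit 0x10e1001), (nat_lit 0x1949001)], [(nat_lit 0x10e4001), (nat_lit 0x194c001), (nat_lit 0x10e5001)], [(nat_lit 0x1950001), (nat_lit 0x10eb001), (nat_lit 0x195a001)], [(nat_lit 0x192a001), (nat_lit 0x10e3001), (nat_lit 0x194b001)], [(nat_lit 0x10ea001), (nat_lit 0x2e0af0194f002), (nat_lit 0x10e9001)], [(nat_lit 0x2e05401952002), (nat_lit 0x10ed001), (nat_lit 0x2e0530195c002)], [(nat_lit 0x10f1001), (nat_lit 0x2405601955002), (nat_lit 0x195e001)], [(nat_lit 0x195f001), (nat_lit 0x1962001), (nat_lit 0x10f4001)], [(nat_lit 0x1965001), (nat_lit 0x10f7001), (nat_lit 0x196b001)], [(nat_lit 0x10fd001), (nat_lit 0x1973001), (nat_lit 0x10fe001)], [(nat_lit 0x197c001), (nat_lit 0x1108001), (nat_lit 0x197f001)], [(nat_lit 0x10ef001), (nat_lit 0x1953001), (nat_lit 0x10ee001)], [(nat_lit 0x2c04b01960002), (nat_lit 0x10f2001), (nat_lit 0x1968001)], [(nat_lit 0x10f3001), (nat_lit 0x2dbc401961002), (nat_lit 0x1964001)], [(nat_lit 0x1963001), (nat_lit 0x196a001), (nat_lit 0x10f6001)], [(nat_lit 0x10ff001), (nat_lit 0x1974001), (nat_lit 0x1100001)], [(nat_lit 0x197d001), (nat_lit 0x1109001), (nat_lit 0x1980001)], [(nat_lit 0x10f9001), (nat_lit 0x1967001), (nat_lit 0x196d001)], [(nat_lit 0x196e001), (nat_lit 0x1976001), (nat_lit 0x1103001)], [(nat_lit 0x1982001), (nat_lit 0x110b001), (nat_lit 0x1994001)], [(nat_lit 0x1954001), (nat_lit 0x10f0001), (nat_lit 0x195d001)], [(nat_lit 0x10fa001), (nat_lit 0x196f001), (nat_lit 0x1978001)], [(nat_lit 0x1977001), (nat_lit 0x197e001), (nat_lit 0x1104001)], [(nat_lit 0x1983001), (nat_lit 0x110c001), (nat_lit 0x1995001)], [(nat_lit 0x110e001), (nat_lit 0x1985001), (nat_lit 0x1987001)], [(nat_lit 0x1986001), (nat_lit 0x1997001), (nat_lit 0x110f001)], [(nat_lit 0x1970001), (nat_lit 0x10fb001), (nat_lit 0x1971001)], [(nat_lit 0x1106001), (nat_lit 0x1979001), (nat_lit 0x1105001)], [(nat_lit 0x1984001), (nat_lit 0x110d001), (nat_lit 0x1996001)], [(nat_lit 0x10fc001), (nat_lit 0x1972001), (nat_lit 0x197b001)], [(nat_lit 0x197a001), (nat_lit 0x1150001), (nat_lit 0x1107001)], [(nat_lit 0x1988001), (nat_lit 0x1110001), (nat_lit 0x1998001)], [(nat_lit 0x1119001), (nat_lit 0x1991001), (nat_lit 0x111a001)], [(nat_lit 0x19a9001), (nat_lit 0x1124001), (nat_lit 0x19ab001)], [(nat_lit 0x1111001), (nat_lit 0x1989001), (nat_lit 0x1999001)], [(nat_lit 0x199a001), (nat_lit 0x19a4001), (nat_lit 0x111e001)], [(nat_lit 0x29a750198a002), (nat_lit 0x1112001), (nat_lit 0x246a50199b002)], [(nat_lit 0x111b001), (nat_lit 0x1992001), (nat_lit 0x111c001)], [(nat_lit 0x19ac001), (nat_lit 0x1125001), (nat_lit 0x19bf001)], [(nat_lit 0x1113001), (nat_lit 0x29f610198b002), (nat_lit 0x2dff20199c002)], [(nat_lit 0x2dff20199d002), (nat_lit 0x2b3db019a5002), (nat_lit 0x111f001)], [(nat_lit 0x19a3001), (nat_lit 0x111d001), (nat_lit 0x19aa001)], [(nat_lit 0x1115001), (nat_lit 0x198c001), (nat_lit 0x1114001)], [(nat_lit 0x19ad001), (nat_lit 0x1126001), (nat_lit 0x19c0001)], [(nat_lit 0x1117001), (nat_lit 0x198e001), (nat_lit 0x199f001)], [(nat_lit 0x19a0001), (nat_lit 0x19a7001), (nat_lit 0x1122001)], [(nat_lit 0x19b0001), (nat_lit 0x1129001), (nat_lit 0x29021019c3002)], [(nat_lit 0x112a001), (nat_lit 0x19b1001), (nat_lit 0x112b001)], [(nat_lit 0x19b2001), (nat_lit 0x112c001), (nat_lit 0x19c4001)], [(nat_lit 0x198d001), (nat_lit 0x1116001), (nat_lit 0x199e001)], [(nat_lit 0x1121001), (nat_lit 0x19a6001), (nat_lit 0x1120001)], [(nat_lit 0x19ae001), (nat_lit 0x1127001), (nat_lit 0x19c1001)], [(nat_lit 0x1118001), (nat_lit 0x2d26a0198f002), (nat_lit 0x2dd68019a1002)], [(nat_lit 0x2dd68019a2002), (nat_lit 0x19a8001), (nat_lit 0x1123001)], [(nat_lit 0x2715a019af002), (nat_lit 0x1128001), (nat_lit 0x19c2001)], [(nat_lit 0x112d001), (nat_lit 0x19b4001), (nat_lit 0x19c6001)], [(nat_lit 0x19c7001), (nat_lit 0x19cf001), (nat_lit 0x113c001)], [(nat_lit 0x112f001), (nat_lit 0x19b6001), (nat_lit 0x2d570019c8002)], [(nat_lit 0x2d570019c9002), (nat_lit 0x19d0001), (nat_lit 0x113d001)], [(nat_lit 0x19b7001), (nat_lit 0x1130001), (nat_lit 0x19ca001)], [(nat_lit 0x1137001), (nat_lit 0x19bd001), (nat_lit 0x1138001)], [(nat_lit 0x19d2001), (nat_lit 0x113f001), (nat_lit 0x19d7001)], [(nat_lit 0x1132001), (nat_lit 0x2116c019b8002), (nat_lit 0x1131001)], [(nat_lit 0x2ecff019be002), (nat_lit 0x1139001), (nat_lit 0x1d691019cd002)], [(nat_lit 0x1142001), (nat_lit 0x2ebaa019db002), (nat_lit 0x19e3001)], [(nat_lit 0x19e2001), (nat_lit 0x19ed001), (nat_lit 0x1149001)], [(nat_lit 0x19b9001), (nat_lit 0x1133001), (nat_lit 0x19cb001)], [(nat_lit 0x113a001), (nat_lit 0x19ce001), (nat_lit 0x113b001)], [(nat_lit 0x19d3001), (nat_lit 0x1140001), (nat_lit 0x19d8001)], [(nat_lit 0x2e6a8019bb002), (nat_lit 0x1134001), (nat_lit 0x19cc001)], [(nat_lit 0x1143001), (nat_lit 0x21385019dc002), (nat_lit 0x19e5001)], [(nat_lit 0x19e4001), (nat_lit 0x19ee001), (nat_lit 0x114a001)], [(nat_lit 0x19df001), (nat_lit 0x1146001), (nat_lit 0x1fe1b019ec002)], [(nat_lit 0x114e001), (nat_lit 0x19e7001), (nat_lit 0x114d001)], [(nat_lit 0x19f2001), (nat_lit 0x1155001), (nat_lit 0x19f7001)], [(nat_lit 0x1141001), (nat_lit 0x19d4001), (nat_lit 0x19d9001)], [(nat_lit 0x19da001), (nat_lit 0x19e1001), (nat_lit 0x1148001)], [(nat_lit 0x19dd001), (nat_lit 0x1144001), (nat_lit 0x19eb001)], [(nat_lit 0x19d5001), (nat_lit 0x1145001), (nat_lit 0x19de001)], [(nat_lit 0x114c001), (nat_lit 0x19e6001), (nat_lit 0x114b001)], [(nat_lit 0x19f0001), (nat_lit 0x1152001), (nat_lit 0x19f6001)], [(nat_lit 0x1147001), (nat_lit 0x19e0001), (nat_lit 0x19e9001)], [(nat_lit 0x19e8001), (nat_lit 0x1150001), (nat_lit 0x114f001)], [(nat_lit 0x11f20019ea002), (nat_lit 0x1151001), (nat_lit 0x19ef001)], [(nat_lit 0x1154001), (nat_lit 0x19f1001), (nat_lit 0x1153001)], [(nat_lit 0x19f3001), (nat_lit 0x1156001), (nat_lit 0x1157001)], [(nat_lit 0x115b001), (nat_lit 0x19fb001), (nat_lit 0x1a01001)], [(nat_lit 0x1a00001), (nat_lit 0x1a04001), (nat_lit 0x115f001)], [(nat_lit 0x1a02001), (nat_lit 0x1160001), (nat_lit 0x1a05001)], [(nat_lit 0x1163001), (nat_lit 0x1a08001), (nat_lit 0x1a0e001)], [(nat_lit 0x1a0d001), (nat_lit 0x2df2901a15002), (nat_lit 0x1168001)], [(nat_lit 0x19fc001), (nat_lit 0x1161001), (nat_lit 0x1a06001)], [(nat_lit 0x1164001), (nat_lit 0x1a09001), (nat_lit 0x1165001)], [(nat_lit 0x2ddf901a0f002), (nat_lit 0x1169001), (nat_lit 0x1a16001)], [(nat_lit 0x1162001), (nat_lit 0x1a07001), (nat_lit 0x1a0c001)], [(nat_lit 0x1a0b001), (nat_lit 0x2dcae01a14002), (nat_lit 0x1167001)], [(nat_lit 0x1a10001), (nat_lit 0x116a001), (nat_lit 0x1a17001)], [(nat_lit 0x116e001), (nat_lit 0x11b2001), (nat_lit 0x116f001)], [(nat_lit 0x2aed601a19002), (nat_lit 0x1172001), (nat_lit 0x2aed501a1f002)], [(nat_lit 0x116c001), (nat_lit 0x116b001), (nat_lit 0x1a11001)], [(nat_lit 0x1171001), (nat_lit 0x1a18001), (nat_lit 0x1170001)], [(nat_lit 0x1a1a001), (nat_lit 0x1173001), (nat_lit 0x1a20001)], [(nat_lit 0x1175001), (nat_lit 0x1a1c001), (nat_lit 0x1a22001)], [(nat_lit 0x1a23001), (nat_lit 0x2ccbf01a28002), (nat_lit 0x117a001)], [(nat_lit 0x2e64f01a1e002), (nat_lit 0x1177001), (nat_lit 0x1a26001)], [(nat_lit 0x1178001), (nat_lit 0x1a27001), (nat_lit 0x1179001)], [(nat_lit 0x11b0001), (nat_lit 0x117c001), (nat_lit 0x11a7001)], [(nat_lit 0x1a12001), (nat_lit 0x2c31001a13002), (nat_lit 0x116d001)], [(nat_lit 0x1a2a001), (nat_lit 0x117d001), (nat_lit 0x1a2e001)], [(nat_lit 0x1183001), (nat_lit 0x1a33001), (nat_lit 0x1184001)], [(nat_lit 0x117f001), (nat_lit 0x1a2c001), (nat_lit 0x1a30001)], [(nat_lit 0x1a31001), (nat_lit 0x1a35001), (nat_lit 0x1187001)], [(nat_lit 0x118c001), (nat_lit 0x1a39001), (nat_lit 0x2df2601a3e002)], [(nat_lit 0x2df2601a3d002), (nat_lit 0x1a46001), (nat_lit 0x1191001)], [(nat_lit 0x1a2b001), (nat_lit 0x117e001), (nat_lit 0x1a2f001)], [(nat_lit 0x1186001), (nat_lit 0x2e89801a34002), (nat_lit 0x1185001)], [(nat_lit 0x1a37001), (nat_lit 0x118a001), (nat_lit 0x1a41001)], [(nat_lit 0x1a38001), (nat_lit 0x118b001), (nat_lit 0x1a42001)], [(nat_lit 0x118d001), (nat_lit 0x1a3a001), (nat_lit 0x1a43001)], [(nat_lit 0x1a44001), (nat_lit 0x1a47001), (nat_lit 0x1192001)], [(nat_lit 0x1a3b001), (nat_lit 0x118e001), (nat_lit 0x1a45001)], [(nat_lit 0x1194001), (nat_lit 0x1a48001), (nat_lit 0x1193001)], [(nat_lit 0x2ca4901a49002), (nat_lit 0x1195001), (nat_lit 0x2c07f01a57002)], [(nat_lit 0x1190001), (nat_lit 0x2ec6101a3c002), (nat_lit 0x118f001)], [(nat_lit 0x1a4a001), (nat_lit 0x1196001), (nat_lit 0x1a58001)], [(nat_lit 0x1198001), (nat_lit 0x1a4c001), (nat_lit 0x1a54001)], [(nat_lit 0x1a53001), (nat_lit 0x1a5d001), (nat_lit 0x119f001)], [(nat_lit 0x1a4b001), (nat_lit 0x1197001), (nat_lit 0x1a59001)], [(nat_lit 0x119d001), (nat_lit 0x1a52001), (nat_lit 0x119e001)], [(nat_lit 0x1a61001), (nat_lit 0x11a3001), (nat_lit 0x1a6a001)], [(nat_lit 0x1199001), (nat_lit 0x2e9c601a4d002), (nat_lit 0x1a56001)], [(nat_lit 0x1a55001), (nat_lit 0x1a5e001), (nat_lit 0x11a0001)], [(nat_lit 0x1a62001), (nat_lit 0x11a4001), (nat_lit 0x1a6b001)], [(nat_lit 0x11a6001), (nat_lit 0x1a63001), (nat_lit 0x11a7001)], [(nat_lit 0x11b0001), (nat_lit 0x1a67001), (nat_lit 0x11af001)], [(nat_lit 0x1a4e001), (nat_lit 0x119a001), (nat_lit 0x1a5a001)], [(nat_lit 0x119c001), (nat_lit 0x2ec7501a51002), (nat_lit 0x1a5b001)], [(nat_lit 0x1a5c001), (nat_lit 0x1a60001), (nat_lit 0x11a2001)], [(nat_lit 0x2ec7701a64002), (nat_lit 0x11a9001), (nat_lit 0x2ec7801a6c002)], [(nat_lit 0x11ad001), (nat_lit 0x1a66001), (nat_lit 0x11ae001)], [(nat_lit 0x2e34601a70002), (nat_lit 0x11b4001), (nat_lit 0x1a7d001)], [(nat_lit 0x119b001), (nat_lit 0x126b001), (nat_lit 0x1a4f001)], [(nat_lit 0x1a50001), (nat_lit 0x1a5f001), (nat_lit 0x11a1001)], [(nat_lit 0x2d8ce01a68002), (nat_lit 0x11b2001), (nat_lit 0x11b1001)], [(nat_lit 0x11aa001), (nat_lit 0x1a65001), (nat_lit 0x1a6d001)], [(nat_lit 0x1a6e001), (nat_lit 0x1a6f001), (nat_lit 0x11b3001)], [(nat_lit 0x1a71001), (nat_lit 0x11b5001), (nat_lit 0x1a7e001)], [(nat_lit 0x11b7001), (nat_lit 0x1a73001), (nat_lit 0x1a7a001)], [(nat_lit 0x1a79001), (nat_lit 0x1a82001), (nat_lit 0x11be001)], [(nat_lit 0x1a75001), (nat_lit 0x11b9001), (nat_lit 0x1a80001)], [(nat_lit 0x11bc001), (nat_lit 0x1a78001), (nat_lit 0x11bd001)], [(nat_lit 0x1a7b001), (nat_lit 0x11c0001), (nat_lit 0x1a84001)], [(nat_lit 0x1a88001), (nat_lit 0x11c3001), (nat_lit 0x1a92001)], [(nat_lit 0x11c7001), (nat_lit 0x1a8c001), (nat_lit 0x11c8001)], [(nat_lit 0x1a9c001), (nat_lit 0x11cf001), (nat_lit 0x1aac001)], [(nat_lit 0x11c5001), (nat_lit 0x1a8a001), (nat_lit 0x1a94001)], [(nat_lit 0x1a95001), (nat_lit 0x1a9b001), (nat_lit 0x11ce001)], [(nat_lit 0x1a8b001), (nat_lit 0x11c6001), (nat_lit 0x1a96001)], [(nat_lit 0x11cb001), (nat_lit 0x2e9c701a8e002), (nat_lit 0x1a97001)], [(nat_lit 0x1a98001), (nat_lit 0x1a9f001), (nat_lit 0x11d1001)], [(nat_lit 0x1a77001), (nat_lit 0x11bb001), (nat_lit 0x1a81001)], [(nat_lit 0x11c2001), (nat_lit 0x1a87001), (nat_lit 0x1a91001)], [(nat_lit 0x1a90001), (nat_lit 0x1a9a001), (nat_lit 0x11cd001)], [(nat_lit 0x1a89001), (nat_lit 0x11c4001), (nat_lit 0x1a93001)], [(nat_lit 0x11c9001), (nat_lit 0x1a8d001), (nat_lit 0x11ca001)], [(nat_lit 0x1a9d001), (nat_lit 0x11d0001), (nat_lit 0x1aad001)], [(nat_lit 0x11d2001), (nat_lit 0x140b001), (nat_lit 0x1aa0001)], [(nat_lit 0x1aa1001), (nat_lit 0x1aa9001), (nat_lit 0x11dc001)], [(nat_lit 0x1aa6001), (nat_lit 0x11d7001), (nat_lit 0x1ab0001)], [(nat_lit 0x11e0001), (nat_lit 0x1ab4001), (nat_lit 0x1abe001)], [(nat_lit 0x1abd001), (nat_lit 0x1acb001), (nat_lit 0x11ea001)], [(nat_lit 0x11d3001), (nat_lit 0x1aa2001), (nat_lit 0x1aab001)], [(nat_lit 0x1aaa001), (nat_lit 0x1ab1001), (nat_lit 0x11dd001)], [(nat_lit 0x1aa5001), (nat_lit 0x11d6001), (nat_lit 0x1aaf001)], [(nat_lit 0x11da001), (nat_lit 0x1aa8001), (nat_lit 0x11db001)], [(nat_lit 0x1ab3001), (nat_lit 0x11df001), (nat_lit 0x1ac5001)], [(nat_lit 0x11e1001), (nat_lit 0x1ab5001), (nat_lit 0x1d69401ac0002)], [(nat_lit 0x1ab9001), (nat_lit 0x11e5001), (nat_lit 0x1ac7001)], [(nat_lit 0x11ed001), (nat_lit 0x1ac3001), (nat_lit 0x1ace001)], [(nat_lit 0x1acf001), (nat_lit 0x1ad7001), (nat_lit 0x11f5001)], [(nat_lit 0x11d5001), (nat_lit 0x11d4001), (nat_lit 0x225ac01aa3002)], [(nat_lit 0x11d8001), (nat_lit 0x1aa7001), (nat_lit 0x11d9001)], [(nat_lit 0x1ab2001), (nat_lit 0x11de001), (nat_lit 0x1ac4001)], [(nat_lit 0x225ac01aa4002), (nat_lit 0x1ab6001), (nat_lit 0x11e2001)], [(nat_lit 0x23e0c01aba002), (nat_lit 0x11e6001), (nat_lit 0x23e0b01ac8002)], [(nat_lit 0x11ee001), (nat_lit 0x1ad0001), (nat_lit 0x1ad8001)], [(nat_lit 0x1ad9001), (nat_lit 0x1ae3001), (nat_lit 0x11f6001)], [(nat_lit 0x1ab7001), (nat_lit 0x11e3001), (nat_lit 0x1ac6001)], [(nat_lit 0x11e7001), (nat_lit 0x24f6401abb002), (nat_lit 0x11e8001)], [(nat_lit 0x11e4001), (nat_lit 0x1ab8001), (nat_lit 0x2476701ac2002)], [(nat_lit 0x2476701ac1002), (nat_lit 0x1acd001), (nat_lit 0x11ec001)], [(nat_lit 0x240e901abc002), (nat_lit 0x11e9001), (nat_lit 0x1ac9001)], [(nat_lit 0x11ef001), (nat_lit 0x1ad1001), (nat_lit 0x1ada001)], [(nat_lit 0x1adb001), (nat_lit 0x2e8aa01ae4002), (nat_lit 0x11f7001)], [(nat_lit 0x2780401add002), (nat_lit 0x1ae5001), (nat_lit 0x11f8001)], [(nat_lit 0x11fa001), (nat_lit 0x1ae6001), (nat_lit 0x11f9001)], [(nat_lit 0x1aeb001), (nat_lit 0x1201001), (nat_lit 0x1aee001)], [(nat_lit 0x11f2001), (nat_lit 0x1ad3001), (nat_lit 0x1adf001)], [(nat_lit 0x1ae0001), (nat_lit 0x2780d01ae7002), (nat_lit 0x11fb001)], [(nat_lit 0x1ae9001), (nat_lit 0x11ff001), (nat_lit 0x1aec001)], [(nat_lit 0x1ad4001), (nat_lit 0x11f3001), (nat_lit 0x1ad5001)], [(nat_lit 0x11fd001), (nat_lit 0x2ebd401ae8002), (nat_lit 0x11fc001)], [(nat_lit 0x1aef001), (nat_lit 0x1204001), (nat_lit 0x2ca7401af1002)], [(nat_lit 0x11f4001), (nat_lit 0x1ad6001), (nat_lit 0x1ae1001)], [(nat_lit 0x1ae2001), (nat_lit 0x2738001225002), (nat_lit 0x11fe001)], [(nat_lit 0x1aea001), (nat_lit 0x1200001), (nat_lit 0x1aed001)], [(nat_lit 0x1203001), (nat_lit 0x26f2701307002), (nat_lit 0x1202001)], [(nat_lit 0x1af0001), (nat_lit 0x1205001), (nat_lit 0x1af2001)], [(nat_lit 0x1b19001), (nat_lit 0x1227001), (nat_lit 0x1b23001)], [(nat_lit 0x1228001), (nat_lit 0x1b1a001), (nat_lit 0x1b20001)], [(nat_lit 0x1b1f001), (nat_lit 0x1b27001), (nat_lit 0x122d001)], [(nat_lit 0x122c001), (nat_lit 0x1b1e001), (nat_lit 0x1b25001)], [(nat_lit 0x1b26001), (nat_lit 0x1b28001), (nat_lit 0x1230001)], [(nat_lit 0x1b2a001), (nat_lit 0x1232001), (nat_lit 0x1b33001)], [(nat_lit 0x1235001), (nat_lit 0x2c6cb01b2c002), (nat_lit 0x1236001)], [(nat_lit 0x1b2f001), (nat_lit 0x1239001), (nat_lit 0x1b36001)], [(nat_lit 0x2d3f001b1d002), (nat_lit 0x1b29001), (nat_lit 0x1231001)], [(nat_lit 0x1b2d001), (nat_lit 0x1237001), (nat_lit 0x1b35001)], [(nat_lit 0x123b001), (nat_lit 0x1b30001), (nat_lit 0x123a001)], [(nat_lit 0x28d9401b3a002), (nat_lit 0x123f001), (nat_lit 0x28d9501b49002)], [(nat_lit 0x1238001), (nat_lit 0x1b2e001), (nat_lit 0x1b32001)], [(nat_lit 0x1b31001), (nat_lit 0x1b37001), (nat_lit 0x123c001)], [(nat_lit 0x1b39001), (nat_lit 0x123e001), (nat_lit 0x1b48001)], [(nat_lit 0x1240001), (nat_lit 0x1b3b001), (nat_lit 0x1b44001)], [(nat_lit 0x1b43001), (nat_lit 0x2eb6e01b50002), (nat_lit 0x1247001)], [(nat_lit 0x1b3c001), (nat_lit 0x1241001), (nat_lit 0x1b4a001)], [(nat_lit 0x1244001), (nat_lit 0x1b40001), (nat_lit 0x1b4b001)], [(nat_lit 0x1b4c001), (nat_lit 0x1b52001), (nat_lit 0x124b001)], [(nat_lit 0x1b56001), (nat_lit 0x124f001), (nat_lit 0x1b63001)], [(nat_lit 0x1258001), (nat_lit 0x1b5f001), (nat_lit 0x1257001)], [(nat_lit 0x1b6b001), (nat_lit 0x125f001), (nat_lit 0x1b75001)], [(nat_lit 0x1242001), (nat_lit 0x1b3d001), (nat_lit 0x1b46001)], [(nat_lit 0x1b45001), (nat_lit 0x1b51001), (nat_lit 0x1248001)], [(nat_lit 0x1b41001), (nat_lit 0x1245001), (nat_lit 0x1b4d001)], [(nat_lit 0x124e001), (nat_lit 0x1b55001), (nat_lit 0x1b5e001)], [(nat_lit 0x1b5d001), (nat_lit 0x2837c01b67002), (nat_lit 0x1256001)], [(nat_lit 0x1b3e001), (nat_lit 0x1243001), (nat_lit 0x1b3f001)], [(nat_lit 0x124a001), (nat_lit 0x1b47001), (nat_lit 0x1249001)], [(nat_lit 0x1b54001), (nat_lit 0x124d001), (nat_lit 0x1b62001)], [(nat_lit 0x1246001), (nat_lit 0x1b42001), (nat_lit 0x2dfc701b4e002)], [(nat_lit 0x2dfc701b4f002), (nat_lit 0x2e45301b53002), (nat_lit 0x124c001)], [(nat_lit 0x1251001), (nat_lit 0x1b58001), (nat_lit 0x1b61001)], [(nat_lit 0x1b60001), (nat_lit 0x1b68001), (nat_lit 0x1259001)], [(nat_lit 0x1b59001), (nat_lit 0x1252001), (nat_lit 0x1b65001)], [(nat_lit 0x125b001), (nat_lit 0x1b69001), (nat_lit 0x125a001)], [(nat_lit 0x2e5f201b6d002), (nat_lit 0x1261001), (nat_lit 0x2e5f301b77002)], [(nat_lit 0x1255001), (nat_lit 0x2eb2801b5c002), (nat_lit 0x2eb2901b66002)], [(nat_lit 0x2e83f01b6f002), (nat_lit 0x1263001), (nat_lit 0x2e84001b79002)], [(nat_lit 0x1254001), (nat_lit 0x1253001), (nat_lit 0x1b5a001)], [(nat_lit 0x125d001), (nat_lit 0x1b6a001), (nat_lit 0x125c001)], [(nat_lit 0x1b6e001), (nat_lit 0x1262001), (nat_lit 0x1b78001)], [(nat_lit 0x1264001), (nat_lit 0x1b70001), (nat_lit 0x1b73001)], [(nat_lit 0x1b72001), (nat_lit 0x1b7a001), (nat_lit 0x1266001)], [(nat_lit 0x1b5b001), (nat_lit 0x1b7c001), (nat_lit 0x1269001)], [(nat_lit 0x1b80001), (nat_lit 0x126d001), (nat_lit 0x1b8c001)], [(nat_lit 0x1274001), (nat_lit 0x1b85001), (nat_lit 0x1b8b001)], [(nat_lit 0x1b8a001), (nat_lit 0x1b91001), (nat_lit 0x1278001)], [(nat_lit 0x126a001), (nat_lit 0x126b001), (nat_lit 0x1b7d001)], [(nat_lit 0x1b7e001), (nat_lit 0x1b86001), (nat_lit 0x1275001)], [(nat_lit 0x1b81001), (nat_lit 0x126e001), (nat_lit 0x1b8d001)], [(nat_lit 0x1279001), (nat_lit 0x1b92001), (nat_lit 0x1b99001)], [(nat_lit 0x1b98001), (nat_lit 0x1ba3001), (nat_lit 0x1281001)], [(nat_lit 0x126f001), (nat_lit 0x299a201b82002), (nat_lit 0x1b88001)], [(nat_lit 0x1b87001), (nat_lit 0x1b8f001), (nat_lit 0x1276001)], [(nat_lit 0x2928d01b95002), (nat_lit 0x127d001), (nat_lit 0x288a801ba1002)], [(nat_lit 0x127e001), (nat_lit 0x1b96001), (nat_lit 0x127f001)], [(nat_lit 0x2b76f01b9c002), (nat_lit 0x1283001), (nat_lit 0x2ad0201ba5002)], [(nat_lit 0x1271001), (nat_lit 0x1b83001), (nat_lit 0x1270001)], [(nat_lit 0x2dca301b9a002), (nat_lit 0x1ba4001), (nat_lit 0x1282001)], [(nat_lit 0x1b97001), (nat_lit 0x1280001), (nat_lit 0x26e4d01ba2002)], [(nat_lit 0x1285001), (nat_lit 0x1b9d001), (nat_lit 0x1284001)], [(nat_lit 0x1bae001), (nat_lit 0x128c001), (nat_lit 0x1bb8001)], [(nat_lit 0x1286001), (nat_lit 0x1b9e001), (nat_lit 0x1ba6001)], [(nat_lit 0x1ba7001), (nat_lit 0x1baf001), (nat_lit 0x128d001)], [(nat_lit 0x1bad001), (nat_lit 0x128b001), (nat_lit 0x1bb7001)], [(nat_lit 0x1296001), (nat_lit 0x1bbe001), (nat_lit 0x1bc4001)], [(nat_lit 0x1bc3001), (nat_lit 0x1bd4001), (nat_lit 0x129b001)], [(nat_lit 0x1b93001), (nat_lit 0x127b001), (nat_lit 0x1ba0001)], [(nat_lit 0x1287001), (nat_lit 0x1ba8001), (nat_lit 0x1bb1001)], [(nat_lit 0x1bb0001), (nat_lit 0x1bb9001), (nat_lit 0x128e001)], [(nat_lit 0x1bbc001), (nat_lit 0x1294001), (nat_lit 0x1bd0001)], [(nat_lit 0x1297001), (nat_lit 0x1bbf001), (nat_lit 0x1bc7001)], [(nat_lit 0x1bc6001), (nat_lit 0x1bd5001), (nat_lit 0x129c001)], [(nat_lit 0x1ba9001), (nat_lit 0x1288001), (nat_lit 0x1baa001)], [(nat_lit 0x1290001), (nat_lit 0x1bb2001), (nat_lit 0x128f001)], [(nat_lit 0x1bbd001), (nat_lit 0x1295001), (nat_lit 0x1bd1001)], [(nat_lit 0x1289001), (nat_lit 0x1bab001), (nat_lit 0x1bb4001)], [(nat_lit 0x1bb3001), (nat_lit 0x12dc001), (nat_lit 0x1291001)], [(nat_lit 0x1bc0001), (nat_lit 0x1298001), (nat_lit 0x1bd2001)], [(nat_lit 0x129e001), (nat_lit 0x1bc8001), (nat_lit 0x129d001)], [(nat_lit 0x1bcc001), (nat_lit 0x12a2001), (nat_lit 0x1bd7001)], [(nat_lit 0x128a001), (nat_lit 0x1bac001), (nat_lit 0x1bb6001)], [(nat_lit 0x1bb5001), (nat_lit 0x1bba001), (nat_lit 0x1292001)], [(nat_lit 0x1bc1001), (nat_lit 0x1299001), (nat_lit 0x1bd3001)], [(nat_lit 0x12a0001), (nat_lit 0x1bc9001), (nat_lit 0x129f001)], [(nat_lit 0x1bcd001), (nat_lit 0x12a3001), (nat_lit 0x1bd8001)], [(nat_lit 0x129a001), (nat_lit 0x1bc2001), (nat_lit 0x1bcb001)], [(nat_lit 0x1bca001), (nat_lit 0x2ed0e01bd6002), (nat_lit 0x12a1001)], [(nat_lit 0x1bce001), (nat_lit 0x12a4001), (nat_lit 0x1bd9001)], [(nat_lit 0x12a5001), (nat_lit 0x1bcf001), (nat_lit 0x1bda001)], [(nat_lit 0x1bdb001), (nat_lit 0x1be2001), (nat_lit 0x12ab001)], [(nat_lit 0x12a7001), (nat_lit 0x12a6001), (nat_lit 0x1bdd001)], [(nat_lit 0x12ad001), (nat_lit 0x1be3001), (nat_lit 0x12ac001)], [(nat_lit 0x1bea001), (nat_lit 0x12b2001), (nat_lit 0x1c01001)], [(nat_lit 0x12a9001), (nat_lit 0x1be0001), (nat_lit 0x2e3b001be5002)], [(nat_lit 0x2e3b001be4002), (nat_lit 0x2e3b101be9002), (nat_lit 0x12ae001)], [(nat_lit 0x2e3f801bed002), (nat_lit 0x12b5001), (nat_lit 0x2e3f901c03002)], [(nat_lit 0x12bc001), (nat_lit 0x1bf5001), (nat_lit 0x12bb001)], [(nat_lit 0x1bfa001), (nat_lit 0x12c1001), (nat_lit 0x1c0a001)], [(nat_lit 0x1bde001), (nat_lit 0x1bdf001), (nat_lit 0x12a8001)], [(nat_lit 0x12b4001), (nat_lit 0x1bec001), (nat_lit 0x1bf4001)], [(nat_lit 0x1bf3001), (nat_lit 0x1c06001), (nat_lit 0x12ba001)], [(nat_lit 0x1be1001), (nat_lit 0x12aa001), (nat_lit 0x1be8001)], [(nat_lit 0x12b0001), (nat_lit 0x1be6001), (nat_lit 0x12af001)], [(nat_lit 0x1beb001), (nat_lit 0x12b3001), (nat_lit 0x1c02001)], [(nat_lit 0x12b6001), (nat_lit 0x1bee001), (nat_lit 0x28da801bf7002)], [(nat_lit 0x28da801bf6002), (nat_lit 0x1c07001), (nat_lit 0x12bd001)], [(nat_lit 0x1bf2001), (nat_lit 0x12b9001), (nat_lit 0x1c05001)], [(nat_lit 0x12c3001), (nat_lit 0x1bfd001), (nat_lit 0x2e3ce01c0d002)], [(nat_lit 0x2e3ce01c0e002), (nat_lit 0x12cb001), (nat_lit 0x12ca001)], [(nat_lit 0x1bef001), (nat_lit 0x12b7001), (nat_lit 0x1bf0001)], [(nat_lit 0x12c0001), (nat_lit 0x1bf9001), (nat_lit 0x2a9ef01c08002)], [(nat_lit 0x2a9ef01c09002), (nat_lit 0x1c15001), (nat_lit 0x12c9001)], [(nat_lit 0x1c12001), (nat_lit 0x12c6001), (nat_lit 0x1c1a001)], [(nat_lit 0x12cf001), (nat_lit 0x212f201c18002), (nat_lit 0x12ce001)], [(nat_lit 0x1c1e001), (nat_lit 0x12d3001), (nat_lit 0x1c2f001)], [(nat_lit 0x1bf1001), (nat_lit 0x12b8001), (nat_lit 0x1c04001)], [(nat_lit 0x12c4001), (nat_lit 0x1bfe001), (nat_lit 0x288ca01c0f002)], [(nat_lit 0x288ca01c10002), (nat_lit 0x1c16001), (nat_lit 0x12cc001)], [(nat_lit 0x1c14001), (nat_lit 0x12c8001), (nat_lit 0x2396701c1c002)], [(nat_lit 0x12d1001), (nat_lit 0x1c19001), (nat_lit 0x12d0001)], [(nat_lit 0x1c1f001), (nat_lit 0x12d4001), (nat_lit 0x1c30001)], [(nat_lit 0x1c13001), (nat_lit 0x12c7001), (nat_lit 0x1c1b001)], [(nat_lit 0x1ceee01c00002), (nat_lit 0x12d2001), (nat_lit 0x1c1d001)], [(nat_lit 0x12d5001), (nat_lit 0x29c6c01c20002), (nat_lit 0x12d6001)], [(nat_lit 0x2767001c24002), (nat_lit 0x12da001), (nat_lit 0x1c33001)], [(nat_lit 0x12d7001), (nat_lit 0x2724501c21002), (nat_lit 0x1c26001)], [(nat_lit 0x1c25001), (nat_lit 0x12dc001), (nat_lit 0x12db001)], [(nat_lit 0x12de001), (nat_lit 0x1c27001), (nat_lit 0x12dd001)], [(nat_lit 0x1c2c001), (nat_lit 0x12e4001), (nat_lit 0x1c34001)], [(nat_lit 0x12e0001), (nat_lit 0x1c28001), (nat_lit 0x12df001)], [(nat_lit 0x1c2d001), (nat_lit 0x12e5001), (nat_lit 0x1c35001)], [(nat_lit 0x1c2e001), (nat_lit 0x12e6001), (nat_lit 0x1c36001)], [(nat_lit 0x12ea001), (nat_lit 0x1c39001), (nat_lit 0x1c3d001)], [(nat_lit 0x1c3c001), (nat_lit 0x1c43001), (nat_lit 0x12ed001)], [(nat_lit 0x12e3001), (nat_lit 0x12e2001), (nat_lit 0x1c2a001)], [(nat_lit 0x12e7001), (nat_lit 0x1c37001), (nat_lit 0x12e8001)], [(nat_lit 0x2b8e501c3b002), (nat_lit 0x12ec001), (nat_lit 0x1c42001)], [(nat_lit 0x12eb001), (nat_lit 0x1c3a001), (nat_lit 0x1c3f001)], [(nat_lit 0x1c3e001), (nat_lit 0x2d6cd01c44002), (nat_lit 0x12ee001)], [(nat_lit 0x1c40001), (nat_lit 0x12f0001), (nat_lit 0x1c46001)], [(nat_lit 0x12f2001), (nat_lit 0x2c5f801c49002), (nat_lit 0x12f3001)], [(nat_lit 0x1c2b001), (nat_lit 0x1c38001), (nat_lit 0x12e9001)], [(nat_lit 0x12f1001), (nat_lit 0x1e37501c41002), (nat_lit 0x1c47001)], [(nat_lit 0x1c48001), (nat_lit 0x1c4c001), (nat_lit 0x12f6001)], [(nat_lit 0x1c4a001), (nat_lit 0x12f4001), (nat_lit 0x1c50001)], [(nat_lit 0x12f5001), (nat_lit 0x1c4b001), (nat_lit 0x1c4f001)], [(nat_lit 0x1c4e001), (nat_lit 0x1c51001), (nat_lit 0x12fa001)], [(nat_lit 0x12fb001), (nat_lit 0x2d45d01c52002), (nat_lit 0x1c54001)], [(nat_lit 0x1c53001), (nat_lit 0x1c55001), (nat_lit 0x12fc001)], [(nat_lit 0x1326001), (nat_lit 0x2d6f901c82002), (nat_lit 0x1c87001)], [(nat_lit 0x1c86001), (nat_lit 0x1c93001), (nat_lit 0x1329001)], [(nat_lit 0x2381601c88002), (nat_lit 0x132a001), (nat_lit 0x2381701c94002)], [(nat_lit 0x132c001), (nat_lit 0x1c8a001), (nat_lit 0x132d001)], [(nat_lit 0x1c9d001), (nat_lit 0x1336001), (nat_lit 0x1ca5001)], [(nat_lit 0x132f001), (nat_lit 0x1c8b001), (nat_lit 0x132e001)], [(nat_lit 0x2d81e01ca9002), (nat_lit 0x1caf001), (nat_lit 0x1344001)], [(nat_lit 0x1c8e001), (nat_lit 0x1332001), (nat_lit 0x1c98001)], [(nat_lit 0x1339001), (nat_lit 0x1c9f001), (nat_lit 0x1338001)], [(nat_lit 0x2778501ca4002), (nat_lit 0x133d001), (nat_lit 0x1caa001)], [(nat_lit 0x1335001), (nat_lit 0x1c9c001), (nat_lit 0x1ca3001)], [(nat_lit 0x1ca2001), (nat_lit 0x1ca7001), (nat_lit 0x133b001)], [(nat_lit 0x1cac001), (nat_lit 0x133f001), (nat_lit 0x1cbc001)], [(nat_lit 0x1342001), (nat_lit 0x2cbbf01cae002), (nat_lit 0x1cb4001)], [(nat_lit 0x1cb3001), (nat_lit 0x1cc0001), (nat_lit 0x1347001)], [(nat_lit 0x1c8f001), (nat_lit 0x1333001), (nat_lit 0x1c99001)], [(nat_lit 0x2e00101cb0002), (nat_lit 0x1cbe001), (nat_lit 0x1345001)], [(nat_lit 0x1334001), (nat_lit 0x1c9a001), (nat_lit 0x2a84201ca1002)], [(nat_lit 0x2a84201ca0002), (nat_lit 0x1ca6001), (nat_lit 0x133a001)], [(nat_lit 0x1cab001), (nat_lit 0x133e001), (nat_lit 0x1cbb001)], [(nat_lit 0x1341001), (nat_lit 0x1cad001), (nat_lit 0x1cb2001)], [(nat_lit 0x1cb1001), (nat_lit 0x1cbf001), (nat_lit 0x1346001)], [(nat_lit 0x1c9b001), (nat_lit 0x134a001), (nat_lit 0x1cb5001)], [(nat_lit 0x134c001), (nat_lit 0x2b37801cb7002), (nat_lit 0x134d001)], [(nat_lit 0x2a1d201ccb002), (nat_lit 0x1355001), (nat_lit 0x1cd6001)], [(nat_lit 0x134f001), (nat_lit 0x1cb9001), (nat_lit 0x1cc4001)], [(nat_lit 0x1cc5001), (nat_lit 0x1358001), (nat_lit 0x1357001)], [(nat_lit 0x1cba001), (nat_lit 0x1350001), (nat_lit 0x1cc6001)], [(nat_lit 0x135a001), (nat_lit 0x1ccd001), (nat_lit 0x1359001)], [(nat_lit 0x1cd3001), (nat_lit 0x1361001), (nat_lit 0x1cda001)], [(nat_lit 0x134e001), (nat_lit 0x276cc01cb8002), (nat_lit 0x1cc2001)], [(nat_lit 0x1cc3001), (nat_lit 0x1ccc001), (nat_lit 0x1356001)], [(nat_lit 0x2a78901cc7002), (nat_lit 0x1351001), (nat_lit 0x2a78a01cd5002)], [(nat_lit 0x135c001), (nat_lit 0x293a001cce002), (nat_lit 0x135b001)], [(nat_lit 0x1354001), (nat_lit 0x1cca001), (nat_lit 0x1cd1001)], [(nat_lit 0x1cd0001), (nat_lit 0x2db1601cd7002), (nat_lit 0x135f001)], [(nat_lit 0x1cdd001), (nat_lit 0x1364001), (nat_lit 0x1cec001)], [(nat_lit 0x1365001), (nat_lit 0x1cde001), (nat_lit 0x1ce1001)], [(nat_lit 0x1ce0001), (nat_lit 0x1ced001), (nat_lit 0x1368001)], [(nat_lit 0x1353001), (nat_lit 0x1352001), (nat_lit 0x1cc8001)], [(nat_lit 0x135e001), (nat_lit 0x1ccf001), (nat_lit 0x135d001)], [(nat_lit 0x1cdc001), (nat_lit 0x1363001), (nat_lit 0x1ceb001)], [(nat_lit 0x1360001), (nat_lit 0x1cd2001), (nat_lit 0x1cd8001)], [(nat_lit 0x1cd9001), (nat_lit 0x1cdf001), (nat_lit 0x1367001)], [(nat_lit 0x136a001), (nat_lit 0x1ce2001), (nat_lit 0x1369001)], [(nat_lit 0x1ce5001), (nat_lit 0x136e001), (nat_lit 0x1cef001)], [(nat_lit 0x1cc9001), (nat_lit 0x1ce3001), (nat_lit 0x136b001)], [(nat_lit 0x1ce7001), (nat_lit 0x136f001), (nat_lit 0x1cf1001)], [(nat_lit 0x1374001), (nat_lit 0x2d39501cea002), (nat_lit 0x1cf2001)], [(nat_lit 0x1cf3001), (nat_lit 0x1cf9001), (nat_lit 0x1379001)], [(nat_lit 0x24b7701ce4002), (nat_lit 0x136c001), (nat_lit 0x2b96b01cee002)], [(nat_lit 0x1370001), (nat_lit 0x1ce8001), (nat_lit 0x1371001)], [(nat_lit 0x1372001), (nat_lit 0x1ce9001), (nat_lit 0x1373001)], [(nat_lit 0x1cf7001), (nat_lit 0x1377001), (nat_lit 0x1d01001)], [(nat_lit 0x1375001), (nat_lit 0x1cf4001), (nat_lit 0x269a701cfb002)], [(nat_lit 0x269a701cfa002), (nat_lit 0x1d02001), (nat_lit 0x137a001)], [(nat_lit 0x1cfd001), (nat_lit 0x137c001), (nat_lit 0x1d03001)], [(nat_lit 0x1381001), (nat_lit 0x1d06001), (nat_lit 0x1d0c001)], [(nat_lit 0x1d0b001), (nat_lit 0x1d17001), (nat_lit 0x1385001)], [(nat_lit 0x1cf5001), (nat_lit 0x137b001), (nat_lit 0x1cfc001)], [(nat_lit 0x1380001), (nat_lit 0x1d05001), (nat_lit 0x1d0a001)], [(nat_lit 0x1d09001), (nat_lit 0x1d16001), (nat_lit 0x1384001)], [(nat_lit 0x1d08001), (nat_lit 0x1383001), (nat_lit 0x2d3c101d15002)], [(nat_lit 0x1388001), (nat_lit 0x2c58a01d0f002), (nat_lit 0x1387001)], [(nat_lit 0x1d12001), (nat_lit 0x138b001), (nat_lit 0x1d1a001)], [(nat_lit 0x1382001), (nat_lit 0x1d07001), (nat_lit 0x1d0e001)], [(nat_lit 0x1d0d001), (nat_lit 0x1d18001), (nat_lit 0x1386001)], [(nat_lit 0x1d10001), (nat_lit 0x1389001), (nat_lit 0x1d19001)], [(nat_lit 0x138c001), (nat_lit 0x1d13001), (nat_lit 0x138d001)], [(nat_lit 0x1d21001), (nat_lit 0x1392001), (nat_lit 0x1d2c001)], [(nat_lit 0x138e001), (nat_lit 0x1d14001), (nat_lit 0x1d1b001)], [(nat_lit 0x1d1c001), (nat_lit 0x1d22001), (nat_lit 0x1393001)], [(nat_lit 0x1396001), (nat_lit 0x1d24001), (nat_lit 0x1395001)], [(nat_lit 0x1d26001), (nat_lit 0x1399001), (nat_lit 0x1d30001)], [(nat_lit 0x1d27001), (nat_lit 0x139a001), (nat_lit 0x1d31001)], [(nat_lit 0x139c001), (nat_lit 0x1d2a001), (nat_lit 0x1d34001)], [(nat_lit 0x1d35001), (nat_lit 0x1d3b001), (nat_lit 0x13a3001)], [(nat_lit 0x27cbc01d3c002), (nat_lit 0x1d44001), (nat_lit 0x13a4001)], [(nat_lit 0x13a6001), (nat_lit 0x1d3e001), (nat_lit 0x13a5001)], [(nat_lit 0x1681a01d41002), (nat_lit 0x13ab001), (nat_lit 0x1d49001)], [(nat_lit 0x139b001), (nat_lit 0x1d28001), (nat_lit 0x1d32001)], [(nat_lit 0x1d33001), (nat_lit 0x27fa401d3a002), (nat_lit 0x13a2001)], [(nat_lit 0x1d36001), (nat_lit 0x139e001), (nat_lit 0x1d42001)], [(nat_lit 0x1d29001), (nat_lit 0x13a0001), (nat_lit 0x1d38001)], [(nat_lit 0x13a8001), (nat_lit 0x1d3f001), (nat_lit 0x13a7001)], [(nat_lit 0x13ad001), (nat_lit 0x1d4b001), (nat_lit 0x1d50001)], [(nat_lit 0x1d4f001), (nat_lit 0x1d5a001), (nat_lit 0x13b1001)], [(nat_lit 0x1d4c001), (nat_lit 0x13ae001), (nat_lit 0x1d59001)], [(nat_lit 0x1682f01d56002), (nat_lit 0x13b9001), (nat_lit 0x1682e01d5d002)], [(nat_lit 0x1cefb01d46002), (nat_lit 0x1d4d001), (nat_lit 0x13af001)], [(nat_lit 0x13b6001), (nat_lit 0x13b5001), (nat_lit 0x1d52001)], [(nat_lit 0x13ba001), (nat_lit 0x20c4601d57002), (nat_lit 0x13bb001)], [(nat_lit 0x1d61001), (nat_lit 0x13bf001), (nat_lit 0x1d70001)], [(nat_lit 0x13be001), (nat_lit 0x1d60001), (nat_lit 0x1d65001)], [(nat_lit 0x1d64001), (nat_lit 0x1d72001), (nat_lit 0x13c1001)], [(nat_lit 0x2d0ea01d67002), (nat_lit 0x13c3001), (nat_lit 0x2797601d75002)], [(nat_lit 0x13c4001), (nat_lit 0x1d68001), (nat_lit 0x13c5001)], [(nat_lit 0x13fc001), (nat_lit 0x13cf001), (nat_lit 0x13ef001)], [(nat_lit 0x1d53001), (nat_lit 0x1d54001), (nat_lit 0x13b7001)], [(nat_lit 0x1d69001), (nat_lit 0x13c6001), (nat_lit 0x1d76001)], [(nat_lit 0x13d1001), (nat_lit 0x1d81001), (nat_lit 0x13d0001)], [(nat_lit 0x13c8001), (nat_lit 0x1d6b001), (nat_lit 0x1d78001)], [(nat_lit 0x1d79001), (nat_lit 0x1d83001), (nat_lit 0x13d4001)], [(nat_lit 0x1d8a001), (nat_lit 0x13dc001), (nat_lit 0x1d8f001)], [(nat_lit 0x13e0001), (nat_lit 0x1d94001), (nat_lit 0x1da6001)], [(nat_lit 0x1da7001), (nat_lit 0x1db8001), (nat_lit 0x13f1001)], [(nat_lit 0x1d6a001), (nat_lit 0x13c7001), (nat_lit 0x1d77001)], [(nat_lit 0x13d3001), (nat_lit 0x1d82001), (nat_lit 0x13d2001)], [(nat_lit 0x1d89001), (nat_lit 0x13db001), (nat_lit 0x1d8e001)], [(nat_lit 0x13c9001), (nat_lit 0x1d6c001), (nat_lit 0x2a28301d7a002)], [(nat_lit 0x2a28301d7b002), (nat_lit 0x1d84001), (nat_lit 0x13d5001)], [(nat_lit 0x1d91001), (nat_lit 0x13dd001), (nat_lit 0x1da3001)], [(nat_lit 0x27a5d01da9002), (nat_lit 0x1db9001), (nat_lit 0x13f2001)], [(nat_lit 0x1d6d001), (nat_lit 0x13ca001), (nat_lit 0x1d6e001)], [(nat_lit 0x13d7001), (nat_lit 0x1d85001), (nat_lit 0x13d6001)], [(nat_lit 0x13cd001), (nat_lit 0x1d7e001), (nat_lit 0x1d88001)], [(nat_lit 0x1d87001), (nat_lit 0x1d8d001), (nat_lit 0x13da001)], [(nat_lit 0x1d96001), (nat_lit 0x13e3001), (nat_lit 0x1dac001)], [(nat_lit 0x1da0001), (nat_lit 0x13ed001), (nat_lit 0x1db5001)], [(nat_lit 0x1d7c001), (nat_lit 0x13cb001), (nat_lit 0x1d8b001)], [(nat_lit 0x13e2001), (nat_lit 0x1d95001), (nat_lit 0x1daa001)], [(nat_lit 0x1dab001), (nat_lit 0x21ea701dba002), (nat_lit 0x13f3001)], [(nat_lit 0x1d7d001), (nat_lit 0x13cc001), (nat_lit 0x1d8c001)], [(nat_lit 0x13d9001), (nat_lit 0x1d86001), (nat_lit 0x13d8001)], [(nat_lit 0x1d93001), (nat_lit 0x13df001), (nat_lit 0x1da5001)], [(nat_lit 0x13e4001), (nat_lit 0x1d97001), (nat_lit 0x1ff3601dad002)], [(nat_lit 0x1d99001), (nat_lit 0x13e6001), (nat_lit 0x1db0001)], [(nat_lit 0x13ee001), (nat_lit 0x27e2e01da1002), (nat_lit 0x13ef001)], [(nat_lit 0x13fc001), (nat_lit 0x1dbf001), (nat_lit 0x13fb001)], [(nat_lit 0x13e5001), (nat_lit 0x1da1101d98002), (nat_lit 0x1dae001)], [(nat_lit 0x1daf001), (nat_lit 0x1dbb001), (nat_lit 0x13f5001)], [(nat_lit 0x1d9a001), (nat_lit 0x13e7001), (nat_lit 0x1db1001)], [(nat_lit 0x13f0001), (nat_lit 0x1da2001), (nat_lit 0x1db6001)], [(nat_lit 0x1db7001), (nat_lit 0x1dc0001), (nat_lit 0x13fd001)], [(nat_lit 0x13e9001), (nat_lit 0x13e8001), (nat_lit 0x1d9b001)], [(nat_lit 0x1dc1001), (nat_lit 0x13fe001), (nat_lit 0x1dda001)], [(nat_lit 0x13ea001), (nat_lit 0x1d9d001), (nat_lit 0x1db2001)], [(nat_lit 0x1db3001), (nat_lit 0x1dbd001), (nat_lit 0x13f8001)], [(nat_lit 0x1dc4001), (nat_lit 0x1401001), (nat_lit 0x1ddd001)], [(nat_lit 0x1404001), (nat_lit 0x1dc6001), (nat_lit 0x1403001)], [(nat_lit 0x1aae001), (nat_lit 0x1407001), (nat_lit 0x1a9e001)], [(nat_lit 0x1d9c001), (nat_lit 0x1d9e001), (nat_lit 0x13eb001)], [(nat_lit 0x1d9f001), (nat_lit 0x13ec001), (nat_lit 0x1db4001)], [(nat_lit 0x13fa001), (nat_lit 0x29f0c01dbe002), (nat_lit 0x13f9001)], [(nat_lit 0x2880701dc3002), (nat_lit 0x1400001), (nat_lit 0x283d401ddc002)], [(nat_lit 0x1408001), (nat_lit 0x1dca001), (nat_lit 0x1dd7001)], [(nat_lit 0x1dd6001), (nat_lit 0x1dea001), (nat_lit 0x1415001)], [(nat_lit 0x1dce001), (nat_lit 0x140c001), (nat_lit 0x1de0001)], [(nat_lit 0x2e27a01de7002), (nat_lit 0x1def001), (nat_lit 0x141b001)], [(nat_lit 0x1dc9001), (nat_lit 0x1406001), (nat_lit 0x1ddf001)], [(nat_lit 0x1409001), (nat_lit 0x1dcb001), (nat_lit 0x1dd9001)], [(nat_lit 0x1dd8001), (nat_lit 0x1deb001), (nat_lit 0x1416001)], [(nat_lit 0x1dcf001), (nat_lit 0x140d001), (nat_lit 0x1de1001)], [(nat_lit 0x1412001), (nat_lit 0x1dd4001), (nat_lit 0x1413001)], [(nat_lit 0x1a85001), (nat_lit 0x141c001), (nat_lit 0x1a7c001)], [(nat_lit 0x140a001), (nat_lit 0x140b001), (nat_lit 0x1dcc001)], [(nat_lit 0x1dcd001), (nat_lit 0x1dec001), (nat_lit 0x1417001)], [(nat_lit 0x1dd0001), (nat_lit 0x140e001), (nat_lit 0x1de2001)], [(nat_lit 0x1414001), (nat_lit 0x1dd5001), (nat_lit 0x1de8001)], [(nat_lit 0x1de9001), (nat_lit 0x1df0001), (nat_lit 0x141d001)], [(nat_lit 0x2778601de4002), (nat_lit 0x25bd101ded002), (nat_lit 0x1418001)], [(nat_lit 0x1dd2001), (nat_lit 0x1410001), (nat_lit 0x1de5001)], [(nat_lit 0x141a001), (nat_lit 0x1dee001), (nat_lit 0x1419001)], [(nat_lit 0x1df1001), (nat_lit 0x141e001), (nat_lit 0x1df4001)], [(nat_lit 0x141f001), (nat_lit 0x1df2001), (nat_lit 0x2902001df5002)], [(nat_lit 0x1df3001), (nat_lit 0x1420001), (nat_lit 0x1df7001)], [(nat_lit 0x1424001), (nat_lit 0x1dfb001), (nat_lit 0x1dff001)], [(nat_lit 0x1dfe001), (nat_lit 0x1e09001), (nat_lit 0x1429001)], [(nat_lit 0x2c2b801df9002), (nat_lit 0x1dfa001), (nat_lit 0x1423001)], [(nat_lit 0x1e00001), (nat_lit 0x142b001), (nat_lit 0x1e0b001)], [(nat_lit 0x142d001), (nat_lit 0x1e02001), (nat_lit 0x1e07001)], [(nat_lit 0x1e06001), (nat_lit 0x1e11001), (nat_lit 0x1432001)], [(nat_lit 0x1e01001), (nat_lit 0x142c001), (nat_lit 0x1e0c001)], [(nat_lit 0x142f001), (nat_lit 0x1e04001), (nat_lit 0x1430001)], [(nat_lit 0x1e05001), (nat_lit 0x1431001), (nat_lit 0x1e0f001)], [(nat_lit 0x143a001), (nat_lit 0x1e17001), (nat_lit 0x1e1f001)], [(nat_lit 0x1e20001), (nat_lit 0x1e26001), (nat_lit 0x1441001)], [(nat_lit 0x143b001), (nat_lit 0x1e18001), (nat_lit 0x1e21001)], [(nat_lit 0x1e22001), (nat_lit 0x1e27001), (nat_lit 0x1442001)], [(nat_lit 0x143f001), (nat_lit 0x1e1b001), (nat_lit 0x1e24001)], [(nat_lit 0x1e25001), (nat_lit 0x1e29001), (nat_lit 0x1444001)], [(nat_lit 0x1e2c001), (nat_lit 0x1446001), (nat_lit 0x239a501e37002)], [(nat_lit 0x144b001), (nat_lit 0x1e31001), (nat_lit 0x144c001)], [(nat_lit 0x1e45001), (nat_lit 0x1453001), (nat_lit 0x1e4f001)], [(nat_lit 0x1438001), (nat_lit 0x2e6a301e16002), (nat_lit 0x1437001)], [(nat_lit 0x1e19001), (nat_lit 0x143c001), (nat_lit 0x1e23001)], [(nat_lit 0x2c33501e2a002), (nat_lit 0x1e36001), (nat_lit 0x1445001)], [(nat_lit 0x143d001), (nat_lit 0x1e1a001), (nat_lit 0x143e001)], [(nat_lit 0x1e28001), (nat_lit 0x1443001), (nat_lit 0x1e35001)], [(nat_lit 0x2e88f01e39002), (nat_lit 0x1e43001), (nat_lit 0x1451001)], [(nat_lit 0x1e2d001), (nat_lit 0x1448001), (nat_lit 0x1e3a001)], [(nat_lit 0x1e2e001), (nat_lit 0x1449001), (nat_lit 0x1e3b001)], [(nat_lit 0x144e001), (nat_lit 0x2eab001e33002), (nat_lit 0x1e3f001)], [(nat_lit 0x1e40001), (nat_lit 0x1e46001), (nat_lit 0x1454001)], [(nat_lit 0x1e4a001), (nat_lit 0x1458001), (nat_lit 0x206d001e51002)], [(nat_lit 0x145b001), (nat_lit 0x1e4d001), (nat_lit 0x145c001)], [(nat_lit 0x1e57001), (nat_lit 0x145f001), (nat_lit 0x1e5e001)], [(nat_lit 0x144a001), (nat_lit 0x1e2f001), (nat_lit 0x1e3c001)], [(nat_lit 0x1e3d001), (nat_lit 0x1e44001), (nat_lit 0x1452001)], [(nat_lit 0x1e32001), (nat_lit 0x144d001), (nat_lit 0x1e3e001)], [(nat_lit 0x1e30001), (nat_lit 0x144f001), (nat_lit 0x1e34001)], [(nat_lit 0x1456001), (nat_lit 0x1e47001), (nat_lit 0x1455001)], [(nat_lit 0x1e4c001), (nat_lit 0x145a001), (nat_lit 0x1e53001)], [(nat_lit 0x1e56001), (nat_lit 0x145e001), (nat_lit 0x1e5d001)], [(nat_lit 0x1462001), (nat_lit 0x1e59001), (nat_lit 0x1461001)], [(nat_lit 0x1e5b001), (nat_lit 0x1464001), (nat_lit 0x1e60001)], [(nat_lit 0x2e28b01e48002), (nat_lit 0x1e50001), (nat_lit 0x1457001)], [(nat_lit 0x1e4b001), (nat_lit 0x1459001), (nat_lit 0x1e52001)], [(nat_lit 0x145d001), (nat_lit 0x1e4e001), (nat_lit 0x1e54001)], [(nat_lit 0x1e55001), (nat_lit 0x1e58001), (nat_lit 0x1460001)], [(nat_lit 0x1e5a001), (nat_lit 0x1463001), (nat_lit 0x1e5f001)], [(nat_lit 0x1465001), (nat_lit 0x1e5c001), (nat_lit 0x1e61001)], [(nat_lit 0x1e62001), (nat_lit 0x1e63001), (nat_lit 0x1466001)], [(nat_lit 0x1e64001), (nat_lit 0x1467001), (nat_lit 0x1e6d001)], [(nat_lit 0x146b001), (nat_lit 0x2ce3c01e69002), (nat_lit 0x146c001)], [(nat_lit 0x1e79001), (nat_lit 0x1476001), (nat_lit 0x1e87001)], [(nat_lit 0x1469001), (nat_lit 0x1e66001), (nat_lit 0x1e70001)], [(nat_lit 0x1e71001), (nat_lit 0x1e78001), (nat_lit 0x1475001)], [(nat_lit 0x1e6b001), (nat_lit 0x146e001), (nat_lit 0x2bea901e73002)], [(nat_lit 0x1473001), (nat_lit 0x1e76001), (nat_lit 0x1e7f001)], [(nat_lit 0x1e7e001), (nat_lit 0x1e8a001), (nat_lit 0x147a001)], [(nat_lit 0x1e67001), (nat_lit 0x146a001), (nat_lit 0x1e68001)], [(nat_lit 0x146f001), (nat_lit 0x2e3e201e6c002), (nat_lit 0x1470001)], [(nat_lit 0x147b001), (nat_lit 0x1e80001), (nat_lit 0x1e8b001)], [(nat_lit 0x1e8c001), (nat_lit 0x2da7401e91002), (nat_lit 0x1486001)], [(nat_lit 0x1e86001), (nat_lit 0x1483001), (nat_lit 0x1e8e001)], [(nat_lit 0x1e9c001), (nat_lit 0x1490001), (nat_lit 0x1ea7001)], [(nat_lit 0x1471001), (nat_lit 0x1e74001), (nat_lit 0x1e7b001)], [(nat_lit 0x1e7a001), (nat_lit 0x2066e01e88002), (nat_lit 0x1478001)], [(nat_lit 0x1e81001), (nat_lit 0x147c001), (nat_lit 0x1e8d001)], [(nat_lit 0x147f001), (nat_lit 0x2d87d01e84002), (nat_lit 0x1480001)], [(nat_lit 0x2d87e01e92002), (nat_lit 0x1487001), (nat_lit 0x1e9f001)], [(nat_lit 0x1485001), (nat_lit 0x1e90001), (nat_lit 0x22fcd01e97002)], [(nat_lit 0x1e9b001), (nat_lit 0x148f001), (nat_lit 0x1ea6001)], [(nat_lit 0x1495001), (nat_lit 0x1eaa001), (nat_lit 0x1eae001)], [(nat_lit 0x1ead001), (nat_lit 0x1eb8001), (nat_lit 0x1498001)], [(nat_lit 0x147e001), (nat_lit 0x147d001), (nat_lit 0x1e82001)], [(nat_lit 0x1481001), (nat_lit 0x1e85001), (nat_lit 0x1482001)], [(nat_lit 0x1e93001), (nat_lit 0x1488001), (nat_lit 0x1ea0001)], [(nat_lit 0x1484001), (nat_lit 0x24e3e01e8f002), (nat_lit 0x1e95001)], [(nat_lit 0x1e94001), (nat_lit 0x1ea1001), (nat_lit 0x1489001)], [(nat_lit 0x1e83001), (nat_lit 0x1e99001), (nat_lit 0x148c001)], [(nat_lit 0x1e9d001), (nat_lit 0x1491001), (nat_lit 0x1ea8001)], [(nat_lit 0x2bd6101eba002), (nat_lit 0x1ec2001), (nat_lit 0x14a2001)], [(nat_lit 0x148e001), (nat_lit 0x1e9a001), (nat_lit 0x1ea4001)], [(nat_lit 0x1ea5001), (nat_lit 0x1f2a901eab002), (nat_lit 0x1496001)], [(nat_lit 0x2e3eb01ea9002), (nat_lit 0x1494001), (nat_lit 0x1eb5001)], [(nat_lit 0x149b001), (nat_lit 0x1eb0001), (nat_lit 0x1ebd001)], [(nat_lit 0x1ebe001), (nat_lit 0x1da0d01ec4002), (nat_lit 0x14a4001)], [(nat_lit 0x1492001), (nat_lit 0x1e9e001), (nat_lit 0x1493001)], [(nat_lit 0x1eac001), (nat_lit 0x1497001), (nat_lit 0x1eb7001)], [(nat_lit 0x149a001), (nat_lit 0x1eaf001), (nat_lit 0x1ebb001)], [(nat_lit 0x1ebc001), (nat_lit 0x1ec3001), (nat_lit 0x14a3001)], [(nat_lit 0x1eb1001), (nat_lit 0x149c001), (nat_lit 0x1ebf001)], [(nat_lit 0x149d001), (nat_lit 0x1eb2001), (nat_lit 0x149e001)], [(nat_lit 0x1ec5001), (nat_lit 0x14a5001), (nat_lit 0x1eca001)], [(nat_lit 0x14a0001), (nat_lit 0x1eb4001), (nat_lit 0x1ec0001)], [(nat_lit 0x1ec1001), (nat_lit 0x1ec7001), (nat_lit 0x14a7001)], [(nat_lit 0x2d00a01ec8002), (nat_lit 0x14a9001), (nat_lit 0x2d00701ecc002)], [(nat_lit 0x14ab001), (nat_lit 0x1ecd001), (nat_lit 0x1ecf001)], [(nat_lit 0x1ece001), (nat_lit 0x1edc001), (nat_lit 0x14ac001)], [(nat_lit 0x14af001), (nat_lit 0x18fdb01ed1002), (nat_lit 0x1ee0001)], [(nat_lit 0x1ee1001), (nat_lit 0x1eea001), (nat_lit 0x14be001)], [(nat_lit 0x1ed4001), (nat_lit 0x14b2001), (nat_lit 0x1ee5001)], [(nat_lit 0x14bb001), (nat_lit 0x1eda001), (nat_lit 0x1ee6001)], [(nat_lit 0x1ee7001), (nat_lit 0x2d92901eef002), (nat_lit 0x14c5001)], [(nat_lit 0x2bd0e01ef3002), (nat_lit 0x14c8001), (nat_lit 0x2bd0d01efb002)], [(nat_lit 0x14cc001), (nat_lit 0x1eff001), (nat_lit 0x1f02001)], [(nat_lit 0x1f01001), (nat_lit 0x1f11001), (nat_lit 0x14cf001)], [(nat_lit 0x14ba001), (nat_lit 0x14b9001), (nat_lit 0x1ed8001)], [(nat_lit 0x14c4001), (nat_lit 0x2a41801eee002), (nat_lit 0x14c3001)], [(nat_lit 0x1ef6001), (nat_lit 0x14cb001), (nat_lit 0x1efe001)], [(nat_lit 0x14bc001), (nat_lit 0x1ee8001), (nat_lit 0x2a2a901ef1002)], [(nat_lit 0x2a2a901ef0002), (nat_lit 0x1efa001), (nat_lit 0x14c6001)], [(nat_lit 0x1ef4001), (nat_lit 0x14c9001), (nat_lit 0x1efc001)], [(nat_lit 0x14ce001), (nat_lit 0x2cb6701f00002), (nat_lit 0x14cd001)], [(nat_lit 0x2dd8101f03002), (nat_lit 0x14d0001), (nat_lit 0x2dbbc01f12002)], [(nat_lit 0x1ed9001), (nat_lit 0x266ed01ef2002), (nat_lit 0x14c7001)], [(nat_lit 0x1ef5001), (nat_lit 0x14ca001), (nat_lit 0x1efd001)], [(nat_lit 0x14d1001), (nat_lit 0x1f05001), (nat_lit 0x1f13001)], [(nat_lit 0x1f14001), (nat_lit 0x1f1d001), (nat_lit 0x14e1001)], [(nat_lit 0x1f1f001), (nat_lit 0x14e3001), (nat_lit 0x1f2c001)], [(nat_lit 0x14db001), (nat_lit 0x1f0e001), (nat_lit 0x14dc001)], [(nat_lit 0x1f20001), (nat_lit 0x14e4001), (nat_lit 0x1f2e001)], [(nat_lit 0x14d4001), (nat_lit 0x2e2e301f08002), (nat_lit 0x1f17001)], [(nat_lit 0x1f18001), (nat_lit 0x1f1e001), (nat_lit 0x14e2001)], [(nat_lit 0x1f0a001), (nat_lit 0x14d5001), (nat_lit 0x1f19001)], [(nat_lit 0x14dd001), (nat_lit 0x1f0f001), (nat_lit 0x1f1a001)], [(nat_lit 0x1f1b001), (nat_lit 0x1f21001), (nat_lit 0x14e5001)], [(nat_lit 0x2e2e301f09002), (nat_lit 0x14d6001), (nat_lit 0x2dc6501f0b002)], [(nat_lit 0x14e7001), (nat_lit 0x1f22001), (nat_lit 0x1f30001)], [(nat_lit 0x1f31001), (nat_lit 0x1f3b001), (nat_lit 0x14f2001)], [(nat_lit 0x1f26001), (nat_lit 0x14eb001), (nat_lit 0x1f36001)], [(nat_lit 0x14ee001), (nat_lit 0x1f28001), (nat_lit 0x14ef001)], [(nat_lit 0x1f3e001), (nat_lit 0x14f5001), (nat_lit 0x1f49001)], [(nat_lit 0x14d8001), (nat_lit 0x1f0c001), (nat_lit 0x14d7001)], [(nat_lit 0x1f10001), (nat_lit 0x14e0001), (nat_lit 0x2ca7d01f1c002)], [(nat_lit 0x14ea001), (nat_lit 0x1f25001), (nat_lit 0x1f34001)], [(nat_lit 0x1f35001), (nat_lit 0x1f3c001), (nat_lit 0x14f3001)], [(nat_lit 0x1f23001), (nat_lit 0x14e8001), (nat_lit 0x1f32001)], [(nat_lit 0x14ec001), (nat_lit 0x1f27001), (nat_lit 0x14ed001)], [(nat_lit 0x1f3d001), (nat_lit 0x14f4001), (nat_lit 0x1f48001)], [(nat_lit 0x1f24001), (nat_lit 0x14e9001), (nat_lit 0x1f10601f33002)], [(nat_lit 0x14f0001), (nat_lit 0x1f29001), (nat_lit 0x1f37001)], [(nat_lit 0x1f38001), (nat_lit 0x1f3f001), (nat_lit 0x14f6001)], [(nat_lit 0x1f41001), (nat_lit 0x14f8001), (nat_lit 0x2196101f4a002)], [(nat_lit 0x14ff001), (nat_lit 0x1f46001), (nat_lit 0x1500001)], [(nat_lit 0x1f51001), (nat_lit 0x1508001), (nat_lit 0x1f61001)], [(nat_lit 0x1f43001), (nat_lit 0x14fa001), (nat_lit 0x1f4b001)], [(nat_lit 0x1501001), (nat_lit 0x1f47001), (nat_lit 0x1502001)], [(nat_lit 0x1f52001), (nat_lit 0x1509001), (nat_lit 0x1f62001)], [(nat_lit 0x2b82c01f4d002), (nat_lit 0x2d17401505002), (nat_lit 0x1504001)], [(nat_lit 0x1f54001), (nat_lit 0x150b001), (nat_lit 0x1f64001)], [(nat_lit 0x150f001), (nat_lit 0x1f59001), (nat_lit 0x1510001)], [(nat_lit 0x1f6a001), (nat_lit 0x1515001), (nat_lit 0x1f71001)], [(nat_lit 0x2c8dc01f4f002), (nat_lit 0x1503001), (nat_lit 0x1f60001)], [(nat_lit 0x150c001), (nat_lit 0x2ba4801f55002), (nat_lit 0x23e1101f5d002)], [(nat_lit 0x1f53001), (nat_lit 0x150a001), (nat_lit 0x1f63001)], [(nat_lit 0x1f56001), (nat_lit 0x150d001), (nat_lit 0x1f65001)], [(nat_lit 0x1511001), (nat_lit 0x1f5a001), (nat_lit 0x1f66001)], [(nat_lit 0x1f67001), (nat_lit 0x1f6b001), (nat_lit 0x1516001)], [(nat_lit 0x150e001), (nat_lit 0x1f57001), (nat_lit 0x1f5f001)], [(nat_lit 0x1f5e001), (nat_lit 0x1f69001), (nat_lit 0x1514001)], [(nat_lit 0x1f5b001), (nat_lit 0x1512001), (nat_lit 0x1f68001)], [(nat_lit 0x242be01f73002), (nat_lit 0x1f7a001), (nat_lit 0x1522001)], [(nat_lit 0x1f58001), (nat_lit 0x1517001), (nat_lit 0x1f6c001)], [(nat_lit 0x1f7d001), (nat_lit 0x1525001), (nat_lit 0x1f88001)], [(nat_lit 0x1519001), (nat_lit 0x1f6d001), (nat_lit 0x1f74001)], [(nat_lit 0x1f75001), (nat_lit 0x2406401f7b002), (nat_lit 0x1523001)], [(nat_lit 0x1f79001), (nat_lit 0x1521001), (nat_lit 0x1f87001)], [(nat_lit 0x1528001), (nat_lit 0x1570001), (nat_lit 0x1527001)], [(nat_lit 0x1f83001), (nat_lit 0x152d001), (nat_lit 0x1f8c001)], [(nat_lit 0x151a001), (nat_lit 0x1f6e001), (nat_lit 0x1f76001)], [(nat_lit 0x1f77001), (nat_lit 0x1f7c001), (nat_lit 0x1524001)], [(nat_lit 0x151c001), (nat_lit 0x151b001), (nat_lit 0x1f6f001)], [(nat_lit 0x151f001), (nat_lit 0x1f78001), (nat_lit 0x1520001)], [(nat_lit 0x2a7b201f7e002), (nat_lit 0x1526001), (nat_lit 0x2a7b301f89002)], [(nat_lit 0x1529001), (nat_lit 0x1f7f001), (nat_lit 0x1f86001)], [(nat_lit 0x1f85001), (nat_lit 0x1f8d001), (nat_lit 0x1530001)], [(nat_lit 0x1f80001), (nat_lit 0x152a001), (nat_lit 0x1f8a001)], [(nat_lit 0x152e001), (nat_lit 0x1f84001), (nat_lit 0x152f001)], [(nat_lit 0x156e001), (nat_lit 0x1534001), (nat_lit 0x1564001)], [(nat_lit 0x1f70001), (nat_lit 0x1f81001), (nat_lit 0x152b001)], [(nat_lit 0x1f8f001), (nat_lit 0x1536001), (nat_lit 0x1f9e001)], [(nat_lit 0x1538001), (nat_lit 0x1f91001), (nat_lit 0x1f9f001)], [(nat_lit 0x1fa0001), (nat_lit 0x2632b01fa8002), (nat_lit 0x1542001)], [(nat_lit 0x1f82001), (nat_lit 0x152c001), (nat_lit 0x1f8b001)], [(nat_lit 0x1532001), (nat_lit 0x1f8e001), (nat_lit 0x1531001)], [(nat_lit 0x153e001), (nat_lit 0x1f97001), (nat_lit 0x1fa3001)], [(nat_lit 0x1fa4001), (nat_lit 0x1fab001), (nat_lit 0x1545001)], [(nat_lit 0x1fae001), (nat_lit 0x1549001), (nat_lit 0x1fb6001)], [(nat_lit 0x1550001), (nat_lit 0x1fb3001), (nat_lit 0x1fbd001)], [(nat_lit 0x1fbe001), (nat_lit 0x1fc2001), (nat_lit 0x1555001)], [(nat_lit 0x1f92001), (nat_lit 0x1539001), (nat_lit 0x1fa1001)], [(nat_lit 0x153b001), (nat_lit 0x1f95001), (nat_lit 0x153c001)], [(nat_lit 0x1faa001), (nat_lit 0x1544001), (nat_lit 0x1fb5001)], [(nat_lit 0x1f96001), (nat_lit 0x153d001), (nat_lit 0x1fa2001)], [(nat_lit 0x1540001), (nat_lit 0x1f99001), (nat_lit 0x28ccb01fa5002)], [(nat_lit 0x28ccb01fa6002), (nat_lit 0x1fad001), (nat_lit 0x1548001)], [(nat_lit 0x2740601f94002), (nat_lit 0x153f001), (nat_lit 0x1f98001)], [(nat_lit 0x1547001), (nat_lit 0x2740901fac002), (nat_lit 0x1546001)], [(nat_lit 0x154a001), (nat_lit 0x1faf001), (nat_lit 0x1fb8001)], [(nat_lit 0x1fb9001), (nat_lit 0x1fc1001), (nat_lit 0x1554001)], [(nat_lit 0x1fb2001), (nat_lit 0x154e001), (nat_lit 0x1fbb001)], [(nat_lit 0x1552001), (nat_lit 0x1fc0001), (nat_lit 0x1553001)], [(nat_lit 0x1fc3001), (nat_lit 0x1556001), (nat_lit 0x1fd0001)], [(nat_lit 0x154c001), (nat_lit 0x1fb0001), (nat_lit 0x154b001)], [(nat_lit 0x1fb4001), (nat_lit 0x1551001), (nat_lit 0x1fbf001)], [(nat_lit 0x1557001), (nat_lit 0x1fc4001), (nat_lit 0x1fd1001)], [(nat_lit 0x1fd2001), (nat_lit 0x1fe0001), (nat_lit 0x1567001)], [(nat_lit 0x256b101fc5002), (nat_lit 0x1559001), (nat_lit 0x256b401fd5002)], [(nat_lit 0x155d001), (nat_lit 0x1fca001), (nat_lit 0x155e001)], [(nat_lit 0x1fe4001), (nat_lit 0x156b001), (nat_lit 0x1ff0001)], [(nat_lit 0x155b001), (nat_lit 0x1fc7001), (nat_lit 0x2503301fd7002)], [(nat_lit 0x2503301fd8002), (nat_lit 0x1fe2001), (nat_lit 0x1569001)], [(nat_lit 0x1fcc001), (nat_lit 0x1561001), (nat_lit 0x1fdb001)], [(nat_lit 0x1563001), (nat_lit 0x1fce001), (nat_lit 0x1564001)], [(nat_lit 0x156e001), (nat_lit 0x1fe6001), (nat_lit 0x156d001)], [(nat_lit 0x1fb1001), (nat_lit 0x154d001), (nat_lit 0x1fba001)], [(nat_lit 0x2e52801fd4002), (nat_lit 0x1fe1001), (nat_lit 0x1568001)], [(nat_lit 0x1fc6001), (nat_lit 0x155a001), (nat_lit 0x2d2e701fd6002)], [(nat_lit 0x155f001), (nat_lit 0x1fcb001), (nat_lit 0x1560001)], [(nat_lit 0x1fe5001), (nat_lit 0x156c001), (nat_lit 0x1ff1001)], [(nat_lit 0x155c001), (nat_lit 0x1fc8001), (nat_lit 0x2988e01fd9002)], [(nat_lit 0x2988e01fda002), (nat_lit 0x2988f01fe3002), (nat_lit 0x156a001)], [(nat_lit 0x1fcd001), (nat_lit 0x1562001), (nat_lit 0x1fdc001)], [(nat_lit 0x1565001), (nat_lit 0x1fcf001), (nat_lit 0x1fdd001)], [(nat_lit 0x1fde001), (nat_lit 0x1570001), (nat_lit 0x156f001)], [(nat_lit 0x1fc9001), (nat_lit 0x1566001), (nat_lit 0x1fdf001)], [(nat_lit 0x1572001), (nat_lit 0x1fe7001), (nat_lit 0x1571001)], [(nat_lit 0x1fed001), (nat_lit 0x1577001), (nat_lit 0x1ff5001)], [(nat_lit 0x157b001), (nat_lit 0x1ff7001), (nat_lit 0x157c001)], [(nat_lit 0x1ffa001), (nat_lit 0x157f001), (nat_lit 0x200b001)], [(nat_lit 0x1573001), (nat_lit 0x2ea3101fe8002), (nat_lit 0x2ea3201ff2002)], [(nat_lit 0x2ea3201ff3002), (nat_lit 0x2e8ac01ff8002), (nat_lit 0x157d001)], [(nat_lit 0x1fee001), (nat_lit 0x1578001), (nat_lit 0x1ff6001)], [(nat_lit 0x1580001), (nat_lit 0x1ffb001), (nat_lit 0x2007001)], [(nat_lit 0x2006001), (nat_lit 0x2014001), (nat_lit 0x158d001)], [(nat_lit 0x1575001), (nat_lit 0x1574001), (nat_lit 0x1fe9001)], [(nat_lit 0x1579001), (nat_lit 0x2de4f01fef002), (nat_lit 0x157a001)], [(nat_lit 0x2e77b01ff9002), (nat_lit 0x157e001), (nat_lit 0x2cf2d0200a002)], [(nat_lit 0x1581001), (nat_lit 0x2e94901ffc002), (nat_lit 0x2009001)], [(nat_lit 0x2008001), (nat_lit 0x2015001), (nat_lit 0x158e001)], [(nat_lit 0x1ffd001), (nat_lit 0x1582001), (nat_lit 0x200c001)], [(nat_lit 0x1586001), (nat_lit 0x2001001), (nat_lit 0x1587001)], [(nat_lit 0x2017001), (nat_lit 0x1590001), (nat_lit 0x2023001)], [(nat_lit 0x1fea001), (nat_lit 0x1ffe001), (nat_lit 0x1583001)], [(nat_lit 0x1fff001), (nat_lit 0x1584001), (nat_lit 0x200d001)], [(nat_lit 0x1588001), (nat_lit 0x2002001), (nat_lit 0x1589001)], [(nat_lit 0x2018001), (nat_lit 0x1591001), (nat_lit 0x2024001)], [(nat_lit 0x1585001), (nat_lit 0x2000001), (nat_lit 0x200e001)], [(nat_lit 0x200f001), (nat_lit 0x2016001), (nat_lit 0x158f001)], [(nat_lit 0x2003001), (nat_lit 0x158a001), (nat_lit 0x2010001)], [(nat_lit 0x158b001), (nat_lit 0x2004001), (nat_lit 0x1f12202011002)], [(nat_lit 0x2005001), (nat_lit 0x158c001), (nat_lit 0x2013001)], [(nat_lit 0x1596001), (nat_lit 0x201d001), (nat_lit 0x2027001)], [(nat_lit 0x2028001), (nat_lit 0x2030001), (nat_lit 0x159f001)], [(nat_lit 0x15a4001), (nat_lit 0x2a92702034002), (nat_lit 0x15a3001)], [(nat_lit 0x203b001), (nat_lit 0x15aa001), (nat_lit 0x2047001)], [(nat_lit 0x2abf702026002), (nat_lit 0x202f001), (nat_lit 0x159e001)], [(nat_lit 0x2e4d50201e002), (nat_lit 0x1597001), (nat_lit 0x2029001)], [(nat_lit 0x159a001), (nat_lit 0x2020001), (nat_lit 0x202a001)], [(nat_lit 0x202b001), (nat_lit 0x2032001), (nat_lit 0x15a1001)], [(nat_lit 0x1598001), (nat_lit 0x201f001), (nat_lit 0x1599001)], [(nat_lit 0x2031001), (nat_lit 0x15a0001), (nat_lit 0x2bde802040002)], [(nat_lit 0x159b001), (nat_lit 0x2021001), (nat_lit 0x202c001)], [(nat_lit 0x202d001), (nat_lit 0x2033001), (nat_lit 0x15a2001)], [(nat_lit 0x159d001), (nat_lit 0x202e001), (nat_lit 0x2d9f202036002)], [(nat_lit 0x2038001), (nat_lit 0x15a7001), (nat_lit 0x2043001)], [(nat_lit 0x15ab001), (nat_lit 0x203c001), (nat_lit 0x15ac001)], [(nat_lit 0x15af001), (nat_lit 0x203e001), (nat_lit 0x2d2e602048002)], [(nat_lit 0x2051001), (nat_lit 0x15b6001), (nat_lit 0x2cf1f0205e002)], [(nat_lit 0x15ba001), (nat_lit 0x2055001), (nat_lit 0x2064001)], [(nat_lit 0x2065001), (nat_lit 0x2071001), (nat_lit 0x15c3001)], [(nat_lit 0x2037001), (nat_lit 0x15a6001), (nat_lit 0x2042001)], [(nat_lit 0x15a8001), (nat_lit 0x2039001), (nat_lit 0x2044001)], [(nat_lit 0x2045001), (nat_lit 0x204c001), (nat_lit 0x15b1001)], [(nat_lit 0x203a001), (nat_lit 0x15a9001), (nat_lit 0x2046001)], [(nat_lit 0x15ad001), (nat_lit 0x203d001), (nat_lit 0x15ae001)], [(nat_lit 0x15b0001), (nat_lit 0x203f001), (nat_lit 0x204a001)], [(nat_lit 0x204b001), (nat_lit 0x2cee60204e002), (nat_lit 0x15b3001)], [(nat_lit 0x2052001), (nat_lit 0x15b7001), (nat_lit 0x205f001)], [(nat_lit 0x15bb001), (nat_lit 0x2056001), (nat_lit 0x2066001)], [(nat_lit 0x2067001), (nat_lit 0x2072001), (nat_lit 0x15c4001)], [(nat_lit 0x15b8001), (nat_lit 0x2e2a102053002), (nat_lit 0x2061001)], [(nat_lit 0x2062001), (nat_lit 0x2070001), (nat_lit 0x15c2001)], [(nat_lit 0x15ca001), (nat_lit 0x2076001), (nat_lit 0x15c9001)], [(nat_lit 0x2079001), (nat_lit 0x15ce001), (nat_lit 0x207e001)], [(nat_lit 0x15b5001), (nat_lit 0x204f001), (nat_lit 0x205c001)], [(nat_lit 0x205d001), (nat_lit 0x206f001), (nat_lit 0x15c1001)], [(nat_lit 0x2054001), (nat_lit 0x15b9001), (nat_lit 0x2063001)], [(nat_lit 0x15bc001), (nat_lit 0x2057001), (nat_lit 0x2068001)], [(nat_lit 0x2069001), (nat_lit 0x2073001), (nat_lit 0x15c5001)], [(nat_lit 0x2050001), (nat_lit 0x15bd001), (nat_lit 0x2058001)], [(nat_lit 0x15c7001), (nat_lit 0x2074001), (nat_lit 0x15c6001)], [(nat_lit 0x2078001), (nat_lit 0x15cd001), (nat_lit 0x207d001)], [(nat_lit 0x15c0001), (nat_lit 0x205b001), (nat_lit 0x2d6aa0206d002)], [(nat_lit 0x2d6aa0206e002), (nat_lit 0x1610001), (nat_lit 0x15cb001)], [(nat_lit 0x2077001), (nat_lit 0x15cc001), (nat_lit 0x207c001)], [(nat_lit 0x15cf001), (nat_lit 0x23e190207a002), (nat_lit 0x15d0001)], [(nat_lit 0x207f001), (nat_lit 0x15d1001), (nat_lit 0x2092001)], [(nat_lit 0x240e80206b002), (nat_lit 0x2075001), (nat_lit 0x15c8001)], [(nat_lit 0x15de001), (nat_lit 0x208a001), (nat_lit 0x2097001)], [(nat_lit 0x2098001), (nat_lit 0x22d61020a1002), (nat_lit 0x15e6001)], [(nat_lit 0x15d4001), (nat_lit 0x15d3001), (nat_lit 0x2081001)], [(nat_lit 0x2091001), (nat_lit 0x15e4001), (nat_lit 0x20a0001)], [(nat_lit 0x15d8001), (nat_lit 0x2086001), (nat_lit 0x2090001)], [(nat_lit 0x208f001), (nat_lit 0x209f001), (nat_lit 0x15e3001)], [(nat_lit 0x208d001), (nat_lit 0x15e1001), (nat_lit 0x209c001)], [(nat_lit 0x15eb001), (nat_lit 0x20a4001), (nat_lit 0x15ea001)], [(nat_lit 0x20a7001), (nat_lit 0x15ee001), (nat_lit 0x20ac001)], [(nat_lit 0x2082001), (nat_lit 0x27e9702083002), (nat_lit 0x15d5001)], [(nat_lit 0x2088001), (nat_lit 0x15db001), (nat_lit 0x2715e02096002)], [(nat_lit 0x15df001), (nat_lit 0x208b001), (nat_lit 0x2099001)], [(nat_lit 0x209a001), (nat_lit 0x20a2001), (nat_lit 0x15e7001)], [(nat_lit 0x208c001), (nat_lit 0x15e0001), (nat_lit 0x209b001)], [(nat_lit 0x15e2001), (nat_lit 0x208e001), (nat_lit 0x209d001)], [(nat_lit 0x209e001), (nat_lit 0x20a5001), (nat_lit 0x15ec001)], [(nat_lit 0x15ef001), (nat_lit 0x20a9001), (nat_lit 0x20ae001)], [(nat_lit 0x20af001), (nat_lit 0x20b0001), (nat_lit 0x15f0001)], [(nat_lit 0x24e1d02084002), (nat_lit 0x15d6001), (nat_lit 0x2094001)], [(nat_lit 0x15dc001), (nat_lit 0x2089001), (nat_lit 0x15dd001)], [(nat_lit 0x15f3001), (nat_lit 0x20b2001), (nat_lit 0x15f2001)], [(nat_lit 0x20b5001), (nat_lit 0x15f6001), (nat_lit 0x20be001)], [(nat_lit 0x15f9001), (nat_lit 0x20b7001), (nat_lit 0x20bf001)], [(nat_lit 0x20c0001), (nat_lit 0x20c7001), (nat_lit 0x15fe001)], [(nat_lit 0x2271d020b3002), (nat_lit 0x15f4001), (nat_lit 0x2271e020bc002)], [(nat_lit 0x15f7001), (nat_lit 0x20b6001), (nat_lit 0x15f8001)], [(nat_lit 0x20bb001), (nat_lit 0x15fd001), (nat_lit 0x22721020c6002)], [(nat_lit 0x15fb001), (nat_lit 0x20b9001), (nat_lit 0x20c3001)], [(nat_lit 0x20c4001), (nat_lit 0x20c9001), (nat_lit 0x1600001)], [(nat_lit 0x20ce001), (nat_lit 0x1605001), (nat_lit 0x20d6001)], [(nat_lit 0x20b4001), (nat_lit 0x15f5001), (nat_lit 0x20bd001)], [(nat_lit 0x15fa001), (nat_lit 0x24c7a020b8002), (nat_lit 0x20c1001)], [(nat_lit 0x20c2001), (nat_lit 0x20c8001), (nat_lit 0x15ff001)], [(nat_lit 0x241e8020ba002), (nat_lit 0x15fc001), (nat_lit 0x2612f020c5002)], [(nat_lit 0x20cf001), (nat_lit 0x1606001), (nat_lit 0x20d7001)], [(nat_lit 0x24cf2020cc002), (nat_lit 0x1604001), (nat_lit 0x20cd001)], [(nat_lit 0x20df001), (nat_lit 0x160e001), (nat_lit 0x20f0001)], [(nat_lit 0x160a001), (nat_lit 0x20d2001), (nat_lit 0x20d9001)], [(nat_lit 0x20da001), (nat_lit 0x1610001), (nat_lit 0x160f001)], [(nat_lit 0x20d3001), (nat_lit 0x160b001), (nat_lit 0x20db001)], [(nat_lit 0x1612001), (nat_lit 0x22725020e0002), (nat_lit 0x1611001)], [(nat_lit 0x20e5001), (nat_lit 0x1616001), (nat_lit 0x20f2001)], [(nat_lit 0x160c001), (nat_lit 0x20dc001), (nat_lit 0x20e2001)], [(nat_lit 0x20e1001), (nat_lit 0x20f1001), (nat_lit 0x1613001)], [(nat_lit 0x20e6001), (nat_lit 0x1617001), (nat_lit 0x20f3001)], [(nat_lit 0x161b001), (nat_lit 0x20e9001), (nat_lit 0x20ef001)], [(nat_lit 0x20ee001), (nat_lit 0x20f8001), (nat_lit 0x1620001)], [(nat_lit 0x1615001), (nat_lit 0x1614001), (nat_lit 0x20e3001)], [(nat_lit 0x26f9b020ed002), (nat_lit 0x161f001), (nat_lit 0x20f7001)], [(nat_lit 0x251aa020eb002), (nat_lit 0x161d001), (nat_lit 0x248a4020f5002)], [(nat_lit 0x1623001), (nat_lit 0x20fa001), (nat_lit 0x1622001)], [(nat_lit 0x20fc001), (nat_lit 0x1627001), (nat_lit 0x2107001)], [(nat_lit 0x20e4001), (nat_lit 0x20e8001), (nat_lit 0x161a001)], [(nat_lit 0x2e54f020ea002), (nat_lit 0x161c001), (nat_lit 0x2e94a020f4002)], [(nat_lit 0x20ec001), (nat_lit 0x161e001), (nat_lit 0x20f6001)], [(nat_lit 0x1625001), (nat_lit 0x2a4af020fb002), (nat_lit 0x1624001)], [(nat_lit 0x20fd001), (nat_lit 0x1628001), (nat_lit 0x2108001)], [(nat_lit 0x1629001), (nat_lit 0x20fe001), (nat_lit 0x2109001)], [(nat_lit 0x210a001), (nat_lit 0x2114001), (nat_lit 0x1633001)], [(nat_lit 0x162f001), (nat_lit 0x2103001), (nat_lit 0x2111001)], [(nat_lit 0x2112001), (nat_lit 0x2118001), (nat_lit 0x1638001)], [(nat_lit 0x2b1ab0210c002), (nat_lit 0x2115001), (nat_lit 0x1634001)], [(nat_lit 0x2b1ad020ff002), (nat_lit 0x162b001), (nat_lit 0x210d001)], [(nat_lit 0x1630001), (nat_lit 0x2104001), (nat_lit 0x1631001)], [(nat_lit 0x2119001), (nat_lit 0x1639001), (nat_lit 0x2122001)], [(nat_lit 0x211a001), (nat_lit 0x163a001), (nat_lit 0x2123001)], [(nat_lit 0x163d001), (nat_lit 0x211d001), (nat_lit 0x2127001)], [(nat_lit 0x2128001), (nat_lit 0x212d001), (nat_lit 0x1643001)], [(nat_lit 0x2b1af02101002), (nat_lit 0x162d001), (nat_lit 0x2102001)], [(nat_lit 0x1636001), (nat_lit 0x2116001), (nat_lit 0x1635001)], [(nat_lit 0x274c00211b002), (nat_lit 0x163b001), (nat_lit 0x2124001)], [(nat_lit 0x163c001), (nat_lit 0x211c001), (nat_lit 0x2125001)], [(nat_lit 0x2126001), (nat_lit 0x212c001), (nat_lit 0x1642001)], [(nat_lit 0x2130001), (nat_lit 0x1648001), (nat_lit 0x2141001)], [(nat_lit 0x211f001), (nat_lit 0x163f001), (nat_lit 0x2bc240212a002)], [(nat_lit 0x1645001), (nat_lit 0x212e001), (nat_lit 0x1644001)], [(nat_lit 0x2131001), (nat_lit 0x1649001), (nat_lit 0x2142001)]]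

theorem rows1_ok : okRows data table 191944 2000 rows1 = true := by decide +kernel

theorem rows1_len : rows1.length = 2000 := by decide +kernel

end CfsgLib.CosetEnum.ONJA
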