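/-
Certificate data of a coset enumeration.
-/
import Cfsg.Agent.Lib.CosetEnum.ONJA.Data

set_option autoImplicit false
set_option maxRecDepth 1000000

namespace CfsgLib.CosetEnum.ONJA

open CfsgLib.CosetEnum

/-- Completion of the rows from 4000. -/
noncomputable def rows2 : List (List ℕ) := [[(nat_lit 0x1647001), (nat_lit 0x212f001), (nat_lit 0x1646001)], [(nat_lit 0x214b001), (nat_lit 0x165c001), (nat_lit 0x215e001)], [(nat_lit 0x1661001), (nat_lit 0x2151001), (nat_lit 0x215a001)], [(nat_lit 0x2159001), (nat_lit 0x2167001), (nat_lit 0x1668001)], [(nat_lit 0x2120001), (nat_lit 0x1640001), (nat_lit 0x212b001)], [(nat_lit 0x164b001), (nat_lit 0x2133001), (nat_lit 0x213e001)], [(nat_lit 0x213d001), (nat_lit 0x2147001), (nat_lit 0x1657001)], [(nat_lit 0x2135001), (nat_lit 0x164d001), (nat_lit 0x2144001)], [(nat_lit 0x1653001), (nat_lit 0x213b001), (nat_lit 0x1654001)], [(nat_lit 0x20dd001), (nat_lit 0x1641001), (nat_lit 0x2121001)], [(nat_lit 0x164c001), (nat_lit 0x2134001), (nat_lit 0x2140001)], [(nat_lit 0x213f001), (nat_lit 0x2148001), (nat_lit 0x1658001)], [(nat_lit 0x2136001), (nat_lit 0x164e001), (nat_lit 0x2145001)], [(nat_lit 0x1655001), (nat_lit 0x213c001), (nat_lit 0x1656001)], [(nat_lit 0x214a001), (nat_lit 0x165b001), (nat_lit 0x215d001)], [(nat_lit 0x1651001), (nat_lit 0x2138001), (nat_lit 0x1650001)], [(nat_lit 0x2c4010214c002), (nat_lit 0x165d001), (nat_lit 0x215f001)], [(nat_lit 0x1662001), (nat_lit 0x2740802152002), (nat_lit 0x215c001)], [(nat_lit 0x215b001), (nat_lit 0x2168001), (nat_lit 0x1669001)], [(nat_lit 0x2139001), (nat_lit 0x1652001), (nat_lit 0x2146001)], [(nat_lit 0x165a001), (nat_lit 0x2149001), (nat_lit 0x1659001)], [(nat_lit 0x214d001), (nat_lit 0x165e001), (nat_lit 0x2160001)], [(nat_lit 0x2cc3e0214e002), (nat_lit 0x165f001), (nat_lit 0x2cc3d02161002)], [(nat_lit 0x1660001), (nat_lit 0x214f001), (nat_lit 0x2158001)], [(nat_lit 0x2157001), (nat_lit 0x2166001), (nat_lit 0x1667001)], [(nat_lit 0x2154001), (nat_lit 0x1664001), (nat_lit 0x2cf3902164002)], [(nat_lit 0x2150001), (nat_lit 0x1665001), (nat_lit 0x2155001)], [(nat_lit 0x166c001), (nat_lit 0x216a001), (nat_lit 0x166b001)], [(nat_lit 0x2174001), (nat_lit 0x1677001), (nat_lit 0x217d001)], [(nat_lit 0x166f001), (nat_lit 0x216c001), (nat_lit 0x2177001)], [(nat_lit 0x2176001), (nat_lit 0x167a001), (nat_lit 0x1679001)], [(nat_lit 0x216d001), (nat_lit 0x1670001), (nat_lit 0x2178001)], [(nat_lit 0x167c001), (nat_lit 0x217f001), (nat_lit 0x167b001)], [(nat_lit 0x2184001), (nat_lit 0x1683001), (nat_lit 0x2193001)], [(nat_lit 0x1673001), (nat_lit 0x2170001), (nat_lit 0x2179001)], [(nat_lit 0x217a001), (nat_lit 0x2182001), (nat_lit 0x1680001)], [(nat_lit 0x2189001), (nat_lit 0x1688001), (nat_lit 0x2197001)], [(nat_lit 0x168c001), (nat_lit 0x218d001), (nat_lit 0x168d001)], [(nat_lit 0x21a1001), (nat_lit 0x1693001), (nat_lit 0x21b2001)], [(nat_lit 0x2172001), (nat_lit 0x1675001), (nat_lit 0x217b001)], [(nat_lit 0x1682001), (nat_lit 0x2183001), (nat_lit 0x1681001)], [(nat_lit 0x2187001), (nat_lit 0x1686001), (nat_lit 0x2196001)], [(nat_lit 0x168b001), (nat_lit 0x218c001), (nat_lit 0x219a001)], [(nat_lit 0x219b001), (nat_lit 0x21a0001), (nat_lit 0x1692001)], [(nat_lit 0x218e001), (nat_lit 0x168e001), (nat_lit 0x219c001)], [(nat_lit 0x1696001), (nat_lit 0x21a5001), (nat_lit 0x21b4001)], [(nat_lit 0x21b5001), (nat_lit 0x21bf001), (nat_lit 0x16a4001)], [(nat_lit 0x2173001), (nat_lit 0x1676001), (nat_lit 0x217c001)], [(nat_lit 0x168a001), (nat_lit 0x218b001), (nat_lit 0x2198001)], [(nat_lit 0x2199001), (nat_lit 0x20b5b0219f002), (nat_lit 0x1691001)], [(nat_lit 0x169e001), (nat_lit 0x2e04b021ad002), (nat_lit 0x169f001)], [(nat_lit 0x21c4001), (nat_lit 0x16ab001), (nat_lit 0x21d2001)], [(nat_lit 0x1695001), (nat_lit 0x21a3001), (nat_lit 0x21b1001)], [(nat_lit 0x21b0001), (nat_lit 0x21be001), (nat_lit 0x16a3001)], [(nat_lit 0x21a6001), (nat_lit 0x1697001), (nat_lit 0x21b6001)], [(nat_lit 0x16a0001), (nat_lit 0x20af2021ae002), (nat_lit 0x21bc001)], [(nat_lit 0x21bd001), (nat_lit 0x21c5001), (nat_lit 0x16ac001)], [(nat_lit 0x21a4001), (nat_lit 0x1698001), (nat_lit 0x21a7001)], [(nat_lit 0x16a1001), (nat_lit 0x21af001), (nat_lit 0x16a2001)], [(nat_lit 0x21c6001), (nat_lit 0x16ad001), (nat_lit 0x21d3001)], [(nat_lit 0x1699001), (nat_lit 0x21a8001), (nat_lit 0x21b7001)], [(nat_lit 0x21b8001), (nat_lit 0x21c0001), (nat_lit 0x16a5001)], [(nat_lit 0x169a001), (nat_lit 0x21a9001), (nat_lit 0x21b9001)], [(nat_lit 0x21ba001), (nat_lit 0x21c1001), (nat_lit 0x16a6001)], [(nat_lit 0x16aa001), (nat_lit 0x21c3001), (nat_lit 0x16a9001)], [(nat_lit 0x21c8001), (nat_lit 0x16af001), (nat_lit 0x21d5001)], [(nat_lit 0x16b1001), (nat_lit 0x1e369021ca002), (nat_lit 0x206cf021d6002)], [(nat_lit 0x21df001), (nat_lit 0x16bc001), (nat_lit 0x21ed001)], [(nat_lit 0x16bf001), (nat_lit 0x165b5021e2002), (nat_lit 0x21ea001)], [(nat_lit 0x21e9001), (nat_lit 0x21f6001), (nat_lit 0x16c7001)], [(nat_lit 0x169c001), (nat_lit 0x169b001), (nat_lit 0x21aa001)], [(nat_lit 0x16a8001), (nat_lit 0x21c2001), (nat_lit 0x16a7001)], [(nat_lit 0x21c7001), (nat_lit 0x16ae001), (nat_lit 0x21d4001)], [(nat_lit 0x16b0001), (nat_lit 0x21c9001), (nat_lit 0x21d1001)], [(nat_lit 0x21d0001), (nat_lit 0x21db001), (nat_lit 0x16b7001)], [(nat_lit 0x21ab001), (nat_lit 0x21cb001), (nat_lit 0x16b2001)], [(nat_lit 0x21e0001), (nat_lit 0x16bd001), (nat_lit 0x21ee001)], [(nat_lit 0x16c0001), (nat_lit 0x21e3001), (nat_lit 0x21ec001)], [(nat_lit 0x21eb001), (nat_lit 0x2038b021f7002), (nat_lit 0x16c8001)], [(nat_lit 0x21ce001), (nat_lit 0x16b5001), (nat_lit 0x21d8001)], [(nat_lit 0x16c2001), (nat_lit 0x21e5001), (nat_lit 0x21f1001)], [(nat_lit 0x21f2001), (nat_lit 0x21f8001), (nat_lit 0x16c9001)], [(nat_lit 0x21e7001), (nat_lit 0x16c4001), (nat_lit 0x21f4001)], [(nat_lit 0x16ce001), (nat_lit 0x21fc001), (nat_lit 0x2205001)], [(nat_lit 0x2206001), (nat_lit 0x1654602210002), (nat_lit 0x16d4001)], [(nat_lit 0x2c6c0021e1002), (nat_lit 0x16be001), (nat_lit 0x2c6c1021ef002)], [(nat_lit 0x16b6001), (nat_lit 0x21cf001), (nat_lit 0x2bf92021d9002)], [(nat_lit 0x21e4001), (nat_lit 0x16c1001), (nat_lit 0x21f0001)], [(nat_lit 0x16c5001), (nat_lit 0x21e8001), (nat_lit 0x16c6001)], [(nat_lit 0x21fa001), (nat_lit 0x16cc001), (nat_lit 0x2203001)], [(nat_lit 0x1e019021ff002), (nat_lit 0x16da001), (nat_lit 0x1b8da02216002)], [(nat_lit 0x2228001), (nat_lit 0x16ed001), (nat_lit 0x2239001)], [(nat_lit 0x16dc001), (nat_lit 0x2218001), (nat_lit 0x221e001)], [(nat_lit 0x221f001), (nat_lit 0x173a001), (nat_lit 0x16e7001)], [(nat_lit 0x16eb001), (nat_lit 0x2226001), (nat_lit 0x16ea001)], [(nat_lit 0x222b001), (nat_lit 0x16f0001), (nat_lit 0x223b001)], [(nat_lit 0x16d1001), (nat_lit 0x2714302200002), (nat_lit 0x220b001)], [(nat_lit 0x220c001), (nat_lit 0x245d702213002), (nat_lit 0x16d7001)], [(nat_lit 0x2539c02215002), (nat_lit 0x16d9001), (nat_lit 0x2539b0221b002)], [(nat_lit 0x16e1001), (nat_lit 0x2222001), (nat_lit 0x16e2001)], [(nat_lit 0x16db001), (nat_lit 0x2217001), (nat_lit 0x221c001)], [(nat_lit 0x221d001), (nat_lit 0x1f5bb02224002), (nat_lit 0x16e6001)], [(nat_lit 0x2084d02220002), (nat_lit 0x16df001), (nat_lit 0x2236001)], [(nat_lit 0x16de001), (nat_lit 0x16dd001), (nat_lit 0x2219001)], [(nat_lit 0x16e9001), (nat_lit 0x2225001), (nat_lit 0x16e8001)], [(nat_lit 0x24d3802229002), (nat_lit 0x16ee001), (nat_lit 0x24d370223a002)], [(nat_lit 0x16f1001), (nat_lit 0x222c001), (nat_lit 0x2235001)], [(nat_lit 0x2234001), (nat_lit 0x2241001), (nat_lit 0x16f8001)], [(nat_lit 0x222e001), (nat_lit 0x16f3001), (nat_lit 0x223c001)], [(nat_lit 0x16fa001), (nat_lit 0x2242001), (nat_lit 0x16f9001)], [(nat_lit 0x2245001), (nat_lit 0x16ff001), (nat_lit 0x2252001)], [(nat_lit 0x221a001), (nat_lit 0x222d001), (nat_lit 0x16f2001)], [(nat_lit 0x2231001), (nat_lit 0x16f6001), (nat_lit 0x223f001)], [(nat_lit 0x1702001), (nat_lit 0x2249001), (nat_lit 0x2257001)], [(nat_lit 0x2258001), (nat_lit 0x2262001), (nat_lit 0x170d001)], [(nat_lit 0x2dfe30222f002), (nat_lit 0x16f4001), (nat_lit 0x2dfb90223d002)], [(nat_lit 0x16fc001), (nat_lit 0x2243001), (nat_lit 0x16fb001)], [(nat_lit 0x2247001), (nat_lit 0x1700001), (nat_lit 0x2254001)], [(nat_lit 0x1704001), (nat_lit 0x224c001), (nat_lit 0x225b001)], [(nat_lit 0x225c001), (nat_lit 0x2264001), (nat_lit 0x170f001)], [(nat_lit 0x1717001), (nat_lit 0x226b001), (nat_lit 0x2277001)], [(nat_lit 0x2278001), (nat_lit 0x2827302282002), (nat_lit 0x1721001)], [(nat_lit 0x16fe001), (nat_lit 0x257ab02244002), (nat_lit 0x16fd001)], [(nat_lit 0x2248001), (nat_lit 0x1701001), (nat_lit 0x2b97c02256002)], [(nat_lit 0x1703001), (nat_lit 0x224a001), (nat_lit 0x2259001)], [(nat_lit 0x225a001), (nat_lit 0x2263001), (nat_lit 0x170e001)], [(nat_lit 0x2e2ef02251002), (nat_lit 0x170a001), (nat_lit 0x2e58102260002)], [(nat_lit 0x1716001), (nat_lit 0x1f5610226a002), (nat_lit 0x2275001)], [(nat_lit 0x2276001), (nat_lit 0x2281001), (nat_lit 0x1720001)], [(nat_lit 0x224b001), (nat_lit 0x1705001), (nat_lit 0x1f5c30224d002)], [(nat_lit 0x1709001), (nat_lit 0x2250001), (nat_lit 0x225e001)], [(nat_lit 0x225f001), (nat_lit 0x2266001), (nat_lit 0x1712001)], [(nat_lit 0x283460226d002), (nat_lit 0x1719001), (nat_lit 0x227b001)], [(nat_lit 0x171e001), (nat_lit 0x2280001), (nat_lit 0x171f001)], [(nat_lit 0x2285001), (nat_lit 0x1724001), (nat_lit 0x2291001)], [(nat_lit 0x1707001), (nat_lit 0x224e001), (nat_lit 0x1706001)], [(nat_lit 0x2268001), (nat_lit 0x1714001), (nat_lit 0x2273001)], [(nat_lit 0x1718001), (nat_lit 0x226c001), (nat_lit 0x2279001)], [(nat_lit 0x227a001), (nat_lit 0x2283001), (nat_lit 0x1722001)], [(nat_lit 0x224f001), (nat_lit 0x1708001), (nat_lit 0x225d001)], [(nat_lit 0x2269001), (nat_lit 0x1715001), (nat_lit 0x2274001)], [(nat_lit 0x171a001), (nat_lit 0x226e001), (nat_lit 0x227c001)], [(nat_lit 0x227d001), (nat_lit 0x2284001), (nat_lit 0x1723001)], [(nat_lit 0x2271001), (nat_lit 0x171d001), (nat_lit 0x227f001)], [(nat_lit 0x226f001), (nat_lit 0x171b001), (nat_lit 0x227e001)], [(nat_lit 0x1726001), (nat_lit 0x2287001), (nat_lit 0x2293001)], [(nat_lit 0x2294001), (nat_lit 0x22a0001), (nat_lit 0x1734001)], [(nat_lit 0x2289001), (nat_lit 0x1728001), (nat_lit 0x2aae102297002)], [(nat_lit 0x1730001), (nat_lit 0x2290001), (nat_lit 0x1731001)], [(nat_lit 0x2271b022a5002), (nat_lit 0x173d001), (nat_lit 0x22aa001)], [(nat_lit 0x172c001), (nat_lit 0x172b001), (nat_lit 0x228c001)], [(nat_lit 0x1738001), (nat_lit 0x22a3001), (nat_lit 0x1737001)], [(nat_lit 0x22a7001), (nat_lit 0x173f001), (nat_lit 0x22ac001)], [(nat_lit 0x168200229d002), (nat_lit 0x173a001), (nat_lit 0x1739001)], [(nat_lit 0x228f001), (nat_lit 0x172f001), (nat_lit 0x229e001)], [(nat_lit 0x173c001), (nat_lit 0x22a4001), (nat_lit 0x173b001)], [(nat_lit 0x22a9001), (nat_lit 0x1741001), (nat_lit 0x22af001)], [(nat_lit 0x2286001), (nat_lit 0x1725001), (nat_lit 0x2292001)], [(nat_lit 0x1727001), (nat_lit 0x2584702288002), (nat_lit 0x24b5e02295002)], [(nat_lit 0x24b5e02296002), (nat_lit 0x2513e022a1002), (nat_lit 0x1735001)], [(nat_lit 0x228a001), (nat_lit 0x1729001), (nat_lit 0x2298001)], [(nat_lit 0x1732001), (nat_lit 0x229f001), (nat_lit 0x1733001)], [(nat_lit 0x22a6001), (nat_lit 0x173e001), (nat_lit 0x22ab001)], [(nat_lit 0x172a001), (nat_lit 0x228b001), (nat_lit 0x2299001)], [(nat_lit 0x229a001), (nat_lit 0x22a2001), (nat_lit 0x1736001)], [(nat_lit 0x228e001), (nat_lit 0x172d001), (nat_lit 0x252970229b002)], [(nat_lit 0x1740001), (nat_lit 0x22a8001), (nat_lit 0x26e46022ad002)], [(nat_lit 0x22bf001), (nat_lit 0x1750001), (nat_lit 0x22c3001)], [(nat_lit 0x1753001), (nat_lit 0x22c0001), (nat_lit 0x1752001)], [(nat_lit 0x22c8001), (nat_lit 0x175b001), (nat_lit 0x22d9001)], [(nat_lit 0x1760001), (nat_lit 0x22cc001), (nat_lit 0x256f4022d6002)], [(nat_lit 0x256f4022d5002), (nat_lit 0x22e1001), (nat_lit 0x1768001)], [(nat_lit 0x22e6001), (nat_lit 0x176e001), (nat_lit 0x22f8001)], [(nat_lit 0x1772001), (nat_lit 0x22e8001), (nat_lit 0x2993f022f1002)], [(nat_lit 0x2993f022f0002), (nat_lit 0x22fd001), (nat_lit 0x177c001)], [(nat_lit 0x22cd001), (nat_lit 0x1762001), (nat_lit 0x22cf001)], [(nat_lit 0x176b001), (nat_lit 0x22e3001), (nat_lit 0x176a001)], [(nat_lit 0x1775001), (nat_lit 0x25f6e022e9002), (nat_lit 0x22f4001)], [(nat_lit 0x22f3001), (nat_lit 0x22fe001), (nat_lit 0x177f001)], [(nat_lit 0x22ea001), (nat_lit 0x1776001), (nat_lit 0x22fa001)], [(nat_lit 0x1779001), (nat_lit 0x22ed001), (nat_lit 0x177a001)], [(nat_lit 0x2300001), (nat_lit 0x1781001), (nat_lit 0x2314001)], [(nat_lit 0x175a001), (nat_lit 0x22c7001), (nat_lit 0x1759001)], [(nat_lit 0x22c9001), (nat_lit 0x175d001), (nat_lit 0x22da001)], [(nat_lit 0x1763001), (nat_lit 0x2cad0022d0002), (nat_lit 0x22dc001)], [(nat_lit 0x22dd001), (nat_lit 0x2671a022e4002), (nat_lit 0x176c001)], [(nat_lit 0x22cb001), (nat_lit 0x175f001), (nat_lit 0x22db001)], [(nat_lit 0x1765001), (nat_lit 0x22d2001), (nat_lit 0x1766001)], [(nat_lit 0x22e5001), (nat_lit 0x176d001), (nat_lit 0x22f7001)], [(nat_lit 0x1761001), (nat_lit 0x22ce001), (nat_lit 0x22d8001)], [(nat_lit 0x22d7001), (nat_lit 0x22e2001), (nat_lit 0x1769001)], [(nat_lit 0x22e7001), (nat_lit 0x176f001), (nat_lit 0x22f9001)], [(nat_lit 0x2df3f022eb002), (nat_lit 0x1777001), (nat_lit 0x22fb001)], [(nat_lit 0x1778001), (nat_lit 0x22ec001), (nat_lit 0x22f6001)], [(nat_lit 0x22f5001), (nat_lit 0x22ff001), (nat_lit 0x1780001)], [(nat_lit 0x2304001), (nat_lit 0x1784001), (nat_lit 0x25cd402315002)], [(nat_lit 0x178d001), (nat_lit 0x230c001), (nat_lit 0x178e001)], [(nat_lit 0x1782001), (nat_lit 0x1864001), (nat_lit 0x2dd7502301002)], [(nat_lit 0x2dd7502302002), (nat_lit 0x230d001), (nat_lit 0x178f001)], [(nat_lit 0x2309001), (nat_lit 0x1789001), (nat_lit 0x2317001)], [(nat_lit 0x1796001), (nat_lit 0x231e001), (nat_lit 0x2529602329002)], [(nat_lit 0x1783001), (nat_lit 0x2bdf602303002), (nat_lit 0x230f001)], [(nat_lit 0x230e001), (nat_lit 0x20ac70231a002), (nat_lit 0x1790001)], [(nat_lit 0x230a001), (nat_lit 0x178a001), (nat_lit 0x2318001)], [(nat_lit 0x1797001), (nat_lit 0x165b10231f002), (nat_lit 0x232b001)], [(nat_lit 0x232a001), (nat_lit 0x2337001), (nat_lit 0x17a4001)], [(nat_lit 0x231d001), (nat_lit 0x1795001), (nat_lit 0x2332001)], [(nat_lit 0x178b001), (nat_lit 0x230b001), (nat_lit 0x2312001)], [(nat_lit 0x2311001), (nat_lit 0x20be30231b002), (nat_lit 0x1793001)], [(nat_lit 0x2321001), (nat_lit 0x1799001), (nat_lit 0x2333001)], [(nat_lit 0x179e001), (nat_lit 0x2326001), (nat_lit 0x179f001)], [(nat_lit 0x233c001), (nat_lit 0x17ac001), (nat_lit 0x2353001)], [(nat_lit 0x2322001), (nat_lit 0x179a001), (nat_lit 0x2334001)], [(nat_lit 0x17a0001), (nat_lit 0x2327001), (nat_lit 0x17a1001)], [(nat_lit 0x17b0001), (nat_lit 0x2342001), (nat_lit 0x2e7040234c002)], [(nat_lit 0x2e7040234b002), (nat_lit 0x17b9001), (nat_lit 0x17b8001)], [(nat_lit 0x2348001), (nat_lit 0x17b5001), (nat_lit 0x2359001)], [(nat_lit 0x17bf001), (nat_lit 0x2352001), (nat_lit 0x235e001)], [(nat_lit 0x235f001), (nat_lit 0x236b001), (nat_lit 0x17ce001)], [(nat_lit 0x2308001), (nat_lit 0x1788001), (nat_lit 0x2316001)], [(nat_lit 0x1798001), (nat_lit 0x2e1ba02320002), (nat_lit 0x232e001)], [(nat_lit 0x232d001), (nat_lit 0x2339001), (nat_lit 0x17a6001)], [(nat_lit 0x2323001), (nat_lit 0x179b001), (nat_lit 0x2335001)], [(nat_lit 0x17a8001), (nat_lit 0x232f001), (nat_lit 0x17a7001)], [(nat_lit 0x2c7fa0233f002), (nat_lit 0x17ae001), (nat_lit 0x2356001)], [(nat_lit 0x17b1001), (nat_lit 0x19ba001), (nat_lit 0x2343001)], [(nat_lit 0x2344001), (nat_lit 0x234d001), (nat_lit 0x17ba001)], [(nat_lit 0x2349001), (nat_lit 0x17b6001), (nat_lit 0x235a001)], [(nat_lit 0x17c0001), (nat_lit 0x2360001), (nat_lit 0x2d6260236d002)], [(nat_lit 0x179c001), (nat_lit 0x2324001), (nat_lit 0x2331001)], [(nat_lit 0x2330001), (nat_lit 0x2e82f0233a002), (nat_lit 0x17a9001)], [(nat_lit 0x17ab001), (nat_lit 0x233b001), (nat_lit 0x17aa001)], [(nat_lit 0x2341001), (nat_lit 0x17af001), (nat_lit 0x2358001)], [(nat_lit 0x17b2001), (nat_lit 0x2345001), (nat_lit 0x25cd30234f002)], [(nat_lit 0x11f2a0234a002), (nat_lit 0x17b7001), (nat_lit 0x235b001)], [(nat_lit 0x11f190236e002), (nat_lit 0x237a001), (nat_lit 0x17d0001)], [(nat_lit 0x17b4001), (nat_lit 0x17b3001), (nat_lit 0x2346001)], [(nat_lit 0x17bd001), (nat_lit 0x2350001), (nat_lit 0x17bc001)], [(nat_lit 0x2351001), (nat_lit 0x17be001), (nat_lit 0x235d001)], [(nat_lit 0x17c2001), (nat_lit 0x2361001), (nat_lit 0x2371001)], [(nat_lit 0x2370001), (nat_lit 0x237b001), (nat_lit 0x17d1001)], [(nat_lit 0x2347001), (nat_lit 0x2362001), (nat_lit 0x17c3001)], [(nat_lit 0x2946202365002), (nat_lit 0x17c6001), (nat_lit 0x29c0302376002)], [(nat_lit 0x17cb001), (nat_lit 0x2369001), (nat_lit 0x2377001)], [(nat_lit 0x2378001), (nat_lit 0x237d001), (nat_lit 0x17d3001)], [(nat_lit 0x17d5001), (nat_lit 0x20b600237f002), (nat_lit 0x238d001)], [(nat_lit 0x238c001), (nat_lit 0x239d001), (nat_lit 0x17e2001)], [(nat_lit 0x2384001), (nat_lit 0x17d9001), (nat_lit 0x2396001)], [(nat_lit 0x17e0001), (nat_lit 0x238a001), (nat_lit 0x2399001)], [(nat_lit 0x239a001), (nat_lit 0x23a1001), (nat_lit 0x17e9001)], [(nat_lit 0x2c04a02372002), (nat_lit 0x2b5ef0237c002), (nat_lit 0x17d2001)], [(nat_lit 0x17cc001), (nat_lit 0x236a001), (nat_lit 0x17cd001)], [(nat_lit 0x237e001), (nat_lit 0x17d4001), (nat_lit 0x2395001)], [(nat_lit 0x17d6001), (nat_lit 0x2380001), (nat_lit 0x238f001)], [(nat_lit 0x238e001), (nat_lit 0x239e001), (nat_lit 0x17e3001)], [(nat_lit 0x2385001), (nat_lit 0x17da001), (nat_lit 0x2398001)], [(nat_lit 0x17e1001), (nat_lit 0x238b001), (nat_lit 0x239b001)], [(nat_lit 0x239c001), (nat_lit 0x23a2001), (nat_lit 0x17ea001)], [(nat_lit 0x2381001), (nat_lit 0x17d7001), (nat_lit 0x2382001)], [(nat_lit 0x17de001), (nat_lit 0x2389001), (nat_lit 0x17df001)], [(nat_lit 0x23a0001), (nat_lit 0x17e8001), (nat_lit 0x23b2001)], [(nat_lit 0x17db001), (nat_lit 0x2386001), (nat_lit 0x2393001)], [(nat_lit 0x2392001), (nat_lit 0x182f001), (nat_lit 0x17e5001)], [(nat_lit 0x23a4001), (nat_lit 0x17ed001), (nat_lit 0x23b4001)], [(nat_lit 0x17f2001), (nat_lit 0x18f5001), (nat_lit 0x17f3001)], [(nat_lit 0x23ad001), (nat_lit 0x17f9001), (nat_lit 0x2c59e023b9002)], [(nat_lit 0x17d8001), (nat_lit 0x2383001), (nat_lit 0x2391001)], [(nat_lit 0x2390001), (nat_lit 0x239f001), (nat_lit 0x17e4001)], [(nat_lit 0x1803001), (nat_lit 0x23c4001), (nat_lit 0x23cd001)], [(nat_lit 0x23ce001), (nat_lit 0x23f72023d3002), (nat_lit 0x180c001)], [(nat_lit 0x17dd001), (nat_lit 0x17dc001), (nat_lit 0x2387001)], [(nat_lit 0x17e7001), (nat_lit 0x2394001), (nat_lit 0x17e6001)], [(nat_lit 0x17ee001), (nat_lit 0x23a5001), (nat_lit 0x2b22e023aa002)], [(nat_lit 0x2b22e023a9002), (nat_lit 0x23b8001), (nat_lit 0x17f4001)], [(nat_lit 0x23a7001), (nat_lit 0x17f0001), (nat_lit 0x23b6001)], [(nat_lit 0x17f6001), (nat_lit 0x23ab001), (nat_lit 0x17f5001)], [(nat_lit 0x23b0001), (nat_lit 0x17fc001), (nat_lit 0x23bd001)], [(nat_lit 0x2388001), (nat_lit 0x23a3001), (nat_lit 0x17ec001)], [(nat_lit 0x17fb001), (nat_lit 0x23af001), (nat_lit 0x2a53a023bb002)], [(nat_lit 0x2a53a023bc002), (nat_lit 0x2d1d5023c8002), (nat_lit 0x1808001)], [(nat_lit 0x23a8001), (nat_lit 0x17f1001), (nat_lit 0x23b7001)], [(nat_lit 0x17f8001), (nat_lit 0x28761023ac002), (nat_lit 0x17f7001)], [(nat_lit 0x23bf001), (nat_lit 0x17fd001), (nat_lit 0x18c1001)], [(nat_lit 0x17fe001), (nat_lit 0x23c0001), (nat_lit 0x23ca001)], [(nat_lit 0x23c9001), (nat_lit 0x23d1001), (nat_lit 0x180a001)], [(nat_lit 0x1804001), (nat_lit 0x23c5001), (nat_lit 0x23cf001)], [(nat_lit 0x23d0001), (nat_lit 0x23d4001), (nat_lit 0x180d001)], [(nat_lit 0x23c1001), (nat_lit 0x17ff001), (nat_lit 0x23cb001)], [(nat_lit 0x1801001), (nat_lit 0x23c3001), (nat_lit 0x1802001)], [(nat_lit 0x23d2001), (nat_lit 0x180b001), (nat_lit 0x228da023e5002)], [(nat_lit 0x1810001), (nat_lit 0x23d7001), (nat_lit 0x23df001)], [(nat_lit 0x23de001), (nat_lit 0x23e9001), (nat_lit 0x1818001)], [(nat_lit 0x1807001), (nat_lit 0x23c7001), (nat_lit 0x1806001)], [(nat_lit 0x23d8001), (nat_lit 0x1811001), (nat_lit 0x23e8001)], [(nat_lit 0x1814001), (nat_lit 0x23da001), (nat_lit 0x23e2001)], [(nat_lit 0x23e1001), (nat_lit 0x23ec001), (nat_lit 0x181b001)], [(nat_lit 0x1812001), (nat_lit 0x23d9001), (nat_lit 0x1813001)], [(nat_lit 0x23e0001), (nat_lit 0x181a001), (nat_lit 0x23eb001)], [(nat_lit 0x1820001), (nat_lit 0x290c8023ef002), (nat_lit 0x23fb001)], [(nat_lit 0x23fa001), (nat_lit 0x2407001), (nat_lit 0x182d001)], [(nat_lit 0x23f1001), (nat_lit 0x1822001), (nat_lit 0x2403001)], [(nat_lit 0x23d6001), (nat_lit 0x180f001), (nat_lit 0x23e7001)], [(nat_lit 0x1815001), (nat_lit 0x23db001), (nat_lit 0x23e4001)], [(nat_lit 0x23e3001), (nat_lit 0x23ed001), (nat_lit 0x181c001)], [(nat_lit 0x23f2001), (nat_lit 0x1823001), (nat_lit 0x2b53d02404002)], [(nat_lit 0x1828001), (nat_lit 0x23f6001), (nat_lit 0x1829001)], [(nat_lit 0x23fe001), (nat_lit 0x1831001), (nat_lit 0x2409001)], [(nat_lit 0x1817001), (nat_lit 0x1816001), (nat_lit 0x23dc001)], [(nat_lit 0x181e001), (nat_lit 0x23ee001), (nat_lit 0x181d001)], [(nat_lit 0x23f4001), (nat_lit 0x1825001), (nat_lit 0x2406001)], [(nat_lit 0x1821001), (nat_lit 0x23f0001), (nat_lit 0x23fd001)], [(nat_lit 0x23fc001), (nat_lit 0x182f001), (nat_lit 0x182e001)], [(nat_lit 0x23f3001), (nat_lit 0x1824001), (nat_lit 0x2405001)], [(nat_lit 0x182a001), (nat_lit 0x23f7001), (nat_lit 0x182b001)], [(nat_lit 0x23ff001), (nat_lit 0x1832001), (nat_lit 0x240a001)], [(nat_lit 0x182c001), (nat_lit 0x23f8001), (nat_lit 0x2495e02401002)], [(nat_lit 0x240f001), (nat_lit 0x1837001), (nat_lit 0x2420001)], [(nat_lit 0x183a001), (nat_lit 0x2411001), (nat_lit 0x241a001)], [(nat_lit 0x2419001), (nat_lit 0x2425001), (nat_lit 0x1841001)], [(nat_lit 0x1838001), (nat_lit 0x2410001), (nat_lit 0x2418001)], [(nat_lit 0x2417001), (nat_lit 0x2424001), (nat_lit 0x1840001)], [(nat_lit 0x2416001), (nat_lit 0x183f001), (nat_lit 0x28fe202423002)], [(nat_lit 0x1847001), (nat_lit 0x2428001), (nat_lit 0x1846001)], [(nat_lit 0x2443a0242d002), (nat_lit 0x184d001), (nat_lit 0x243d001)], [(nat_lit 0x2be560240d002), (nat_lit 0x240e001), (nat_lit 0x1836001)], [(nat_lit 0x2415001), (nat_lit 0x183e001), (nat_lit 0x2422001)], [(nat_lit 0x1845001), (nat_lit 0x241f001), (nat_lit 0x1844001)], [(nat_lit 0x242c001), (nat_lit 0x184c001), (nat_lit 0x243c001)], [(nat_lit 0x184b001), (nat_lit 0x242b001), (nat_lit 0x1f55d02436002)], [(nat_lit 0x2430001), (nat_lit 0x1852001), (nat_lit 0x243e001)], [(nat_lit 0x185a001), (nat_lit 0x2445001), (nat_lit 0x2451001)], [(nat_lit 0x2450001), (nat_lit 0x245a001), (nat_lit 0x1866001)], [(nat_lit 0x2dac502413002), (nat_lit 0x183c001), (nat_lit 0x2dac602421002)], [(nat_lit 0x1848001), (nat_lit 0x2e3a602429002), (nat_lit 0x2434001)], [(nat_lit 0x2433001), (nat_lit 0x243f001), (nat_lit 0x1854001)], [(nat_lit 0x2e3080242a002), (nat_lit 0x1849001), (nat_lit 0x2e3090243b002)], [(nat_lit 0x184e001), (nat_lit 0x242e001), (nat_lit 0x184f001)], [(nat_lit 0x2437001), (nat_lit 0x1856001), (nat_lit 0x2441001)], [(nat_lit 0x1853001), (nat_lit 0x2431001), (nat_lit 0x2c5730243a002)], [(nat_lit 0x2c57302439002), (nat_lit 0x2c85802443002), (nat_lit 0x1858001)], [(nat_lit 0x2446001), (nat_lit 0x185b001), (nat_lit 0x2457001)], [(nat_lit 0x185f001), (nat_lit 0x2df4802449002), (nat_lit 0x2456001)], [(nat_lit 0x2455001), (nat_lit 0x245d001), (nat_lit 0x1869001)], [(nat_lit 0x2432001), (nat_lit 0x1859001), (nat_lit 0x2444001)], [(nat_lit 0x185d001), (nat_lit 0x2448001), (nat_lit 0x185e001)], [(nat_lit 0x2454001), (nat_lit 0x1868001), (nat_lit 0x245c001)], [(nat_lit 0x2405102452002), (nat_lit 0x245b001), (nat_lit 0x1867001)], [(nat_lit 0x2463001), (nat_lit 0x1870001), (nat_lit 0x2477001)], [(nat_lit 0x2469001), (nat_lit 0x1876001), (nat_lit 0x247a001)], [(nat_lit 0x183d001), (nat_lit 0x2414001), (nat_lit 0x241e001)], [(nat_lit 0x241d001), (nat_lit 0x2427001), (nat_lit 0x1843001)], [(nat_lit 0x1850001), (nat_lit 0x242f001), (nat_lit 0x1851001)], [(nat_lit 0x2438001), (nat_lit 0x1857001), (nat_lit 0x2442001)], [(nat_lit 0x1861001), (nat_lit 0x1860001), (nat_lit 0x2d3610244a002)], [(nat_lit 0x186b001), (nat_lit 0x245e001), (nat_lit 0x186a001)], [(nat_lit 0x2466001), (nat_lit 0x1873001), (nat_lit 0x2479001)], [(nat_lit 0x1865001), (nat_lit 0x244f001), (nat_lit 0x2458001)], [(nat_lit 0x2459001), (nat_lit 0x2460001), (nat_lit 0x186d001)], [(nat_lit 0x2b9fb02464002), (nat_lit 0x1871001), (nat_lit 0x2478001)], [(nat_lit 0x1877001), (nat_lit 0x246a001), (nat_lit 0x1878001)], [(nat_lit 0x2d3610244b002), (nat_lit 0x244c001), (nat_lit 0x1862001)], [(nat_lit 0x2461001), (nat_lit 0x186e001), (nat_lit 0x2474001)], [(nat_lit 0x1863001), (nat_lit 0x1864001), (nat_lit 0x244d001)], [(nat_lit 0x244e001), (nat_lit 0x245f001), (nat_lit 0x186c001)], [(nat_lit 0x2462001), (nat_lit 0x186f001), (nat_lit 0x2475001)], [(nat_lit 0x1875001), (nat_lit 0x2468001), (nat_lit 0x2bdd10246f002)], [(nat_lit 0x2bdd10246e002), (nat_lit 0x247c001), (nat_lit 0x187c001)], [(nat_lit 0x23f9001), (nat_lit 0x1872001), (nat_lit 0x2465001)], [(nat_lit 0x187a001), (nat_lit 0x246b001), (nat_lit 0x1879001)], [(nat_lit 0x2855d02470002), (nat_lit 0x187d001), (nat_lit 0x247d001)], [(nat_lit 0x1880001), (nat_lit 0x2472001), (nat_lit 0x247e001)], [(nat_lit 0x247f001), (nat_lit 0x2488001), (nat_lit 0x188c001)], [(nat_lit 0x2481001), (nat_lit 0x1882001), (nat_lit 0x248f001)], [(nat_lit 0x1886001), (nat_lit 0x2482001), (nat_lit 0x1887001)], [(nat_lit 0x248c001), (nat_lit 0x1890001), (nat_lit 0x2498001)], [(nat_lit 0x187f001), (nat_lit 0x2471001), (nat_lit 0x187e001)], [(nat_lit 0x2d68302489002), (nat_lit 0x2496001), (nat_lit 0x188e001)], [(nat_lit 0x248b001), (nat_lit 0x188f001), (nat_lit 0x2497001)], [(nat_lit 0x2483001), (nat_lit 0x1888001), (nat_lit 0x2490001)], [(nat_lit 0x188b001), (nat_lit 0x2487001), (nat_lit 0x2492001)], [(nat_lit 0x2493001), (nat_lit 0x249a001), (nat_lit 0x1892001)], [(nat_lit 0x2484001), (nat_lit 0x1889001), (nat_lit 0x2491001)], [(nat_lit 0x188a001), (nat_lit 0x2485001), (nat_lit 0x2aa5c0248e002)], [(nat_lit 0x2aa5c0248d002), (nat_lit 0x2499001), (nat_lit 0x1891001)], [(nat_lit 0x249c001), (nat_lit 0x1894001), (nat_lit 0x24ab001)], [(nat_lit 0x1897001), (nat_lit 0x249f001), (nat_lit 0x24a8001)], [(nat_lit 0x24a7001), (nat_lit 0x24af001), (nat_lit 0x189f001)], [(nat_lit 0x2486001), (nat_lit 0x1895001), (nat_lit 0x249d001)], [(nat_lit 0x1898001), (nat_lit 0x24a0001), (nat_lit 0x1899001)], [(nat_lit 0x24a9001), (nat_lit 0x18a0001), (nat_lit 0x1e888024b2002)], [(nat_lit 0x24a1001), (nat_lit 0x189a001), (nat_lit 0x24ac001)], [(nat_lit 0x18a2001), (nat_lit 0x24aa001), (nat_lit 0x18a1001)], [(nat_lit 0x24bb001), (nat_lit 0x18ad001), (nat_lit 0x24ca001)], [(nat_lit 0x2e781024a5002), (nat_lit 0x1c1bd024ae002), (nat_lit 0x189e001)], [(nat_lit 0x18a6001), (nat_lit 0x24b4001), (nat_lit 0x18a5001)], [(nat_lit 0x24bd001), (nat_lit 0x18af001), (nat_lit 0x24cc001)], [(nat_lit 0x28d92024ba002), (nat_lit 0x18ac001), (nat_lit 0x28d90024c9002)], [(nat_lit 0x18b8001), (nat_lit 0x24c4001), (nat_lit 0x24d0001)], [(nat_lit 0x24d1001), (nat_lit 0x24df001), (nat_lit 0x18c7001)], [(nat_lit 0x189c001), (nat_lit 0x189b001), (nat_lit 0x24a2001)], [(nat_lit 0x18a4001), (nat_lit 0x24b3001), (nat_lit 0x18a3001)], [(nat_lit 0x291be024bc002), (nat_lit 0x18ae001), (nat_lit 0x291bf024cb002)], [(nat_lit 0x18a7001), (nat_lit 0x24b5001), (nat_lit 0x27fbc024c1002)], [(nat_lit 0x27fbc024c0002), (nat_lit 0x24ce001), (nat_lit 0x18b3001)], [(nat_lit 0x24b9001), (nat_lit 0x18ab001), (nat_lit 0x24c8001)], [(nat_lit 0x18b5001), (nat_lit 0x24c2001), (nat_lit 0x18b4001)], [(nat_lit 0x18e1001), (nat_lit 0x18b7001), (nat_lit 0x18d8001)], [(nat_lit 0x24a3001), (nat_lit 0x24b7001), (nat_lit 0x18a9001)], [(nat_lit 0x24be001), (nat_lit 0x18b0001), (nat_lit 0x24cd001)], [(nat_lit 0x18b9001), (nat_lit 0x24c5001), (nat_lit 0x24d2001)], [(nat_lit 0x24d3001), (nat_lit 0x24e0001), (nat_lit 0x18c8001)], [(nat_lit 0x24c6001), (nat_lit 0x18ba001), (nat_lit 0x24d4001)], [(nat_lit 0x18be001), (nat_lit 0x24d7001), (nat_lit 0x18bf001)], [(nat_lit 0x18bb001), (nat_lit 0x24d5001), (nat_lit 0x24e2001)], [(nat_lit 0x24e1001), (nat_lit 0x24ea001), (nat_lit 0x18c9001)], [(nat_lit 0x24d8001), (nat_lit 0x18c0001), (nat_lit 0x18c1001)], [(nat_lit 0x18c4001), (nat_lit 0x24dc001), (nat_lit 0x24e4001)], [(nat_lit 0x24e3001), (nat_lit 0x20a89024ec002), (nat_lit 0x18cb001)], [(nat_lit 0x24b8001), (nat_lit 0x18aa001), (nat_lit 0x24c7001)], [(nat_lit 0x18b1001), (nat_lit 0x24bf001), (nat_lit 0x18b2001)], [(nat_lit 0x24c3001), (nat_lit 0x18b6001), (nat_lit 0x24cf001)], [(nat_lit 0x18c5001), (nat_lit 0x24dd001), (nat_lit 0x24e6001)], [(nat_lit 0x24e7001), (nat_lit 0x24ed001), (nat_lit 0x18cc001)], [(nat_lit 0x18d1001), (nat_lit 0x24f2001), (nat_lit 0x20f4e024fd002)], [(nat_lit 0x24f7001), (nat_lit 0x18d9001), (nat_lit 0x2507001)], [(nat_lit 0x18e3001), (nat_lit 0x2501001), (nat_lit 0x18e2001)], [(nat_lit 0x2514001), (nat_lit 0x18eb001), (nat_lit 0x2524001)], [(nat_lit 0x18bd001), (nat_lit 0x24d6001), (nat_lit 0x18bc001)], [(nat_lit 0x24db001), (nat_lit 0x18c3001), (nat_lit 0x24e5001)], [(nat_lit 0x18c6001), (nat_lit 0x24de001), (nat_lit 0x2e0f4024e8002)], [(nat_lit 0x2e0f4024e9002), (nat_lit 0x210fc024ee002), (nat_lit 0x18cd001)], [(nat_lit 0x24ef001), (nat_lit 0x18ce001), (nat_lit 0x2505001)], [(nat_lit 0x18d3001), (nat_lit 0x24f4001), (nat_lit 0x18d4001)], [(nat_lit 0x24fe001), (nat_lit 0x18de001), (nat_lit 0x250b001)], [(nat_lit 0x18d0001), (nat_lit 0x24f1001), (nat_lit 0x24fb001)], [(nat_lit 0x24fa001), (nat_lit 0x2509001), (nat_lit 0x18dc001)], [(nat_lit 0x24f3001), (nat_lit 0x18d2001), (nat_lit 0x2506001)], [(nat_lit 0x18d7001), (nat_lit 0x24f6001), (nat_lit 0x18d8001)], [(nat_lit 0x18e1001), (nat_lit 0x2500001), (nat_lit 0x18e0001)], [(nat_lit 0x2d977024f8002), (nat_lit 0x18da001), (nat_lit 0x2d97802508002)], [(nat_lit 0x2513001), (nat_lit 0x18ea001), (nat_lit 0x2d9c902523002)], [(nat_lit 0x18ee001), (nat_lit 0x2517001), (nat_lit 0x18ef001)], [(nat_lit 0x251f001), (nat_lit 0x18f7001), (nat_lit 0x2527001)], [(nat_lit 0x23dd001), (nat_lit 0x24f9001), (nat_lit 0x18db001)], [(nat_lit 0x2e64102511002), (nat_lit 0x18e8001), (nat_lit 0x2e64202521002)], [(nat_lit 0x18ec001), (nat_lit 0x2515001), (nat_lit 0x251c001)], [(nat_lit 0x251b001), (nat_lit 0x18f5001), (nat_lit 0x18f4001)], [(nat_lit 0x18e4001), (nat_lit 0x2503001), (nat_lit 0x250d001)], [(nat_lit 0x250e001), (nat_lit 0x2519001), (nat_lit 0x18f1001)], [(nat_lit 0x2512001), (nat_lit 0x18e9001), (nat_lit 0x1f99302522002)], [(nat_lit 0x18ed001), (nat_lit 0x2516001), (nat_lit 0x251e001)], [(nat_lit 0x251d001), (nat_lit 0x2526001), (nat_lit 0x18f6001)], [(nat_lit 0x2d5c402520002), (nat_lit 0x18f9001), (nat_lit 0x2529001)], [(nat_lit 0x18fc001), (nat_lit 0x252c001), (nat_lit 0x2533001)], [(nat_lit 0x2532001), (nat_lit 0x2541001), (nat_lit 0x1902001)], [(nat_lit 0x252e001), (nat_lit 0x18ff001), (nat_lit 0x253e001)], [(nat_lit 0x1906001), (nat_lit 0x2536001), (nat_lit 0x1905001)], [(nat_lit 0x254d001), (nat_lit 0x1911001), (nat_lit 0x255e001)], [(nat_lit 0x2549001), (nat_lit 0x190d001), (nat_lit 0x2e33f0255b002)], [(nat_lit 0x1914001), (nat_lit 0x2550001), (nat_lit 0x2558001)], [(nat_lit 0x2557001), (nat_lit 0x225b102561002), (nat_lit 0x191b001)], [(nat_lit 0x2c39f0253a002), (nat_lit 0x190f001), (nat_lit 0x254b001)], [(nat_lit 0x1919001), (nat_lit 0x2554001), (nat_lit 0x1918001)], [(nat_lit 0x1921001), (nat_lit 0x2568001), (nat_lit 0x2c1c602574002)], [(nat_lit 0x2c1c602573002), (nat_lit 0x1f58702582002), (nat_lit 0x192d001)], [(nat_lit 0x18fa001), (nat_lit 0x252a001), (nat_lit 0x2531001)], [(nat_lit 0x2530001), (nat_lit 0x1654202540002), (nat_lit 0x1901001)], [(nat_lit 0x252f001), (nat_lit 0x1900001), (nat_lit 0x253f001)], [(nat_lit 0x1908001), (nat_lit 0x24f0702537002), (nat_lit 0x1907001)], [(nat_lit 0x254e001), (nat_lit 0x1912001), (nat_lit 0x255f001)], [(nat_lit 0x190b001), (nat_lit 0x253b001), (nat_lit 0x2d9c702546002)], [(nat_lit 0x254a001), (nat_lit 0x190e001), (nat_lit 0x255c001)], [(nat_lit 0x191c001), (nat_lit 0x2559001), (nat_lit 0x2562001)], [(nat_lit 0x2563001), (nat_lit 0x2885c02572002), (nat_lit 0x192c001)], [(nat_lit 0x191f001), (nat_lit 0x191e001), (nat_lit 0x2565001)], [(nat_lit 0x2577001), (nat_lit 0x192f001), (nat_lit 0x2584001)], [(nat_lit 0x1922001), (nat_lit 0x2569001), (nat_lit 0x2576001)], [(nat_lit 0x2575001), (nat_lit 0x2583001), (nat_lit 0x192e001)], [(nat_lit 0x2566001), (nat_lit 0x2567001), (nat_lit 0x1920001)], [(nat_lit 0x1926001), (nat_lit 0x256c001), (nat_lit 0x2579001)], [(nat_lit 0x2578001), (nat_lit 0x2585001), (nat_lit 0x1930001)], [(nat_lit 0x256d001), (nat_lit 0x1927001), (nat_lit 0x2581001)], [(nat_lit 0x1932001), (nat_lit 0x257a001), (nat_lit 0x1931001)], [(nat_lit 0x1928001), (nat_lit 0x256e001), (nat_lit 0x257c001)], [(nat_lit 0x257b001), (nat_lit 0x2062902586002), (nat_lit 0x1933001)], [(nat_lit 0x258b001), (nat_lit 0x193b001), (nat_lit 0x225ae0259e002)], [(nat_lit 0x1941001), (nat_lit 0x2590001), (nat_lit 0x2d41a02595002)], [(nat_lit 0x2d41a02594002), (nat_lit 0x25a4001), (nat_lit 0x1945001)], [(nat_lit 0x192a001), (nat_lit 0x1929001), (nat_lit 0x256f001)], [(nat_lit 0x28a4a0258e002), (nat_lit 0x193e001), (nat_lit 0x25a2001)], [(nat_lit 0x192b001), (nat_lit 0x2571001), (nat_lit 0x257f001)], [(nat_lit 0x257e001), (nat_lit 0x2587001), (nat_lit 0x1936001)], [(nat_lit 0x258c001), (nat_lit 0x193c001), (nat_lit 0x25a0001)], [(nat_lit 0x1942001), (nat_lit 0x2591001), (nat_lit 0x1943001)], [(nat_lit 0x2596001), (nat_lit 0x1946001), (nat_lit 0x25a5001)], [(nat_lit 0x1938001), (nat_lit 0x2802302588002), (nat_lit 0x1937001)], [(nat_lit 0x2c367025a7002), (nat_lit 0x25b5001), (nat_lit 0x1956001)], [(nat_lit 0x2589001), (nat_lit 0x1939001), (nat_lit 0x259c001)], [(nat_lit 0x193f001), (nat_lit 0x2b6340258f002), (nat_lit 0x1940001)], [(nat_lit 0x2593001), (nat_lit 0x1944001), (nat_lit 0x25a3001)], [(nat_lit 0x194a001), (nat_lit 0x2598001), (nat_lit 0x25aa001)], [(nat_lit 0x25ab001), (nat_lit 0x25b7001), (nat_lit 0x1958001)], [(nat_lit 0x259b001), (nat_lit 0x194d001), (nat_lit 0x25ad001)], [(nat_lit 0x1951001), (nat_lit 0x2b5bf025b1002), (nat_lit 0x24b0001)], [(nat_lit 0x24b1001), (nat_lit 0x25bb001), (nat_lit 0x195b001)], [(nat_lit 0x2b5d80258a002), (nat_lit 0x193a001), (nat_lit 0x259d001)], [(nat_lit 0x2d232025a9002), (nat_lit 0x25b6001), (nat_lit 0x1957001)], [(nat_lit 0x228d001), (nat_lit 0x2597001), (nat_lit 0x1949001)], [(nat_lit 0x259a001), (nat_lit 0x194c001), (nat_lit 0x25ac001)], [(nat_lit 0x1950001), (nat_lit 0x25b0001), (nat_lit 0x25ba001)], [(nat_lit 0x25b9001), (nat_lit 0x2494001), (nat_lit 0x195a001)], [(nat_lit 0x2570001), (nat_lit 0x2599001), (nat_lit 0x194b001)], [(nat_lit 0x195f001), (nat_lit 0x23bd7025c6002), (nat_lit 0x195e001)], [(nat_lit 0x25c7001), (nat_lit 0x1962001), (nat_lit 0x25da001)], [(nat_lit 0x1965001), (nat_lit 0x25c9001), (nat_lit 0x25d2001)], [(nat_lit 0x25d1001), (nat_lit 0x25de001), (nat_lit 0x196b001)], [(nat_lit 0x25e1001), (nat_lit 0x1973001), (nat_lit 0x25f6001)], [(nat_lit 0x197c001), (nat_lit 0x1e87f025e8002), (nat_lit 0x25ec001)], [(nat_lit 0x25eb001), (nat_lit 0x25fc001), (nat_lit 0x197f001)], [(nat_lit 0x25b2001), (nat_lit 0x1953001), (nat_lit 0x25bf001)], [(nat_lit 0x2c049025cd002), (nat_lit 0x25db001), (nat_lit 0x1968001)], [(nat_lit 0x1963001), (nat_lit 0x25c8001), (nat_lit 0x1964001)], [(nat_lit 0x25d0001), (nat_lit 0x196a001), (nat_lit 0x25dd001)], [(nat_lit 0x25e2001), (nat_lit 0x1974001), (nat_lit 0x25f7001)], [(nat_lit 0x197d001), (nat_lit 0x25e9001), (nat_lit 0x2957f025ee002)], [(nat_lit 0x2957f025ed002), (nat_lit 0x25fd001), (nat_lit 0x1980001)], [(nat_lit 0x29d81025cb002), (nat_lit 0x1967001), (nat_lit 0x2939f025cc002)], [(nat_lit 0x196e001), (nat_lit 0x25d5001), (nat_lit 0x196d001)], [(nat_lit 0x25e4001), (nat_lit 0x1976001), (nat_lit 0x25f9001)], [(nat_lit 0x1982001), (nat_lit 0x25f0001), (nat_lit 0x2600001)], [(nat_lit 0x2601001), (nat_lit 0x2614001), (nat_lit 0x1994001)], [(nat_lit 0x1954001), (nat_lit 0x25b3001), (nat_lit 0x25c0001)], [(nat_lit 0x25c1001), (nat_lit 0x1f533025c5002), (nat_lit 0x195d001)], [(nat_lit 0x1970001), (nat_lit 0x196f001), (nat_lit 0x25d6001)], [(nat_lit 0x1977001), (nat_lit 0x25e5001), (nat_lit 0x1978001)], [(nat_lit 0x25ea001), (nat_lit 0x197e001), (nat_lit 0x25fb001)], [(nat_lit 0x1983001), (nat_lit 0x25f1001), (nat_lit 0x2602001)], [(nat_lit 0x2603001), (nat_lit 0x2615001), (nat_lit 0x1995001)], [(nat_lit 0x25f3001), (nat_lit 0x1985001), (nat_lit 0x2606001)], [(nat_lit 0x1986001), (nat_lit 0x25f4001), (nat_lit 0x1987001)], [(nat_lit 0x19c5001), (nat_lit 0x1997001), (nat_lit 0x19b3001)], [(nat_lit 0x25d7001), (nat_lit 0x25d8001), (nat_lit 0x1971001)], [(nat_lit 0x26396025e6002), (nat_lit 0x1979001), (nat_lit 0x26395025fa002)], [(nat_lit 0x1984001), (nat_lit 0x25f2001), (nat_lit 0x2604001)], [(nat_lit 0x2605001), (nat_lit 0x20afc02616002), (nat_lit 0x1996001)], [(nat_lit 0x25d9001), (nat_lit 0x1972001), (nat_lit 0x25e0001)], [(nat_lit 0x197a001), (nat_lit 0x25e7001), (nat_lit 0x197b001)], [(nat_lit 0x1988001), (nat_lit 0x25f5001), (nat_lit 0x2607001)], [(nat_lit 0x2608001), (nat_lit 0x2617001), (nat_lit 0x1998001)], [(nat_lit 0x2611001), (nat_lit 0x1991001), (nat_lit 0x2620001)], [(nat_lit 0x19a9001), (nat_lit 0x262d001), (nat_lit 0x2631001)], [(nat_lit 0x2630001), (nat_lit 0x263f001), (nat_lit 0x19ab001)], [(nat_lit 0x2a4e002609002), (nat_lit 0x1989001), (nat_lit 0x2af1302619002)], [(nat_lit 0x199a001), (nat_lit 0x2618001), (nat_lit 0x1999001)], [(nat_lit 0x2629001), (nat_lit 0x19a4001), (nat_lit 0x263a001)], [(nat_lit 0x2da3b02612002), (nat_lit 0x1992001), (nat_lit 0x2622001)], [(nat_lit 0x19ac001), (nat_lit 0x2632001), (nat_lit 0x2640001)], [(nat_lit 0x2641001), (nat_lit 0x2655001), (nat_lit 0x19bf001)], [(nat_lit 0x19a3001), (nat_lit 0x2628001), (nat_lit 0x262f001)], [(nat_lit 0x262e001), (nat_lit 0x263e001), (nat_lit 0x19aa001)], [(nat_lit 0x2e5d00260c002), (nat_lit 0x198c001), (nat_lit 0x261c001)], [(nat_lit 0x19ad001), (nat_lit 0x2633001), (nat_lit 0x2642001)], [(nat_lit 0x2643001), (nat_lit 0x2656001), (nat_lit 0x19c0001)], [(nat_lit 0x260e001), (nat_lit 0x198e001), (nat_lit 0x261f001)], [(nat_lit 0x19a0001), (nat_lit 0x2626001), (nat_lit 0x199f001)], [(nat_lit 0x262b001), (nat_lit 0x19a7001), (nat_lit 0x263c001)], [(nat_lit 0x19b0001), (nat_lit 0x2636001), (nat_lit 0x2951502648002)], [(nat_lit 0x2637001), (nat_lit 0x19b1001), (nat_lit 0x2649001)], [(nat_lit 0x19b2001), (nat_lit 0x2638001), (nat_lit 0x19b3001)], [(nat_lit 0x19c5001), (nat_lit 0x265a001), (nat_lit 0x19c4001)], [(nat_lit 0x198d001), (nat_lit 0x260d001), (nat_lit 0x261d001)], [(nat_lit 0x261e001), (nat_lit 0x2625001), (nat_lit 0x199e001)], [(nat_lit 0x262a001), (nat_lit 0x19a6001), (nat_lit 0x263b001)], [(nat_lit 0x19ae001), (nat_lit 0x2634001), (nat_lit 0x2644001)], [(nat_lit 0x2645001), (nat_lit 0x2e6b702657002), (nat_lit 0x19c1001)], [(nat_lit 0x2ab250262c002), (nat_lit 0x19a8001), (nat_lit 0x263d001)], [(nat_lit 0x275d202647002), (nat_lit 0x2df4002658002), (nat_lit 0x19c2001)], [(nat_lit 0x2639001), (nat_lit 0x19b4001), (nat_lit 0x264a001)], [(nat_lit 0x19c7001), (nat_lit 0x2665001), (nat_lit 0x19c6001)], [(nat_lit 0x2357001), (nat_lit 0x19cf001), (nat_lit 0x2c7fa02340002)], [(nat_lit 0x264c001), (nat_lit 0x19b6001), (nat_lit 0x265b001)], [(nat_lit 0x266c001), (nat_lit 0x19d0001), (nat_lit 0x267f001)], [(nat_lit 0x19b7001), (nat_lit 0x264d001), (nat_lit 0x265c001)], [(nat_lit 0x265d001), (nat_lit 0x2667001), (nat_lit 0x19ca001)], [(nat_lit 0x2653001), (nat_lit 0x19bd001), (nat_lit 0x2662001)], [(nat_lit 0x19d2001), (nat_lit 0x266e001), (nat_lit 0x2673001)], [(nat_lit 0x2672001), (nat_lit 0x2dbde02681002), (nat_lit 0x19d7001)], [(nat_lit 0x19e2001), (nat_lit 0x268b001), (nat_lit 0x19e3001)], [(nat_lit 0x2354001), (nat_lit 0x19ed001), (nat_lit 0x233d001)], [(nat_lit 0x19b9001), (nat_lit 0x19ba001), (nat_lit 0x264f001)], [(nat_lit 0x2650001), (nat_lit 0x2a52a02668002), (nat_lit 0x19cb001)], [(nat_lit 0x266b001), (nat_lit 0x19ce001), (nat_lit 0x267e001)], [(nat_lit 0x19d3001), (nat_lit 0x266f001), (nat_lit 0x24e7d02675002)], [(nat_lit 0x24e7d02674002), (nat_lit 0x2682001), (nat_lit 0x19d8001)], [(nat_lit 0x2e9f902660002), (nat_lit 0x2669001), (nat_lit 0x19cc001)], [(nat_lit 0x19e4001), (nat_lit 0x268c001), (nat_lit 0x19e5001)], [(nat_lit 0x2693001), (nat_lit 0x19ee001), (nat_lit 0x269b001)], [(nat_lit 0x19df001), (nat_lit 0x215690267b002), (nat_lit 0x1fea902687002)], [(nat_lit 0x268e001), (nat_lit 0x19e7001), (nat_lit 0x269a001)], [(nat_lit 0x19f2001), (nat_lit 0x2698001), (nat_lit 0x26a1001)], [(nat_lit 0x26a2001), (nat_lit 0x26a6001), (nat_lit 0x19f7001)], [(nat_lit 0x19d5001), (nat_lit 0x19d4001), (nat_lit 0x2670001)], [(nat_lit 0x19da001), (nat_lit 0x2676001), (nat_lit 0x19d9001)], [(nat_lit 0x267d001), (nat_lit 0x19e1001), (nat_lit 0x268a001)], [(nat_lit 0x19dd001), (nat_lit 0x2679001), (nat_lit 0x2685001)], [(nat_lit 0x2686001), (nat_lit 0x2691001), (nat_lit 0x19eb001)], [(nat_lit 0x2671001), (nat_lit 0x2e8200267a002), (nat_lit 0x19de001)], [(nat_lit 0x268d001), (nat_lit 0x19e6001), (nat_lit 0x2699001)], [(nat_lit 0x19f0001), (nat_lit 0x2696001), (nat_lit 0x269d001)], [(nat_lit 0x269e001), (nat_lit 0x26a5001), (nat_lit 0x19f6001)], [(nat_lit 0x11f280267c002), (nat_lit 0x19e0001), (nat_lit 0x2689001)], [(nat_lit 0x19e8001), (nat_lit 0x268f001), (nat_lit 0x19e9001)], [(nat_lit 0x11f1c02694002), (nat_lit 0x269c001), (nat_lit 0x19ef001)], [(nat_lit 0x2697001), (nat_lit 0x19f1001), (nat_lit 0x269f001)], [(nat_lit 0x19f3001), (nat_lit 0x26a3001), (nat_lit 0x19f4001)], [(nat_lit 0x19fc001), (nat_lit 0x19fb001), (nat_lit 0x26aa001)], [(nat_lit 0x1a00001), (nat_lit 0x26af001), (nat_lit 0x1a01001)], [(nat_lit 0x26b3001), (nat_lit 0x1a04001), (nat_lit 0x26c0001)], [(nat_lit 0x1a02001), (nat_lit 0x26b0001), (nat_lit 0x26b5001)], [(nat_lit 0x26b4001), (nat_lit 0x26c1001), (nat_lit 0x1a05001)], [(nat_lit 0x26b8001), (nat_lit 0x1a08001), (nat_lit 0x2e711026c3002)], [(nat_lit 0x1a0d001), (nat_lit 0x2e306026bc002), (nat_lit 0x1a0e001)], [(nat_lit 0x26ab001), (nat_lit 0x26b6001), (nat_lit 0x1a06001)], [(nat_lit 0x26b9001), (nat_lit 0x1a09001), (nat_lit 0x26c4001)], [(nat_lit 0x2e13c026c7002), (nat_lit 0x26cc001), (nat_lit 0x1a16001)], [(nat_lit 0x26b7001), (nat_lit 0x1a07001), (nat_lit 0x26c2001)], [(nat_lit 0x1a0b001), (nat_lit 0x2eb54026bb002), (nat_lit 0x1a0c001)], [(nat_lit 0x1a10001), (nat_lit 0x26bd001), (nat_lit 0x26c8001)], [(nat_lit 0x26c9001), (nat_lit 0x26cd001), (nat_lit 0x1a17001)], [(nat_lit 0x1a12001), (nat_lit 0x2c7f3026ca002), (nat_lit 0x1a11001)], [(nat_lit 0x26ce001), (nat_lit 0x1a18001), (nat_lit 0x2b8b3026d1002)], [(nat_lit 0x1a1a001), (nat_lit 0x26d4001), (nat_lit 0x2dacb026d9002)], [(nat_lit 0x2dacb026d8002), (nat_lit 0x26e8001), (nat_lit 0x1a20001)], [(nat_lit 0x2e0f2026d6002), (nat_lit 0x1a1c001), (nat_lit 0x2e0f3026e6002)], [(nat_lit 0x1a23001), (nat_lit 0x26dc001), (nat_lit 0x1a22001)], [(nat_lit 0x2e859026de002), (nat_lit 0x26ea001), (nat_lit 0x1a26001)], [(nat_lit 0x26e0001), (nat_lit 0x1a27001), (nat_lit 0x26eb001)], [(nat_lit 0x1a2a001), (nat_lit 0x26e2001), (nat_lit 0x26ee001)], [(nat_lit 0x26ef001), (nat_lit 0x26f4001), (nat_lit 0x1a2e001)], [(nat_lit 0x2445c026f8002), (nat_lit 0x1a33001), (nat_lit 0x26fc001)], [(nat_lit 0x26e3001), (nat_lit 0x1a2c001), (nat_lit 0x26f2001)], [(nat_lit 0x1a31001), (nat_lit 0x26f6001), (nat_lit 0x1a30001)], [(nat_lit 0x29a83026f9002), (nat_lit 0x1a35001), (nat_lit 0x29a84026fe002)], [(nat_lit 0x2704001), (nat_lit 0x1a39001), (nat_lit 0x2715001)], [(nat_lit 0x270d001), (nat_lit 0x1a46001), (nat_lit 0x2718001)], [(nat_lit 0x1a2b001), (nat_lit 0x26e4001), (nat_lit 0x26f0001)], [(nat_lit 0x26f1001), (nat_lit 0x26f5001), (nat_lit 0x1a2f001)], [(nat_lit 0x1a37001), (nat_lit 0x26fa001), (nat_lit 0x2700001)], [(nat_lit 0x2701001), (nat_lit 0x2708001), (nat_lit 0x1a41001)], [(nat_lit 0x1a38001), (nat_lit 0x26fb001), (nat_lit 0x2702001)], [(nat_lit 0x2703001), (nat_lit 0x2709001), (nat_lit 0x1a42001)], [(nat_lit 0x2813902705002), (nat_lit 0x1a3a001), (nat_lit 0x277b102716002)], [(nat_lit 0x1a44001), (nat_lit 0x270a001), (nat_lit 0x1a43001)], [(nat_lit 0x270e001), (nat_lit 0x1a47001), (nat_lit 0x2719001)], [(nat_lit 0x1a3b001), (nat_lit 0x2706001), (nat_lit 0x270c001)], [(nat_lit 0x270b001), (nat_lit 0x2717001), (nat_lit 0x1a45001)], [(nat_lit 0x270f001), (nat_lit 0x1a48001), (nat_lit 0x271a001)], [(nat_lit 0x1a4a001), (nat_lit 0x2710001), (nat_lit 0x271e001)], [(nat_lit 0x271f001), (nat_lit 0x272a001), (nat_lit 0x1a58001)], [(nat_lit 0x2713001), (nat_lit 0x1a4c001), (nat_lit 0x2722001)], [(nat_lit 0x1a53001), (nat_lit 0x2727001), (nat_lit 0x1a54001)], [(nat_lit 0x272e001), (nat_lit 0x1a5d001), (nat_lit 0x2735001)], [(nat_lit 0x1a4b001), (nat_lit 0x2eb1002711002), (nat_lit 0x2720001)], [(nat_lit 0x2721001), (nat_lit 0x272b001), (nat_lit 0x1a59001)], [(nat_lit 0x2726001), (nat_lit 0x1a52001), (nat_lit 0x2734001)], [(nat_lit 0x1a61001), (nat_lit 0x2732001), (nat_lit 0x2739001)], [(nat_lit 0x273a001), (nat_lit 0x2e5bf02742002), (nat_lit 0x1a6a001)], [(nat_lit 0x1a55001), (nat_lit 0x2eb1102728002), (nat_lit 0x1a56001)], [(nat_lit 0x272f001), (nat_lit 0x1a5e001), (nat_lit 0x2eb1302736002)], [(nat_lit 0x1a62001), (nat_lit 0x2733001), (nat_lit 0x273b001)], [(nat_lit 0x273c001), (nat_lit 0x2743001), (nat_lit 0x1a6b001)], [(nat_lit 0x2e9ff0273d002), (nat_lit 0x1a63001), (nat_lit 0x274a001)], [(nat_lit 0x2740001), (nat_lit 0x1a67001), (nat_lit 0x274c001)], [(nat_lit 0x1a4e001), (nat_lit 0x2714001), (nat_lit 0x2723001)], [(nat_lit 0x2724001), (nat_lit 0x272c001), (nat_lit 0x1a5a001)], [(nat_lit 0x1a5c001), (nat_lit 0x272d001), (nat_lit 0x1a5b001)], [(nat_lit 0x2731001), (nat_lit 0x1a60001), (nat_lit 0x2738001)], [(nat_lit 0x273f001), (nat_lit 0x1a66001), (nat_lit 0x2ec040274b002)], [(nat_lit 0x2e0360274f002), (nat_lit 0x275b001), (nat_lit 0x1a7d001)], [(nat_lit 0x1a50001), (nat_lit 0x2725001), (nat_lit 0x1a4f001)], [(nat_lit 0x2e50702730002), (nat_lit 0x1a5f001), (nat_lit 0x2737001)], [(nat_lit 0x26e5001), (nat_lit 0x1a65001), (nat_lit 0x1b8e50273e002)], [(nat_lit 0x1a6e001), (nat_lit 0x1b8e602744002), (nat_lit 0x1a6d001)], [(nat_lit 0x2745001), (nat_lit 0x1a6f001), (nat_lit 0x274d001)], [(nat_lit 0x1a71001), (nat_lit 0x2746001), (nat_lit 0x2750001)], [(nat_lit 0x2751001), (nat_lit 0x275c001), (nat_lit 0x1a7e001)], [(nat_lit 0x2747001), (nat_lit 0x1a73001), (nat_lit 0x2754001)], [(nat_lit 0x1a79001), (nat_lit 0x2759001), (nat_lit 0x1a7a001)], [(nat_lit 0x2761001), (nat_lit 0x1a82001), (nat_lit 0x2766001)], [(nat_lit 0x1a75001), (nat_lit 0x2749001), (nat_lit 0x2755001)], [(nat_lit 0x2756001), (nat_lit 0x275e001), (nat_lit 0x1a80001)], [(nat_lit 0x2758001), (nat_lit 0x1a78001), (nat_lit 0x2764001)], [(nat_lit 0x1a7b001), (nat_lit 0x275a001), (nat_lit 0x1a7c001)], [(nat_lit 0x1a85001), (nat_lit 0x2762001), (nat_lit 0x1a84001)], [(nat_lit 0x1a88001), (nat_lit 0x276a001), (nat_lit 0x2775001)], [(nat_lit 0x2774001), (nat_lit 0x1fe4e02789002), (nat_lit 0x1a92001)], [(nat_lit 0x2e2430276f002), (nat_lit 0x1a8c001), (nat_lit 0x2786001)], [(nat_lit 0x1a9c001), (nat_lit 0x277f001), (nat_lit 0x278e001)], [(nat_lit 0x278f001), (nat_lit 0x2799001), (nat_lit 0x1aac001)], [(nat_lit 0x276b001), (nat_lit 0x1a8a001), (nat_lit 0x276d001)], [(nat_lit 0x1a95001), (nat_lit 0x178ae02778002), (nat_lit 0x1a94001)], [(nat_lit 0x277e001), (nat_lit 0x1a9b001), (nat_lit 0x278d001)], [(nat_lit 0x1a8b001), (nat_lit 0x25ccf0276e002), (nat_lit 0x277a001)], [(nat_lit 0x2779001), (nat_lit 0x1aca001), (nat_lit 0x1a96001)], [(nat_lit 0x1a98001), (nat_lit 0x277b001), (nat_lit 0x1a97001)], [(nat_lit 0x2781001), (nat_lit 0x1a9f001), (nat_lit 0x2790001)], [(nat_lit 0x1a77001), (nat_lit 0x2bd7a02757002), (nat_lit 0x2760001)], [(nat_lit 0x275f001), (nat_lit 0x2e38f02765002), (nat_lit 0x1a81001)], [(nat_lit 0x2769001), (nat_lit 0x1a87001), (nat_lit 0x2785001)], [(nat_lit 0x1a90001), (nat_lit 0x2773001), (nat_lit 0x1a91001)], [(nat_lit 0x277d001), (nat_lit 0x1a9a001), (nat_lit 0x278c001)], [(nat_lit 0x1a89001), (nat_lit 0x276c001), (nat_lit 0x2777001)], [(nat_lit 0x2776001), (nat_lit 0x218d60278a002), (nat_lit 0x1a93001)], [(nat_lit 0x2770001), (nat_lit 0x1a8d001), (nat_lit 0x2787001)], [(nat_lit 0x1a9d001), (nat_lit 0x2780001), (nat_lit 0x1a9e001)], [(nat_lit 0x1aae001), (nat_lit 0x279a001), (nat_lit 0x1aad001)], [(nat_lit 0x1aa1001), (nat_lit 0x2782001), (nat_lit 0x1aa0001)], [(nat_lit 0x2797001), (nat_lit 0x1aa9001), (nat_lit 0x27ab001)], [(nat_lit 0x1aa6001), (nat_lit 0x2794001), (nat_lit 0x279e001)], [(nat_lit 0x279d001), (nat_lit 0x27ad001), (nat_lit 0x1ab0001)], [(nat_lit 0x27a2001), (nat_lit 0x1ab4001), (nat_lit 0x26d3b027b3002)], [(nat_lit 0x1abd001), (nat_lit 0x27bb001), (nat_lit 0x1abe001)], [(nat_lit 0x27c4001), (nat_lit 0x1acb001), (nat_lit 0x27ce001)], [(nat_lit 0x2783001), (nat_lit 0x1aa2001), (nat_lit 0x2791001)], [(nat_lit 0x1aaa001), (nat_lit 0x2798001), (nat_lit 0x1aab001)], [(nat_lit 0x279f001), (nat_lit 0x1ab1001), (nat_lit 0x27ae001)], [(nat_lit 0x1aa5001), (nat_lit 0x2792001), (nat_lit 0x279c001)], [(nat_lit 0x279b001), (nat_lit 0x27ac001), (nat_lit 0x1aaf001)], [(nat_lit 0x2796001), (nat_lit 0x1aa8001), (nat_lit 0x27aa001)], [(nat_lit 0x1ab3001), (nat_lit 0x27a1001), (nat_lit 0x27b1001)], [(nat_lit 0x27b2001), (nat_lit 0x1bdc001), (nat_lit 0x1ac5001)], [(nat_lit 0x2793001), (nat_lit 0x1ab5001), (nat_lit 0x27a3001)], [(nat_lit 0x1ab9001), (nat_lit 0x27a8001), (nat_lit 0x27b7001)], [(nat_lit 0x27b8001), (nat_lit 0x27bf001), (nat_lit 0x1ac7001)], [(nat_lit 0x27bd001), (nat_lit 0x1ac3001), (nat_lit 0x247d4027cc002)], [(nat_lit 0x1acf001), (nat_lit 0x27c8001), (nat_lit 0x1ace001)], [(nat_lit 0x27d8001), (nat_lit 0x1ad7001), (nat_lit 0x24437027e4002)], [(nat_lit 0x2795001), (nat_lit 0x1aa7001), (nat_lit 0x27a9001)], [(nat_lit 0x1ab2001), (nat_lit 0x27a0001), (nat_lit 0x27af001)], [(nat_lit 0x27b0001), (nat_lit 0x1bc5001), (nat_lit 0x1ac4001)], [(nat_lit 0x22577027a4002), (nat_lit 0x1ab6001), (nat_lit 0x27b4001)], [(nat_lit 0x27c9001), (nat_lit 0x1ad0001), (nat_lit 0x2c97f027d2002)], [(nat_lit 0x1ad9001), (nat_lit 0x27d9001), (nat_lit 0x1ad8001)], [(nat_lit 0x27df001), (nat_lit 0x1ae3001), (nat_lit 0x27e6001)], [(nat_lit 0x1ab7001), (nat_lit 0x27a5001), (nat_lit 0x27b5001)], [(nat_lit 0x27b6001), (nat_lit 0x27be001), (nat_lit 0x1ac6001)], [(nat_lit 0x27a6001), (nat_lit 0x1ab8001), (nat_lit 0x27a7001)], [(nat_lit 0x24fe5027c7002), (nat_lit 0x1acd001), (nat_lit 0x27d1001)], [(nat_lit 0x23e96027c2002), (nat_lit 0x1aca001), (nat_lit 0x1ac9001)], [(nat_lit 0x24b3f027ca002), (nat_lit 0x1ad1001), (nat_lit 0x27d3001)], [(nat_lit 0x1adb001), (nat_lit 0x2eb4e027da002), (nat_lit 0x1ada001)], [(nat_lit 0x27e1001), (nat_lit 0x1ae5001), (nat_lit 0x27cbf027e8002)], [(nat_lit 0x27e2001), (nat_lit 0x1ae6001), (nat_lit 0x29af3027e9002)], [(nat_lit 0x1aeb001), (nat_lit 0x27cc4027ec002), (nat_lit 0x27f2001)], [(nat_lit 0x27f1001), (nat_lit 0x27f7001), (nat_lit 0x1aee001)], [(nat_lit 0x1ad4001), (nat_lit 0x1ad3001), (nat_lit 0x27d4001)], [(nat_lit 0x1ae0001), (nat_lit 0x27dd001), (nat_lit 0x1adf001)], [(nat_lit 0x1ae9001), (nat_lit 0x27ea001), (nat_lit 0x27ee001)], [(nat_lit 0x27ed001), (nat_lit 0x27f5001), (nat_lit 0x1aec001)], [(nat_lit 0x27d5001), (nat_lit 0x27d6001), (nat_lit 0x1ad5001)], [(nat_lit 0x1aef001), (nat_lit 0x2eaaf027f3002), (nat_lit 0x2e985027f8002)], [(nat_lit 0x27d7001), (nat_lit 0x1ad6001), (nat_lit 0x27e3001)], [(nat_lit 0x1ae2001), (nat_lit 0x27de001), (nat_lit 0x1ae1001)], [(nat_lit 0x1aea001), (nat_lit 0x27eb001), (nat_lit 0x27f0001)], [(nat_lit 0x27ef001), (nat_lit 0x27f6001), (nat_lit 0x1aed001)], [(nat_lit 0x1af0001), (nat_lit 0x2c0fe027f4002), (nat_lit 0x27fa001)], [(nat_lit 0x27fb001), (nat_lit 0x2e1b6027fd002), (nat_lit 0x1af2001)], [(nat_lit 0x1b19001), (nat_lit 0x2ecb602823002), (nat_lit 0x2829001)], [(nat_lit 0x282a001), (nat_lit 0x2831001), (nat_lit 0x1b23001)], [(nat_lit 0x2ecaa02824002), (nat_lit 0x1b1a001), (nat_lit 0x2eca90282b002)], [(nat_lit 0x1b1f001), (nat_lit 0x2da540282e002), (nat_lit 0x1b20001)], [(nat_lit 0x2835001), (nat_lit 0x1b27001), (nat_lit 0x2844001)], [(nat_lit 0x282d001), (nat_lit 0x1b1e001), (nat_lit 0x2e25902840002)], [(nat_lit 0x1b26001), (nat_lit 0x2834001), (nat_lit 0x1b25001)], [(nat_lit 0x2836001), (nat_lit 0x1b28001), (nat_lit 0x2845001)], [(nat_lit 0x1b2a001), (nat_lit 0x2838001), (nat_lit 0x2847001)], [(nat_lit 0x2848001), (nat_lit 0x2852001), (nat_lit 0x1b33001)], [(nat_lit 0x1b2f001), (nat_lit 0x283e001), (nat_lit 0x284e001)], [(nat_lit 0x284f001), (nat_lit 0x1c1c002855002), (nat_lit 0x1b36001)], [(nat_lit 0x2837001), (nat_lit 0x1b29001), (nat_lit 0x2846001)], [(nat_lit 0x1b2d001), (nat_lit 0x283b001), (nat_lit 0x2927a0284c002)], [(nat_lit 0x2927a0284d002), (nat_lit 0x2854001), (nat_lit 0x1b35001)], [(nat_lit 0x283f001), (nat_lit 0x1b30001), (nat_lit 0x2927e02850002)], [(nat_lit 0x283c001), (nat_lit 0x1b2e001), (nat_lit 0x283d001)], [(nat_lit 0x1b31001), (nat_lit 0x2851001), (nat_lit 0x1b32001)], [(nat_lit 0x2856001), (nat_lit 0x1b37001), (nat_lit 0x285e001)], [(nat_lit 0x1b39001), (nat_lit 0x2858001), (nat_lit 0x2860001)], [(nat_lit 0x2861001), (nat_lit 0x1b8e001), (nat_lit 0x1b48001)], [(nat_lit 0x2859001), (nat_lit 0x1b3b001), (nat_lit 0x2862001)], [(nat_lit 0x1b43001), (nat_lit 0x2ed2c02868002), (nat_lit 0x1b44001)], [(nat_lit 0x1b3c001), (nat_lit 0x285a001), (nat_lit 0x2863001)], [(nat_lit 0x2864001), (nat_lit 0x286b001), (nat_lit 0x1b4a001)], [(nat_lit 0x2dc3a02865002), (nat_lit 0x1b40001), (nat_lit 0x2dc390287d002)], [(nat_lit 0x1b4c001), (nat_lit 0x286c001), (nat_lit 0x1b4b001)], [(nat_lit 0x2871001), (nat_lit 0x1b52001), (nat_lit 0x2883001)], [(nat_lit 0x1b56001), (nat_lit 0x28d5502874002), (nat_lit 0x2889001)], [(nat_lit 0x288a001), (nat_lit 0x294aa02892002), (nat_lit 0x1b63001)], [(nat_lit 0x2c0180287b002), (nat_lit 0x1b5f001), (nat_lit 0x2890001)], [(nat_lit 0x1b6b001), (nat_lit 0x2898001), (nat_lit 0x28a1001)], [(nat_lit 0x28a2001), (nat_lit 0x28aa001), (nat_lit 0x1b75001)], [(nat_lit 0x1b3e001), (nat_lit 0x1b3d001), (nat_lit 0x285b001)], [(nat_lit 0x1b45001), (nat_lit 0x2869001), (nat_lit 0x1b46001)], [(nat_lit 0x28edb02870002), (nat_lit 0x1b51001), (nat_lit 0x2882001)], [(nat_lit 0x1b41001), (nat_lit 0x2866001), (nat_lit 0x2d0e80286e002)], [(nat_lit 0x2d0e80286d002), (nat_lit 0x2880001), (nat_lit 0x1b4d001)], [(nat_lit 0x2873001), (nat_lit 0x1b55001), (nat_lit 0x2888001)], [(nat_lit 0x1b5d001), (nat_lit 0x287a001), (nat_lit 0x1b5e001)], [(nat_lit 0x285c001), (nat_lit 0x285d001), (nat_lit 0x1b3f001)], [(nat_lit 0x2dd3b0286a002), (nat_lit 0x1b47001), (nat_lit 0x2dd760287f002)], [(nat_lit 0x1b54001), (nat_lit 0x2872001), (nat_lit 0x2886001)], [(nat_lit 0x2887001), (nat_lit 0x2891001), (nat_lit 0x1b62001)], [(nat_lit 0x2d45e02867002), (nat_lit 0x1b42001), (nat_lit 0x287e001)], [(nat_lit 0x2876001), (nat_lit 0x1b58001), (nat_lit 0x288d001)], [(nat_lit 0x1b60001), (nat_lit 0x287c001), (nat_lit 0x1b61001)], [(nat_lit 0x2895001), (nat_lit 0x1b68001), (nat_lit 0x289e001)], [(nat_lit 0x1b59001), (nat_lit 0x2ec2902877002), (nat_lit 0x2ed150288e002)], [(nat_lit 0x2ed150288f002), (nat_lit 0x2894001), (nat_lit 0x1b65001)], [(nat_lit 0x2896001), (nat_lit 0x1b69001), (nat_lit 0x289f001)], [(nat_lit 0x1b5b001), (nat_lit 0x2879001), (nat_lit 0x1b5a001)], [(nat_lit 0x2897001), (nat_lit 0x1b6a001), (nat_lit 0x28a0001)], [(nat_lit 0x1b6e001), (nat_lit 0x289a001), (nat_lit 0x28a5001)], [(nat_lit 0x28a6001), (nat_lit 0x28ad001), (nat_lit 0x1b78001)], [(nat_lit 0x2e8e30289c002), (nat_lit 0x1b70001), (nat_lit 0x2e8e4028a7002)], [(nat_lit 0x1b72001), (nat_lit 0x28a9001), (nat_lit 0x1b73001)], [(nat_lit 0x28ae001), (nat_lit 0x1b7a001), (nat_lit 0x28b8001)], [(nat_lit 0x28af001), (nat_lit 0x1b7c001), (nat_lit 0x28ba001)], [(nat_lit 0x1b80001), (nat_lit 0x28b2001), (nat_lit 0x28bb001)], [(nat_lit 0x28bc001), (nat_lit 0x271b001), (nat_lit 0x1b8c001)], [(nat_lit 0x28c1001), (nat_lit 0x1b85001), (nat_lit 0x2c50c028d4002)], [(nat_lit 0x1b8a001), (nat_lit 0x28c5001), (nat_lit 0x1b8b001)], [(nat_lit 0x28c9001), (nat_lit 0x1b91001), (nat_lit 0x28d8001)], [(nat_lit 0x1b7e001), (nat_lit 0x28b0001), (nat_lit 0x1b7d001)], [(nat_lit 0x28c2001), (nat_lit 0x1b86001), (nat_lit 0x28d5001)], [(nat_lit 0x1b81001), (nat_lit 0x28b3001), (nat_lit 0x28bd001)], [(nat_lit 0x28be001), (nat_lit 0x1b8e001), (nat_lit 0x1b8d001)], [(nat_lit 0x2dbd7028ca002), (nat_lit 0x1b92001), (nat_lit 0x28d9001)], [(nat_lit 0x1b98001), (nat_lit 0x2e268028d0002), (nat_lit 0x1b99001)], [(nat_lit 0x28e8001), (nat_lit 0x1ba3001), (nat_lit 0x28f1001)], [(nat_lit 0x1b87001), (nat_lit 0x28c3001), (nat_lit 0x1b88001)], [(nat_lit 0x28c6001), (nat_lit 0x1b8f001), (nat_lit 0x28d6001)], [(nat_lit 0x28cd001), (nat_lit 0x1b96001), (nat_lit 0x28df001)], [(nat_lit 0x28b5001), (nat_lit 0x1b83001), (nat_lit 0x28c0001)], [(nat_lit 0x28e9001), (nat_lit 0x1ba4001), (nat_lit 0x28f2001)], [(nat_lit 0x1b97001), (nat_lit 0x28ce001), (nat_lit 0x272a3028e0002)], [(nat_lit 0x2e529028d3002), (nat_lit 0x1b9d001), (nat_lit 0x28e3001)], [(nat_lit 0x1bae001), (nat_lit 0x28f6001), (nat_lit 0x28ff001)], [(nat_lit 0x28fe001), (nat_lit 0x2914001), (nat_lit 0x1bb8001)], [(nat_lit 0x28cf001), (nat_lit 0x1b9e001), (nat_lit 0x28e4001)], [(nat_lit 0x1ba7001), (nat_lit 0x28eb001), (nat_lit 0x1ba6001)], [(nat_lit 0x26a1c028f7002), (nat_lit 0x1baf001), (nat_lit 0x2911001)], [(nat_lit 0x1bad001), (nat_lit 0x28f5001), (nat_lit 0x28fd001)], [(nat_lit 0x28fc001), (nat_lit 0x2913001), (nat_lit 0x1bb7001)], [(nat_lit 0x2904001), (nat_lit 0x1bbe001), (nat_lit 0x291c001)], [(nat_lit 0x1bc3001), (nat_lit 0x1bc5001), (nat_lit 0x1bc4001)], [(nat_lit 0x2930001), (nat_lit 0x1bd4001), (nat_lit 0x2938001)], [(nat_lit 0x1b93001), (nat_lit 0x2e3ae028cb002), (nat_lit 0x28da001)], [(nat_lit 0x28db001), (nat_lit 0x28e6001), (nat_lit 0x1ba0001)], [(nat_lit 0x1ba9001), (nat_lit 0x1ba8001), (nat_lit 0x28ec001)], [(nat_lit 0x1bb0001), (nat_lit 0x28f8001), (nat_lit 0x1bb1001)], [(nat_lit 0x2900001), (nat_lit 0x1bb9001), (nat_lit 0x2915001)], [(nat_lit 0x1bbc001), (nat_lit 0x2c31802902002), (nat_lit 0x2918001)], [(nat_lit 0x2919001), (nat_lit 0x292c001), (nat_lit 0x1bd0001)], [(nat_lit 0x2ccce02905002), (nat_lit 0x1bbf001), (nat_lit 0x2cccf0291d002)], [(nat_lit 0x1bc6001), (nat_lit 0x2e77a0290a002), (nat_lit 0x1bc7001)], [(nat_lit 0x1c0b001), (nat_lit 0x1bd5001), (nat_lit 0x1bfb001)], [(nat_lit 0x28ed001), (nat_lit 0x28ee001), (nat_lit 0x1baa001)], [(nat_lit 0x29e37028f9002), (nat_lit 0x1bb2001), (nat_lit 0x29e3802912002)], [(nat_lit 0x1bbd001), (nat_lit 0x2a83d02903002), (nat_lit 0x291a001)], [(nat_lit 0x291b001), (nat_lit 0x292d001), (nat_lit 0x1bd1001)], [(nat_lit 0x28ef001), (nat_lit 0x1bab001), (nat_lit 0x28f3001)], [(nat_lit 0x1bb3001), (nat_lit 0x28fa001), (nat_lit 0x1bb4001)], [(nat_lit 0x1bc0001), (nat_lit 0x2906001), (nat_lit 0x291e001)], [(nat_lit 0x291f001), (nat_lit 0x292e001), (nat_lit 0x1bd2001)], [(nat_lit 0x290b001), (nat_lit 0x1bc8001), (nat_lit 0x2922001)], [(nat_lit 0x1bcc001), (nat_lit 0x2c2240290e002), (nat_lit 0x2925001)], [(nat_lit 0x2926001), (nat_lit 0x2931001), (nat_lit 0x1bd7001)], [(nat_lit 0x28f0001), (nat_lit 0x1bac001), (nat_lit 0x28f4001)], [(nat_lit 0x1bb5001), (nat_lit 0x28fb001), (nat_lit 0x1bb6001)], [(nat_lit 0x2901001), (nat_lit 0x1bba001), (nat_lit 0x2916001)], [(nat_lit 0x1bc1001), (nat_lit 0x2907001), (nat_lit 0x2df9a02920002)], [(nat_lit 0x2df9a02921002), (nat_lit 0x2df9b0292f002), (nat_lit 0x1bd3001)], [(nat_lit 0x2d84d0290c002), (nat_lit 0x1bc9001), (nat_lit 0x2d84e02924002)], [(nat_lit 0x1bcd001), (nat_lit 0x290f001), (nat_lit 0x2927001)], [(nat_lit 0x2928001), (nat_lit 0x2932001), (nat_lit 0x1bd8001)], [(nat_lit 0x2908001), (nat_lit 0x1bc2001), (nat_lit 0x2909001)], [(nat_lit 0x1bca001), (nat_lit 0x290d001), (nat_lit 0x1bcb001)], [(nat_lit 0x1bce001), (nat_lit 0x2910001), (nat_lit 0x2929001)], [(nat_lit 0x292a001), (nat_lit 0x2933001), (nat_lit 0x1bd9001)], [(nat_lit 0x292b001), (nat_lit 0x1bcf001), (nat_lit 0x2937001)], [(nat_lit 0x1bdb001), (nat_lit 0x1bdc001), (nat_lit 0x1bda001)], [(nat_lit 0x293c001), (nat_lit 0x1be2001), (nat_lit 0x2957001)], [(nat_lit 0x1bde001), (nat_lit 0x2934001), (nat_lit 0x1bdd001)], [(nat_lit 0x293d001), (nat_lit 0x1be3001), (nat_lit 0x2958001)], [(nat_lit 0x1bea001), (nat_lit 0x2942001), (nat_lit 0x2956001)], [(nat_lit 0x2955001), (nat_lit 0x2e62e02968002), (nat_lit 0x1c01001)], [(nat_lit 0x2936001), (nat_lit 0x1be0001), (nat_lit 0x293a001)], [(nat_lit 0x294b001), (nat_lit 0x1bf5001), (nat_lit 0x2962001)], [(nat_lit 0x1bfa001), (nat_lit 0x294f001), (nat_lit 0x1bfb001)], [(nat_lit 0x1c0b001), (nat_lit 0x2e91a0296f002), (nat_lit 0x1c0a001)], [(nat_lit 0x2d9ae02935002), (nat_lit 0x1bdf001), (nat_lit 0x2939001)], [(nat_lit 0x2944001), (nat_lit 0x1bec001), (nat_lit 0x237430295d002)], [(nat_lit 0x1bf3001), (nat_lit 0x294a001), (nat_lit 0x1bf4001)], [(nat_lit 0x296c001), (nat_lit 0x1c06001), (nat_lit 0x2976001)], [(nat_lit 0x1be1001), (nat_lit 0x293b001), (nat_lit 0x2941001)], [(nat_lit 0x2940001), (nat_lit 0x295a001), (nat_lit 0x1be8001)], [(nat_lit 0x293e001), (nat_lit 0x1be6001), (nat_lit 0x2959001)], [(nat_lit 0x1beb001), (nat_lit 0x2943001), (nat_lit 0x295b001)], [(nat_lit 0x295c001), (nat_lit 0x2969001), (nat_lit 0x1c02001)], [(nat_lit 0x1bef001), (nat_lit 0x1bee001), (nat_lit 0x2945001)], [(nat_lit 0x296d001), (nat_lit 0x1c07001), (nat_lit 0x2977001)], [(nat_lit 0x1bf2001), (nat_lit 0x2949001), (nat_lit 0x2960001)], [(nat_lit 0x2961001), (nat_lit 0x296b001), (nat_lit 0x1c05001)], [(nat_lit 0x2d53502951002), (nat_lit 0x1bfd001), (nat_lit 0x2dd1302966002)], [(nat_lit 0x2946001), (nat_lit 0x2ce3e02947002), (nat_lit 0x1bf0001)], [(nat_lit 0x294e001), (nat_lit 0x1bf9001), (nat_lit 0x2963001)], [(nat_lit 0x2a65b0297e002), (nat_lit 0x1c15001), (nat_lit 0x2ab7c0299a002)], [(nat_lit 0x1c12001), (nat_lit 0x2973001), (nat_lit 0x2978001)], [(nat_lit 0x2979001), (nat_lit 0x2983001), (nat_lit 0x1c1a001)], [(nat_lit 0x1c1e001), (nat_lit 0x214c702987002), (nat_lit 0x2997001)], [(nat_lit 0x2996001), (nat_lit 0x29af001), (nat_lit 0x1c2f001)], [(nat_lit 0x1bf1001), (nat_lit 0x2848a02948002), (nat_lit 0x295e001)], [(nat_lit 0x295f001), (nat_lit 0x296a001), (nat_lit 0x1c04001)], [(nat_lit 0x2952001), (nat_lit 0x1bfe001), (nat_lit 0x2967001)], [(nat_lit 0x29f0e0297f002), (nat_lit 0x1c16001), (nat_lit 0x299c001)], [(nat_lit 0x1c14001), (nat_lit 0x2975001), (nat_lit 0x23b8f0297c002)], [(nat_lit 0x2982001), (nat_lit 0x1c19001), (nat_lit 0x299f001)], [(nat_lit 0x1c1f001), (nat_lit 0x2c75402988002), (nat_lit 0x2999001)], [(nat_lit 0x2998001), (nat_lit 0x29b0001), (nat_lit 0x1c30001)], [(nat_lit 0x1c13001), (nat_lit 0x2974001), (nat_lit 0x297a001)], [(nat_lit 0x297b001), (nat_lit 0x2984001), (nat_lit 0x1c1b001)], [(nat_lit 0x1cef502954002), (nat_lit 0x2986001), (nat_lit 0x1c1d001)], [(nat_lit 0x274c1029a5002), (nat_lit 0x29b3001), (nat_lit 0x1c33001)], [(nat_lit 0x1c25001), (nat_lit 0x298f001), (nat_lit 0x1c26001)], [(nat_lit 0x2990001), (nat_lit 0x1c27001), (nat_lit 0x212fe029a6002)], [(nat_lit 0x1c2c001), (nat_lit 0x2993001), (nat_lit 0x29a9001)], [(nat_lit 0x29aa001), (nat_lit 0x29b4001), (nat_lit 0x1c34001)], [(nat_lit 0x2991001), (nat_lit 0x1c28001), (nat_lit 0x29a8001)], [(nat_lit 0x1c2d001), (nat_lit 0x2994001), (nat_lit 0x29ab001)], [(nat_lit 0x29ac001), (nat_lit 0x29b5001), (nat_lit 0x1c35001)], [(nat_lit 0x1c2e001), (nat_lit 0x2dafa02995002), (nat_lit 0x29ad001)], [(nat_lit 0x29ae001), (nat_lit 0x29b6001), (nat_lit 0x1c36001)], [(nat_lit 0x2e340029b9002), (nat_lit 0x1c39001), (nat_lit 0x2dd45029bf002)], [(nat_lit 0x1c3c001), (nat_lit 0x29bc001), (nat_lit 0x1c3d001)], [(nat_lit 0x29c6001), (nat_lit 0x1c43001), (nat_lit 0x29d5001)], [(nat_lit 0x1c2b001), (nat_lit 0x2992001), (nat_lit 0x1c2a001)], [(nat_lit 0x29b7001), (nat_lit 0x1c37001), (nat_lit 0x29bd001)], [(nat_lit 0x2be1a029c2002), (nat_lit 0x29c5001), (nat_lit 0x1c42001)], [(nat_lit 0x29ba001), (nat_lit 0x1c3a001), (nat_lit 0x29c0001)], [(nat_lit 0x1c3e001), (nat_lit 0x29c3001), (nat_lit 0x1c3f001)], [(nat_lit 0x1c40001), (nat_lit 0x2cd24029c4002), (nat_lit 0x29c9001)], [(nat_lit 0x29c8001), (nat_lit 0x29d8001), (nat_lit 0x1c46001)], [(nat_lit 0x29b8001), (nat_lit 0x1c38001), (nat_lit 0x29be001)], [(nat_lit 0x1c48001), (nat_lit 0x29ca001), (nat_lit 0x1c47001)], [(nat_lit 0x29cf001), (nat_lit 0x1c4c001), (nat_lit 0x29da001)], [(nat_lit 0x1c4a001), (nat_lit 0x29cc001), (nat_lit 0x29d3001)], [(nat_lit 0x29d2001), (nat_lit 0x29dc001), (nat_lit 0x1c50001)], [(nat_lit 0x29cd001), (nat_lit 0x1c4b001), (nat_lit 0x29ce001)], [(nat_lit 0x1c4e001), (nat_lit 0x29d1001), (nat_lit 0x1c4f001)], [(nat_lit 0x29dd001), (nat_lit 0x1c51001), (nat_lit 0x29e0001)], [(nat_lit 0x1c53001), (nat_lit 0x29df001), (nat_lit 0x1c54001)], [(nat_lit 0x29e2001), (nat_lit 0x1c55001), (nat_lit 0x29e3001)], [(nat_lit 0x1c86001), (nat_lit 0x2a18001), (nat_lit 0x1c87001)], [(nat_lit 0x2a2f001), (nat_lit 0x1c93001), (nat_lit 0x2a3f001)], [(nat_lit 0x2a1b001), (nat_lit 0x1c8a001), (nat_lit 0x2a26001)], [(nat_lit 0x1c9d001), (nat_lit 0x2a3a001), (nat_lit 0x2a42001)], [(nat_lit 0x2a43001), (nat_lit 0x2a47001), (nat_lit 0x1ca5001)], [(nat_lit 0x2e0f802a1c002), (nat_lit 0x1c8b001), (nat_lit 0x2a27001)], [(nat_lit 0x2a51001), (nat_lit 0x1caf001), (nat_lit 0x2a61001)], [(nat_lit 0x1c8e001), (nat_lit 0x2a29001), (nat_lit 0x2a34001)], [(nat_lit 0x2a33001), (nat_lit 0x2a40001), (nat_lit 0x1c98001)], [(nat_lit 0x2a3c001), (nat_lit 0x1c9f001), (nat_lit 0x2a45001)], [(nat_lit 0x27c3302a4b002), (nat_lit 0x2a5a001), (nat_lit 0x1caa001)], [(nat_lit 0x2a2a001), (nat_lit 0x1c9c001), (nat_lit 0x2923702a39002)], [(nat_lit 0x1ca2001), (nat_lit 0x2a46001), (nat_lit 0x1ca3001)], [(nat_lit 0x2e71602a49002), (nat_lit 0x1ca7001), (nat_lit 0x2a59001)], [(nat_lit 0x1cac001), (nat_lit 0x2a4e001), (nat_lit 0x2e09802a5d002)], [(nat_lit 0x2e09802a5e002), (nat_lit 0x2a69001), (nat_lit 0x1cbc001)], [(nat_lit 0x1cb3001), (nat_lit 0x2d4ef01d00002), (nat_lit 0x1cb4001)], [(nat_lit 0x2a6c001), (nat_lit 0x1cc0001), (nat_lit 0x2a7b001)], [(nat_lit 0x1c8f001), (nat_lit 0x2a2b001), (nat_lit 0x2a36001)], [(nat_lit 0x2a35001), (nat_lit 0x2a41001), (nat_lit 0x1c99001)], [(nat_lit 0x2a6b001), (nat_lit 0x1cbe001), (nat_lit 0x2a7a001)], [(nat_lit 0x1c9b001), (nat_lit 0x1c9a001), (nat_lit 0x2a37001)], [(nat_lit 0x2a48001), (nat_lit 0x1ca6001), (nat_lit 0x2a58001)], [(nat_lit 0x1cab001), (nat_lit 0x2a4d001), (nat_lit 0x2c22a02a5b002)], [(nat_lit 0x2c22a02a5c002), (nat_lit 0x2a68001), (nat_lit 0x1cbb001)], [(nat_lit 0x2a4f001), (nat_lit 0x1cad001), (nat_lit 0x2733202a5f002)], [(nat_lit 0x1cb1001), (nat_lit 0x2a52001), (nat_lit 0x1cb2001)], [(nat_lit 0x1cf0001), (nat_lit 0x1cbf001), (nat_lit 0x1ce6001)], [(nat_lit 0x2a38001), (nat_lit 0x28f5202a53002), (nat_lit 0x1cb5001)], [(nat_lit 0x2a6d802a7e002), (nat_lit 0x2a87001), (nat_lit 0x1cd6001)], [(nat_lit 0x24b9802a56002), (nat_lit 0x1cb9001), (nat_lit 0x2518102a65002)], [(nat_lit 0x1cc5001), (nat_lit 0x2a6f001), (nat_lit 0x1cc4001)], [(nat_lit 0x1cba001), (nat_lit 0x2a57001), (nat_lit 0x2a66001)], [(nat_lit 0x2a67001), (nat_lit 0x2a70001), (nat_lit 0x1cc6001)], [(nat_lit 0x2a77001), (nat_lit 0x1ccd001), (nat_lit 0x2a80001)], [(nat_lit 0x1cd3001), (nat_lit 0x2a86001), (nat_lit 0x2a8b001)], [(nat_lit 0x2a8a001), (nat_lit 0x2a9b001), (nat_lit 0x1cda001)], [(nat_lit 0x1cc3001), (nat_lit 0x2a6e001), (nat_lit 0x1cc2001)], [(nat_lit 0x2a76001), (nat_lit 0x1ccc001), (nat_lit 0x2a7f001)], [(nat_lit 0x2acae02a72002), (nat_lit 0x1cca001), (nat_lit 0x2a74001)], [(nat_lit 0x1cd0001), (nat_lit 0x2dea202a84002), (nat_lit 0x1cd1001)], [(nat_lit 0x1cdd001), (nat_lit 0x2a8f001), (nat_lit 0x2a9f001)], [(nat_lit 0x2aa0001), (nat_lit 0x2aac001), (nat_lit 0x1cec001)], [(nat_lit 0x2a90001), (nat_lit 0x1cde001), (nat_lit 0x2aa1001)], [(nat_lit 0x1ce0001), (nat_lit 0x2631202a92002), (nat_lit 0x1ce1001)], [(nat_lit 0x2aad001), (nat_lit 0x1ced001), (nat_lit 0x29a3502ab7002)], [(nat_lit 0x1cc9001), (nat_lit 0x2a73001), (nat_lit 0x1cc8001)], [(nat_lit 0x2d28302a79002), (nat_lit 0x1ccf001), (nat_lit 0x2a83001)], [(nat_lit 0x1cdc001), (nat_lit 0x2a8e001), (nat_lit 0x2a9d001)], [(nat_lit 0x2a9e001), (nat_lit 0x2b08102aab002), (nat_lit 0x1ceb001)], [(nat_lit 0x2bff902a85002), (nat_lit 0x1cd2001), (nat_lit 0x2a99001)], [(nat_lit 0x1cd9001), (nat_lit 0x2a89001), (nat_lit 0x1cd8001)], [(nat_lit 0x2c51502a91002), (nat_lit 0x1cdf001), (nat_lit 0x2aa2001)], [(nat_lit 0x2a93001), (nat_lit 0x1ce2001), (nat_lit 0x2aa3001)], [(nat_lit 0x1ce5001), (nat_lit 0x277c402a95002), (nat_lit 0x1ce6001)], [(nat_lit 0x1cf0001), (nat_lit 0x2aaf001), (nat_lit 0x1cef001)], [(nat_lit 0x2d9d402a94002), (nat_lit 0x1ce3001), (nat_lit 0x2aa4001)], [(nat_lit 0x1ce7001), (nat_lit 0x2a96001), (nat_lit 0x2aa7001)], [(nat_lit 0x2aa8001), (nat_lit 0x2ab0001), (nat_lit 0x1cf1001)], [(nat_lit 0x1cf3001), (nat_lit 0x2ab1001), (nat_lit 0x1cf2001)], [(nat_lit 0x2ab6001), (nat_lit 0x1cf9001), (nat_lit 0x2abd001)], [(nat_lit 0x2a97001), (nat_lit 0x1ce8001), (nat_lit 0x2aa9001)], [(nat_lit 0x2a98001), (nat_lit 0x1ce9001), (nat_lit 0x2aaa001)], [(nat_lit 0x1cf7001), (nat_lit 0x2ab5001), (nat_lit 0x2aba001)], [(nat_lit 0x2abb001), (nat_lit 0x2ac1001), (nat_lit 0x1d01001)], [(nat_lit 0x1cf5001), (nat_lit 0x1cf4001), (nat_lit 0x2ab2001)], [(nat_lit 0x2b28502ac2002), (nat_lit 0x1d02001), (nat_lit 0x2ad5001)], [(nat_lit 0x1cfd001), (nat_lit 0x2ac0001), (nat_lit 0x2ac4001)], [(nat_lit 0x2ac3001), (nat_lit 0x2ad6001), (nat_lit 0x1d03001)], [(nat_lit 0x2ac8001), (nat_lit 0x1d06001), (nat_lit 0x2ad9001)], [(nat_lit 0x1d0b001), (nat_lit 0x2acc001), (nat_lit 0x1d0c001)], [(nat_lit 0x2ae5001), (nat_lit 0x1d17001), (nat_lit 0x2af7001)], [(nat_lit 0x2ab3001), (nat_lit 0x2abf001), (nat_lit 0x1cfc001)], [(nat_lit 0x2ac7001), (nat_lit 0x1d05001), (nat_lit 0x2ad8001)], [(nat_lit 0x1d09001), (nat_lit 0x2acb001), (nat_lit 0x1d0a001)], [(nat_lit 0x2ae4001), (nat_lit 0x1d16001), (nat_lit 0x2af6001)], [(nat_lit 0x1d08001), (nat_lit 0x2aca001), (nat_lit 0x2d01702ad4002)], [(nat_lit 0x1d12001), (nat_lit 0x2ad0001), (nat_lit 0x2ae0001)], [(nat_lit 0x2ae1001), (nat_lit 0x26afc02ae8002), (nat_lit 0x1d1a001)], [(nat_lit 0x2ac9001), (nat_lit 0x1d07001), (nat_lit 0x2ada001)], [(nat_lit 0x1d0d001), (nat_lit 0x2acd001), (nat_lit 0x1d0e001)], [(nat_lit 0x2ae6001), (nat_lit 0x1d18001), (nat_lit 0x2af8001)], [(nat_lit 0x1d10001), (nat_lit 0x2721102ace002), (nat_lit 0x2add001)], [(nat_lit 0x2ade001), (nat_lit 0x2ae7001), (nat_lit 0x1d19001)], [(nat_lit 0x2ad1001), (nat_lit 0x1d13001), (nat_lit 0x2ae2001)], [(nat_lit 0x1d21001), (nat_lit 0x2aef001), (nat_lit 0x2afb001)], [(nat_lit 0x2afc001), (nat_lit 0x2b08001), (nat_lit 0x1d2c001)], [(nat_lit 0x2721102acf002), (nat_lit 0x1d14001), (nat_lit 0x2721202ad2002)], [(nat_lit 0x1d1c001), (nat_lit 0x2ae9001), (nat_lit 0x1d1b001)], [(nat_lit 0x2af0001), (nat_lit 0x1d22001), (nat_lit 0x2afd001)], [(nat_lit 0x2af2001), (nat_lit 0x1d24001), (nat_lit 0x2aff001)], [(nat_lit 0x1d26001), (nat_lit 0x2af4001), (nat_lit 0x2b00001)], [(nat_lit 0x2b01001), (nat_lit 0x2944502b0b002), (nat_lit 0x1d30001)], [(nat_lit 0x1d27001), (nat_lit 0x2af5001), (nat_lit 0x2b02001)], [(nat_lit 0x2b03001), (nat_lit 0x1d90001), (nat_lit 0x1d31001)], [(nat_lit 0x2b06001), (nat_lit 0x1d2a001), (nat_lit 0x20c3e02b19002)], [(nat_lit 0x1d35001), (nat_lit 0x2b0d001), (nat_lit 0x1d34001)], [(nat_lit 0x2805c02b13002), (nat_lit 0x1d3b001), (nat_lit 0x12dff02b1e002)], [(nat_lit 0x2b26001), (nat_lit 0x1d44001), (nat_lit 0x2b38001)], [(nat_lit 0x2b15001), (nat_lit 0x1d3e001), (nat_lit 0x2b1f001)], [(nat_lit 0x1681e02b23002), (nat_lit 0x2b29001), (nat_lit 0x1d49001)], [(nat_lit 0x1d29001), (nat_lit 0x1d28001), (nat_lit 0x2b04001)], [(nat_lit 0x1d33001), (nat_lit 0x2b0c001), (nat_lit 0x1d32001)], [(nat_lit 0x1d36001), (nat_lit 0x2b0f001), (nat_lit 0x2b1a001)], [(nat_lit 0x2b1b001), (nat_lit 0x2b24001), (nat_lit 0x1d42001)], [(nat_lit 0x2b05001), (nat_lit 0x2b10001), (nat_lit 0x1d38001)], [(nat_lit 0x2ac8d02b16002), (nat_lit 0x1d3f001), (nat_lit 0x2b20001)], [(nat_lit 0x2b2b001), (nat_lit 0x1d4b001), (nat_lit 0x2b39001)], [(nat_lit 0x1d4f001), (nat_lit 0x2b30001), (nat_lit 0x1d50001)], [(nat_lit 0x2b48001), (nat_lit 0x1d5a001), (nat_lit 0x2b5f001)], [(nat_lit 0x1d4c001), (nat_lit 0x2b2c001), (nat_lit 0x2b3a001)], [(nat_lit 0x2b3b001), (nat_lit 0x2c69f02b47002), (nat_lit 0x1d59001)], [(nat_lit 0x2b2d001), (nat_lit 0x1d4d001), (nat_lit 0x2b3c001)], [(nat_lit 0x1d53001), (nat_lit 0x2b32001), (nat_lit 0x1d52001)], [(nat_lit 0x1d61001), (nat_lit 0x2d63202b4f002), (nat_lit 0x2b64001)], [(nat_lit 0x2b65001), (nat_lit 0x2b6d001), (nat_lit 0x1d70001)], [(nat_lit 0x2dd3702b4e002), (nat_lit 0x1d60001), (nat_lit 0x2b63001)], [(nat_lit 0x1d64001), (nat_lit 0x2b51001), (nat_lit 0x1d65001)], [(nat_lit 0x2b6f001), (nat_lit 0x1d72001), (nat_lit 0x2b89001)], [(nat_lit 0x2b54001), (nat_lit 0x1d68001), (nat_lit 0x2b67001)], [(nat_lit 0x2b33001), (nat_lit 0x1d54001), (nat_lit 0x2b40001)], [(nat_lit 0x1d69001), (nat_lit 0x2b55001), (nat_lit 0x2b68001)], [(nat_lit 0x2b69001), (nat_lit 0x2b71001), (nat_lit 0x1d76001)], [(nat_lit 0x2b7b001), (nat_lit 0x1d81001), (nat_lit 0x1f91e02b8b002)], [(nat_lit 0x2b56001), (nat_lit 0x1d6b001), (nat_lit 0x2b59001)], [(nat_lit 0x1d79001), (nat_lit 0x2b73001), (nat_lit 0x1d78001)], [(nat_lit 0x2b7d001), (nat_lit 0x1d83001), (nat_lit 0x2b8d001)], [(nat_lit 0x1d8a001), (nat_lit 0x2b83001), (nat_lit 0x2b93001)], [(nat_lit 0x2b94001), (nat_lit 0x1d90001), (nat_lit 0x1d8f001)], [(nat_lit 0x2ae1802b9c002), (nat_lit 0x1d94001), (nat_lit 0x2ae1902bb1002)], [(nat_lit 0x1da7001), (nat_lit 0x2bc4001), (nat_lit 0x1da6001)], [(nat_lit 0x2bd0001), (nat_lit 0x1db8001), (nat_lit 0x2bd4001)], [(nat_lit 0x1d6a001), (nat_lit 0x1da1602b57002), (nat_lit 0x2b6a001)], [(nat_lit 0x2b6b001), (nat_lit 0x2b72001), (nat_lit 0x1d77001)], [(nat_lit 0x2b7c001), (nat_lit 0x1d82001), (nat_lit 0x2b8c001)], [(nat_lit 0x1d89001), (nat_lit 0x2b82001), (nat_lit 0x2b91001)], [(nat_lit 0x2b92001), (nat_lit 0x29bba02b98002), (nat_lit 0x1d8e001)], [(nat_lit 0x1d6d001), (nat_lit 0x1d6c001), (nat_lit 0x2b5a001)], [(nat_lit 0x2b1d202b7e002), (nat_lit 0x1d84001), (nat_lit 0x2e9b502b8e002)], [(nat_lit 0x1d91001), (nat_lit 0x27f1f02b99002), (nat_lit 0x2bab001)], [(nat_lit 0x2baa001), (nat_lit 0x2bc1001), (nat_lit 0x1da3001)], [(nat_lit 0x2bd1001), (nat_lit 0x1db9001), (nat_lit 0x2bd5001)], [(nat_lit 0x2b5b001), (nat_lit 0x2b5c001), (nat_lit 0x1d6e001)], [(nat_lit 0x2ad5c02b7f002), (nat_lit 0x1d85001), (nat_lit 0x2b8f001)], [(nat_lit 0x2b78001), (nat_lit 0x1d7e001), (nat_lit 0x2b8a001)], [(nat_lit 0x1d87001), (nat_lit 0x2b81001), (nat_lit 0x1d88001)], [(nat_lit 0x2b97001), (nat_lit 0x1d8d001), (nat_lit 0x2bae001)], [(nat_lit 0x1d96001), (nat_lit 0x2b9e001), (nat_lit 0x2bb3001)], [(nat_lit 0x2bb4001), (nat_lit 0x2bc7001), (nat_lit 0x1dac001)], [(nat_lit 0x1da0001), (nat_lit 0x2ba7001), (nat_lit 0x2535d02bbd002)], [(nat_lit 0x2535d02bbe002), (nat_lit 0x2bce001), (nat_lit 0x1db5001)], [(nat_lit 0x1d7c001), (nat_lit 0x2b75001), (nat_lit 0x2b85001)], [(nat_lit 0x2b84001), (nat_lit 0x2b95001), (nat_lit 0x1d8b001)], [(nat_lit 0x2b9d001), (nat_lit 0x1d95001), (nat_lit 0x2bb2001)], [(nat_lit 0x1dab001), (nat_lit 0x2bc6001), (nat_lit 0x1daa001)], [(nat_lit 0x1d7d001), (nat_lit 0x2b76001), (nat_lit 0x2b87001)], [(nat_lit 0x2b86001), (nat_lit 0x2eca302b96002), (nat_lit 0x1d8c001)], [(nat_lit 0x2b80001), (nat_lit 0x1d86001), (nat_lit 0x2b90001)], [(nat_lit 0x1d93001), (nat_lit 0x2b9b001), (nat_lit 0x2baf001)], [(nat_lit 0x2bb0001), (nat_lit 0x2bc3001), (nat_lit 0x1da5001)], [(nat_lit 0x2b77001), (nat_lit 0x1d97001), (nat_lit 0x2b9f001)], [(nat_lit 0x1d99001), (nat_lit 0x2ba0001), (nat_lit 0x2bb5001)], [(nat_lit 0x2bb6001), (nat_lit 0x2da1d02bca002), (nat_lit 0x1db0001)], [(nat_lit 0x2bdb001), (nat_lit 0x1dbf001), (nat_lit 0x2bfd001)], [(nat_lit 0x1daf001), (nat_lit 0x2bc9001), (nat_lit 0x1dae001)], [(nat_lit 0x2bd3001), (nat_lit 0x1dbb001), (nat_lit 0x2bd7001)], [(nat_lit 0x1d9a001), (nat_lit 0x2ba1001), (nat_lit 0x2bb7001)], [(nat_lit 0x2bb8001), (nat_lit 0x2bcb001), (nat_lit 0x1db1001)], [(nat_lit 0x2ba9001), (nat_lit 0x1da2001), (nat_lit 0x2bc0001)], [(nat_lit 0x1db7001), (nat_lit 0x2bcf001), (nat_lit 0x1db6001)], [(nat_lit 0x2bdc001), (nat_lit 0x1dc0001), (nat_lit 0x2e9c802bfe002)], [(nat_lit 0x1d9c001), (nat_lit 0x2ba2001), (nat_lit 0x1d9b001)], [(nat_lit 0x1dc1001), (nat_lit 0x2e1a802bdd002), (nat_lit 0x2d00902bf4002)], [(nat_lit 0x2d00902bf3002), (nat_lit 0x2c10001), (nat_lit 0x1dda001)], [(nat_lit 0x2ba3001), (nat_lit 0x1d9d001), (nat_lit 0x2bb9001)], [(nat_lit 0x1db3001), (nat_lit 0x2bcc001), (nat_lit 0x1db2001)], [(nat_lit 0x2bd9001), (nat_lit 0x1dbd001), (nat_lit 0x2bfb001)], [(nat_lit 0x1dc4001), (nat_lit 0x2be0001), (nat_lit 0x2bfa001)], [(nat_lit 0x2bf9001), (nat_lit 0x2c13001), (nat_lit 0x1ddd001)], [(nat_lit 0x2be2001), (nat_lit 0x1dc6001), (nat_lit 0x2c00001)], [(nat_lit 0x2ba4001), (nat_lit 0x1d9e001), (nat_lit 0x2bba001)], [(nat_lit 0x1d9f001), (nat_lit 0x2e8ab02ba5002), (nat_lit 0x2bbb001)], [(nat_lit 0x2bbc001), (nat_lit 0x2bcd001), (nat_lit 0x1db4001)], [(nat_lit 0x2e8ab02ba6002), (nat_lit 0x1dca001), (nat_lit 0x2ea7002be5002)], [(nat_lit 0x1dd6001), (nat_lit 0x2bf1001), (nat_lit 0x1dd7001)], [(nat_lit 0x2725602c1c002), (nat_lit 0x1dea001), (nat_lit 0x2725502c25002)], [(nat_lit 0x1dce001), (nat_lit 0x2d7f002be8002), (nat_lit 0x26df502c04002)], [(nat_lit 0x26df502c05002), (nat_lit 0x1e10001), (nat_lit 0x1de0001)], [(nat_lit 0x2c21001), (nat_lit 0x1def001), (nat_lit 0x2c2a001)], [(nat_lit 0x1dc9001), (nat_lit 0x2be4001), (nat_lit 0x2c01001)], [(nat_lit 0x2c02001), (nat_lit 0x2c15001), (nat_lit 0x1ddf001)], [(nat_lit 0x2be6001), (nat_lit 0x1dcb001), (nat_lit 0x2c03001)], [(nat_lit 0x1dd8001), (nat_lit 0x2ea1102bf2002), (nat_lit 0x1dd9001)], [(nat_lit 0x2c1d001), (nat_lit 0x1deb001), (nat_lit 0x2c26001)], [(nat_lit 0x1dcf001), (nat_lit 0x2190e02be9002), (nat_lit 0x2c06001)], [(nat_lit 0x2c07001), (nat_lit 0x2168902c16002), (nat_lit 0x1de1001)], [(nat_lit 0x2bef001), (nat_lit 0x1dd4001), (nat_lit 0x2c0e001)], [(nat_lit 0x1dcd001), (nat_lit 0x2be7001), (nat_lit 0x1dcc001)], [(nat_lit 0x2c1e001), (nat_lit 0x1dec001), (nat_lit 0x2c27001)], [(nat_lit 0x1dd0001), (nat_lit 0x2bea001), (nat_lit 0x2c08001)], [(nat_lit 0x2c09001), (nat_lit 0x2c17001), (nat_lit 0x1de2001)], [(nat_lit 0x2bf0001), (nat_lit 0x1dd5001), (nat_lit 0x2ce3502c0f002)], [(nat_lit 0x1de9001), (nat_lit 0x2c1b001), (nat_lit 0x1de8001)], [(nat_lit 0x283d502c22002), (nat_lit 0x1df0001), (nat_lit 0x27a3002c2b002)], [(nat_lit 0x1dd2001), (nat_lit 0x2bec001), (nat_lit 0x2c0b001)], [(nat_lit 0x2c0c001), (nat_lit 0x2dc3302c19002), (nat_lit 0x1de5001)], [(nat_lit 0x2c20001), (nat_lit 0x1dee001), (nat_lit 0x2c29001)], [(nat_lit 0x1df1001), (nat_lit 0x2c2d001), (nat_lit 0x2c31001)], [(nat_lit 0x2c30001), (nat_lit 0x25f4a02c44002), (nat_lit 0x1df4001)], [(nat_lit 0x2bed001), (nat_lit 0x1df2001), (nat_lit 0x2c2e001)], [(nat_lit 0x1df3001), (nat_lit 0x2c2f001), (nat_lit 0x2c34001)], [(nat_lit 0x2c33001), (nat_lit 0x2c45001), (nat_lit 0x1df7001)], [(nat_lit 0x29fcb02c37002), (nat_lit 0x1dfb001), (nat_lit 0x295e102c47002)], [(nat_lit 0x1dfe001), (nat_lit 0x2c3a001), (nat_lit 0x1dff001)], [(nat_lit 0x2c43001), (nat_lit 0x1e09001), (nat_lit 0x2c53001)], [(nat_lit 0x2c87c02c36002), (nat_lit 0x1dfa001), (nat_lit 0x217ac02c46002)], [(nat_lit 0x1e00001), (nat_lit 0x2c3b001), (nat_lit 0x2c4a001)], [(nat_lit 0x2c4b001), (nat_lit 0x2c55001), (nat_lit 0x1e0b001)], [(nat_lit 0x2c3e001), (nat_lit 0x1e02001), (nat_lit 0x2692102c4e002)], [(nat_lit 0x1e06001), (nat_lit 0x2725302c42002), (nat_lit 0x1e07001)], [(nat_lit 0x2c58001), (nat_lit 0x1e11001), (nat_lit 0x2c60001)], [(nat_lit 0x1e01001), (nat_lit 0x2226202c3c002), (nat_lit 0x2c4c001)], [(nat_lit 0x2c4d001), (nat_lit 0x2c56001), (nat_lit 0x1e0c001)], [(nat_lit 0x2c40001), (nat_lit 0x1e04001), (nat_lit 0x2c4f001)], [(nat_lit 0x1e05001), (nat_lit 0x2c41001), (nat_lit 0x2c50001)], [(nat_lit 0x2c51001), (nat_lit 0x1e10001), (nat_lit 0x1e0f001)], [(nat_lit 0x2c5c001), (nat_lit 0x1e17001), (nat_lit 0x2c67001)], [(nat_lit 0x1e20001), (nat_lit 0x2c6f001), (nat_lit 0x1e1f001)], [(nat_lit 0x2c73001), (nat_lit 0x1e26001), (nat_lit 0x2c81001)], [(nat_lit 0x2c5d001), (nat_lit 0x1e18001), (nat_lit 0x2c68001)], [(nat_lit 0x1e22001), (nat_lit 0x2b0fa02c70002), (nat_lit 0x1e21001)], [(nat_lit 0x2c74001), (nat_lit 0x1e27001), (nat_lit 0x2c82001)], [(nat_lit 0x2c6c001), (nat_lit 0x1e1b001), (nat_lit 0x2c80001)], [(nat_lit 0x1e25001), (nat_lit 0x2c72001), (nat_lit 0x1e24001)], [(nat_lit 0x2c76001), (nat_lit 0x1e29001), (nat_lit 0x2c85001)], [(nat_lit 0x1e2c001), (nat_lit 0x2c78001), (nat_lit 0x23bd002c86002)], [(nat_lit 0x2c7d001), (nat_lit 0x1e31001), (nat_lit 0x2c8c001)], [(nat_lit 0x1e45001), (nat_lit 0x2c9b001), (nat_lit 0x2ca6001)], [(nat_lit 0x2ca7001), (nat_lit 0x2cb2001), (nat_lit 0x1e4f001)], [(nat_lit 0x1e19001), (nat_lit 0x2c5e001), (nat_lit 0x2c69001)], [(nat_lit 0x2c6a001), (nat_lit 0x2c71001), (nat_lit 0x1e23001)], [(nat_lit 0x2c92001), (nat_lit 0x1e36001), (nat_lit 0x2ca3001)], [(nat_lit 0x2c5f001), (nat_lit 0x1e1a001), (nat_lit 0x2c6b001)], [(nat_lit 0x1e28001), (nat_lit 0x2c75001), (nat_lit 0x2c83001)], [(nat_lit 0x2c84001), (nat_lit 0x2d45702c91002), (nat_lit 0x1e35001)], [(nat_lit 0x2c99001), (nat_lit 0x1e43001), (nat_lit 0x2ca4001)], [(nat_lit 0x1e2d001), (nat_lit 0x2e34c02c79002), (nat_lit 0x2e69502c88002)], [(nat_lit 0x2e69502c89002), (nat_lit 0x2e69602c94002), (nat_lit 0x1e3a001)], [(nat_lit 0x1e2e001), (nat_lit 0x2c7a001), (nat_lit 0x2c8a001)], [(nat_lit 0x2c8b001), (nat_lit 0x2c95001), (nat_lit 0x1e3b001)], [(nat_lit 0x1e40001), (nat_lit 0x2c98001), (nat_lit 0x1e3f001)], [(nat_lit 0x2c9c001), (nat_lit 0x1e46001), (nat_lit 0x2ca8001)], [(nat_lit 0x1e4a001), (nat_lit 0x2eb4b02c9e002), (nat_lit 0x2071902caa002)], [(nat_lit 0x2ca1001), (nat_lit 0x1e4d001), (nat_lit 0x2cb0001)], [(nat_lit 0x1e57001), (nat_lit 0x2cb9001), (nat_lit 0x2cc2001)], [(nat_lit 0x2cc3001), (nat_lit 0x2ccd001), (nat_lit 0x1e5e001)], [(nat_lit 0x1e30001), (nat_lit 0x1e2f001), (nat_lit 0x2c7b001)], [(nat_lit 0x1e3d001), (nat_lit 0x2c96001), (nat_lit 0x1e3c001)], [(nat_lit 0x2c9a001), (nat_lit 0x1e44001), (nat_lit 0x2ca5001)], [(nat_lit 0x1e32001), (nat_lit 0x2c7e001), (nat_lit 0x2bc3c02c8d002)], [(nat_lit 0x2bc3c02c8e002), (nat_lit 0x2e70a02c97002), (nat_lit 0x1e3e001)], [(nat_lit 0x2c7c001), (nat_lit 0x2c90001), (nat_lit 0x1e34001)], [(nat_lit 0x2c9d001), (nat_lit 0x1e47001), (nat_lit 0x2ca9001)], [(nat_lit 0x1e4c001), (nat_lit 0x2ca0001), (nat_lit 0x2cae001)], [(nat_lit 0x2caf001), (nat_lit 0x2cb6001), (nat_lit 0x1e53001)], [(nat_lit 0x1e56001), (nat_lit 0x2cb8001), (nat_lit 0x2cc0001)], [(nat_lit 0x2cbf001), (nat_lit 0x2ccc001), (nat_lit 0x1e5d001)], [(nat_lit 0x2cbb001), (nat_lit 0x1e59001), (nat_lit 0x2cc5001)], [(nat_lit 0x1e5b001), (nat_lit 0x2cbd001), (nat_lit 0x2cc9001)], [(nat_lit 0x2cca001), (nat_lit 0x2ccf001), (nat_lit 0x1e60001)], [(nat_lit 0x2cb3001), (nat_lit 0x1e50001), (nat_lit 0x2e93302cc1002)], [(nat_lit 0x1e4b001), (nat_lit 0x2c9f001), (nat_lit 0x2cac001)], [(nat_lit 0x2cad001), (nat_lit 0x2ebc502cb5002), (nat_lit 0x1e52001)], [(nat_lit 0x2ca2001), (nat_lit 0x1e4e001), (nat_lit 0x2cb1001)], [(nat_lit 0x1e55001), (nat_lit 0x2cb7001), (nat_lit 0x1e54001)], [(nat_lit 0x2dea102cba002), (nat_lit 0x1e58001), (nat_lit 0x2e1d602cc4002)], [(nat_lit 0x1e5a001), (nat_lit 0x2cbc001), (nat_lit 0x2cc7001)], [(nat_lit 0x2cc8001), (nat_lit 0x2cce001), (nat_lit 0x1e5f001)], [(nat_lit 0x2e5e102cbe002), (nat_lit 0x1e5c001), (nat_lit 0x2e05602ccb002)], [(nat_lit 0x1e62001), (nat_lit 0x2cd0001), (nat_lit 0x1e61001)], [(nat_lit 0x2074a02cd1002), (nat_lit 0x1e63001), (nat_lit 0x2cd7001)], [(nat_lit 0x1e64001), (nat_lit 0x2cd2001), (nat_lit 0x2cd8001)], [(nat_lit 0x2cd9001), (nat_lit 0x2e93202cdc002), (nat_lit 0x1e6d001)], [(nat_lit 0x1e79001), (nat_lit 0x2ce8001), (nat_lit 0x2cf3001)], [(nat_lit 0x2cf2001), (nat_lit 0x2d2f002d00002), (nat_lit 0x1e87001)], [(nat_lit 0x1e67001), (nat_lit 0x1e66001), (nat_lit 0x2cd4001)], [(nat_lit 0x1e71001), (nat_lit 0x2cde001), (nat_lit 0x1e70001)], [(nat_lit 0x2ce7001), (nat_lit 0x1e78001), (nat_lit 0x2cd5002cf9002)], [(nat_lit 0x1e6b001), (nat_lit 0x2cdb001), (nat_lit 0x2c3b602ce2002)], [(nat_lit 0x2ce5001), (nat_lit 0x1e76001), (nat_lit 0x2cf7001)], [(nat_lit 0x1e7e001), (nat_lit 0x2ceb001), (nat_lit 0x1e7f001)], [(nat_lit 0x2d55602d03002), (nat_lit 0x1e8a001), (nat_lit 0x2d34e02d16002)], [(nat_lit 0x2cd5001), (nat_lit 0x2cd6001), (nat_lit 0x1e68001)], [(nat_lit 0x2de1d02cec002), (nat_lit 0x1e80001), (nat_lit 0x2de1e02cfa002)], [(nat_lit 0x1e8c001), (nat_lit 0x2d04001), (nat_lit 0x1e8b001)], [(nat_lit 0x1e86001), (nat_lit 0x2cf1001), (nat_lit 0x2cfe001)], [(nat_lit 0x2cff001), (nat_lit 0x2d06001), (nat_lit 0x1e8e001)], [(nat_lit 0x1e9c001), (nat_lit 0x2d10001), (nat_lit 0x2d1f001)], [(nat_lit 0x2d20001), (nat_lit 0x2d2b001), (nat_lit 0x1ea7001)], [(nat_lit 0x2c15002ce3002), (nat_lit 0x1e74001), (nat_lit 0x2c15102cf5002)], [(nat_lit 0x1e7a001), (nat_lit 0x2ce9001), (nat_lit 0x1e7b001)], [(nat_lit 0x1e81001), (nat_lit 0x2ced001), (nat_lit 0x28b1902cfb002)], [(nat_lit 0x28b1902cfc002), (nat_lit 0x2d05001), (nat_lit 0x1e8d001)], [(nat_lit 0x2dc6602d13002), (nat_lit 0x2d24001), (nat_lit 0x1e9f001)], [(nat_lit 0x2cee001), (nat_lit 0x1e90001), (nat_lit 0x2d08001)], [(nat_lit 0x1e9b001), (nat_lit 0x2d0f001), (nat_lit 0x2a8f102d1d002)], [(nat_lit 0x2a8f102d1e002), (nat_lit 0x2d2a001), (nat_lit 0x1ea6001)], [(nat_lit 0x2d2d001), (nat_lit 0x1eaa001), (nat_lit 0x2a0ac02d3b002)], [(nat_lit 0x1ead001), (nat_lit 0x2d2f001), (nat_lit 0x1eae001)], [(nat_lit 0x2d45001), (nat_lit 0x1eb8001), (nat_lit 0x2067102d52002)], [(nat_lit 0x1e83001), (nat_lit 0x2cef001), (nat_lit 0x1e82001)], [(nat_lit 0x2cf0001), (nat_lit 0x1e85001), (nat_lit 0x2cfd001)], [(nat_lit 0x1e93001), (nat_lit 0x2d0a001), (nat_lit 0x2d18001)], [(nat_lit 0x2d19001), (nat_lit 0x2d25001), (nat_lit 0x1ea0001)], [(nat_lit 0x1e94001), (nat_lit 0x2d0b001), (nat_lit 0x1e95001)], [(nat_lit 0x2d26001), (nat_lit 0x1ea1001), (nat_lit 0x272ac02d39002)], [(nat_lit 0x2d0d001), (nat_lit 0x1e99001), (nat_lit 0x2d1c001)], [(nat_lit 0x1e9d001), (nat_lit 0x2b82d02d11002), (nat_lit 0x2d21001)], [(nat_lit 0x2d22001), (nat_lit 0x2b82f02d2c002), (nat_lit 0x1ea8001)], [(nat_lit 0x2d4b001), (nat_lit 0x1ec2001), (nat_lit 0x2d53001)], [(nat_lit 0x2022001), (nat_lit 0x1e9a001), (nat_lit 0x2d0e001)], [(nat_lit 0x1ea5001), (nat_lit 0x2e50a02d29002), (nat_lit 0x1ea4001)], [(nat_lit 0x2e0f702d37002), (nat_lit 0x2ea9d01eb6002), (nat_lit 0x1eb5001)], [(nat_lit 0x2db6302d31002), (nat_lit 0x1eb0001), (nat_lit 0x2d40001)], [(nat_lit 0x1ebe001), (nat_lit 0x1da1c02d48002), (nat_lit 0x1ebd001)], [(nat_lit 0x2d79d02d12002), (nat_lit 0x1e9e001), (nat_lit 0x2d79e02d23002)], [(nat_lit 0x1eac001), (nat_lit 0x2dbae02d2e002), (nat_lit 0x2d3d001)], [(nat_lit 0x2d3e001), (nat_lit 0x2d44001), (nat_lit 0x1eb7001)], [(nat_lit 0x2d30001), (nat_lit 0x1eaf001), (nat_lit 0x2d3f001)], [(nat_lit 0x1ebc001), (nat_lit 0x2d47001), (nat_lit 0x1ebb001)], [(nat_lit 0x2d4c001), (nat_lit 0x1ec3001), (nat_lit 0x2d54001)], [(nat_lit 0x1eb1001), (nat_lit 0x2d32001), (nat_lit 0x2d41001)], [(nat_lit 0x2d42001), (nat_lit 0x2d49001), (nat_lit 0x1ebf001)], [(nat_lit 0x2d33001), (nat_lit 0x1eb2001), (nat_lit 0x2d43001)], [(nat_lit 0x1ec5001), (nat_lit 0x2ce9f02d4e002), (nat_lit 0x2d78602d56002)], [(nat_lit 0x2d78602d57002), (nat_lit 0x2d5b001), (nat_lit 0x1eca001)], [(nat_lit 0x1e01002d35002), (nat_lit 0x1eb4001), (nat_lit 0x1e02302d36002)], [(nat_lit 0x1ec1001), (nat_lit 0x2d4a001), (nat_lit 0x1ec0001)], [(nat_lit 0x2d50001), (nat_lit 0x1ec7001), (nat_lit 0x2d59001)], [(nat_lit 0x2d5d001), (nat_lit 0x1ecd001), (nat_lit 0x2d6a001)], [(nat_lit 0x1ece001), (nat_lit 0x1f2d001), (nat_lit 0x1ecf001)], [(nat_lit 0x1dfdc02d74002), (nat_lit 0x1edc001), (nat_lit 0x1dfdb02d8a002)], [(nat_lit 0x1ee1001), (nat_lit 0x2eb0002d77002), (nat_lit 0x1ee0001)], [(nat_lit 0x2d7d001), (nat_lit 0x1eea001), (nat_lit 0x2d8c001)], [(nat_lit 0x1ed4001), (nat_lit 0x2d62001), (nat_lit 0x2e35f02d6e002)], [(nat_lit 0x2e35f02d6f002), (nat_lit 0x2d7a001), (nat_lit 0x1ee5001)], [(nat_lit 0x2d63001), (nat_lit 0x1eda001), (nat_lit 0x2d68001)], [(nat_lit 0x1ee7001), (nat_lit 0x2d7b001), (nat_lit 0x1ee6001)], [(nat_lit 0x2724802da2002), (nat_lit 0x1eff001), (nat_lit 0x2db4001)], [(nat_lit 0x1f01001), (nat_lit 0x2951702da3002), (nat_lit 0x1f02001)], [(nat_lit 0x2db2001), (nat_lit 0x1f11001), (nat_lit 0x2dc0001)], [(nat_lit 0x1ed9001), (nat_lit 0x2d67001), (nat_lit 0x1ed8001)], [(nat_lit 0x1ef6001), (nat_lit 0x2d87001), (nat_lit 0x2d98001)], [(nat_lit 0x2d99001), (nat_lit 0x2da1001), (nat_lit 0x1efe001)], [(nat_lit 0x2af7e02d7c002), (nat_lit 0x1ee8001), (nat_lit 0x2a54102d8b002)], [(nat_lit 0x2d9d001), (nat_lit 0x1efa001), (nat_lit 0x2db3001)], [(nat_lit 0x1ef4001), (nat_lit 0x2d85001), (nat_lit 0x2d94001)], [(nat_lit 0x2d95001), (nat_lit 0x2d9f001), (nat_lit 0x1efc001)], [(nat_lit 0x1ef5001), (nat_lit 0x2d86001), (nat_lit 0x2d96001)], [(nat_lit 0x2d97001), (nat_lit 0x2da0001), (nat_lit 0x1efd001)], [(nat_lit 0x2da5001), (nat_lit 0x1f05001), (nat_lit 0x218b902db5002)], [(nat_lit 0x1f14001), (nat_lit 0x2dc2001), (nat_lit 0x1f13001)], [(nat_lit 0x26dd402dc9002), (nat_lit 0x1f1d001), (nat_lit 0x2724e02ddb002)], [(nat_lit 0x1f1f001), (nat_lit 0x2dcb001), (nat_lit 0x2dda001)], [(nat_lit 0x2dd9001), (nat_lit 0x1f2d001), (nat_lit 0x1f2c001)], [(nat_lit 0x2daf001), (nat_lit 0x1f0e001), (nat_lit 0x20bdc02dbc002)], [(nat_lit 0x1f20001), (nat_lit 0x2dcc001), (nat_lit 0x2ddd001)], [(nat_lit 0x2dde001), (nat_lit 0x20a6102dea002), (nat_lit 0x1f2e001)], [(nat_lit 0x1f18001), (nat_lit 0x2de3b02dc5002), (nat_lit 0x1f17001)], [(nat_lit 0x2dca001), (nat_lit 0x1f1e001), (nat_lit 0x16a9202ddc002)], [(nat_lit 0x1f0a001), (nat_lit 0x2dab001), (nat_lit 0x2db8001)], [(nat_lit 0x2db9001), (nat_lit 0x2eaf202dc6002), (nat_lit 0x1f19001)], [(nat_lit 0x293cd02db0002), (nat_lit 0x1f0f001), (nat_lit 0x2dbd001)], [(nat_lit 0x1f1b001), (nat_lit 0x2dc7001), (nat_lit 0x1f1a001)], [(nat_lit 0x2dcd001), (nat_lit 0x1f21001), (nat_lit 0x2ddf001)], [(nat_lit 0x2dcf001), (nat_lit 0x1f22001), (nat_lit 0x29bbb02de1002)], [(nat_lit 0x1f31001), (nat_lit 0x29a1f02dec002), (nat_lit 0x1f30001)], [(nat_lit 0x2df3001), (nat_lit 0x1f3b001), (nat_lit 0x2e04001)], [(nat_lit 0x1f26001), (nat_lit 0x2dd4001), (nat_lit 0x26dc102de5002)], [(nat_lit 0x26dc102de6002), (nat_lit 0x2769402df0002), (nat_lit 0x1f36001)], [(nat_lit 0x289da02dd6002), (nat_lit 0x1f28001), (nat_lit 0x289db02de8002)], [(nat_lit 0x1f3e001), (nat_lit 0x2df7001), (nat_lit 0x21d7002e03002)], [(nat_lit 0x21d7002e02002), (nat_lit 0x2bdfd02e13002), (nat_lit 0x1f49001)], [(nat_lit 0x2dad001), (nat_lit 0x1f0c001), (nat_lit 0x2ca7202dba002)], [(nat_lit 0x1f10001), (nat_lit 0x2db1001), (nat_lit 0x2cf3802dbe002)], [(nat_lit 0x2dd3001), (nat_lit 0x1f25001), (nat_lit 0x2de4001)], [(nat_lit 0x1f35001), (nat_lit 0x2def001), (nat_lit 0x1f34001)], [(nat_lit 0x2df4001), (nat_lit 0x1f3c001), (nat_lit 0x2e05001)], [(nat_lit 0x1f23001), (nat_lit 0x213a001), (nat_lit 0x2dd0001)], [(nat_lit 0x2dd1001), (nat_lit 0x2ded001), (nat_lit 0x1f32001)], [(nat_lit 0x2dd5001), (nat_lit 0x1f27001), (nat_lit 0x2de7001)], [(nat_lit 0x1f3d001), (nat_lit 0x2df6001), (nat_lit 0x2e01001)], [(nat_lit 0x2e00001), (nat_lit 0x2e12001), (nat_lit 0x1f48001)], [(nat_lit 0x1f24001), (nat_lit 0x2dd2001), (nat_lit 0x1f11302de2002)], [(nat_lit 0x2dd7001), (nat_lit 0x1f29001), (nat_lit 0x2de9001)], [(nat_lit 0x1f38001), (nat_lit 0x2df1001), (nat_lit 0x1f37001)], [(nat_lit 0x2df8001), (nat_lit 0x1f3f001), (nat_lit 0x2e07001)], [(nat_lit 0x1f41001), (nat_lit 0x2dfa001), (nat_lit 0x21a0602e09002)], [(nat_lit 0x2dfe001), (nat_lit 0x1f46001), (nat_lit 0x2e10001)], [(nat_lit 0x1f51001), (nat_lit 0x2e19001), (nat_lit 0x2e28001)], [(nat_lit 0x2e27001), (nat_lit 0x2e39001), (nat_lit 0x1f61001)], [(nat_lit 0x1f43001), (nat_lit 0x2dfc001), (nat_lit 0x2e0b001)], [(nat_lit 0x2e0c001), (nat_lit 0x2e15001), (nat_lit 0x1f4b001)], [(nat_lit 0x2dff001), (nat_lit 0x1f47001), (nat_lit 0x2e11001)], [(nat_lit 0x1f52001), (nat_lit 0x2e1a001), (nat_lit 0x2c4c402e2a002)], [(nat_lit 0x2c4c402e2b002), (nat_lit 0x2ba9402e3a002), (nat_lit 0x1f62001)], [(nat_lit 0x1f54001), (nat_lit 0x2b2f802e1c002), (nat_lit 0x2e2e001)], [(nat_lit 0x2e2f001), (nat_lit 0x2e3c001), (nat_lit 0x1f64001)], [(nat_lit 0x2e20001), (nat_lit 0x1f59001), (nat_lit 0x2e33001)], [(nat_lit 0x1f6a001), (nat_lit 0x2e3f001), (nat_lit 0x2e46001)], [(nat_lit 0x2e45001), (nat_lit 0x2454102e4c002), (nat_lit 0x1f71001)], [(nat_lit 0x2cd9102e25002), (nat_lit 0x2e38001), (nat_lit 0x1f60001)], [(nat_lit 0x1f53001), (nat_lit 0x2e1b001), (nat_lit 0x2e2c001)], [(nat_lit 0x2e2d001), (nat_lit 0x2e3b001), (nat_lit 0x1f63001)], [(nat_lit 0x1f56001), (nat_lit 0x2e1d001), (nat_lit 0x2e31001)], [(nat_lit 0x2e32001), (nat_lit 0x1fb7001), (nat_lit 0x1f65001)], [(nat_lit 0x2e21001), (nat_lit 0x1f5a001), (nat_lit 0x2e35001)], [(nat_lit 0x1f67001), (nat_lit 0x28dfa020ab002), (nat_lit 0x1f66001)], [(nat_lit 0x2e40001), (nat_lit 0x1f6b001), (nat_lit 0x2e49001)], [(nat_lit 0x1f58001), (nat_lit 0x1f57001), (nat_lit 0x2e1e001)], [(nat_lit 0x1f5e001), (nat_lit 0x2e24001), (nat_lit 0x1f5f001)], [(nat_lit 0x2e3e001), (nat_lit 0x1f69001), (nat_lit 0x2e48001)], [(nat_lit 0x1f5b001), (nat_lit 0x2454202e22002), (nat_lit 0x2e36001)], [(nat_lit 0x2e37001), (nat_lit 0x2e3d001), (nat_lit 0x1f68001)], [(nat_lit 0x2e50001), (nat_lit 0x1f7a001), (nat_lit 0x2e63001)], [(nat_lit 0x2e1f001), (nat_lit 0x2e41001), (nat_lit 0x1f6c001)], [(nat_lit 0x1f7d001), (nat_lit 0x2e53001), (nat_lit 0x2995f02e5f002)], [(nat_lit 0x2995f02e5e002), (nat_lit 0x2e70001), (nat_lit 0x1f88001)], [(nat_lit 0x2e42001), (nat_lit 0x1f6d001), (nat_lit 0x2e4a001)], [(nat_lit 0x1f75001), (nat_lit 0x2e47001), (nat_lit 0x1f74001)], [(nat_lit 0x1f79001), (nat_lit 0x2e4f001), (nat_lit 0x29fc602e5d002)], [(nat_lit 0x29fc602e5c002), (nat_lit 0x2e99802e6f002), (nat_lit 0x1f87001)], [(nat_lit 0x1f83001), (nat_lit 0x2454c02e59002), (nat_lit 0x2e6c001)], [(nat_lit 0x2e6d001), (nat_lit 0x2e74001), (nat_lit 0x1f8c001)], [(nat_lit 0x2e43001), (nat_lit 0x1f6e001), (nat_lit 0x2e4b001)], [(nat_lit 0x1f77001), (nat_lit 0x2e4d001), (nat_lit 0x1f76001)], [(nat_lit 0x2e52001), (nat_lit 0x1f7c001), (nat_lit 0x249c802e65002)], [(nat_lit 0x1f70001), (nat_lit 0x2e44001), (nat_lit 0x1f6f001)], [(nat_lit 0x2e4e001), (nat_lit 0x1f78001), (nat_lit 0x2ecfe02e62002)], [(nat_lit 0x2e54001), (nat_lit 0x1f7f001), (nat_lit 0x2e66001)], [(nat_lit 0x1f85001), (nat_lit 0x2e5b001), (nat_lit 0x1f86001)], [(nat_lit 0x2e75001), (nat_lit 0x1f8d001), (nat_lit 0x2e87001)], [(nat_lit 0x1f80001), (nat_lit 0x24a9002e55002), (nat_lit 0x2e67001)], [(nat_lit 0x2e68001), (nat_lit 0x2e72001), (nat_lit 0x1f8a001)], [(nat_lit 0x2bc2502e5a002), (nat_lit 0x1f84001), (nat_lit 0x2e6e001)], [(nat_lit 0x2e56001), (nat_lit 0x1f81001), (nat_lit 0x2e69001)], [(nat_lit 0x1f8f001), (nat_lit 0x2e77001), (nat_lit 0x2e85001)], [(nat_lit 0x2e84001), (nat_lit 0x2e93001), (nat_lit 0x1f9e001)], [(nat_lit 0x2661802e79002), (nat_lit 0x1f91001), (nat_lit 0x2970c02e8a002)], [(nat_lit 0x1fa0001), (nat_lit 0x2a33802e86002), (nat_lit 0x1f9f001)], [(nat_lit 0x1f82001), (nat_lit 0x2e57001), (nat_lit 0x2e6a001)], [(nat_lit 0x2e6b001), (nat_lit 0x2e73001), (nat_lit 0x1f8b001)], [(nat_lit 0x2e76001), (nat_lit 0x1f8e001), (nat_lit 0x2e88001)], [(nat_lit 0x2e58001), (nat_lit 0x1f97001), (nat_lit 0x2e80001)], [(nat_lit 0x1fa4001), (nat_lit 0x2e96001), (nat_lit 0x1fa3001)], [(nat_lit 0x2e9b001), (nat_lit 0x1fab001), (nat_lit 0x2eb0001)], [(nat_lit 0x1fae001), (nat_lit 0x2e9d001), (nat_lit 0x2ea7001)], [(nat_lit 0x2ea6001), (nat_lit 0x1fb7001), (nat_lit 0x1fb6001)], [(nat_lit 0x2ea2001), (nat_lit 0x1fb3001), (nat_lit 0x2c89302eb4002)], [(nat_lit 0x1fbe001), (nat_lit 0x2ebb001), (nat_lit 0x1fbd001)], [(nat_lit 0x2ebf001), (nat_lit 0x1fc2001), (nat_lit 0x2ed5001)], [(nat_lit 0x1f92001), (nat_lit 0x2eb6802e7a002), (nat_lit 0x2e8b001)], [(nat_lit 0x2e8c001), (nat_lit 0x2e94001), (nat_lit 0x1fa1001)], [(nat_lit 0x2e7e001), (nat_lit 0x1f95001), (nat_lit 0x2e8d001)], [(nat_lit 0x1faa001), (nat_lit 0x2e9a001), (nat_lit 0x2ea5001)], [(nat_lit 0x2ea4001), (nat_lit 0x2eb7001), (nat_lit 0x1fb5001)], [(nat_lit 0x1f96001), (nat_lit 0x2e7f001), (nat_lit 0x2e8e001)], [(nat_lit 0x2e8f001), (nat_lit 0x2e95001), (nat_lit 0x1fa2001)], [(nat_lit 0x2e82001), (nat_lit 0x1f99001), (nat_lit 0x2e90001)], [(nat_lit 0x2e9c001), (nat_lit 0x1fad001), (nat_lit 0x2ece002eb1002)], [(nat_lit 0x278a002e7d002), (nat_lit 0x2c1e802e81002), (nat_lit 0x1f98001)], [(nat_lit 0x2e9e001), (nat_lit 0x1faf001), (nat_lit 0x2eb2001)], [(nat_lit 0x1fb9001), (nat_lit 0x2ea8001), (nat_lit 0x1fb8001)], [(nat_lit 0x2ebe001), (nat_lit 0x1fc1001), (nat_lit 0x2ed4001)], [(nat_lit 0x1fb2001), (nat_lit 0x2ea1001), (nat_lit 0x2eac001)], [(nat_lit 0x2eab001), (nat_lit 0x1fafe02eb9002), (nat_lit 0x1fbb001)], [(nat_lit 0x2ebd001), (nat_lit 0x1fc0001), (nat_lit 0x2ed3001)], [(nat_lit 0x1fc3001), (nat_lit 0x2ec0001), (nat_lit 0x2ecf001)], [(nat_lit 0x2ece001), (nat_lit 0x2edf001), (nat_lit 0x1fd0001)], [(nat_lit 0x2e9f001), (nat_lit 0x1fb0001), (nat_lit 0x2eb3001)], [(nat_lit 0x1fb4001), (nat_lit 0x2e35502ea3002), (nat_lit 0x2eb5001)], [(nat_lit 0x2eb6001), (nat_lit 0x2e35702ebc002), (nat_lit 0x1fbf001)], [(nat_lit 0x2ec1001), (nat_lit 0x1fc4001), (nat_lit 0x2ed6001)], [(nat_lit 0x1fd2001), (nat_lit 0x2ed0001), (nat_lit 0x1fd1001)], [(nat_lit 0x2ee5001), (nat_lit 0x1fe0001), (nat_lit 0x2efa001)], [(nat_lit 0x2ec8001), (nat_lit 0x1fca001), (nat_lit 0x2ed7001)], [(nat_lit 0x1fe4001), (nat_lit 0x2ee9001), (nat_lit 0x2ef4001)], [(nat_lit 0x2ef3001), (nat_lit 0x2f03001), (nat_lit 0x1ff0001)], [(nat_lit 0x2535b02ec3002), (nat_lit 0x1fc7001), (nat_lit 0x2ec5001)], [(nat_lit 0x2ee7001), (nat_lit 0x1fe2001), (nat_lit 0x2efc001)], [(nat_lit 0x1fcc001), (nat_lit 0x2eca001), (nat_lit 0x2ed9001)], [(nat_lit 0x2eda001), (nat_lit 0x2ee1001), (nat_lit 0x1fdb001)], [(nat_lit 0x2ecc001), (nat_lit 0x1fce001), (nat_lit 0x2edd001)], [(nat_lit 0x2eeb001), (nat_lit 0x1fe6001), (nat_lit 0x2efe001)], [(nat_lit 0x1fb1001), (nat_lit 0x2ea0001), (nat_lit 0x2eaa001)], [(nat_lit 0x2ea9001), (nat_lit 0x2d90402eb8002), (nat_lit 0x1fba001)], [(nat_lit 0x2e75702ee6002), (nat_lit 0x1fe1001), (nat_lit 0x2efb001)], [(nat_lit 0x1fc6001), (nat_lit 0x2dbe802ec4002), (nat_lit 0x2d72802ed2002)], [(nat_lit 0x2ec9001), (nat_lit 0x1fcb001), (nat_lit 0x2ed8001)], [(nat_lit 0x1fe5001), (nat_lit 0x2eea001), (nat_lit 0x2ef6001)], [(nat_lit 0x2ef5001), (nat_lit 0x2f04001), (nat_lit 0x1ff1001)], [(nat_lit 0x1fc9001), (nat_lit 0x1fc8001), (nat_lit 0x2ec6001)], [(nat_lit 0x1fcd001), (nat_lit 0x2ecb001), (nat_lit 0x2edb001)], [(nat_lit 0x2edc001), (nat_lit 0x2ee2001), (nat_lit 0x1fdc001)], [(nat_lit 0x2ecd001), (nat_lit 0x1fcf001), (nat_lit 0x2ecee02ede002)], [(nat_lit 0x1fde001), (nat_lit 0x2ee3001), (nat_lit 0x1fdd001)], [(nat_lit 0x2ec7001), (nat_lit 0x276dc02ee4002), (nat_lit 0x1fdf001)], [(nat_lit 0x2eec001), (nat_lit 0x1fe7001), (nat_lit 0x2eff001)], [(nat_lit 0x1fed001), (nat_lit 0x2ef0001), (nat_lit 0x276df02ef9002)], [(nat_lit 0x276df02ef8002), (nat_lit 0x2f05001), (nat_lit 0x1ff5001)], [(nat_lit 0x2f07001), (nat_lit 0x1ff7001), (nat_lit 0x2f21001)], [(nat_lit 0x1ffa001), (nat_lit 0x2f08001), (nat_lit 0x2f19001)], [(nat_lit 0x2f18001), (nat_lit 0x2f2b001), (nat_lit 0x200b001)], [(nat_lit 0x1fee001), (nat_lit 0x2e8a702ef1002), (nat_lit 0x2f00001)], [(nat_lit 0x2f01001), (nat_lit 0x2f06001), (nat_lit 0x1ff6001)], [(nat_lit 0x2f09001), (nat_lit 0x1ffb001), (nat_lit 0x2f24001)], [(nat_lit 0x2006001), (nat_lit 0x2f14001), (nat_lit 0x2007001)], [(nat_lit 0x27af302f30002), (nat_lit 0x2014001), (nat_lit 0x27af202f43002)], [(nat_lit 0x1fea001), (nat_lit 0x2eed001), (nat_lit 0x1fe9001)], [(nat_lit 0x2008001), (nat_lit 0x2f15001), (nat_lit 0x2009001)], [(nat_lit 0x2f31001), (nat_lit 0x2015001), (nat_lit 0x2f44001)], [(nat_lit 0x1ffd001), (nat_lit 0x2e7aa02f0a002), (nat_lit 0x2e58502f1b002)], [(nat_lit 0x2e58502f1a002), (nat_lit 0x2f2c001), (nat_lit 0x200c001)], [(nat_lit 0x2f0f001), (nat_lit 0x2001001), (nat_lit 0x2dc6b02f26002)], [(nat_lit 0x2017001), (nat_lit 0x2f33001), (nat_lit 0x2f3d001)], [(nat_lit 0x2f3c001), (nat_lit 0x2f4a001), (nat_lit 0x2023001)], [(nat_lit 0x2f0b001), (nat_lit 0x1ffe001), (nat_lit 0x2f25001)], [(nat_lit 0x1fff001), (nat_lit 0x2f0c001), (nat_lit 0x2f1d001)], [(nat_lit 0x2f1c001), (nat_lit 0x2f2d001), (nat_lit 0x200d001)], [(nat_lit 0x2f10001), (nat_lit 0x2002001), (nat_lit 0x2f27001)], [(nat_lit 0x2018001), (nat_lit 0x2f34001), (nat_lit 0x2f3f001)], [(nat_lit 0x2f3e001), (nat_lit 0x2f4b001), (nat_lit 0x2024001)], [(nat_lit 0x2f0d001), (nat_lit 0x2000001), (nat_lit 0x2f0e001)], [(nat_lit 0x200f001), (nat_lit 0x2f1e001), (nat_lit 0x200e001)], [(nat_lit 0x2f32001), (nat_lit 0x2016001), (nat_lit 0x2f45001)], [(nat_lit 0x2003001), (nat_lit 0x2f11001), (nat_lit 0x2f20001)], [(nat_lit 0x2f1f001), (nat_lit 0x2060001), (nat_lit 0x2010001)], [(nat_lit 0x2f12001), (nat_lit 0x2004001), (nat_lit 0x2f28001)], [(nat_lit 0x2005001), (nat_lit 0x2f13001), (nat_lit 0x27c5f02f29002)], [(nat_lit 0x27c5f02f2a002), (nat_lit 0x2f2f001), (nat_lit 0x2013001)], [(nat_lit 0x2a41a02f37002), (nat_lit 0x201d001), (nat_lit 0x2f47001)], [(nat_lit 0x2028001), (nat_lit 0x2f40001), (nat_lit 0x2027001)], [(nat_lit 0x2f51001), (nat_lit 0x2030001), (nat_lit 0x2935502f6e002)], [(nat_lit 0x203b001), (nat_lit 0x2f5d001), (nat_lit 0x2d80c02f74002)], [(nat_lit 0x2d80c02f75002), (nat_lit 0x2f7d001), (nat_lit 0x2047001)], [(nat_lit 0x2f50001), (nat_lit 0x202f001), (nat_lit 0x2f6d001)], [(nat_lit 0x2e20b02f41002), (nat_lit 0x2f4c001), (nat_lit 0x2029001)], [(nat_lit 0x2f39001), (nat_lit 0x2020001), (nat_lit 0x2f49001)], [(nat_lit 0x202b001), (nat_lit 0x2f4d001), (nat_lit 0x202a001)], [(nat_lit 0x2f53001), (nat_lit 0x2032001), (nat_lit 0x2f6f001)], [(nat_lit 0x2f38001), (nat_lit 0x201f001), (nat_lit 0x2f48001)], [(nat_lit 0x2031001), (nat_lit 0x2f52001), (nat_lit 0x2c2fe02f63002)], [(nat_lit 0x2022001), (nat_lit 0x2021001), (nat_lit 0x2f3a001)], [(nat_lit 0x202d001), (nat_lit 0x2f4e001), (nat_lit 0x202c001)], [(nat_lit 0x2f55001), (nat_lit 0x2033001), (nat_lit 0x2f71001)], [(nat_lit 0x2f4f001), (nat_lit 0x202e001), (nat_lit 0x2f6c001)], [(nat_lit 0x2038001), (nat_lit 0x2f58001), (nat_lit 0x2f68001)], [(nat_lit 0x2f67001), (nat_lit 0x2f7b001), (nat_lit 0x2043001)], [(nat_lit 0x2f5e001), (nat_lit 0x203c001), (nat_lit 0x2f76001)], [(nat_lit 0x2f59001), (nat_lit 0x203e001), (nat_lit 0x2f60001)], [(nat_lit 0x2051001), (nat_lit 0x2f83001), (nat_lit 0x2d01602f90002)], [(nat_lit 0x220c602f87002), (nat_lit 0x2055001), (nat_lit 0x222bd02f99002)], [(nat_lit 0x2065001), (nat_lit 0x2fa2001), (nat_lit 0x2064001)], [(nat_lit 0x2fa9001), (nat_lit 0x2071001), (nat_lit 0x2fb9001)], [(nat_lit 0x2037001), (nat_lit 0x2f57001), (nat_lit 0x2f66001)], [(nat_lit 0x2f65001), (nat_lit 0x2f7a001), (nat_lit 0x2042001)], [(nat_lit 0x2f5a001), (nat_lit 0x2039001), (nat_lit 0x2d95b02f73002)], [(nat_lit 0x2045001), (nat_lit 0x2f69001), (nat_lit 0x2044001)], [(nat_lit 0x29d2a02f7f002), (nat_lit 0x204c001), (nat_lit 0x2f93001)], [(nat_lit 0x203a001), (nat_lit 0x2f5b001), (nat_lit 0x293f202f6b002)], [(nat_lit 0x293f202f6a002), (nat_lit 0x2f7c001), (nat_lit 0x2046001)], [(nat_lit 0x2f5f001), (nat_lit 0x203d001), (nat_lit 0x2f77001)], [(nat_lit 0x2f5c001), (nat_lit 0x203f001), (nat_lit 0x2f61001)], [(nat_lit 0x204b001), (nat_lit 0x2f7e001), (nat_lit 0x204a001)], [(nat_lit 0x2052001), (nat_lit 0x2f84001), (nat_lit 0x2d94002f92002)], [(nat_lit 0x2d94002f91002), (nat_lit 0x2060001), (nat_lit 0x205f001)], [(nat_lit 0x2f88001), (nat_lit 0x2056001), (nat_lit 0x22a9402f9a002)], [(nat_lit 0x2067001), (nat_lit 0x2fa3001), (nat_lit 0x2066001)], [(nat_lit 0x2faa001), (nat_lit 0x2072001), (nat_lit 0x2454402fba002)], [(nat_lit 0x2062001), (nat_lit 0x2fa0001), (nat_lit 0x2061001)], [(nat_lit 0x2fa8001), (nat_lit 0x2070001), (nat_lit 0x2fb8001)], [(nat_lit 0x2fad001), (nat_lit 0x2076001), (nat_lit 0x2fbd001)], [(nat_lit 0x2079001), (nat_lit 0x2fb0001), (nat_lit 0x23e5302fb6002)], [(nat_lit 0x23e5302fb5002), (nat_lit 0x2fc0001), (nat_lit 0x207e001)], [(nat_lit 0x2050001), (nat_lit 0x204f001), (nat_lit 0x2f81001)], [(nat_lit 0x205d001), (nat_lit 0x2f8e001), (nat_lit 0x205c001)], [(nat_lit 0x2cd3c02fa7002), (nat_lit 0x206f001), (nat_lit 0x2184f02fb7002)], [(nat_lit 0x2054001), (nat_lit 0x2f86001), (nat_lit 0x2f97001)], [(nat_lit 0x2f98001), (nat_lit 0x2fa1001), (nat_lit 0x2063001)], [(nat_lit 0x2f89001), (nat_lit 0x2057001), (nat_lit 0x2f9b001)], [(nat_lit 0x2069001), (nat_lit 0x2fa4001), (nat_lit 0x2068001)], [(nat_lit 0x20ad001), (nat_lit 0x2073001), (nat_lit 0x20a8001)], [(nat_lit 0x2f82001), (nat_lit 0x2f8a001), (nat_lit 0x2058001)], [(nat_lit 0x2fab001), (nat_lit 0x2074001), (nat_lit 0x2402a02fbb002)], [(nat_lit 0x2078001), (nat_lit 0x2faf001), (nat_lit 0x2fb4001)], [(nat_lit 0x2fb3001), (nat_lit 0x2fbf001), (nat_lit 0x207d001)], [(nat_lit 0x2f8d001), (nat_lit 0x205b001), (nat_lit 0x2f9f001)], [(nat_lit 0x2077001), (nat_lit 0x2fae001), (nat_lit 0x2fb2001)], [(nat_lit 0x2fb1001), (nat_lit 0x2e9b202fbe002), (nat_lit 0x207c001)], [(nat_lit 0x207f001), (nat_lit 0x2fc1001), (nat_lit 0x2fd4001)], [(nat_lit 0x2fd3001), (nat_lit 0x2d77002fe9002), (nat_lit 0x2092001)], [(nat_lit 0x2fac001), (nat_lit 0x2075001), (nat_lit 0x2fbc001)], [(nat_lit 0x2fcb001), (nat_lit 0x208a001), (nat_lit 0x2fe1001)], [(nat_lit 0x2098001), (nat_lit 0x2fdb001), (nat_lit 0x2097001)], [(nat_lit 0x2082001), (nat_lit 0x24fe402fc3002), (nat_lit 0x2081001)], [(nat_lit 0x2091001), (nat_lit 0x249a902fd2002), (nat_lit 0x2fe7001)], [(nat_lit 0x2fe8001), (nat_lit 0x2c0b302ff2002), (nat_lit 0x20a0001)], [(nat_lit 0x2fc7001), (nat_lit 0x2086001), (nat_lit 0x2334f02fde002)], [(nat_lit 0x208f001), (nat_lit 0x2fd1001), (nat_lit 0x2090001)], [(nat_lit 0x2ff1001), (nat_lit 0x209f001), (nat_lit 0x2fff001)], [(nat_lit 0x208d001), (nat_lit 0x2fcf001), (nat_lit 0x2ca3b02fe5002)], [(nat_lit 0x2ca3b02fe6002), (nat_lit 0x2fef001), (nat_lit 0x209c001)], [(nat_lit 0x2ecf102ff6002), (nat_lit 0x20a4001), (nat_lit 0x3003001)], [(nat_lit 0x20a7001), (nat_lit 0x2ff9001), (nat_lit 0x20a8001)], [(nat_lit 0x20ad001), (nat_lit 0x2ffd001), (nat_lit 0x20ac001)], [(nat_lit 0x2088001), (nat_lit 0x2fc9001), (nat_lit 0x275d502fda002)], [(nat_lit 0x25d8002fcc002), (nat_lit 0x208b001), (nat_lit 0x25d7f02fe2002)], [(nat_lit 0x209a001), (nat_lit 0x2fdc001), (nat_lit 0x2099001)], [(nat_lit 0x2ff4001), (nat_lit 0x20a2001), (nat_lit 0x3001001)], [(nat_lit 0x208c001), (nat_lit 0x2fcd001), (nat_lit 0x2fe3001)], [(nat_lit 0x2fe4001), (nat_lit 0x292e502fee002), (nat_lit 0x209b001)], [(nat_lit 0x2fce001), (nat_lit 0x208e001), (nat_lit 0x2fd0001)], [(nat_lit 0x209e001), (nat_lit 0x2ff0001), (nat_lit 0x209d001)], [(nat_lit 0x2ff7001), (nat_lit 0x20a5001), (nat_lit 0x3004001)], [(nat_lit 0x2ffa001), (nat_lit 0x20a9001), (nat_lit 0x3005001)], [(nat_lit 0x20af001), (nat_lit 0x2ffe001), (nat_lit 0x20ae001)], [(nat_lit 0x3006001), (nat_lit 0x20b0001), (nat_lit 0x301e001)], [(nat_lit 0x2511802fd7002), (nat_lit 0x2feb001), (nat_lit 0x2094001)], [(nat_lit 0x2fca001), (nat_lit 0x2089001), (nat_lit 0x2fe0001)], [(nat_lit 0x2d5a103008002), (nat_lit 0x20b2001), (nat_lit 0x301f001)], [(nat_lit 0x20b5001), (nat_lit 0x300c001), (nat_lit 0x2678803016002)], [(nat_lit 0x2678803015002), (nat_lit 0x3024001), (nat_lit 0x20be001)], [(nat_lit 0x228ae0300e002), (nat_lit 0x20b7001), (nat_lit 0x3021001)], [(nat_lit 0x20c0001), (nat_lit 0x3017001), (nat_lit 0x20bf001)], [(nat_lit 0x3026001), (nat_lit 0x20c7001), (nat_lit 0x303e001)], [(nat_lit 0x300d001), (nat_lit 0x20b6001), (nat_lit 0x3020001)], [(nat_lit 0x20bb001), (nat_lit 0x3012001), (nat_lit 0x228b40301d002)], [(nat_lit 0x226e30300a002), (nat_lit 0x20b9001), (nat_lit 0x3010001)], [(nat_lit 0x20c4001), (nat_lit 0x3019001), (nat_lit 0x20c3001)], [(nat_lit 0x3028001), (nat_lit 0x20c9001), (nat_lit 0x3040001)], [(nat_lit 0x20ce001), (nat_lit 0x302d001), (nat_lit 0x3034001)], [(nat_lit 0x3033001), (nat_lit 0x3044001), (nat_lit 0x20d6001)], [(nat_lit 0x20b4001), (nat_lit 0x300b001), (nat_lit 0x3014001)], [(nat_lit 0x3013001), (nat_lit 0x3023001), (nat_lit 0x20bd001)], [(nat_lit 0x20c2001), (nat_lit 0x3018001), (nat_lit 0x20c1001)], [(nat_lit 0x3027001), (nat_lit 0x20c8001), (nat_lit 0x303f001)], [(nat_lit 0x20cf001), (nat_lit 0x302e001), (nat_lit 0x3036001)], [(nat_lit 0x3035001), (nat_lit 0x2366f03045002), (nat_lit 0x20d7001)], [(nat_lit 0x24fe60302b002), (nat_lit 0x2565c0302c002), (nat_lit 0x20cd001)], [(nat_lit 0x20df001), (nat_lit 0x2e86b03049002), (nat_lit 0x3058001)], [(nat_lit 0x3057001), (nat_lit 0x306a001), (nat_lit 0x20f0001)], [(nat_lit 0x3031001), (nat_lit 0x20d2001), (nat_lit 0x2310b03043002)], [(nat_lit 0x20da001), (nat_lit 0x3039001), (nat_lit 0x20d9001)], [(nat_lit 0x20d3001), (nat_lit 0x3032001), (nat_lit 0x303b001)], [(nat_lit 0x303a001), (nat_lit 0x228b803047002), (nat_lit 0x20db001)], [(nat_lit 0x20e5001), (nat_lit 0x2d1da0304d002), (nat_lit 0x305b001)], [(nat_lit 0x305a001), (nat_lit 0x306c001), (nat_lit 0x20f2001)], [(nat_lit 0x20dd001), (nat_lit 0x20dc001), (nat_lit 0x303c001)], [(nat_lit 0x20e1001), (nat_lit 0x304b001), (nat_lit 0x20e2001)], [(nat_lit 0x3059001), (nat_lit 0x20f1001), (nat_lit 0x306b001)], [(nat_lit 0x20e6001), (nat_lit 0x2470c0304e002), (nat_lit 0x305d001)], [(nat_lit 0x305c001), (nat_lit 0x306d001), (nat_lit 0x20f3001)], [(nat_lit 0x3051001), (nat_lit 0x20e9001), (nat_lit 0x3069001)], [(nat_lit 0x20ee001), (nat_lit 0x3056001), (nat_lit 0x20ef001)], [(nat_lit 0x2e06001), (nat_lit 0x20f8001), (nat_lit 0x2df5001)], [(nat_lit 0x20e4001), (nat_lit 0x2e24d0304c002), (nat_lit 0x20e3001)], [(nat_lit 0x2740703064002), (nat_lit 0x3071001), (nat_lit 0x20f7001)], [(nat_lit 0x3072001), (nat_lit 0x20fa001), (nat_lit 0x308a001)], [(nat_lit 0x20fc001), (nat_lit 0x25edf03074002), (nat_lit 0x307e001)], [(nat_lit 0x307d001), (nat_lit 0x308e001), (nat_lit 0x2107001)], [(nat_lit 0x3050001), (nat_lit 0x20e8001), (nat_lit 0x3068001)], [(nat_lit 0x20ec001), (nat_lit 0x3053001), (nat_lit 0x3063001)], [(nat_lit 0x3062001), (nat_lit 0x3070001), (nat_lit 0x20f6001)], [(nat_lit 0x20fd001), (nat_lit 0x295b603075002), (nat_lit 0x3080001)], [(nat_lit 0x307f001), (nat_lit 0x308f001), (nat_lit 0x2108001)], [(nat_lit 0x3054001), (nat_lit 0x20fe001), (nat_lit 0x3076001)], [(nat_lit 0x210a001), (nat_lit 0x2cbef03081002), (nat_lit 0x2109001)], [(nat_lit 0x3092001), (nat_lit 0x2114001), (nat_lit 0x30b1001)], [(nat_lit 0x2d9d00307a002), (nat_lit 0x2103001), (nat_lit 0x308c001)], [(nat_lit 0x2112001), (nat_lit 0x3087001), (nat_lit 0x2111001)], [(nat_lit 0x3096001), (nat_lit 0x2118001), (nat_lit 0x30b4001)], [(nat_lit 0x3093001), (nat_lit 0x2115001), (nat_lit 0x30b2001)], [(nat_lit 0x2b6eb03083002), (nat_lit 0x2b6ec03090002), (nat_lit 0x210d001)], [(nat_lit 0x307b001), (nat_lit 0x2104001), (nat_lit 0x308d001)], [(nat_lit 0x2119001), (nat_lit 0x3097001), (nat_lit 0x30a0001)], [(nat_lit 0x309f001), (nat_lit 0x28ece030b7002), (nat_lit 0x2122001)], [(nat_lit 0x211a001), (nat_lit 0x3098001), (nat_lit 0x30a2001)], [(nat_lit 0x30a1001), (nat_lit 0x30b8001), (nat_lit 0x2123001)], [(nat_lit 0x309a001), (nat_lit 0x211d001), (nat_lit 0x30b6001)], [(nat_lit 0x2128001), (nat_lit 0x30a5001), (nat_lit 0x2127001)], [(nat_lit 0x30ad001), (nat_lit 0x212d001), (nat_lit 0x30bd001)], [(nat_lit 0x2b6ed03078002), (nat_lit 0x3079001), (nat_lit 0x2102001)], [(nat_lit 0x2b0a803094002), (nat_lit 0x2116001), (nat_lit 0x2bfac030b3002)], [(nat_lit 0x274be030a3002), (nat_lit 0x30b9001), (nat_lit 0x2124001)], [(nat_lit 0x3099001), (nat_lit 0x211c001), (nat_lit 0x30b5001)], [(nat_lit 0x2126001), (nat_lit 0x30a4001), (nat_lit 0x2125001)], [(nat_lit 0x30ac001), (nat_lit 0x212c001), (nat_lit 0x30bb001)], [(nat_lit 0x2130001), (nat_lit 0x30c1001), (nat_lit 0x30d1001)], [(nat_lit 0x30d0001), (nat_lit 0x30e0001), (nat_lit 0x2141001)], [(nat_lit 0x211f001), (nat_lit 0x309b001), (nat_lit 0x2c12f030a9002)], [(nat_lit 0x2c130030af002), (nat_lit 0x212e001), (nat_lit 0x30bf001)], [(nat_lit 0x2131001), (nat_lit 0x2c132030c2002), (nat_lit 0x30d3001)], [(nat_lit 0x30d2001), (nat_lit 0x30e1001), (nat_lit 0x2142001)], [(nat_lit 0x2c9b4030b0002), (nat_lit 0x212f001), (nat_lit 0x30c0001)], [(nat_lit 0x214b001), (nat_lit 0x30e9001), (nat_lit 0x30f9001)], [(nat_lit 0x30f8001), (nat_lit 0x3110001), (nat_lit 0x215e001)], [(nat_lit 0x30ee001), (nat_lit 0x2151001), (nat_lit 0x310c001)], [(nat_lit 0x2159001), (nat_lit 0x2ab7c0299b002), (nat_lit 0x215a001)], [(nat_lit 0x2b2fd03106002), (nat_lit 0x2167001), (nat_lit 0x3117001)], [(nat_lit 0x2120001), (nat_lit 0x309d001), (nat_lit 0x30ab001)], [(nat_lit 0x30aa001), (nat_lit 0x30ba001), (nat_lit 0x212b001)], [(nat_lit 0x30c4001), (nat_lit 0x2133001), (nat_lit 0x30db001)], [(nat_lit 0x213d001), (nat_lit 0x2a74d030ce002), (nat_lit 0x213e001)], [(nat_lit 0x30e5001), (nat_lit 0x2147001), (nat_lit 0x3109001)], [(nat_lit 0x2135001), (nat_lit 0x30c6001), (nat_lit 0x30d7001)], [(nat_lit 0x30d6001), (nat_lit 0x30e3001), (nat_lit 0x2144001)], [(nat_lit 0x30cc001), (nat_lit 0x213b001), (nat_lit 0x30de001)], [(nat_lit 0x303d001), (nat_lit 0x309e001), (nat_lit 0x2121001)], [(nat_lit 0x30c5001), (nat_lit 0x2134001), (nat_lit 0x30dc001)], [(nat_lit 0x213f001), (nat_lit 0x30cf001), (nat_lit 0x2140001)], [(nat_lit 0x2ea91030e6002), (nat_lit 0x2148001), (nat_lit 0x310a001)], [(nat_lit 0x2136001), (nat_lit 0x30c7001), (nat_lit 0x30d9001)], [(nat_lit 0x30d8001), (nat_lit 0x30e4001), (nat_lit 0x2145001)], [(nat_lit 0x30cd001), (nat_lit 0x213c001), (nat_lit 0x30df001)], [(nat_lit 0x214a001), (nat_lit 0x30e8001), (nat_lit 0x30f7001)], [(nat_lit 0x30f6001), (nat_lit 0x310f001), (nat_lit 0x215d001)], [(nat_lit 0x2dd4c030c9002), (nat_lit 0x2138001), (nat_lit 0x30dd001)], [(nat_lit 0x2c8dd030fa002), (nat_lit 0x3111001), (nat_lit 0x215f001)], [(nat_lit 0x215b001), (nat_lit 0x30f5001), (nat_lit 0x215c001)], [(nat_lit 0x2de0001), (nat_lit 0x2168001), (nat_lit 0x2dce001)], [(nat_lit 0x2139001), (nat_lit 0x213a001), (nat_lit 0x30ca001)], [(nat_lit 0x30cb001), (nat_lit 0x30da001), (nat_lit 0x2146001)], [(nat_lit 0x30e7001), (nat_lit 0x2149001), (nat_lit 0x310b001)], [(nat_lit 0x214d001), (nat_lit 0x30eb001), (nat_lit 0x24622030fd002)], [(nat_lit 0x24622030fc002), (nat_lit 0x3112001), (nat_lit 0x2160001)], [(nat_lit 0x2150001), (nat_lit 0x214f001), (nat_lit 0x30ec001)], [(nat_lit 0x2157001), (nat_lit 0x30f4001), (nat_lit 0x2158001)], [(nat_lit 0x3105001), (nat_lit 0x2166001), (nat_lit 0x3116001)], [(nat_lit 0x2154001), (nat_lit 0x2b2f9030f1002), (nat_lit 0x2d3d703102002)], [(nat_lit 0x30ed001), (nat_lit 0x23d5d030f2002), (nat_lit 0x2155001)], [(nat_lit 0x23e1703108002), (nat_lit 0x216a001), (nat_lit 0x23c0a03119002)], [(nat_lit 0x2174001), (nat_lit 0x3123001), (nat_lit 0x312e001)], [(nat_lit 0x312d001), (nat_lit 0x2e56003139002), (nat_lit 0x217d001)], [(nat_lit 0x311b001), (nat_lit 0x216c001), (nat_lit 0x3133001)], [(nat_lit 0x2176001), (nat_lit 0x3125001), (nat_lit 0x2177001)], [(nat_lit 0x216d001), (nat_lit 0x311c001), (nat_lit 0x3127001)], [(nat_lit 0x3126001), (nat_lit 0x3136001), (nat_lit 0x2178001)], [(nat_lit 0x3131001), (nat_lit 0x217f001), (nat_lit 0x313b001)], [(nat_lit 0x2184001), (nat_lit 0x313f001), (nat_lit 0x314c001)], [(nat_lit 0x314b001), (nat_lit 0x3164001), (nat_lit 0x2193001)], [(nat_lit 0x311e001), (nat_lit 0x2170001), (nat_lit 0x3134001)], [(nat_lit 0x217a001), (nat_lit 0x2488203128002), (nat_lit 0x2179001)], [(nat_lit 0x313d001), (nat_lit 0x2182001), (nat_lit 0x315f001)], [(nat_lit 0x2189001), (nat_lit 0x3143001), (nat_lit 0x3154001)], [(nat_lit 0x3153001), (nat_lit 0x3168001), (nat_lit 0x2197001)], [(nat_lit 0x3147001), (nat_lit 0x218d001), (nat_lit 0x3163001)], [(nat_lit 0x21a1001), (nat_lit 0x316d001), (nat_lit 0x317e001)], [(nat_lit 0x317d001), (nat_lit 0x178b40318f002), (nat_lit 0x21b2001)], [(nat_lit 0x2172001), (nat_lit 0x3120001), (nat_lit 0x312a001)], [(nat_lit 0x3129001), (nat_lit 0x3137001), (nat_lit 0x217b001)], [(nat_lit 0x208a90313e002), (nat_lit 0x2183001), (nat_lit 0x3160001)], [(nat_lit 0x2187001), (nat_lit 0x228a803141002), (nat_lit 0x3152001)], [(nat_lit 0x3151001), (nat_lit 0x3167001), (nat_lit 0x2196001)], [(nat_lit 0x3121001), (nat_lit 0x218c001), (nat_lit 0x3146001)], [(nat_lit 0x219b001), (nat_lit 0x3156001), (nat_lit 0x219a001)], [(nat_lit 0x315c001), (nat_lit 0x21a0001), (nat_lit 0x316c001)], [(nat_lit 0x218e001), (nat_lit 0x3148001), (nat_lit 0x221ae03158002)], [(nat_lit 0x221ae03157002), (nat_lit 0x21f5001), (nat_lit 0x219c001)], [(nat_lit 0x3171001), (nat_lit 0x21a5001), (nat_lit 0x318a001)], [(nat_lit 0x21b5001), (nat_lit 0x3181001), (nat_lit 0x21b4001)], [(nat_lit 0x26df103194002), (nat_lit 0x21bf001), (nat_lit 0x31b6001)], [(nat_lit 0x2173001), (nat_lit 0x3122001), (nat_lit 0x312c001)], [(nat_lit 0x312b001), (nat_lit 0x3138001), (nat_lit 0x217c001)], [(nat_lit 0x3145001), (nat_lit 0x218b001), (nat_lit 0x3162001)], [(nat_lit 0x2199001), (nat_lit 0x3155001), (nat_lit 0x2198001)], [(nat_lit 0x21c4001), (nat_lit 0x3199001), (nat_lit 0x31a8001)], [(nat_lit 0x31a7001), (nat_lit 0x20bbd031c1002), (nat_lit 0x21d2001)], [(nat_lit 0x21a4001), (nat_lit 0x21a3001), (nat_lit 0x316f001)], [(nat_lit 0x21b0001), (nat_lit 0x317c001), (nat_lit 0x21b1001)], [(nat_lit 0x3189001), (nat_lit 0x21be001), (nat_lit 0x3193001)], [(nat_lit 0x21a6001), (nat_lit 0x3172001), (nat_lit 0x3183001)], [(nat_lit 0x3182001), (nat_lit 0x2dcd903191002), (nat_lit 0x21b6001)], [(nat_lit 0x21bd001), (nat_lit 0x3188001), (nat_lit 0x21bc001)], [(nat_lit 0x319a001), (nat_lit 0x21c5001), (nat_lit 0x31bc001)], [(nat_lit 0x3170001), (nat_lit 0x2ec0503173002), (nat_lit 0x21a7001)], [(nat_lit 0x317b001), (nat_lit 0x21af001), (nat_lit 0x318e001)], [(nat_lit 0x21c6001), (nat_lit 0x319c001), (nat_lit 0x26350031aa002)], [(nat_lit 0x26350031a9002), (nat_lit 0x31c2001), (nat_lit 0x21d3001)], [(nat_lit 0x3174001), (nat_lit 0x21a8001), (nat_lit 0x318b001)], [(nat_lit 0x21b8001), (nat_lit 0x3184001), (nat_lit 0x21b7001)], [(nat_lit 0x3195001), (nat_lit 0x21c0001), (nat_lit 0x2ae92031b7002)], [(nat_lit 0x3175001), (nat_lit 0x21a9001), (nat_lit 0x318c001)], [(nat_lit 0x21ba001), (nat_lit 0x2c13903185002), (nat_lit 0x21b9001)], [(nat_lit 0x1759203196002), (nat_lit 0x21c1001), (nat_lit 0x31b9001)], [(nat_lit 0x3198001), (nat_lit 0x21c3001), (nat_lit 0x31bb001)], [(nat_lit 0x21c8001), (nat_lit 0x319e001), (nat_lit 0x31ae001)], [(nat_lit 0x31ad001), (nat_lit 0x31c4001), (nat_lit 0x21d5001)], [(nat_lit 0x21df001), (nat_lit 0x165c6031b5002), (nat_lit 0x31c9001)], [(nat_lit 0x31ca001), (nat_lit 0x31d5001), (nat_lit 0x21ed001)], [(nat_lit 0x21e9001), (nat_lit 0x31d3001), (nat_lit 0x21ea001)], [(nat_lit 0x16b84031e5002), (nat_lit 0x21f6001), (nat_lit 0x31fb001)], [(nat_lit 0x21ab001), (nat_lit 0x3176001), (nat_lit 0x21aa001)], [(nat_lit 0x3197001), (nat_lit 0x21c2001), (nat_lit 0x31ba001)], [(nat_lit 0x21c7001), (nat_lit 0x319d001), (nat_lit 0x31ac001)], [(nat_lit 0x31ab001), (nat_lit 0x31c3001), (nat_lit 0x21d4001)], [(nat_lit 0x319f001), (nat_lit 0x21c9001), (nat_lit 0x31be001)], [(nat_lit 0x21d0001), (nat_lit 0x2bbc6031a6002), (nat_lit 0x21d1001)], [(nat_lit 0x2b673031b3002), (nat_lit 0x21db001), (nat_lit 0x2ac18031c6002)], [(nat_lit 0x31a1001), (nat_lit 0x21cb001), (nat_lit 0x31bf001)], [(nat_lit 0x21e0001), (nat_lit 0x31cb001), (nat_lit 0x31d7001)], [(nat_lit 0x31d6001), (nat_lit 0x31e2001), (nat_lit 0x21ee001)], [(nat_lit 0x31cc001), (nat_lit 0x21e3001), (nat_lit 0x2634f031de002)], [(nat_lit 0x21eb001), (nat_lit 0x31d4001), (nat_lit 0x21ec001)], [(nat_lit 0x21ce001), (nat_lit 0x31a3001), (nat_lit 0x31b1001)], [(nat_lit 0x31b0001), (nat_lit 0x31c5001), (nat_lit 0x21d8001)], [(nat_lit 0x31a4001), (nat_lit 0x21e5001), (nat_lit 0x21b66031ce002)], [(nat_lit 0x21f2001), (nat_lit 0x31da001), (nat_lit 0x21f1001)], [(nat_lit 0x27e71031e7002), (nat_lit 0x21f8001), (nat_lit 0x31fd001)], [(nat_lit 0x21e7001), (nat_lit 0x31d1001), (nat_lit 0x31df001)], [(nat_lit 0x31e0001), (nat_lit 0x21f5001), (nat_lit 0x21f4001)], [(nat_lit 0x31eb001), (nat_lit 0x21fc001), (nat_lit 0x29e95031ff002)], [(nat_lit 0x2206001), (nat_lit 0x31f5001), (nat_lit 0x2205001)], [(nat_lit 0x31a5001), (nat_lit 0x21cf001), (nat_lit 0x31c0001)], [(nat_lit 0x21e4001), (nat_lit 0x31cd001), (nat_lit 0x2d458031d9002)], [(nat_lit 0x2d458031d8002), (nat_lit 0x31e4001), (nat_lit 0x21f0001)], [(nat_lit 0x31d2001), (nat_lit 0x21e8001), (nat_lit 0x31e1001)], [(nat_lit 0x21fa001), (nat_lit 0x31e9001), (nat_lit 0x31f2001)], [(nat_lit 0x31f1001), (nat_lit 0x3201001), (nat_lit 0x2203001)], [(nat_lit 0x2228001), (nat_lit 0x3225001), (nat_lit 0x3236001)], [(nat_lit 0x3235001), (nat_lit 0x3247001), (nat_lit 0x2239001)], [(nat_lit 0x320c001), (nat_lit 0x2218001), (nat_lit 0x321b001)], [(nat_lit 0x221f001), (nat_lit 0x3211001), (nat_lit 0x221e001)], [(nat_lit 0x3223001), (nat_lit 0x2226001), (nat_lit 0x3241001)], [(nat_lit 0x222b001), (nat_lit 0x3228001), (nat_lit 0x323a001)], [(nat_lit 0x3239001), (nat_lit 0x3249001), (nat_lit 0x223b001)], [(nat_lit 0x220c001), (nat_lit 0x275b7031f8002), (nat_lit 0x220b001)], [(nat_lit 0x3214001), (nat_lit 0x2222001), (nat_lit 0x3221001)], [(nat_lit 0x256f503209002), (nat_lit 0x2217001), (nat_lit 0x320b001)], [(nat_lit 0x221d001), (nat_lit 0x2dacc03210002), (nat_lit 0x221c001)], [(nat_lit 0x208aa0321e002), (nat_lit 0x3231001), (nat_lit 0x2236001)], [(nat_lit 0x221a001), (nat_lit 0x320d001), (nat_lit 0x2219001)], [(nat_lit 0x3215001), (nat_lit 0x2225001), (nat_lit 0x27aaa03222002)], [(nat_lit 0x3229001), (nat_lit 0x222c001), (nat_lit 0x3244001)], [(nat_lit 0x2234001), (nat_lit 0x3230001), (nat_lit 0x2235001)], [(nat_lit 0x324f001), (nat_lit 0x2241001), (nat_lit 0x3270001)], [(nat_lit 0x222e001), (nat_lit 0x322b001), (nat_lit 0x323c001)], [(nat_lit 0x323b001), (nat_lit 0x324a001), (nat_lit 0x223c001)], [(nat_lit 0x3250001), (nat_lit 0x2242001), (nat_lit 0x3271001)], [(nat_lit 0x2245001), (nat_lit 0x3253001), (nat_lit 0x1dfe202246002)], [(nat_lit 0x1dfe202253002), (nat_lit 0x325e001), (nat_lit 0x2252001)], [(nat_lit 0x322a001), (nat_lit 0x222d001), (nat_lit 0x3245001)], [(nat_lit 0x2231001), (nat_lit 0x322e001), (nat_lit 0x3240001)], [(nat_lit 0x323f001), (nat_lit 0x324d001), (nat_lit 0x223f001)], [(nat_lit 0x3256001), (nat_lit 0x2249001), (nat_lit 0x2b00403274002)], [(nat_lit 0x2258001), (nat_lit 0x3263001), (nat_lit 0x2257001)], [(nat_lit 0x2a0370326c002), (nat_lit 0x2262001), (nat_lit 0x2a0360327b002)], [(nat_lit 0x3251001), (nat_lit 0x2243001), (nat_lit 0x3272001)], [(nat_lit 0x2247001), (nat_lit 0x3254001), (nat_lit 0x3260001)], [(nat_lit 0x325f001), (nat_lit 0x2e3ed02255002), (nat_lit 0x2254001)], [(nat_lit 0x2e3050322d002), (nat_lit 0x224c001), (nat_lit 0x3258001)], [(nat_lit 0x225c001), (nat_lit 0x3265001), (nat_lit 0x225b001)], [(nat_lit 0x2b4b70326e002), (nat_lit 0x2264001), (nat_lit 0x327d001)], [(nat_lit 0x3282001), (nat_lit 0x226b001), (nat_lit 0x329f001)], [(nat_lit 0x2278001), (nat_lit 0x3291001), (nat_lit 0x2277001)], [(nat_lit 0x2248001), (nat_lit 0x3255001), (nat_lit 0x2bea803262002)], [(nat_lit 0x224b001), (nat_lit 0x224a001), (nat_lit 0x1f58e03257002)], [(nat_lit 0x225a001), (nat_lit 0x21a1f03264002), (nat_lit 0x2259001)], [(nat_lit 0x25f6d0326d002), (nat_lit 0x2263001), (nat_lit 0x327c001)], [(nat_lit 0x2276001), (nat_lit 0x3290001), (nat_lit 0x2275001)], [(nat_lit 0x329b001), (nat_lit 0x2281001), (nat_lit 0x32a9001)], [(nat_lit 0x28de70325c002), (nat_lit 0x2250001), (nat_lit 0x28e9003276002)], [(nat_lit 0x225f001), (nat_lit 0x3268001), (nat_lit 0x225e001)], [(nat_lit 0x327f001), (nat_lit 0x2266001), (nat_lit 0x329e001)], [(nat_lit 0x27e6103293002), (nat_lit 0x32a5001), (nat_lit 0x227b001)], [(nat_lit 0x2c2a10329a002), (nat_lit 0x2280001), (nat_lit 0x32a8001)], [(nat_lit 0x2285001), (nat_lit 0x32ad001), (nat_lit 0x32ba001)], [(nat_lit 0x32b9001), (nat_lit 0x2c49e032d0002), (nat_lit 0x2291001)], [(nat_lit 0x3259001), (nat_lit 0x224e001), (nat_lit 0x3275001)], [(nat_lit 0x2268001), (nat_lit 0x3280001), (nat_lit 0x27db70328d002)], [(nat_lit 0x27db70328c002), (nat_lit 0x32a3001), (nat_lit 0x2273001)], [(nat_lit 0x3284001), (nat_lit 0x226c001), (nat_lit 0x32a0001)], [(nat_lit 0x227a001), (nat_lit 0x3292001), (nat_lit 0x2279001)], [(nat_lit 0x32ab001), (nat_lit 0x2283001), (nat_lit 0x32cb001)], [(nat_lit 0x224f001), (nat_lit 0x325a001), (nat_lit 0x2eb0b03267002)], [(nat_lit 0x2eb0b03266002), (nat_lit 0x3278001), (nat_lit 0x225d001)], [(nat_lit 0x2269001), (nat_lit 0x3281001), (nat_lit 0x328f001)], [(nat_lit 0x328e001), (nat_lit 0x32a4001), (nat_lit 0x2274001)], [(nat_lit 0x325b001), (nat_lit 0x226e001), (nat_lit 0x3285001)], [(nat_lit 0x227d001), (nat_lit 0x2e25203295002), (nat_lit 0x227c001)], [(nat_lit 0x32ac001), (nat_lit 0x2284001), (nat_lit 0x32cc001)], [(nat_lit 0x2271001), (nat_lit 0x3288001), (nat_lit 0x3299001)], [(nat_lit 0x3298001), (nat_lit 0x32a7001), (nat_lit 0x227f001)], [(nat_lit 0x226f001), (nat_lit 0x3286001), (nat_lit 0x3297001)], [(nat_lit 0x3296001), (nat_lit 0x32a6001), (nat_lit 0x227e001)], [(nat_lit 0x32af001), (nat_lit 0x2287001), (nat_lit 0x32cd001)], [(nat_lit 0x2294001), (nat_lit 0x32bd001), (nat_lit 0x2293001)], [(nat_lit 0x32ca001), (nat_lit 0x22a0001), (nat_lit 0x2592001)], [(nat_lit 0x2289001), (nat_lit 0x32b1001), (nat_lit 0x2b003032c0002)], [(nat_lit 0x228ab032b8002), (nat_lit 0x2290001), (nat_lit 0x28d93032cf002)], [(nat_lit 0x228af032df002), (nat_lit 0x32f0001), (nat_lit 0x22aa001)], [(nat_lit 0x228d001), (nat_lit 0x32b5001), (nat_lit 0x228c001)], [(nat_lit 0x26af7032d8002), (nat_lit 0x22a3001), (nat_lit 0x26af6032ec002)], [(nat_lit 0x22a7001), (nat_lit 0x32dc001), (nat_lit 0x32e4001)], [(nat_lit 0x32e3001), (nat_lit 0x32f2001), (nat_lit 0x22ac001)], [(nat_lit 0x228f001), (nat_lit 0x16828032b7002), (nat_lit 0x32c8001)], [(nat_lit 0x32c7001), (nat_lit 0x32d4001), (nat_lit 0x229e001)], [(nat_lit 0x32d9001), (nat_lit 0x22a4001), (nat_lit 0x32ed001)], [(nat_lit 0x22a9001), (nat_lit 0x1e312032de002), (nat_lit 0x32e8001)], [(nat_lit 0x32e7001), (nat_lit 0x32f3001), (nat_lit 0x22af001)], [(nat_lit 0x2286001), (nat_lit 0x21abb032ae002), (nat_lit 0x32bc001)], [(nat_lit 0x32bb001), (nat_lit 0x32d1001), (nat_lit 0x2292001)], [(nat_lit 0x228a001), (nat_lit 0x32b2001), (nat_lit 0x32c2001)], [(nat_lit 0x32c1001), (nat_lit 0x2e43f032d3002), (nat_lit 0x2298001)], [(nat_lit 0x32c9001), (nat_lit 0x229f001), (nat_lit 0x32d5001)], [(nat_lit 0x22a6001), (nat_lit 0x28ee4032db002), (nat_lit 0x284ed032e2002)], [(nat_lit 0x284ed032e1002), (nat_lit 0x255ce032f1002), (nat_lit 0x22ab001)], [(nat_lit 0x32b3001), (nat_lit 0x228b001), (nat_lit 0x32b4001)], [(nat_lit 0x229a001), (nat_lit 0x1e458032c3002), (nat_lit 0x2299001)], [(nat_lit 0x32d7001), (nat_lit 0x22a2001), (nat_lit 0x32eb001)], [(nat_lit 0x228e001), (nat_lit 0x32b6001), (nat_lit 0x255d3032c5002)], [(nat_lit 0x32dd001), (nat_lit 0x22a8001), (nat_lit 0x32ef001)], [(nat_lit 0x22bf001), (nat_lit 0x2c30f0330a002), (nat_lit 0x3312001)], [(nat_lit 0x3311001), (nat_lit 0x2d1e103319002), (nat_lit 0x22c3001)], [(nat_lit 0x330c001), (nat_lit 0x22c0001), (nat_lit 0x3316001)], [(nat_lit 0x22c8001), (nat_lit 0x331d001), (nat_lit 0x332c001)], [(nat_lit 0x332b001), (nat_lit 0x333a001), (nat_lit 0x22d9001)], [(nat_lit 0x22cd001), (nat_lit 0x22cc001), (nat_lit 0x3322001)], [(nat_lit 0x25a8403334002), (nat_lit 0x22e1001), (nat_lit 0x333e001)], [(nat_lit 0x22e6001), (nat_lit 0x3342001), (nat_lit 0x29ade03352002)], [(nat_lit 0x29ade03351002), (nat_lit 0x3366001), (nat_lit 0x22f8001)], [(nat_lit 0x3344001), (nat_lit 0x22e8001), (nat_lit 0x3360001)], [(nat_lit 0x26cc00335a002), (nat_lit 0x22fd001), (nat_lit 0x336b001)], [(nat_lit 0x3323001), (nat_lit 0x3325001), (nat_lit 0x22cf001)], [(nat_lit 0x2633203340002), (nat_lit 0x22e3001), (nat_lit 0x335f001)], [(nat_lit 0x22f3001), (nat_lit 0x334d001), (nat_lit 0x22f4001)], [(nat_lit 0x335b001), (nat_lit 0x22fe001), (nat_lit 0x336c001)], [(nat_lit 0x22ea001), (nat_lit 0x3346001), (nat_lit 0x3356001)], [(nat_lit 0x3355001), (nat_lit 0x3368001), (nat_lit 0x22fa001)], [(nat_lit 0x3349001), (nat_lit 0x22ed001), (nat_lit 0x3362001)], [(nat_lit 0x2300001), (nat_lit 0x335d001), (nat_lit 0x336e001)], [(nat_lit 0x336f001), (nat_lit 0x337c001), (nat_lit 0x2314001)], [(nat_lit 0x2ca3a0331c002), (nat_lit 0x22c7001), (nat_lit 0x3337001)], [(nat_lit 0x22c9001), (nat_lit 0x2c5f90331e002), (nat_lit 0x332e001)], [(nat_lit 0x332d001), (nat_lit 0x2e7750333b002), (nat_lit 0x22da001)], [(nat_lit 0x22dd001), (nat_lit 0x3331001), (nat_lit 0x22dc001)], [(nat_lit 0x22cb001), (nat_lit 0x3320001), (nat_lit 0x3330001)], [(nat_lit 0x332f001), (nat_lit 0x333c001), (nat_lit 0x22db001)], [(nat_lit 0x3328001), (nat_lit 0x22d2001), (nat_lit 0x26b3503339002)], [(nat_lit 0x22e5001), (nat_lit 0x3341001), (nat_lit 0x3350001)], [(nat_lit 0x334f001), (nat_lit 0x3365001), (nat_lit 0x22f7001)], [(nat_lit 0x3321001), (nat_lit 0x22ce001), (nat_lit 0x3324001)], [(nat_lit 0x22d7001), (nat_lit 0x332a001), (nat_lit 0x22d8001)], [(nat_lit 0x3335001), (nat_lit 0x22e2001), (nat_lit 0x333f001)], [(nat_lit 0x22e7001), (nat_lit 0x26d6803343002), (nat_lit 0x3354001)], [(nat_lit 0x3353001), (nat_lit 0x3367001), (nat_lit 0x22f9001)], [(nat_lit 0x2e26703357002), (nat_lit 0x2607c03369002), (nat_lit 0x22fb001)], [(nat_lit 0x3348001), (nat_lit 0x22ec001), (nat_lit 0x3361001)], [(nat_lit 0x22f5001), (nat_lit 0x334e001), (nat_lit 0x22f6001)], [(nat_lit 0x273da0335c002), (nat_lit 0x22ff001), (nat_lit 0x336d001)], [(nat_lit 0x2304001), (nat_lit 0x3370001), (nat_lit 0x260810337e002)], [(nat_lit 0x3377001), (nat_lit 0x230c001), (nat_lit 0x3387001)], [(nat_lit 0x3378001), (nat_lit 0x230d001), (nat_lit 0x3388001)], [(nat_lit 0x2309001), (nat_lit 0x3374001), (nat_lit 0x3382001)], [(nat_lit 0x3381001), (nat_lit 0x2dba00338d002), (nat_lit 0x2317001)], [(nat_lit 0x3394001), (nat_lit 0x231e001), (nat_lit 0x33b5001)], [(nat_lit 0x230e001), (nat_lit 0x3379001), (nat_lit 0x230f001)], [(nat_lit 0x230a001), (nat_lit 0x165c203375002), (nat_lit 0x3384001)], [(nat_lit 0x3383001), (nat_lit 0x209980338e002), (nat_lit 0x2318001)], [(nat_lit 0x232a001), (nat_lit 0x33a1001), (nat_lit 0x232b001)], [(nat_lit 0x33b0001), (nat_lit 0x2337001), (nat_lit 0x12e02033c1002)], [(nat_lit 0x231d001), (nat_lit 0x2de6803393002), (nat_lit 0x33a7001)], [(nat_lit 0x33a6001), (nat_lit 0x33bc001), (nat_lit 0x2332001)], [(nat_lit 0x3376001), (nat_lit 0x230b001), (nat_lit 0x3386001)], [(nat_lit 0x2311001), (nat_lit 0x337a001), (nat_lit 0x2312001)], [(nat_lit 0x2321001), (nat_lit 0x3397001), (nat_lit 0x33a9001)], [(nat_lit 0x33a8001), (nat_lit 0x33bd001), (nat_lit 0x2333001)], [(nat_lit 0x339e001), (nat_lit 0x2326001), (nat_lit 0x33b9001)], [(nat_lit 0x233c001), (nat_lit 0x33c6001), (nat_lit 0x233d001)], [(nat_lit 0x2354001), (nat_lit 0x1b8db033d6002), (nat_lit 0x2353001)], [(nat_lit 0x2322001), (nat_lit 0x3398001), (nat_lit 0x33ab001)], [(nat_lit 0x33aa001), (nat_lit 0x33be001), (nat_lit 0x2334001)], [(nat_lit 0x339f001), (nat_lit 0x2327001), (nat_lit 0x26838033ba002)], [(nat_lit 0x3399001), (nat_lit 0x2342001), (nat_lit 0x33ca001)], [(nat_lit 0x2348001), (nat_lit 0x33ce001), (nat_lit 0x33dd001)], [(nat_lit 0x33dc001), (nat_lit 0x2397001), (nat_lit 0x2359001)], [(nat_lit 0x33d5001), (nat_lit 0x2352001), (nat_lit 0x1e981033e6002)], [(nat_lit 0x235f001), (nat_lit 0x33ed001), (nat_lit 0x235e001)], [(nat_lit 0x33fa001), (nat_lit 0x236b001), (nat_lit 0x3416001)], [(nat_lit 0x2308001), (nat_lit 0x3373001), (nat_lit 0x3380001)], [(nat_lit 0x337f001), (nat_lit 0x338c001), (nat_lit 0x2316001)], [(nat_lit 0x232d001), (nat_lit 0x33a3001), (nat_lit 0x232e001)], [(nat_lit 0x2ca78033b2002), (nat_lit 0x2339001), (nat_lit 0x2e6da033c3002)], [(nat_lit 0x2323001), (nat_lit 0x339a001), (nat_lit 0x33ad001)], [(nat_lit 0x33ac001), (nat_lit 0x21eba033bf002), (nat_lit 0x2335001)], [(nat_lit 0x21e0b033a4002), (nat_lit 0x232f001), (nat_lit 0x21e0c033bb002)], [(nat_lit 0x2357001), (nat_lit 0x33d9001), (nat_lit 0x2356001)], [(nat_lit 0x2344001), (nat_lit 0x33cb001), (nat_lit 0x2343001)], [(nat_lit 0x33d1001), (nat_lit 0x234d001), (nat_lit 0x33e2001)], [(nat_lit 0x2349001), (nat_lit 0x33cf001), (nat_lit 0x33df001)], [(nat_lit 0x33de001), (nat_lit 0x22466033e9002), (nat_lit 0x235a001)], [(nat_lit 0x33ee001), (nat_lit 0x2360001), (nat_lit 0x2d42b03410002)], [(nat_lit 0x339b001), (nat_lit 0x2324001), (nat_lit 0x33b8001)], [(nat_lit 0x2330001), (nat_lit 0x33a5001), (nat_lit 0x2331001)], [(nat_lit 0x33b4001), (nat_lit 0x233b001), (nat_lit 0x33c5001)], [(nat_lit 0x2341001), (nat_lit 0x33c9001), (nat_lit 0x33db001)], [(nat_lit 0x33da001), (nat_lit 0x33e8001), (nat_lit 0x2358001)], [(nat_lit 0x2d1e30339d002), (nat_lit 0x2345001), (nat_lit 0x2c91c033cc002)], [(nat_lit 0x11f2e033e0002), (nat_lit 0x33ea001), (nat_lit 0x235b001)], [(nat_lit 0x3406001), (nat_lit 0x237a001), (nat_lit 0x341c001)], [(nat_lit 0x2347001), (nat_lit 0x33cd001), (nat_lit 0x2346001)], [(nat_lit 0x33d3001), (nat_lit 0x2350001), (nat_lit 0x2872a033e3002)], [(nat_lit 0x2351001), (nat_lit 0x33d4001), (nat_lit 0x33e4001)], [(nat_lit 0x33e5001), (nat_lit 0x33ec001), (nat_lit 0x235d001)], [(nat_lit 0x33ef001), (nat_lit 0x2361001), (nat_lit 0x3411001)], [(nat_lit 0x2370001), (nat_lit 0x33fc001), (nat_lit 0x2371001)], [(nat_lit 0x2c11203407002), (nat_lit 0x237b001), (nat_lit 0x341d001)], [(nat_lit 0x33f1001), (nat_lit 0x2362001), (nat_lit 0x3412001)], [(nat_lit 0x33f8001), (nat_lit 0x2369001), (nat_lit 0x27f7103414002)], [(nat_lit 0x2378001), (nat_lit 0x2b84103403002), (nat_lit 0x2377001)], [(nat_lit 0x3409001), (nat_lit 0x237d001), (nat_lit 0x27f740341f002)], [(nat_lit 0x238c001), (nat_lit 0x342a001), (nat_lit 0x238d001)], [(nat_lit 0x3436001), (nat_lit 0x239d001), (nat_lit 0x3441001)], [(nat_lit 0x2384001), (nat_lit 0x3423001), (nat_lit 0x3431001)], [(nat_lit 0x3430001), (nat_lit 0x2397001), (nat_lit 0x2396001)], [(nat_lit 0x3428001), (nat_lit 0x238a001), (nat_lit 0x343d001)], [(nat_lit 0x239a001), (nat_lit 0x3434001), (nat_lit 0x2399001)], [(nat_lit 0x206ff03446002), (nat_lit 0x23a1001), (nat_lit 0x3464001)], [(nat_lit 0x33f9001), (nat_lit 0x236a001), (nat_lit 0x3415001)], [(nat_lit 0x237e001), (nat_lit 0x340a001), (nat_lit 0x3420001)], [(nat_lit 0x3421001), (nat_lit 0x2c66a0342f002), (nat_lit 0x2395001)], [(nat_lit 0x2381001), (nat_lit 0x2380001), (nat_lit 0x340c001)], [(nat_lit 0x238e001), (nat_lit 0x342b001), (nat_lit 0x238f001)], [(nat_lit 0x2cbaf03437002), (nat_lit 0x239e001), (nat_lit 0x2c1ef03442002)], [(nat_lit 0x2385001), (nat_lit 0x3424001), (nat_lit 0x3433001)], [(nat_lit 0x3432001), (nat_lit 0x3440001), (nat_lit 0x2398001)], [(nat_lit 0x3429001), (nat_lit 0x238b001), (nat_lit 0x343e001)], [(nat_lit 0x239c001), (nat_lit 0x3435001), (nat_lit 0x239b001)], [(nat_lit 0x23be001), (nat_lit 0x23a2001), (nat_lit 0x23b1001)], [(nat_lit 0x340d001), (nat_lit 0x340e001), (nat_lit 0x2382001)]]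

theorem rows2_ok : okRows data table 191944 4000 rows2 = true := by decide +kernel

theorem rows2_len : rows2.length = 2000 := by decide +kernel

end CfsgLib.CosetEnum.ONJA
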