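/-
Certificate data of a coset enumeration.
-/
import Cfsg.Agent.Lib.CosetEnum.ONJA.Data

set_option autoImplicit false
set_option maxRecDepth 1000000

namespace CfsgLib.CosetEnum.ONJA

open CfsgLib.CosetEnum

/-- Completion of the rows from 6000. -/
noncomputable def rows3 : List (List ℕ) := [[(nat_lit 0x3427001), (nat_lit 0x2389001), (nat_lit 0x343c001)], [(nat_lit 0x23a0001), (nat_lit 0x3439001), (nat_lit 0x2e53703444002)], [(nat_lit 0x2e53703445002), (nat_lit 0x3454001), (nat_lit 0x23b2001)], [(nat_lit 0x3425001), (nat_lit 0x2386001), (nat_lit 0x343b001)], [(nat_lit 0x2392001), (nat_lit 0x2e60d0342d002), (nat_lit 0x2393001)], [(nat_lit 0x23a4001), (nat_lit 0x3448001), (nat_lit 0x3456001)], [(nat_lit 0x3455001), (nat_lit 0x346a001), (nat_lit 0x23b4001)], [(nat_lit 0x23ad001), (nat_lit 0x3450001), (nat_lit 0x2ca710345f002)], [(nat_lit 0x2ad9403422002), (nat_lit 0x2383001), (nat_lit 0x2e9380343a002)], [(nat_lit 0x2390001), (nat_lit 0x242c60342c002), (nat_lit 0x2391001)], [(nat_lit 0x3438001), (nat_lit 0x239f001), (nat_lit 0x3443001)], [(nat_lit 0x2da6603475002), (nat_lit 0x23c4001), (nat_lit 0x3488001)], [(nat_lit 0x23ce001), (nat_lit 0x347f001), (nat_lit 0x23cd001)], [(nat_lit 0x2388001), (nat_lit 0x3426001), (nat_lit 0x2387001)], [(nat_lit 0x342e001), (nat_lit 0x2394001), (nat_lit 0x343f001)], [(nat_lit 0x3449001), (nat_lit 0x23a5001), (nat_lit 0x3466001)], [(nat_lit 0x345d001), (nat_lit 0x23b8001), (nat_lit 0x246cf0346e002)], [(nat_lit 0x23a7001), (nat_lit 0x344b001), (nat_lit 0x345a001)], [(nat_lit 0x3459001), (nat_lit 0x246d20346c002), (nat_lit 0x23b6001)], [(nat_lit 0x246d30344f002), (nat_lit 0x23ab001), (nat_lit 0x3467001)], [(nat_lit 0x23b0001), (nat_lit 0x3453001), (nat_lit 0x23b1001)], [(nat_lit 0x23be001), (nat_lit 0x3462001), (nat_lit 0x23bd001)], [(nat_lit 0x3447001), (nat_lit 0x23a3001), (nat_lit 0x3465001)], [(nat_lit 0x2b5e303452002), (nat_lit 0x23af001), (nat_lit 0x2ba8c03468002)], [(nat_lit 0x23a8001), (nat_lit 0x344c001), (nat_lit 0x345c001)], [(nat_lit 0x345b001), (nat_lit 0x346d001), (nat_lit 0x23b7001)], [(nat_lit 0x23bf001), (nat_lit 0x3463001), (nat_lit 0x24d9001)], [(nat_lit 0x344d001), (nat_lit 0x23c0001), (nat_lit 0x3471001)], [(nat_lit 0x23c9001), (nat_lit 0x2aa400347a002), (nat_lit 0x23ca001)], [(nat_lit 0x2aa4e03481002), (nat_lit 0x23d1001), (nat_lit 0x348e001)], [(nat_lit 0x3476001), (nat_lit 0x23c5001), (nat_lit 0x3489001)], [(nat_lit 0x23d0001), (nat_lit 0x3480001), (nat_lit 0x23cf001)], [(nat_lit 0x3483001), (nat_lit 0x23d4001), (nat_lit 0x3492001)], [(nat_lit 0x23c1001), (nat_lit 0x2b7f503472002), (nat_lit 0x347c001)], [(nat_lit 0x347b001), (nat_lit 0x2e8e10348c002), (nat_lit 0x23cb001)], [(nat_lit 0x3474001), (nat_lit 0x23c3001), (nat_lit 0x3487001)], [(nat_lit 0x23d2001), (nat_lit 0x3482001), (nat_lit 0x227400348f002)], [(nat_lit 0x3496001), (nat_lit 0x23d7001), (nat_lit 0x34ac001)], [(nat_lit 0x23de001), (nat_lit 0x28c090349c002), (nat_lit 0x23df001)], [(nat_lit 0x34a5001), (nat_lit 0x23e9001), (nat_lit 0x34b1001)], [(nat_lit 0x3478001), (nat_lit 0x23c7001), (nat_lit 0x348a001)], [(nat_lit 0x23d8001), (nat_lit 0x3497001), (nat_lit 0x2892b034a4002)], [(nat_lit 0x2892b034a3002), (nat_lit 0x34b0001), (nat_lit 0x23e8001)], [(nat_lit 0x3499001), (nat_lit 0x23da001), (nat_lit 0x34ae001)], [(nat_lit 0x23e1001), (nat_lit 0x349e001), (nat_lit 0x23e2001)], [(nat_lit 0x34a8001), (nat_lit 0x23ec001), (nat_lit 0x34b4001)], [(nat_lit 0x3498001), (nat_lit 0x23d9001), (nat_lit 0x34ad001)], [(nat_lit 0x23e0001), (nat_lit 0x349d001), (nat_lit 0x34a7001)], [(nat_lit 0x34a6001), (nat_lit 0x27249034b3002), (nat_lit 0x23eb001)], [(nat_lit 0x23fa001), (nat_lit 0x34bf001), (nat_lit 0x23fb001)], [(nat_lit 0x34cc001), (nat_lit 0x2407001), (nat_lit 0x34df001)], [(nat_lit 0x23f1001), (nat_lit 0x2b262034b7002), (nat_lit 0x34c5001)], [(nat_lit 0x34c4001), (nat_lit 0x34db001), (nat_lit 0x2403001)], [(nat_lit 0x23d6001), (nat_lit 0x1a6c803486002), (nat_lit 0x2027603494002)], [(nat_lit 0x2027603495002), (nat_lit 0x34a2001), (nat_lit 0x23e7001)], [(nat_lit 0x349a001), (nat_lit 0x23db001), (nat_lit 0x16a96034af002)], [(nat_lit 0x23e3001), (nat_lit 0x349f001), (nat_lit 0x23e4001)], [(nat_lit 0x34a9001), (nat_lit 0x23ed001), (nat_lit 0x2502001)], [(nat_lit 0x23f2001), (nat_lit 0x34b8001), (nat_lit 0x2bfab034c7002)], [(nat_lit 0x34bb001), (nat_lit 0x23f6001), (nat_lit 0x34d8001)], [(nat_lit 0x23fe001), (nat_lit 0x34c1001), (nat_lit 0x34cf001)], [(nat_lit 0x34ce001), (nat_lit 0x34e1001), (nat_lit 0x2409001)], [(nat_lit 0x23dd001), (nat_lit 0x349b001), (nat_lit 0x23dc001)], [(nat_lit 0x34aa001), (nat_lit 0x23ee001), (nat_lit 0x2eb19034b5002)], [(nat_lit 0x23f4001), (nat_lit 0x34ba001), (nat_lit 0x34cb001)], [(nat_lit 0x34ca001), (nat_lit 0x34de001), (nat_lit 0x2406001)], [(nat_lit 0x2cc3b034b6002), (nat_lit 0x23f0001), (nat_lit 0x2d560034d6002)], [(nat_lit 0x23fc001), (nat_lit 0x34c0001), (nat_lit 0x23fd001)], [(nat_lit 0x23f3001), (nat_lit 0x34b9001), (nat_lit 0x34c9001)], [(nat_lit 0x34c8001), (nat_lit 0x34dd001), (nat_lit 0x2405001)], [(nat_lit 0x34bc001), (nat_lit 0x23f7001), (nat_lit 0x34d9001)], [(nat_lit 0x23ff001), (nat_lit 0x34c2001), (nat_lit 0x34d1001)], [(nat_lit 0x34d0001), (nat_lit 0x34e2001), (nat_lit 0x240a001)], [(nat_lit 0x23f9001), (nat_lit 0x23f8001), (nat_lit 0x24c23034bd002)], [(nat_lit 0x240f001), (nat_lit 0x34d4001), (nat_lit 0x34e4001)], [(nat_lit 0x34e5001), (nat_lit 0x34f1001), (nat_lit 0x2420001)], [(nat_lit 0x34e7001), (nat_lit 0x2411001), (nat_lit 0x34fb001)], [(nat_lit 0x2419001), (nat_lit 0x34ed001), (nat_lit 0x241a001)], [(nat_lit 0x34f7001), (nat_lit 0x2425001), (nat_lit 0x3502001)], [(nat_lit 0x34d5001), (nat_lit 0x2410001), (nat_lit 0x34e6001)], [(nat_lit 0x2417001), (nat_lit 0x34ec001), (nat_lit 0x2418001)], [(nat_lit 0x2a759034f6002), (nat_lit 0x2424001), (nat_lit 0x3501001)], [(nat_lit 0x2416001), (nat_lit 0x34eb001), (nat_lit 0x294d7034f5002)], [(nat_lit 0x34fa001), (nat_lit 0x2428001), (nat_lit 0x3505001)], [(nat_lit 0x246d403515002), (nat_lit 0x3522001), (nat_lit 0x243d001)], [(nat_lit 0x2d052034d3002), (nat_lit 0x240e001), (nat_lit 0x2d053034e3002)], [(nat_lit 0x2415001), (nat_lit 0x34e9001), (nat_lit 0x34f3001)], [(nat_lit 0x34f2001), (nat_lit 0x34ff001), (nat_lit 0x2422001)], [(nat_lit 0x34f0001), (nat_lit 0x241f001), (nat_lit 0x34fe001)], [(nat_lit 0x242c001), (nat_lit 0x3507001), (nat_lit 0x3514001)], [(nat_lit 0x3513001), (nat_lit 0x3521001), (nat_lit 0x243c001)], [(nat_lit 0x34ea001), (nat_lit 0x242b001), (nat_lit 0x3506001)], [(nat_lit 0x2430001), (nat_lit 0x350b001), (nat_lit 0x3518001)], [(nat_lit 0x3517001), (nat_lit 0x2476001), (nat_lit 0x243e001)], [(nat_lit 0x3529001), (nat_lit 0x2445001), (nat_lit 0x3545001)], [(nat_lit 0x2450001), (nat_lit 0x289e803531002), (nat_lit 0x2451001)], [(nat_lit 0x3538001), (nat_lit 0x245a001), (nat_lit 0x2eaf40354b002)], [(nat_lit 0x2433001), (nat_lit 0x350e001), (nat_lit 0x2434001)], [(nat_lit 0x3519001), (nat_lit 0x243f001), (nat_lit 0x3523001)], [(nat_lit 0x3509001), (nat_lit 0x242e001), (nat_lit 0x351f001)], [(nat_lit 0x2437001), (nat_lit 0x3510001), (nat_lit 0x351c001)], [(nat_lit 0x351b001), (nat_lit 0x3525001), (nat_lit 0x2441001)], [(nat_lit 0x2432001), (nat_lit 0x2431001), (nat_lit 0x350c001)], [(nat_lit 0x2446001), (nat_lit 0x352a001), (nat_lit 0x3536001)], [(nat_lit 0x3535001), (nat_lit 0x2dbe10354a002), (nat_lit 0x2457001)], [(nat_lit 0x2455001), (nat_lit 0x3534001), (nat_lit 0x2456001)], [(nat_lit 0x353c001), (nat_lit 0x245d001), (nat_lit 0x2cb9b0354f002)], [(nat_lit 0x350d001), (nat_lit 0x2e7ef03528002), (nat_lit 0x2444001)], [(nat_lit 0x2388d0352c002), (nat_lit 0x2448001), (nat_lit 0x3547001)], [(nat_lit 0x2454001), (nat_lit 0x2388f03533002), (nat_lit 0x353b001)], [(nat_lit 0x353a001), (nat_lit 0x354e001), (nat_lit 0x245c001)], [(nat_lit 0x3539001), (nat_lit 0x245b001), (nat_lit 0x354c001)], [(nat_lit 0x2463001), (nat_lit 0x242bc03543002), (nat_lit 0x3558001)], [(nat_lit 0x3559001), (nat_lit 0x3568001), (nat_lit 0x2477001)], [(nat_lit 0x2469001), (nat_lit 0x3560001), (nat_lit 0x356d001)], [(nat_lit 0x356c001), (nat_lit 0x357b001), (nat_lit 0x247a001)], [(nat_lit 0x34e8001), (nat_lit 0x2414001), (nat_lit 0x34fd001)], [(nat_lit 0x241d001), (nat_lit 0x34ef001), (nat_lit 0x241e001)], [(nat_lit 0x34f9001), (nat_lit 0x2427001), (nat_lit 0x3504001)], [(nat_lit 0x2de660350a002), (nat_lit 0x242f001), (nat_lit 0x3520001)], [(nat_lit 0x2438001), (nat_lit 0x3511001), (nat_lit 0x351e001)], [(nat_lit 0x351d001), (nat_lit 0x3526001), (nat_lit 0x2442001)], [(nat_lit 0x353e001), (nat_lit 0x245e001), (nat_lit 0x2694003551002)], [(nat_lit 0x2466001), (nat_lit 0x355d001), (nat_lit 0x356b001)], [(nat_lit 0x356a001), (nat_lit 0x357a001), (nat_lit 0x2479001)], [(nat_lit 0x2c43c03530002), (nat_lit 0x244f001), (nat_lit 0x3549001)], [(nat_lit 0x2459001), (nat_lit 0x3537001), (nat_lit 0x2458001)], [(nat_lit 0x2cb9a03540002), (nat_lit 0x2460001), (nat_lit 0x2d05103553002)], [(nat_lit 0x2b9d90355b002), (nat_lit 0x3569001), (nat_lit 0x2478001)], [(nat_lit 0x2c7b803561002), (nat_lit 0x246a001), (nat_lit 0x3576001)], [(nat_lit 0x2861a0352e002), (nat_lit 0x244c001), (nat_lit 0x2861903548002)], [(nat_lit 0x2461001), (nat_lit 0x3541001), (nat_lit 0x3554001)], [(nat_lit 0x3555001), (nat_lit 0x3363001), (nat_lit 0x2474001)], [(nat_lit 0x244e001), (nat_lit 0x352f001), (nat_lit 0x244d001)], [(nat_lit 0x353f001), (nat_lit 0x245f001), (nat_lit 0x3552001)], [(nat_lit 0x2462001), (nat_lit 0x3542001), (nat_lit 0x3556001)], [(nat_lit 0x3557001), (nat_lit 0x2476001), (nat_lit 0x2475001)], [(nat_lit 0x355f001), (nat_lit 0x2468001), (nat_lit 0x3575001)], [(nat_lit 0x356f001), (nat_lit 0x247c001), (nat_lit 0x357d001)], [(nat_lit 0x24c23034be002), (nat_lit 0x252160355c002), (nat_lit 0x2465001)], [(nat_lit 0x2b04403562002), (nat_lit 0x246b001), (nat_lit 0x3577001)], [(nat_lit 0x28a4b03570002), (nat_lit 0x2521b0357e002), (nat_lit 0x247d001)], [(nat_lit 0x3566001), (nat_lit 0x2472001), (nat_lit 0x2983d03579002)], [(nat_lit 0x247f001), (nat_lit 0x3572001), (nat_lit 0x247e001)], [(nat_lit 0x3587001), (nat_lit 0x2488001), (nat_lit 0x359d001)], [(nat_lit 0x2481001), (nat_lit 0x3580001), (nat_lit 0x358c001)], [(nat_lit 0x358b001), (nat_lit 0x359e001), (nat_lit 0x248f001)], [(nat_lit 0x3581001), (nat_lit 0x2482001), (nat_lit 0x359b001)], [(nat_lit 0x248c001), (nat_lit 0x358a001), (nat_lit 0x3595001)], [(nat_lit 0x3594001), (nat_lit 0x25202035a4002), (nat_lit 0x2498001)], [(nat_lit 0x3565001), (nat_lit 0x2471001), (nat_lit 0x3578001)], [(nat_lit 0x3591001), (nat_lit 0x2496001), (nat_lit 0x35a2001)], [(nat_lit 0x248b001), (nat_lit 0x3589001), (nat_lit 0x3593001)], [(nat_lit 0x3592001), (nat_lit 0x35a3001), (nat_lit 0x2497001)], [(nat_lit 0x2483001), (nat_lit 0x3582001), (nat_lit 0x358e001)], [(nat_lit 0x358d001), (nat_lit 0x359f001), (nat_lit 0x2490001)], [(nat_lit 0x3586001), (nat_lit 0x2487001), (nat_lit 0x359c001)], [(nat_lit 0x2493001), (nat_lit 0x2494001), (nat_lit 0x2492001)], [(nat_lit 0x3597001), (nat_lit 0x249a001), (nat_lit 0x35a6001)], [(nat_lit 0x2484001), (nat_lit 0x3583001), (nat_lit 0x3590001)], [(nat_lit 0x358f001), (nat_lit 0x35a0001), (nat_lit 0x2491001)], [(nat_lit 0x2486001), (nat_lit 0x2485001), (nat_lit 0x3584001)], [(nat_lit 0x2b9ef03596002), (nat_lit 0x2499001), (nat_lit 0x35a5001)], [(nat_lit 0x249c001), (nat_lit 0x3599001), (nat_lit 0x35a8001)], [(nat_lit 0x35a9001), (nat_lit 0x35b5001), (nat_lit 0x24ab001)], [(nat_lit 0x35ab001), (nat_lit 0x249f001), (nat_lit 0x35c1001)], [(nat_lit 0x24a7001), (nat_lit 0x35b2001), (nat_lit 0x24a8001)], [(nat_lit 0x24b1001), (nat_lit 0x24af001), (nat_lit 0x24b0001)], [(nat_lit 0x3585001), (nat_lit 0x359a001), (nat_lit 0x249d001)], [(nat_lit 0x35ac001), (nat_lit 0x24a0001), (nat_lit 0x35c2001)], [(nat_lit 0x24a9001), (nat_lit 0x35b3001), (nat_lit 0x1e887035ba002)], [(nat_lit 0x24a1001), (nat_lit 0x35ad001), (nat_lit 0x35b7001)], [(nat_lit 0x35b6001), (nat_lit 0x21866035c5002), (nat_lit 0x24ac001)], [(nat_lit 0x35b4001), (nat_lit 0x24aa001), (nat_lit 0x35c3001)], [(nat_lit 0x24bb001), (nat_lit 0x35d1001), (nat_lit 0x35e1001)], [(nat_lit 0x35e0001), (nat_lit 0x35f4001), (nat_lit 0x24ca001)], [(nat_lit 0x2eb1d035bc002), (nat_lit 0x24b4001), (nat_lit 0x2eb1c035ca002)], [(nat_lit 0x24bd001), (nat_lit 0x35d2001), (nat_lit 0x35e3001)], [(nat_lit 0x35e2001), (nat_lit 0x35f6001), (nat_lit 0x24cc001)], [(nat_lit 0x35d7001), (nat_lit 0x24c4001), (nat_lit 0x35f0001)], [(nat_lit 0x24d1001), (nat_lit 0x35e9001), (nat_lit 0x24d0001)], [(nat_lit 0x3603001), (nat_lit 0x24df001), (nat_lit 0x361d001)], [(nat_lit 0x24a3001), (nat_lit 0x35af001), (nat_lit 0x24a2001)], [(nat_lit 0x35bb001), (nat_lit 0x24b3001), (nat_lit 0x24ed8035c9002)], [(nat_lit 0x35bd001), (nat_lit 0x24b5001), (nat_lit 0x35cb001)], [(nat_lit 0x35e6001), (nat_lit 0x24ce001), (nat_lit 0x35f8001)], [(nat_lit 0x24b9001), (nat_lit 0x2cfc1035cf002), (nat_lit 0x35dd001)], [(nat_lit 0x35dc001), (nat_lit 0x2da11035f2002), (nat_lit 0x24c8001)], [(nat_lit 0x35d5001), (nat_lit 0x24c2001), (nat_lit 0x35ef001)], [(nat_lit 0x35be001), (nat_lit 0x24b7001), (nat_lit 0x35cc001)], [(nat_lit 0x24be001), (nat_lit 0x24299035d3002), (nat_lit 0x35e5001)], [(nat_lit 0x35e4001), (nat_lit 0x35f7001), (nat_lit 0x24cd001)], [(nat_lit 0x35d8001), (nat_lit 0x24c5001), (nat_lit 0x2e92e035f1002)], [(nat_lit 0x24d3001), (nat_lit 0x35ea001), (nat_lit 0x24d2001)], [(nat_lit 0x3604001), (nat_lit 0x24e0001), (nat_lit 0x149970361e002)], [(nat_lit 0x24c6001), (nat_lit 0x35d9001), (nat_lit 0x35ec001)], [(nat_lit 0x35eb001), (nat_lit 0x35fa001), (nat_lit 0x24d4001)], [(nat_lit 0x35fc001), (nat_lit 0x24d7001), (nat_lit 0x3619001)], [(nat_lit 0x35da001), (nat_lit 0x24d5001), (nat_lit 0x35ed001)], [(nat_lit 0x24e1001), (nat_lit 0x2cffd03605002), (nat_lit 0x24e2001)], [(nat_lit 0x360b001), (nat_lit 0x24ea001), (nat_lit 0x3620001)], [(nat_lit 0x24d8001), (nat_lit 0x35fd001), (nat_lit 0x24d9001)], [(nat_lit 0x2c38c03600002), (nat_lit 0x24dc001), (nat_lit 0x361a001)], [(nat_lit 0x24e3001), (nat_lit 0x3606001), (nat_lit 0x24e4001)], [(nat_lit 0x24b8001), (nat_lit 0x24f04035bf002), (nat_lit 0x35cd001)], [(nat_lit 0x35ce001), (nat_lit 0x35db001), (nat_lit 0x24c7001)], [(nat_lit 0x35d4001), (nat_lit 0x24bf001), (nat_lit 0x2e768035ee002)], [(nat_lit 0x24c3001), (nat_lit 0x35d6001), (nat_lit 0x35e8001)], [(nat_lit 0x35e7001), (nat_lit 0x35f9001), (nat_lit 0x24cf001)], [(nat_lit 0x3601001), (nat_lit 0x24dd001), (nat_lit 0x361b001)], [(nat_lit 0x24e7001), (nat_lit 0x3609001), (nat_lit 0x24e6001)], [(nat_lit 0x2b0b20360d002), (nat_lit 0x24ed001), (nat_lit 0x3623001)], [(nat_lit 0x3613001), (nat_lit 0x24f2001), (nat_lit 0x3627001)], [(nat_lit 0x24f7001), (nat_lit 0x362d001), (nat_lit 0x363b001)], [(nat_lit 0x363a001), (nat_lit 0x3646001), (nat_lit 0x2507001)], [(nat_lit 0x3634001), (nat_lit 0x2501001), (nat_lit 0x2502001)], [(nat_lit 0x2514001), (nat_lit 0x364e001), (nat_lit 0x365c001)], [(nat_lit 0x365b001), (nat_lit 0x366d001), (nat_lit 0x2524001)], [(nat_lit 0x2d571035fb002), (nat_lit 0x24d6001), (nat_lit 0x3618001)], [(nat_lit 0x24db001), (nat_lit 0x35ff001), (nat_lit 0x3608001)], [(nat_lit 0x3607001), (nat_lit 0x361f001), (nat_lit 0x24e5001)], [(nat_lit 0x3602001), (nat_lit 0x24de001), (nat_lit 0x361c001)], [(nat_lit 0x24ef001), (nat_lit 0x360f001), (nat_lit 0x3625001)], [(nat_lit 0x3626001), (nat_lit 0x3638001), (nat_lit 0x2505001)], [(nat_lit 0x3615001), (nat_lit 0x24f4001), (nat_lit 0x362a001)], [(nat_lit 0x24fe001), (nat_lit 0x3631001), (nat_lit 0x363f001)], [(nat_lit 0x363e001), (nat_lit 0x364a001), (nat_lit 0x250b001)], [(nat_lit 0x3610001), (nat_lit 0x24f1001), (nat_lit 0x3612001)], [(nat_lit 0x24fa001), (nat_lit 0x362f001), (nat_lit 0x24fb001)], [(nat_lit 0x2b5eb0363c002), (nat_lit 0x2509001), (nat_lit 0x3648001)], [(nat_lit 0x24f3001), (nat_lit 0x3614001), (nat_lit 0x3628001)], [(nat_lit 0x3629001), (nat_lit 0x2ca8103639002), (nat_lit 0x2506001)], [(nat_lit 0x3617001), (nat_lit 0x24f6001), (nat_lit 0x362c001)], [(nat_lit 0x2110603633002), (nat_lit 0x2500001), (nat_lit 0x211f403645002)], [(nat_lit 0x2513001), (nat_lit 0x364d001), (nat_lit 0x2dd850365a002)], [(nat_lit 0x3651001), (nat_lit 0x2517001), (nat_lit 0x3669001)], [(nat_lit 0x251f001), (nat_lit 0x3657001), (nat_lit 0x365f001)], [(nat_lit 0x365e001), (nat_lit 0x3670001), (nat_lit 0x2527001)], [(nat_lit 0x362e001), (nat_lit 0x24f9001), (nat_lit 0x3644001)], [(nat_lit 0x2dd8e0364f002), (nat_lit 0x2515001), (nat_lit 0x3667001)], [(nat_lit 0x251b001), (nat_lit 0x3655001), (nat_lit 0x251c001)], [(nat_lit 0x24f04035c0002), (nat_lit 0x2503001), (nat_lit 0x24f0b03636002)], [(nat_lit 0x250e001), (nat_lit 0x293c103642002), (nat_lit 0x250d001)], [(nat_lit 0x3653001), (nat_lit 0x2519001), (nat_lit 0x366b001)], [(nat_lit 0x2512001), (nat_lit 0x3643001), (nat_lit 0x1fa030364c002)], [(nat_lit 0x3650001), (nat_lit 0x2516001), (nat_lit 0x3668001)], [(nat_lit 0x251d001), (nat_lit 0x3656001), (nat_lit 0x251e001)], [(nat_lit 0x365d001), (nat_lit 0x2526001), (nat_lit 0x2df2c0366f002)], [(nat_lit 0x2d9d503661002), (nat_lit 0x1e89103672002), (nat_lit 0x2529001)], [(nat_lit 0x3665001), (nat_lit 0x252c001), (nat_lit 0x3675001)], [(nat_lit 0x2532001), (nat_lit 0x367c001), (nat_lit 0x2533001)], [(nat_lit 0x368b001), (nat_lit 0x2541001), (nat_lit 0x3695001)], [(nat_lit 0x252e001), (nat_lit 0x3666001), (nat_lit 0x3677001)], [(nat_lit 0x3678001), (nat_lit 0x2a73503687002), (nat_lit 0x253e001)], [(nat_lit 0x2a2230367f002), (nat_lit 0x2536001), (nat_lit 0x368f001)], [(nat_lit 0x254d001), (nat_lit 0x369d001), (nat_lit 0x36af001)], [(nat_lit 0x36ae001), (nat_lit 0x36cb001), (nat_lit 0x255e001)], [(nat_lit 0x2549001), (nat_lit 0x369a001), (nat_lit 0x2e02e036a9002)], [(nat_lit 0x2e99b036a0002), (nat_lit 0x2550001), (nat_lit 0x36c0001)], [(nat_lit 0x2557001), (nat_lit 0x2ce2d036a6002), (nat_lit 0x2558001)], [(nat_lit 0x2c87d03683002), (nat_lit 0x2ce450369c002), (nat_lit 0x254b001)], [(nat_lit 0x2d42d036a4002), (nat_lit 0x2554001), (nat_lit 0x2d42e036c4002)], [(nat_lit 0x35ae001), (nat_lit 0x2568001), (nat_lit 0x36b9001)], [(nat_lit 0x2635103663002), (nat_lit 0x252a001), (nat_lit 0x2634e03673002)], [(nat_lit 0x2530001), (nat_lit 0x24ef40367b002), (nat_lit 0x2531001)], [(nat_lit 0x252f001), (nat_lit 0x2e44003679002), (nat_lit 0x3689001)], [(nat_lit 0x3688001), (nat_lit 0x3693001), (nat_lit 0x253f001)], [(nat_lit 0x254e001), (nat_lit 0x369e001), (nat_lit 0x36b1001)], [(nat_lit 0x36b0001), (nat_lit 0x36cc001), (nat_lit 0x255f001)], [(nat_lit 0x2e4400367a002), (nat_lit 0x253b001), (nat_lit 0x2e6ae03684002)], [(nat_lit 0x254a001), (nat_lit 0x369b001), (nat_lit 0x36ab001)], [(nat_lit 0x36aa001), (nat_lit 0x27335036c8002), (nat_lit 0x255c001)], [(nat_lit 0x36a7001), (nat_lit 0x2559001), (nat_lit 0x36c5001)], [(nat_lit 0x2563001), (nat_lit 0x2e1e0036b4002), (nat_lit 0x2562001)], [(nat_lit 0x2566001), (nat_lit 0x36b7001), (nat_lit 0x2565001)], [(nat_lit 0x2577001), (nat_lit 0x2238d036df002), (nat_lit 0x36e9001)], [(nat_lit 0x36e8001), (nat_lit 0x36f8001), (nat_lit 0x2584001)], [(nat_lit 0x36ba001), (nat_lit 0x2569001), (nat_lit 0x36d2001)], [(nat_lit 0x2575001), (nat_lit 0x36de001), (nat_lit 0x2576001)], [(nat_lit 0x36e7001), (nat_lit 0x2583001), (nat_lit 0x26ed5036f7002)], [(nat_lit 0x36b8001), (nat_lit 0x2567001), (nat_lit 0x36d1001)], [(nat_lit 0x2bae0036bc002), (nat_lit 0x256c001), (nat_lit 0x2cf94036d6002)], [(nat_lit 0x2578001), (nat_lit 0x36e0001), (nat_lit 0x2579001)], [(nat_lit 0x36ea001), (nat_lit 0x2585001), (nat_lit 0x36f9001)], [(nat_lit 0x256d001), (nat_lit 0x36bd001), (nat_lit 0x36d7001)], [(nat_lit 0x36d8001), (nat_lit 0x36e6001), (nat_lit 0x2581001)], [(nat_lit 0x36e1001), (nat_lit 0x257a001), (nat_lit 0x36f3001)], [(nat_lit 0x36be001), (nat_lit 0x256e001), (nat_lit 0x36d9001)], [(nat_lit 0x257b001), (nat_lit 0x36e2001), (nat_lit 0x257c001)], [(nat_lit 0x258b001), (nat_lit 0x36f0001), (nat_lit 0x2272003701002)], [(nat_lit 0x3704001), (nat_lit 0x2590001), (nat_lit 0x3721001)], [(nat_lit 0x3719001), (nat_lit 0x25a4001), (nat_lit 0x3728001)], [(nat_lit 0x2570001), (nat_lit 0x2bd33036da002), (nat_lit 0x256f001)], [(nat_lit 0x28f5e03715002), (nat_lit 0x3726001), (nat_lit 0x25a2001)], [(nat_lit 0x36db001), (nat_lit 0x2571001), (nat_lit 0x36f1001)], [(nat_lit 0x257e001), (nat_lit 0x36e4001), (nat_lit 0x257f001)], [(nat_lit 0x36ec001), (nat_lit 0x2587001), (nat_lit 0x36fb001)], [(nat_lit 0x258c001), (nat_lit 0x3703001), (nat_lit 0x3712001)], [(nat_lit 0x3711001), (nat_lit 0x3724001), (nat_lit 0x25a0001)], [(nat_lit 0x3705001), (nat_lit 0x2591001), (nat_lit 0x2592001)], [(nat_lit 0x2596001), (nat_lit 0x3709001), (nat_lit 0x371b001)], [(nat_lit 0x371a001), (nat_lit 0x372a001), (nat_lit 0x25a5001)], [(nat_lit 0x2d04803735002), (nat_lit 0x25b5001), (nat_lit 0x374f001)], [(nat_lit 0x2589001), (nat_lit 0x36ed001), (nat_lit 0x36fd001)], [(nat_lit 0x36fe001), (nat_lit 0x2bcbe0370f002), (nat_lit 0x259c001)], [(nat_lit 0x2593001), (nat_lit 0x3707001), (nat_lit 0x3718001)], [(nat_lit 0x3717001), (nat_lit 0x3727001), (nat_lit 0x25a3001)], [(nat_lit 0x36ee001), (nat_lit 0x2598001), (nat_lit 0x2823a0370b002)], [(nat_lit 0x25ab001), (nat_lit 0x2bb660371c002), (nat_lit 0x25aa001)], [(nat_lit 0x279b303737002), (nat_lit 0x25b7001), (nat_lit 0x3751001)], [(nat_lit 0x259b001), (nat_lit 0x370e001), (nat_lit 0x3720001)], [(nat_lit 0x371f001), (nat_lit 0x372c001), (nat_lit 0x25ad001)], [(nat_lit 0x373a001), (nat_lit 0x25bb001), (nat_lit 0x3752001)], [(nat_lit 0x2b2fc03700002), (nat_lit 0x3710001), (nat_lit 0x259d001)], [(nat_lit 0x3736001), (nat_lit 0x25b6001), (nat_lit 0x3750001)], [(nat_lit 0x2b1960370a002), (nat_lit 0x2597001), (nat_lit 0x3722001)], [(nat_lit 0x259a001), (nat_lit 0x370d001), (nat_lit 0x371e001)], [(nat_lit 0x371d001), (nat_lit 0x372b001), (nat_lit 0x25ac001)], [(nat_lit 0x372f001), (nat_lit 0x25b0001), (nat_lit 0x374c001)], [(nat_lit 0x25b9001), (nat_lit 0x3739001), (nat_lit 0x25ba001)], [(nat_lit 0x2a86b0370c002), (nat_lit 0x2599001), (nat_lit 0x2eb6903723002)], [(nat_lit 0x25c7001), (nat_lit 0x3748001), (nat_lit 0x1f7a10375a002)], [(nat_lit 0x1f7a10375b002), (nat_lit 0x3768001), (nat_lit 0x25da001)], [(nat_lit 0x2454a03734002), (nat_lit 0x25c9001), (nat_lit 0x374a001)], [(nat_lit 0x25d1001), (nat_lit 0x1fdb903761002), (nat_lit 0x25d2001)], [(nat_lit 0x376e001), (nat_lit 0x25de001), (nat_lit 0x11bca03776002)], [(nat_lit 0x25e1001), (nat_lit 0x3779001), (nat_lit 0x378e001)], [(nat_lit 0x378d001), (nat_lit 0x2621001), (nat_lit 0x25f6001)], [(nat_lit 0x25eb001), (nat_lit 0x3783001), (nat_lit 0x25ec001)], [(nat_lit 0x3797001), (nat_lit 0x25fc001), (nat_lit 0x37b1001)], [(nat_lit 0x25b2001), (nat_lit 0x2d52a03731002), (nat_lit 0x373f001)], [(nat_lit 0x373e001), (nat_lit 0x3754001), (nat_lit 0x25bf001)], [(nat_lit 0x3769001), (nat_lit 0x25db001), (nat_lit 0x2e87703773002)], [(nat_lit 0x3749001), (nat_lit 0x25c8001), (nat_lit 0x2cf6b0375c002)], [(nat_lit 0x25d0001), (nat_lit 0x3760001), (nat_lit 0x376d001)], [(nat_lit 0x376c001), (nat_lit 0x2df9403775002), (nat_lit 0x25dd001)], [(nat_lit 0x25e2001), (nat_lit 0x377a001), (nat_lit 0x3790001)], [(nat_lit 0x378f001), (nat_lit 0x37ac001), (nat_lit 0x25f7001)], [(nat_lit 0x3781001), (nat_lit 0x25e9001), (nat_lit 0x27f6b037a6002)], [(nat_lit 0x3798001), (nat_lit 0x25fd001), (nat_lit 0x37b2001)], [(nat_lit 0x3763001), (nat_lit 0x25d5001), (nat_lit 0x3771001)], [(nat_lit 0x25e4001), (nat_lit 0x377c001), (nat_lit 0x3792001)], [(nat_lit 0x3791001), (nat_lit 0x37ae001), (nat_lit 0x25f9001)], [(nat_lit 0x3787001), (nat_lit 0x25f0001), (nat_lit 0x37a8001)], [(nat_lit 0x2601001), (nat_lit 0x379b001), (nat_lit 0x2600001)], [(nat_lit 0x37bd001), (nat_lit 0x2614001), (nat_lit 0x37d5001)], [(nat_lit 0x2d4c003732002), (nat_lit 0x25b3001), (nat_lit 0x374e001)], [(nat_lit 0x25c1001), (nat_lit 0x3740001), (nat_lit 0x25c0001)], [(nat_lit 0x25d7001), (nat_lit 0x3764001), (nat_lit 0x25d6001)], [(nat_lit 0x377d001), (nat_lit 0x25e5001), (nat_lit 0x37a3001)], [(nat_lit 0x25ea001), (nat_lit 0x3782001), (nat_lit 0x3796001)], [(nat_lit 0x3795001), (nat_lit 0x37b0001), (nat_lit 0x25fb001)], [(nat_lit 0x3788001), (nat_lit 0x25f1001), (nat_lit 0x37a9001)], [(nat_lit 0x2603001), (nat_lit 0x379c001), (nat_lit 0x2602001)], [(nat_lit 0x2ea7f037be002), (nat_lit 0x2615001), (nat_lit 0x37d7001)], [(nat_lit 0x25f3001), (nat_lit 0x378a001), (nat_lit 0x379f001)], [(nat_lit 0x379e001), (nat_lit 0x29af4037b4002), (nat_lit 0x2606001)], [(nat_lit 0x1f53f0378b002), (nat_lit 0x25f4001), (nat_lit 0x1f59d037ab002)], [(nat_lit 0x3765001), (nat_lit 0x25d8001), (nat_lit 0x20a8803772002)], [(nat_lit 0x3789001), (nat_lit 0x25f2001), (nat_lit 0x2da4b037aa002)], [(nat_lit 0x2605001), (nat_lit 0x22d6c0379d002), (nat_lit 0x2604001)], [(nat_lit 0x25d9001), (nat_lit 0x3766001), (nat_lit 0x3770001)], [(nat_lit 0x376f001), (nat_lit 0x3778001), (nat_lit 0x25e0001)], [(nat_lit 0x377f001), (nat_lit 0x25e7001), (nat_lit 0x37a4001)], [(nat_lit 0x3767001), (nat_lit 0x25f5001), (nat_lit 0x24bf30378c002)], [(nat_lit 0x2608001), (nat_lit 0x2409f037a0002), (nat_lit 0x2607001)], [(nat_lit 0x37c0001), (nat_lit 0x2617001), (nat_lit 0x37d9001)], [(nat_lit 0x2611001), (nat_lit 0x37ba001), (nat_lit 0x37ca001)], [(nat_lit 0x37c9001), (nat_lit 0x2621001), (nat_lit 0x2620001)], [(nat_lit 0x213c5037e9002), (nat_lit 0x262d001), (nat_lit 0x213df03807002)], [(nat_lit 0x2630001), (nat_lit 0x2479c037eb002), (nat_lit 0x2631001)], [(nat_lit 0x24d34037fc002), (nat_lit 0x263f001), (nat_lit 0x3811001)], [(nat_lit 0x37c1001), (nat_lit 0x2618001), (nat_lit 0x37da001)], [(nat_lit 0x2629001), (nat_lit 0x37d3001), (nat_lit 0x2e230037e4002)], [(nat_lit 0x2e230037e5002), (nat_lit 0x2a89b037f4002), (nat_lit 0x263a001)], [(nat_lit 0x2ddfa037cb002), (nat_lit 0x37dd001), (nat_lit 0x2622001)], [(nat_lit 0x37ec001), (nat_lit 0x2632001), (nat_lit 0x3808001)], [(nat_lit 0x2641001), (nat_lit 0x37fd001), (nat_lit 0x2640001)], [(nat_lit 0x381e001), (nat_lit 0x2655001), (nat_lit 0x383b001)], [(nat_lit 0x1683a037d2002), (nat_lit 0x2628001), (nat_lit 0x37e3001)], [(nat_lit 0x262e001), (nat_lit 0x37ea001), (nat_lit 0x262f001)], [(nat_lit 0x2aca3037fb002), (nat_lit 0x263e001), (nat_lit 0x3810001)], [(nat_lit 0x2e345037c4002), (nat_lit 0x37db001), (nat_lit 0x261c001)], [(nat_lit 0x37ed001), (nat_lit 0x2633001), (nat_lit 0x3809001)], [(nat_lit 0x2643001), (nat_lit 0x25b49037fe002), (nat_lit 0x2642001)], [(nat_lit 0x381f001), (nat_lit 0x2656001), (nat_lit 0x383c001)], [(nat_lit 0x260e001), (nat_lit 0x37b7001), (nat_lit 0x37c8001)], [(nat_lit 0x37c7001), (nat_lit 0x37dc001), (nat_lit 0x261f001)], [(nat_lit 0x28b25037d0002), (nat_lit 0x2626001), (nat_lit 0x37e1001)], [(nat_lit 0x262b001), (nat_lit 0x37e7001), (nat_lit 0x37f8001)], [(nat_lit 0x37f7001), (nat_lit 0x380e001), (nat_lit 0x263c001)], [(nat_lit 0x37b8001), (nat_lit 0x2636001), (nat_lit 0x37f0001)], [(nat_lit 0x2637001), (nat_lit 0x29a0c037f1002), (nat_lit 0x3803001)], [(nat_lit 0x3802001), (nat_lit 0x3812001), (nat_lit 0x2649001)], [(nat_lit 0x37f2001), (nat_lit 0x2638001), (nat_lit 0x380c001)], [(nat_lit 0x3822001), (nat_lit 0x265a001), (nat_lit 0x3840001)], [(nat_lit 0x2a65a037a2002), (nat_lit 0x260d001), (nat_lit 0x29fe2037b6002)], [(nat_lit 0x261e001), (nat_lit 0x29fe3037c6002), (nat_lit 0x261d001)], [(nat_lit 0x2ed80037cf002), (nat_lit 0x2625001), (nat_lit 0x2a2aa037e0002)], [(nat_lit 0x262a001), (nat_lit 0x37e6001), (nat_lit 0x37f6001)], [(nat_lit 0x37f5001), (nat_lit 0x278700380d002), (nat_lit 0x263b001)], [(nat_lit 0x37ee001), (nat_lit 0x2634001), (nat_lit 0x149940380a002)], [(nat_lit 0x2645001), (nat_lit 0x37ff001), (nat_lit 0x2644001)], [(nat_lit 0x2b045037f9002), (nat_lit 0x380f001), (nat_lit 0x263d001)], [(nat_lit 0x2639001), (nat_lit 0x27a5c037f3002), (nat_lit 0x3805001)], [(nat_lit 0x3804001), (nat_lit 0x3813001), (nat_lit 0x264a001)], [(nat_lit 0x382e001), (nat_lit 0x2665001), (nat_lit 0x3844001)], [(nat_lit 0x264c001), (nat_lit 0x3815001), (nat_lit 0x3824001)], [(nat_lit 0x3823001), (nat_lit 0x3841001), (nat_lit 0x265b001)], [(nat_lit 0x266c001), (nat_lit 0x24cf103835002), (nat_lit 0x384c001)], [(nat_lit 0x384d001), (nat_lit 0x385f001), (nat_lit 0x267f001)], [(nat_lit 0x3816001), (nat_lit 0x264d001), (nat_lit 0x3817001)], [(nat_lit 0x265d001), (nat_lit 0x3825001), (nat_lit 0x265c001)], [(nat_lit 0x3830001), (nat_lit 0x2667001), (nat_lit 0x3846001)], [(nat_lit 0x2653001), (nat_lit 0x381c001), (nat_lit 0x382c001)], [(nat_lit 0x382b001), (nat_lit 0x26a0001), (nat_lit 0x2662001)], [(nat_lit 0x3837001), (nat_lit 0x266e001), (nat_lit 0x231330384e002)], [(nat_lit 0x2672001), (nat_lit 0x3851001), (nat_lit 0x2673001)], [(nat_lit 0x386e001), (nat_lit 0x268b001), (nat_lit 0x387a001)], [(nat_lit 0x2650001), (nat_lit 0x3819001), (nat_lit 0x264f001)], [(nat_lit 0x266b001), (nat_lit 0x2471a03834002), (nat_lit 0x2c8e90384a002)], [(nat_lit 0x2c8e90384b002), (nat_lit 0x385e001), (nat_lit 0x267e001)], [(nat_lit 0x3838001), (nat_lit 0x266f001), (nat_lit 0x27ab10384f002)], [(nat_lit 0x2462003862002), (nat_lit 0x2682001), (nat_lit 0x3874001)], [(nat_lit 0x16b8003832002), (nat_lit 0x2669001), (nat_lit 0x3848001)], [(nat_lit 0x387b001), (nat_lit 0x268c001), (nat_lit 0x2139503893002)], [(nat_lit 0x2693001), (nat_lit 0x3881001), (nat_lit 0x211780388b002)], [(nat_lit 0x211780388a002), (nat_lit 0x389b001), (nat_lit 0x269b001)], [(nat_lit 0x268e001), (nat_lit 0x387d001), (nat_lit 0x3889001)], [(nat_lit 0x3888001), (nat_lit 0x389a001), (nat_lit 0x269a001)], [(nat_lit 0x3885001), (nat_lit 0x2698001), (nat_lit 0x3898001)], [(nat_lit 0x26a2001), (nat_lit 0x3890001), (nat_lit 0x26a1001)], [(nat_lit 0x26ea9038a0002), (nat_lit 0x26a6001), (nat_lit 0x222b4038ab002)], [(nat_lit 0x2671001), (nat_lit 0x2ec1303850002), (nat_lit 0x2670001)], [(nat_lit 0x3853001), (nat_lit 0x2676001), (nat_lit 0x386f001)], [(nat_lit 0x267d001), (nat_lit 0x385d001), (nat_lit 0x386d001)], [(nat_lit 0x386c001), (nat_lit 0x3879001), (nat_lit 0x268a001)], [(nat_lit 0x3857001), (nat_lit 0x2679001), (nat_lit 0x3870001)], [(nat_lit 0x2686001), (nat_lit 0x3868001), (nat_lit 0x2685001)], [(nat_lit 0x387f001), (nat_lit 0x2691001), (nat_lit 0x3895001)], [(nat_lit 0x268d001), (nat_lit 0x387c001), (nat_lit 0x3887001)], [(nat_lit 0x3886001), (nat_lit 0x3899001), (nat_lit 0x2699001)], [(nat_lit 0x3883001), (nat_lit 0x2696001), (nat_lit 0x2d62703897002)], [(nat_lit 0x269e001), (nat_lit 0x388d001), (nat_lit 0x269d001)], [(nat_lit 0x11f0d0389f002), (nat_lit 0x26a5001), (nat_lit 0x38aa001)], [(nat_lit 0x11f2b0386a002), (nat_lit 0x3878001), (nat_lit 0x2689001)], [(nat_lit 0x387e001), (nat_lit 0x268f001), (nat_lit 0x3894001)], [(nat_lit 0x388c001), (nat_lit 0x269c001), (nat_lit 0x389c001)], [(nat_lit 0x2697001), (nat_lit 0x3884001), (nat_lit 0x223210388f002)], [(nat_lit 0x223210388e002), (nat_lit 0x26a0001), (nat_lit 0x269f001)], [(nat_lit 0x3891001), (nat_lit 0x26a3001), (nat_lit 0x389d001)], [(nat_lit 0x26ab001), (nat_lit 0x2e8e9038a3002), (nat_lit 0x26aa001)], [(nat_lit 0x38a6001), (nat_lit 0x26af001), (nat_lit 0x38b3001)], [(nat_lit 0x26b3001), (nat_lit 0x38a9001), (nat_lit 0x38b5001)], [(nat_lit 0x38b6001), (nat_lit 0x2e8ee038c0002), (nat_lit 0x26c0001)], [(nat_lit 0x38a7001), (nat_lit 0x26b0001), (nat_lit 0x38b4001)], [(nat_lit 0x26b4001), (nat_lit 0x38b7001), (nat_lit 0x26b5001)], [(nat_lit 0x2e709038c1002), (nat_lit 0x26c1001), (nat_lit 0x2e1fb038cb002)], [(nat_lit 0x26b8001), (nat_lit 0x38bb001), (nat_lit 0x2e8f3038c5002)], [(nat_lit 0x2e98c038b8002), (nat_lit 0x26b6001), (nat_lit 0x38ca001)], [(nat_lit 0x26b9001), (nat_lit 0x2e67c038bc002), (nat_lit 0x38c7001)], [(nat_lit 0x38c6001), (nat_lit 0x38cd001), (nat_lit 0x26c4001)], [(nat_lit 0x38d1001), (nat_lit 0x26cc001), (nat_lit 0x38dc001)], [(nat_lit 0x26b7001), (nat_lit 0x38b9001), (nat_lit 0x38c3001)], [(nat_lit 0x38c2001), (nat_lit 0x38cc001), (nat_lit 0x26c2001)], [(nat_lit 0x38ba001), (nat_lit 0x26bd001), (nat_lit 0x38bd001)], [(nat_lit 0x26c9001), (nat_lit 0x38cf001), (nat_lit 0x26c8001)], [(nat_lit 0x2e209038d2002), (nat_lit 0x26cd001), (nat_lit 0x2e20a038dd002)], [(nat_lit 0x26ce001), (nat_lit 0x38d3001), (nat_lit 0x2bde7038d7002)], [(nat_lit 0x38d9001), (nat_lit 0x26d4001), (nat_lit 0x38e1001)], [(nat_lit 0x2e138038eb002), (nat_lit 0x26e8001), (nat_lit 0x38f8001)], [(nat_lit 0x38e4001), (nat_lit 0x26dc001), (nat_lit 0x38f6001)], [(nat_lit 0x38ed001), (nat_lit 0x26ea001), (nat_lit 0x2e9fb038fa002)], [(nat_lit 0x26e0001), (nat_lit 0x38e5001), (nat_lit 0x38ef001)], [(nat_lit 0x38ee001), (nat_lit 0x2e9fe038fb002), (nat_lit 0x26eb001)], [(nat_lit 0x26e3001), (nat_lit 0x26e2001), (nat_lit 0x38e7001)], [(nat_lit 0x26ef001), (nat_lit 0x38f3001), (nat_lit 0x26ee001)], [(nat_lit 0x38ff001), (nat_lit 0x26f4001), (nat_lit 0x390f001)], [(nat_lit 0x265ed03904002), (nat_lit 0x3914001), (nat_lit 0x26fc001)], [(nat_lit 0x38e8001), (nat_lit 0x38f5001), (nat_lit 0x26f2001)], [(nat_lit 0x3901001), (nat_lit 0x26f6001), (nat_lit 0x3911001)], [(nat_lit 0x2704001), (nat_lit 0x2d37703908002), (nat_lit 0x3918001)], [(nat_lit 0x3919001), (nat_lit 0x3926001), (nat_lit 0x2715001)], [(nat_lit 0x270d001), (nat_lit 0x3920001), (nat_lit 0x392a001)], [(nat_lit 0x3929001), (nat_lit 0x3938001), (nat_lit 0x2718001)], [(nat_lit 0x26e5001), (nat_lit 0x26e4001), (nat_lit 0x1e02e038e9002)], [(nat_lit 0x26f1001), (nat_lit 0x38f4001), (nat_lit 0x26f0001)], [(nat_lit 0x3900001), (nat_lit 0x26f5001), (nat_lit 0x3910001)], [(nat_lit 0x3902001), (nat_lit 0x26fa001), (nat_lit 0x3912001)], [(nat_lit 0x2701001), (nat_lit 0x2d7e303906002), (nat_lit 0x2700001)], [(nat_lit 0x390c001), (nat_lit 0x2708001), (nat_lit 0x391c001)], [(nat_lit 0x3903001), (nat_lit 0x26fb001), (nat_lit 0x3913001)], [(nat_lit 0x2703001), (nat_lit 0x3907001), (nat_lit 0x2702001)], [(nat_lit 0x390d001), (nat_lit 0x2709001), (nat_lit 0x391d001)], [(nat_lit 0x390e001), (nat_lit 0x270a001), (nat_lit 0x391e001)], [(nat_lit 0x270e001), (nat_lit 0x3921001), (nat_lit 0x392c001)], [(nat_lit 0x392b001), (nat_lit 0x2c26803939002), (nat_lit 0x2719001)], [(nat_lit 0x2c1e5038fe002), (nat_lit 0x2706001), (nat_lit 0x2b23c0390a002)], [(nat_lit 0x270b001), (nat_lit 0x2c6e00391f002), (nat_lit 0x270c001)], [(nat_lit 0x3928001), (nat_lit 0x2717001), (nat_lit 0x3937001)], [(nat_lit 0x270f001), (nat_lit 0x2d2df03922002), (nat_lit 0x392e001)], [(nat_lit 0x392d001), (nat_lit 0x271b001), (nat_lit 0x271a001)], [(nat_lit 0x2ed3903923002), (nat_lit 0x2710001), (nat_lit 0x2ed3a03935002)], [(nat_lit 0x271f001), (nat_lit 0x3930001), (nat_lit 0x271e001)], [(nat_lit 0x393e001), (nat_lit 0x272a001), (nat_lit 0x2ed3d0395b002)], [(nat_lit 0x2713001), (nat_lit 0x3924001), (nat_lit 0x3933001)], [(nat_lit 0x3932001), (nat_lit 0x2ed400393a002), (nat_lit 0x2722001)], [(nat_lit 0x2ed410393d002), (nat_lit 0x2727001), (nat_lit 0x3959001)], [(nat_lit 0x272e001), (nat_lit 0x3942001), (nat_lit 0x394a001)], [(nat_lit 0x3949001), (nat_lit 0x3962001), (nat_lit 0x2735001)], [(nat_lit 0x2721001), (nat_lit 0x3931001), (nat_lit 0x2720001)], [(nat_lit 0x393f001), (nat_lit 0x272b001), (nat_lit 0x395c001)], [(nat_lit 0x2726001), (nat_lit 0x393c001), (nat_lit 0x3948001)], [(nat_lit 0x3947001), (nat_lit 0x3961001), (nat_lit 0x2734001)], [(nat_lit 0x3945001), (nat_lit 0x2732001), (nat_lit 0x395f001)], [(nat_lit 0x273a001), (nat_lit 0x2eaeb03951002), (nat_lit 0x2739001)], [(nat_lit 0x272f001), (nat_lit 0x2ec1403943002), (nat_lit 0x2ec150394c002)], [(nat_lit 0x2e60103946002), (nat_lit 0x2733001), (nat_lit 0x3960001)], [(nat_lit 0x273c001), (nat_lit 0x3952001), (nat_lit 0x273b001)], [(nat_lit 0x3957001), (nat_lit 0x2743001), (nat_lit 0x396d001)], [(nat_lit 0x2e9f803966002), (nat_lit 0x3975001), (nat_lit 0x274a001)], [(nat_lit 0x2740001), (nat_lit 0x3954001), (nat_lit 0x2e63a03968002)], [(nat_lit 0x2e63a03969002), (nat_lit 0x3976001), (nat_lit 0x274c001)], [(nat_lit 0x2ed4a03925002), (nat_lit 0x2714001), (nat_lit 0x2ed4b03936002)], [(nat_lit 0x2724001), (nat_lit 0x3934001), (nat_lit 0x2723001)], [(nat_lit 0x2ed4d03940002), (nat_lit 0x272c001), (nat_lit 0x2ed4e0395d002)], [(nat_lit 0x2ed4f03941002), (nat_lit 0x272d001), (nat_lit 0x2ed500395e002)], [(nat_lit 0x2731001), (nat_lit 0x2ed1203944002), (nat_lit 0x3950001)], [(nat_lit 0x394f001), (nat_lit 0x3964001), (nat_lit 0x2738001)], [(nat_lit 0x273f001), (nat_lit 0x2ecaf03953002), (nat_lit 0x2ecb003967002)], [(nat_lit 0x3986001), (nat_lit 0x275b001), (nat_lit 0x39a3001)], [(nat_lit 0x393b001), (nat_lit 0x2725001), (nat_lit 0x3958001)], [(nat_lit 0x2e7400394d002), (nat_lit 0x3963001), (nat_lit 0x2737001)], [(nat_lit 0x2745001), (nat_lit 0x2182b0396f002), (nat_lit 0x3978001)], [(nat_lit 0x3977001), (nat_lit 0x397f001), (nat_lit 0x274d001)], [(nat_lit 0x3970001), (nat_lit 0x2746001), (nat_lit 0x397e001)], [(nat_lit 0x2751001), (nat_lit 0x397a001), (nat_lit 0x2750001)], [(nat_lit 0x3987001), (nat_lit 0x275c001), (nat_lit 0x39a4001)], [(nat_lit 0x2747001), (nat_lit 0x3971001), (nat_lit 0x397d001)], [(nat_lit 0x397c001), (nat_lit 0x26a1203980002), (nat_lit 0x2754001)], [(nat_lit 0x3984001), (nat_lit 0x2759001), (nat_lit 0x39a1001)], [(nat_lit 0x2761001), (nat_lit 0x398b001), (nat_lit 0x3991001)], [(nat_lit 0x3990001), (nat_lit 0x39ab001), (nat_lit 0x2766001)], [(nat_lit 0x1b8b703973002), (nat_lit 0x2749001), (nat_lit 0x2eb1e03974002)], [(nat_lit 0x2756001), (nat_lit 0x2bf3303981002), (nat_lit 0x2755001)], [(nat_lit 0x3989001), (nat_lit 0x275e001), (nat_lit 0x2ddaf039a6002)], [(nat_lit 0x2758001), (nat_lit 0x3983001), (nat_lit 0x398e001)], [(nat_lit 0x398d001), (nat_lit 0x39a9001), (nat_lit 0x2764001)], [(nat_lit 0x3985001), (nat_lit 0x275a001), (nat_lit 0x261e6039a2002)], [(nat_lit 0x398c001), (nat_lit 0x2762001), (nat_lit 0x39a7001)], [(nat_lit 0x276b001), (nat_lit 0x276a001), (nat_lit 0x2ecfb03994002)], [(nat_lit 0x2774001), (nat_lit 0x399d001), (nat_lit 0x2775001)], [(nat_lit 0x2e508039b2002), (nat_lit 0x39c4001), (nat_lit 0x2786001)], [(nat_lit 0x39be001), (nat_lit 0x277f001), (nat_lit 0x39d3001)], [(nat_lit 0x278f001), (nat_lit 0x39cc001), (nat_lit 0x278e001)], [(nat_lit 0x27cf001), (nat_lit 0x2799001), (nat_lit 0x27c5001)], [(nat_lit 0x2ecfb03995002), (nat_lit 0x1a20703997002), (nat_lit 0x276d001)], [(nat_lit 0x277e001), (nat_lit 0x39bd001), (nat_lit 0x1f56b039cb002)], [(nat_lit 0x1f56b039ca002), (nat_lit 0x39db001), (nat_lit 0x278d001)], [(nat_lit 0x2779001), (nat_lit 0x27d36039a0002), (nat_lit 0x277a001)], [(nat_lit 0x39ba001), (nat_lit 0x277b001), (nat_lit 0x39d1001)], [(nat_lit 0x2781001), (nat_lit 0x39c0001), (nat_lit 0x39ce001)], [(nat_lit 0x39cd001), (nat_lit 0x39dc001), (nat_lit 0x2790001)], [(nat_lit 0x275f001), (nat_lit 0x398a001), (nat_lit 0x2760001)], [(nat_lit 0x2769001), (nat_lit 0x3992001), (nat_lit 0x2ecec039ae002)], [(nat_lit 0x2ecec039af002), (nat_lit 0x39c3001), (nat_lit 0x2785001)], [(nat_lit 0x260eb0399c002), (nat_lit 0x2773001), (nat_lit 0x39b8001)], [(nat_lit 0x277d001), (nat_lit 0x39bc001), (nat_lit 0x39c9001)], [(nat_lit 0x39c8001), (nat_lit 0x39da001), (nat_lit 0x278c001)], [(nat_lit 0x3993001), (nat_lit 0x276c001), (nat_lit 0x2277f03996002)], [(nat_lit 0x2776001), (nat_lit 0x2197a0399e002), (nat_lit 0x2777001)], [(nat_lit 0x2770001), (nat_lit 0x399a001), (nat_lit 0x39b3001)], [(nat_lit 0x39b4001), (nat_lit 0x39c5001), (nat_lit 0x2787001)], [(nat_lit 0x39bf001), (nat_lit 0x2780001), (nat_lit 0x39d4001)], [(nat_lit 0x2e536039e5002), (nat_lit 0x279a001), (nat_lit 0x2e76103a09002)], [(nat_lit 0x39c1001), (nat_lit 0x2782001), (nat_lit 0x39d5001)], [(nat_lit 0x2797001), (nat_lit 0x39e3001), (nat_lit 0x39f6001)], [(nat_lit 0x39f5001), (nat_lit 0x3a0f001), (nat_lit 0x27ab001)], [(nat_lit 0x2b13d039e0002), (nat_lit 0x2794001), (nat_lit 0x2971203a07002)], [(nat_lit 0x279d001), (nat_lit 0x28d47039e7002), (nat_lit 0x279e001)], [(nat_lit 0x27c16039f8002), (nat_lit 0x27ad001), (nat_lit 0x3a11001)], [(nat_lit 0x27a2001), (nat_lit 0x2b679039eb002), (nat_lit 0x27189039fe002)], [(nat_lit 0x27cd603a05002), (nat_lit 0x27bb001), (nat_lit 0x3a16001)], [(nat_lit 0x27c4001), (nat_lit 0x281b703a1d002), (nat_lit 0x27c5001)], [(nat_lit 0x27cf001), (nat_lit 0x3a27001), (nat_lit 0x27ce001)], [(nat_lit 0x2783001), (nat_lit 0x2cc4a039c2002), (nat_lit 0x39d0001)], [(nat_lit 0x39cf001), (nat_lit 0x39dd001), (nat_lit 0x2791001)], [(nat_lit 0x39e4001), (nat_lit 0x2798001), (nat_lit 0x3a08001)], [(nat_lit 0x279f001), (nat_lit 0x39e8001), (nat_lit 0x39fa001)], [(nat_lit 0x39f9001), (nat_lit 0x3a12001), (nat_lit 0x27ae001)], [(nat_lit 0x2793001), (nat_lit 0x2792001), (nat_lit 0x39de001)], [(nat_lit 0x279b001), (nat_lit 0x39e6001), (nat_lit 0x279c001)], [(nat_lit 0x39f7001), (nat_lit 0x27ac001), (nat_lit 0x3a10001)], [(nat_lit 0x2796001), (nat_lit 0x2adbc039e2002), (nat_lit 0x39f4001)], [(nat_lit 0x39f3001), (nat_lit 0x3a0e001), (nat_lit 0x27aa001)], [(nat_lit 0x2e90f039ea002), (nat_lit 0x27a1001), (nat_lit 0x3a0b001)], [(nat_lit 0x27b2001), (nat_lit 0x39fc001), (nat_lit 0x27b1001)], [(nat_lit 0x39df001), (nat_lit 0x39ec001), (nat_lit 0x27a3001)], [(nat_lit 0x39f0001), (nat_lit 0x27a8001), (nat_lit 0x3a0c001)], [(nat_lit 0x27b8001), (nat_lit 0x3a02001), (nat_lit 0x27b7001)], [(nat_lit 0x3a1a001), (nat_lit 0x27bf001), (nat_lit 0x3a35001)], [(nat_lit 0x27bd001), (nat_lit 0x3a18001), (nat_lit 0x249c903a25002)], [(nat_lit 0x3a20001), (nat_lit 0x27c8001), (nat_lit 0x3a36001)], [(nat_lit 0x27d8001), (nat_lit 0x3a40001), (nat_lit 0x246ce03a4b002)], [(nat_lit 0x2795001), (nat_lit 0x299d4039e1002), (nat_lit 0x39f2001)], [(nat_lit 0x39f1001), (nat_lit 0x1fb7b03a0d002), (nat_lit 0x27a9001)], [(nat_lit 0x2a3db039e9002), (nat_lit 0x27a0001), (nat_lit 0x3a0a001)], [(nat_lit 0x27b0001), (nat_lit 0x39fb001), (nat_lit 0x27af001)], [(nat_lit 0x226e4039ff002), (nat_lit 0x3a13001), (nat_lit 0x27b4001)], [(nat_lit 0x27c9001), (nat_lit 0x2923103a21002), (nat_lit 0x2caf003a2d002)], [(nat_lit 0x3a41001), (nat_lit 0x27d9001), (nat_lit 0x26c5703a58002)], [(nat_lit 0x27df001), (nat_lit 0x3a45001), (nat_lit 0x3a4d001)], [(nat_lit 0x3a4c001), (nat_lit 0x3a5e001), (nat_lit 0x27e6001)], [(nat_lit 0x27a6001), (nat_lit 0x27a5001), (nat_lit 0x39ed001)], [(nat_lit 0x27b6001), (nat_lit 0x3a01001), (nat_lit 0x27b5001)], [(nat_lit 0x3a19001), (nat_lit 0x27be001), (nat_lit 0x3a34001)], [(nat_lit 0x39ee001), (nat_lit 0x24c78039ef002), (nat_lit 0x27a7001)], [(nat_lit 0x2530b03a2a002), (nat_lit 0x24a4c03a3a002), (nat_lit 0x27d1001)], [(nat_lit 0x24e1e03a2e002), (nat_lit 0x3a3c001), (nat_lit 0x27d3001)], [(nat_lit 0x27e1001), (nat_lit 0x2b77503a47002), (nat_lit 0x2819c03a51002)], [(nat_lit 0x27e2001), (nat_lit 0x2ab7d03a48002), (nat_lit 0x2a70503a53002)], [(nat_lit 0x27f1001), (nat_lit 0x3a62001), (nat_lit 0x27f2001)], [(nat_lit 0x3a66001), (nat_lit 0x27f7001), (nat_lit 0x3a6b001)], [(nat_lit 0x27d5001), (nat_lit 0x3a30001), (nat_lit 0x27d4001)], [(nat_lit 0x3a43001), (nat_lit 0x27dd001), (nat_lit 0x3a5b001)], [(nat_lit 0x3a54001), (nat_lit 0x27ea001), (nat_lit 0x3a61001)], [(nat_lit 0x27ed001), (nat_lit 0x3a56001), (nat_lit 0x27ee001)], [(nat_lit 0x3a64001), (nat_lit 0x27f5001), (nat_lit 0x2969103a69002)], [(nat_lit 0x3a31001), (nat_lit 0x27d6001), (nat_lit 0x3a3d001)], [(nat_lit 0x27d7001), (nat_lit 0x3a32001), (nat_lit 0x3a3e001)], [(nat_lit 0x3a3f001), (nat_lit 0x3a49001), (nat_lit 0x27e3001)], [(nat_lit 0x3a44001), (nat_lit 0x27de001), (nat_lit 0x3a5c001)], [(nat_lit 0x3a33001), (nat_lit 0x27eb001), (nat_lit 0x3a55001)], [(nat_lit 0x27ef001), (nat_lit 0x3a57001), (nat_lit 0x27f0001)], [(nat_lit 0x3a65001), (nat_lit 0x27f6001), (nat_lit 0x3a6a001)], [(nat_lit 0x27fb001), (nat_lit 0x3a67001), (nat_lit 0x27fa001)], [(nat_lit 0x282a001), (nat_lit 0x2ed5503a9e002), (nat_lit 0x2829001)], [(nat_lit 0x2ed0703aa5002), (nat_lit 0x2831001), (nat_lit 0x3ab8001)], [(nat_lit 0x2835001), (nat_lit 0x3aa8001), (nat_lit 0x3aba001)], [(nat_lit 0x3abb001), (nat_lit 0x3ac7001), (nat_lit 0x2844001)], [(nat_lit 0x282d001), (nat_lit 0x3aa1001), (nat_lit 0x2df2d03ab3002)], [(nat_lit 0x3aa7001), (nat_lit 0x2834001), (nat_lit 0x3ab9001)], [(nat_lit 0x2836001), (nat_lit 0x3abc001), (nat_lit 0x3ac9001)], [(nat_lit 0x3ac8001), (nat_lit 0x3ad4001), (nat_lit 0x2845001)], [(nat_lit 0x3aa2001), (nat_lit 0x2838001), (nat_lit 0x3abe001)], [(nat_lit 0x2848001), (nat_lit 0x3acc001), (nat_lit 0x2847001)], [(nat_lit 0x3ad8001), (nat_lit 0x2852001), (nat_lit 0x2bb3e03af8002)], [(nat_lit 0x3ac4001), (nat_lit 0x283e001), (nat_lit 0x3ad1001)], [(nat_lit 0x284f001), (nat_lit 0x2e17a02885002), (nat_lit 0x284e001)], [(nat_lit 0x2837001), (nat_lit 0x3abd001), (nat_lit 0x3acb001)], [(nat_lit 0x3aca001), (nat_lit 0x3ad5001), (nat_lit 0x2846001)], [(nat_lit 0x283c001), (nat_lit 0x283b001), (nat_lit 0x3ac1001)], [(nat_lit 0x3ada001), (nat_lit 0x2854001), (nat_lit 0x3afa001)], [(nat_lit 0x283f001), (nat_lit 0x3ac5001), (nat_lit 0x2975f03ad2002)], [(nat_lit 0x3ac2001), (nat_lit 0x3ac3001), (nat_lit 0x283d001)], [(nat_lit 0x2a8e103ad7002), (nat_lit 0x2851001), (nat_lit 0x3af7001)], [(nat_lit 0x2856001), (nat_lit 0x29ecf03adb002), (nat_lit 0x3ae3001)], [(nat_lit 0x3ae2001), (nat_lit 0x2752f03aff002), (nat_lit 0x285e001)], [(nat_lit 0x2c86803add002), (nat_lit 0x2858001), (nat_lit 0x3afc001)], [(nat_lit 0x2861001), (nat_lit 0x3ae6001), (nat_lit 0x2860001)], [(nat_lit 0x2859001), (nat_lit 0x2be8003ade002), (nat_lit 0x3ae8001)], [(nat_lit 0x3ae7001), (nat_lit 0x3b01001), (nat_lit 0x2862001)], [(nat_lit 0x3adf001), (nat_lit 0x285a001), (nat_lit 0x3afd001)], [(nat_lit 0x2864001), (nat_lit 0x2d79703ae9002), (nat_lit 0x2863001)], [(nat_lit 0x2ceb003af2002), (nat_lit 0x286b001), (nat_lit 0x2e27603b0a002)], [(nat_lit 0x3af3001), (nat_lit 0x286c001), (nat_lit 0x3b0b001)], [(nat_lit 0x2871001), (nat_lit 0x2e5fa03af6002), (nat_lit 0x3b10001)], [(nat_lit 0x3b11001), (nat_lit 0x3b1e001), (nat_lit 0x2883001)], [(nat_lit 0x288a001), (nat_lit 0x29c5b03b22002), (nat_lit 0x2889001)], [(nat_lit 0x2bb0303b29002), (nat_lit 0x288d503b2f002), (nat_lit 0x2890001)], [(nat_lit 0x3b36001), (nat_lit 0x2898001), (nat_lit 0x2953d03b50002)], [(nat_lit 0x28a2001), (nat_lit 0x3b42001), (nat_lit 0x28a1001)], [(nat_lit 0x3b48001), (nat_lit 0x28aa001), (nat_lit 0x3b58001)], [(nat_lit 0x285c001), (nat_lit 0x3ae0001), (nat_lit 0x285b001)], [(nat_lit 0x2a7c003af0002), (nat_lit 0x2869001), (nat_lit 0x3b09001)], [(nat_lit 0x2924f03b0f002), (nat_lit 0x3b1d001), (nat_lit 0x2882001)], [(nat_lit 0x3aec001), (nat_lit 0x2866001), (nat_lit 0x3b04001)], [(nat_lit 0x2c28303b1b002), (nat_lit 0x2880001), (nat_lit 0x3b2b001)], [(nat_lit 0x2873001), (nat_lit 0x3b13001), (nat_lit 0x2abe503b21002)], [(nat_lit 0x2abe503b20002), (nat_lit 0x28d6c03b2c002), (nat_lit 0x2888001)], [(nat_lit 0x2d0fd03b16002), (nat_lit 0x287a001), (nat_lit 0x3b27001)], [(nat_lit 0x3ae1001), (nat_lit 0x285d001), (nat_lit 0x3afe001)], [(nat_lit 0x3b12001), (nat_lit 0x2872001), (nat_lit 0x2c9e103b23002)], [(nat_lit 0x2887001), (nat_lit 0x3b1f001), (nat_lit 0x2886001)], [(nat_lit 0x3b30001), (nat_lit 0x2891001), (nat_lit 0x3b4c001)], [(nat_lit 0x2d87f03b06002), (nat_lit 0x3b1a001), (nat_lit 0x287e001)], [(nat_lit 0x2876001), (nat_lit 0x3b14001), (nat_lit 0x3b24001)], [(nat_lit 0x3b25001), (nat_lit 0x3b2e001), (nat_lit 0x288d001)], [(nat_lit 0x3b18001), (nat_lit 0x287c001), (nat_lit 0x3b2a001)], [(nat_lit 0x2895001), (nat_lit 0x3b33001), (nat_lit 0x3b3d001)], [(nat_lit 0x3b3c001), (nat_lit 0x3b53001), (nat_lit 0x289e001)], [(nat_lit 0x2ed5803b32002), (nat_lit 0x2894001), (nat_lit 0x3b4f001)], [(nat_lit 0x2896001), (nat_lit 0x3b34001), (nat_lit 0x3b3f001)], [(nat_lit 0x3b3e001), (nat_lit 0x3b54001), (nat_lit 0x289f001)], [(nat_lit 0x3b15001), (nat_lit 0x2879001), (nat_lit 0x3b26001)], [(nat_lit 0x2897001), (nat_lit 0x2ec0203b35002), (nat_lit 0x3b41001)], [(nat_lit 0x3b40001), (nat_lit 0x2d71903b55002), (nat_lit 0x28a0001)], [(nat_lit 0x3b39001), (nat_lit 0x289a001), (nat_lit 0x3b52001)], [(nat_lit 0x28a6001), (nat_lit 0x3b44001), (nat_lit 0x28a5001)], [(nat_lit 0x2e9bc03b4b002), (nat_lit 0x28ad001), (nat_lit 0x2ec0c03b5b002)], [(nat_lit 0x2eb9d03b47002), (nat_lit 0x28a9001), (nat_lit 0x3b57001)], [(nat_lit 0x28ae001), (nat_lit 0x3b5c001), (nat_lit 0x3b67001)], [(nat_lit 0x3b66001), (nat_lit 0x2ea5503b77002), (nat_lit 0x28b8001)], [(nat_lit 0x28af001), (nat_lit 0x2dead03b5d002), (nat_lit 0x3b6a001)], [(nat_lit 0x3b69001), (nat_lit 0x3b79001), (nat_lit 0x28ba001)], [(nat_lit 0x3b5f001), (nat_lit 0x28b2001), (nat_lit 0x3b75001)], [(nat_lit 0x28bc001), (nat_lit 0x2db3e03b6b002), (nat_lit 0x28bb001)], [(nat_lit 0x28c1001), (nat_lit 0x2dde003b6f002), (nat_lit 0x2c9e003b7c002)], [(nat_lit 0x3b73001), (nat_lit 0x28c5001), (nat_lit 0x3b82001)], [(nat_lit 0x28c9001), (nat_lit 0x3b85001), (nat_lit 0x3b94001)], [(nat_lit 0x3b93001), (nat_lit 0x3ba4001), (nat_lit 0x28d8001)], [(nat_lit 0x3b5e001), (nat_lit 0x28b0001), (nat_lit 0x3b74001)], [(nat_lit 0x28c2001), (nat_lit 0x3b70001), (nat_lit 0x3b7e001)], [(nat_lit 0x3b7f001), (nat_lit 0x3b8f001), (nat_lit 0x28d5001)], [(nat_lit 0x2cef503b60002), (nat_lit 0x28b3001), (nat_lit 0x3b76001)], [(nat_lit 0x28be001), (nat_lit 0x3b6c001), (nat_lit 0x28bd001)], [(nat_lit 0x2df4103b95002), (nat_lit 0x2eb1203ba5002), (nat_lit 0x28d9001)], [(nat_lit 0x28e8001), (nat_lit 0x3bac001), (nat_lit 0x3bb7001)], [(nat_lit 0x3bb6001), (nat_lit 0x2173a03bcf002), (nat_lit 0x28f1001)], [(nat_lit 0x3b71001), (nat_lit 0x28c3001), (nat_lit 0x2a39703b80002)], [(nat_lit 0x28c6001), (nat_lit 0x2e80003b83002), (nat_lit 0x3b91001)], [(nat_lit 0x3b90001), (nat_lit 0x27bd503ba2002), (nat_lit 0x28d6001)], [(nat_lit 0x28cd001), (nat_lit 0x3b89001), (nat_lit 0x2cb9603b9a002)], [(nat_lit 0x2cb9603b99002), (nat_lit 0x2923001), (nat_lit 0x28df001)], [(nat_lit 0x28b5001), (nat_lit 0x2da0903b63002), (nat_lit 0x3b6e001)], [(nat_lit 0x3b6d001), (nat_lit 0x3b7b001), (nat_lit 0x28c0001)], [(nat_lit 0x28e9001), (nat_lit 0x3bad001), (nat_lit 0x3bb9001)], [(nat_lit 0x3bb8001), (nat_lit 0x3bd0001), (nat_lit 0x28f2001)], [(nat_lit 0x28cf001), (nat_lit 0x28ce001), (nat_lit 0x2e71203b8a002)], [(nat_lit 0x2e4b903b9d002), (nat_lit 0x3ba7001), (nat_lit 0x28e3001)], [(nat_lit 0x3bbf001), (nat_lit 0x28f6001), (nat_lit 0x2772803bd4002)], [(nat_lit 0x28fe001), (nat_lit 0x3bc5001), (nat_lit 0x28ff001)], [(nat_lit 0x3bf1001), (nat_lit 0x2914001), (nat_lit 0x2772b03c03002)], [(nat_lit 0x2e71203b8b002), (nat_lit 0x3ba8001), (nat_lit 0x28e4001)], [(nat_lit 0x26e4903baf002), (nat_lit 0x28eb001), (nat_lit 0x3bcd001)], [(nat_lit 0x29d0d03bd6002), (nat_lit 0x28d4303bee002), (nat_lit 0x2911001)], [(nat_lit 0x3bbe001), (nat_lit 0x28f5001), (nat_lit 0x3bd3001)], [(nat_lit 0x28fc001), (nat_lit 0x3bc4001), (nat_lit 0x28fd001)], [(nat_lit 0x264be03bf0002), (nat_lit 0x2913001), (nat_lit 0x3c01001)], [(nat_lit 0x2904001), (nat_lit 0x3bc8001), (nat_lit 0x3be1001)], [(nat_lit 0x3be2001), (nat_lit 0x3bf8001), (nat_lit 0x291c001)], [(nat_lit 0x2930001), (nat_lit 0x2b0bf03c0c002), (nat_lit 0x3c15001)], [(nat_lit 0x3c14001), (nat_lit 0x2aa0703c2e002), (nat_lit 0x2938001)], [(nat_lit 0x28db001), (nat_lit 0x3b97001), (nat_lit 0x28da001)], [(nat_lit 0x3baa001), (nat_lit 0x28e6001), (nat_lit 0x3bca001)], [(nat_lit 0x28ed001), (nat_lit 0x3bb0001), (nat_lit 0x28ec001)], [(nat_lit 0x3bc0001), (nat_lit 0x28f8001), (nat_lit 0x3bd7001)], [(nat_lit 0x2900001), (nat_lit 0x2e0bb03bc6002), (nat_lit 0x2da7103bdc002)], [(nat_lit 0x2da7103bdd002), (nat_lit 0x3bf3001), (nat_lit 0x2915001)], [(nat_lit 0x2919001), (nat_lit 0x3bf6001), (nat_lit 0x2918001)], [(nat_lit 0x3c09001), (nat_lit 0x292c001), (nat_lit 0x2c80103c26002)], [(nat_lit 0x2854d03bb1002), (nat_lit 0x28ee001), (nat_lit 0x27b8603bce002)], [(nat_lit 0x291b001), (nat_lit 0x3bf7001), (nat_lit 0x291a001)], [(nat_lit 0x3c0a001), (nat_lit 0x292d001), (nat_lit 0x3c27001)], [(nat_lit 0x28ef001), (nat_lit 0x3bb2001), (nat_lit 0x3bbb001)], [(nat_lit 0x3bba001), (nat_lit 0x2ad1d03bd1002), (nat_lit 0x28f3001)], [(nat_lit 0x298e803bc2002), (nat_lit 0x28fa001), (nat_lit 0x28f0103bda002)], [(nat_lit 0x3bb3001), (nat_lit 0x2906001), (nat_lit 0x3be3001)], [(nat_lit 0x291f001), (nat_lit 0x3bf9001), (nat_lit 0x291e001)], [(nat_lit 0x3c0b001), (nat_lit 0x292e001), (nat_lit 0x3c28001)], [(nat_lit 0x290b001), (nat_lit 0x3be8001), (nat_lit 0x3bfb001)], [(nat_lit 0x3bfc001), (nat_lit 0x2923001), (nat_lit 0x2922001)], [(nat_lit 0x2926001), (nat_lit 0x2ab9403c05002), (nat_lit 0x2925001)], [(nat_lit 0x3c0d001), (nat_lit 0x2931001), (nat_lit 0x2c04803c29002)], [(nat_lit 0x28f0001), (nat_lit 0x3bb4001), (nat_lit 0x2ce3603bbd002)], [(nat_lit 0x2ce3603bbc002), (nat_lit 0x3bd2001), (nat_lit 0x28f4001)], [(nat_lit 0x3bc3001), (nat_lit 0x28fb001), (nat_lit 0x3bdb001)], [(nat_lit 0x2901001), (nat_lit 0x3bc7001), (nat_lit 0x3bde001)], [(nat_lit 0x3bdf001), (nat_lit 0x3bf4001), (nat_lit 0x2916001)], [(nat_lit 0x2908001), (nat_lit 0x2907001), (nat_lit 0x3be4001)], [(nat_lit 0x2d81803bec002), (nat_lit 0x290f001), (nat_lit 0x2d4a303bff002)], [(nat_lit 0x2928001), (nat_lit 0x3c06001), (nat_lit 0x2927001)], [(nat_lit 0x3c0e001), (nat_lit 0x2932001), (nat_lit 0x3c2a001)], [(nat_lit 0x3be5001), (nat_lit 0x2e78a03be6002), (nat_lit 0x2909001)], [(nat_lit 0x2ed6703bea002), (nat_lit 0x290d001), (nat_lit 0x3bfd001)], [(nat_lit 0x3bed001), (nat_lit 0x2910001), (nat_lit 0x3c00001)], [(nat_lit 0x292a001), (nat_lit 0x3c07001), (nat_lit 0x2929001)], [(nat_lit 0x3c0f001), (nat_lit 0x2933001), (nat_lit 0x3c2b001)], [(nat_lit 0x292b001), (nat_lit 0x3c08001), (nat_lit 0x3c13001)], [(nat_lit 0x3c12001), (nat_lit 0x3c2d001), (nat_lit 0x2937001)], [(nat_lit 0x293c001), (nat_lit 0x3c1b001), (nat_lit 0x3c31001)], [(nat_lit 0x3c32001), (nat_lit 0x3c4a001), (nat_lit 0x2957001)], [(nat_lit 0x2dd6d03c10002), (nat_lit 0x2934001), (nat_lit 0x2dd6e03c2c002)], [(nat_lit 0x293d001), (nat_lit 0x3c1c001), (nat_lit 0x3c33001)], [(nat_lit 0x3c34001), (nat_lit 0x2e3b403c4b002), (nat_lit 0x2958001)], [(nat_lit 0x2e84203c20002), (nat_lit 0x2942001), (nat_lit 0x3c38001)], [(nat_lit 0x2955001), (nat_lit 0x3c49001), (nat_lit 0x2956001)], [(nat_lit 0x2936001), (nat_lit 0x2e84503c11002), (nat_lit 0x3c19001)], [(nat_lit 0x3c18001), (nat_lit 0x3c30001), (nat_lit 0x293a001)], [(nat_lit 0x294b001), (nat_lit 0x2e3f703c3f002), (nat_lit 0x3c53001)], [(nat_lit 0x3c52001), (nat_lit 0x3c5e001), (nat_lit 0x2962001)], [(nat_lit 0x3c43001), (nat_lit 0x294f001), (nat_lit 0x3c59001)], [(nat_lit 0x2dd6f03c16002), (nat_lit 0x3c2f001), (nat_lit 0x2939001)], [(nat_lit 0x2944001), (nat_lit 0x2b98903c22002), (nat_lit 0x2396603c3a002)], [(nat_lit 0x2cdc603c3e002), (nat_lit 0x294a001), (nat_lit 0x1fec403c55002)], [(nat_lit 0x296c001), (nat_lit 0x3c65001), (nat_lit 0x3c6e001)], [(nat_lit 0x3c6d001), (nat_lit 0x3c88001), (nat_lit 0x2976001)], [(nat_lit 0x3bb5001), (nat_lit 0x293b001), (nat_lit 0x3c1a001)], [(nat_lit 0x2940001), (nat_lit 0x3c1f001), (nat_lit 0x2941001)], [(nat_lit 0x2c13803c4d002), (nat_lit 0x295a001), (nat_lit 0x3c5d001)], [(nat_lit 0x293e001), (nat_lit 0x3c1d001), (nat_lit 0x3c35001)], [(nat_lit 0x3c36001), (nat_lit 0x3c4c001), (nat_lit 0x2959001)], [(nat_lit 0x3c21001), (nat_lit 0x2943001), (nat_lit 0x3c39001)], [(nat_lit 0x295c001), (nat_lit 0x3c4e001), (nat_lit 0x295b001)], [(nat_lit 0x3c62001), (nat_lit 0x2969001), (nat_lit 0x3c80001)], [(nat_lit 0x2946001), (nat_lit 0x3c23001), (nat_lit 0x2945001)], [(nat_lit 0x296d001), (nat_lit 0x2a14d03c66002), (nat_lit 0x3c71001)], [(nat_lit 0x3c70001), (nat_lit 0x3c89001), (nat_lit 0x2977001)], [(nat_lit 0x3c3d001), (nat_lit 0x2949001), (nat_lit 0x2ed1f03c54002)], [(nat_lit 0x2961001), (nat_lit 0x3c51001), (nat_lit 0x2960001)], [(nat_lit 0x3c64001), (nat_lit 0x296b001), (nat_lit 0x2ab6c03c82002)], [(nat_lit 0x294e001), (nat_lit 0x2be9b03c41002), (nat_lit 0x3c57001)], [(nat_lit 0x3c58001), (nat_lit 0x2be9d03c5f002), (nat_lit 0x2963001)], [(nat_lit 0x2be9b03c42002), (nat_lit 0x2973001), (nat_lit 0x2c88503c69002)], [(nat_lit 0x2979001), (nat_lit 0x3c72001), (nat_lit 0x2978001)], [(nat_lit 0x3c78001), (nat_lit 0x2983001), (nat_lit 0x3c92001)], [(nat_lit 0x2996001), (nat_lit 0x3ca1001), (nat_lit 0x2997001)], [(nat_lit 0x2994f03cb7002), (nat_lit 0x29af001), (nat_lit 0x2994e03cd8002)], [(nat_lit 0x295f001), (nat_lit 0x3c50001), (nat_lit 0x295e001)], [(nat_lit 0x3c63001), (nat_lit 0x296a001), (nat_lit 0x3c81001)], [(nat_lit 0x2952001), (nat_lit 0x3c46001), (nat_lit 0x27ef203c5b002)], [(nat_lit 0x27ef203c5c002), (nat_lit 0x3c61001), (nat_lit 0x2967001)], [(nat_lit 0x2a41b03c8b002), (nat_lit 0x2e04a03ca3002), (nat_lit 0x299c001)], [(nat_lit 0x3c47001), (nat_lit 0x2975001), (nat_lit 0x3c6c001)], [(nat_lit 0x2982001), (nat_lit 0x3c77001), (nat_lit 0x3c90001)], [(nat_lit 0x3c91001), (nat_lit 0x3ca5001), (nat_lit 0x299f001)], [(nat_lit 0x2998001), (nat_lit 0x3ca2001), (nat_lit 0x2999001)], [(nat_lit 0x3cb8001), (nat_lit 0x29b0001), (nat_lit 0x3cd9001)], [(nat_lit 0x3c6a001), (nat_lit 0x2974001), (nat_lit 0x3c87001)], [(nat_lit 0x297b001), (nat_lit 0x3c73001), (nat_lit 0x297a001)], [(nat_lit 0x3c79001), (nat_lit 0x2984001), (nat_lit 0x3c93001)], [(nat_lit 0x3c7a001), (nat_lit 0x2986001), (nat_lit 0x3c95001)], [(nat_lit 0x3cbb001), (nat_lit 0x29b3001), (nat_lit 0x3cdc001)], [(nat_lit 0x3c9a001), (nat_lit 0x298f001), (nat_lit 0x2b1da03cab002)], [(nat_lit 0x2990001), (nat_lit 0x2b98a03c9b002), (nat_lit 0x2139403cac002)], [(nat_lit 0x3c9e001), (nat_lit 0x2993001), (nat_lit 0x3cb1001)], [(nat_lit 0x29aa001), (nat_lit 0x3cb4001), (nat_lit 0x29a9001)], [(nat_lit 0x3cbc001), (nat_lit 0x29b4001), (nat_lit 0x3cdd001)], [(nat_lit 0x2991001), (nat_lit 0x281b803c9c002), (nat_lit 0x3cae001)], [(nat_lit 0x3caf001), (nat_lit 0x2b31f03cb3002), (nat_lit 0x29a8001)], [(nat_lit 0x281bb03c9f002), (nat_lit 0x2994001), (nat_lit 0x3cb2001)], [(nat_lit 0x29ac001), (nat_lit 0x3cb5001), (nat_lit 0x29ab001)], [(nat_lit 0x2dc4703cbd002), (nat_lit 0x29b5001), (nat_lit 0x2dc4603cde002)], [(nat_lit 0x29ae001), (nat_lit 0x3cb6001), (nat_lit 0x29ad001)], [(nat_lit 0x3cbe001), (nat_lit 0x29b6001), (nat_lit 0x3cdf001)], [(nat_lit 0x3cc5001), (nat_lit 0x29bc001), (nat_lit 0x3ce1001)], [(nat_lit 0x29c6001), (nat_lit 0x2cf3c03cd1002), (nat_lit 0x3ce8001)], [(nat_lit 0x3ce9001), (nat_lit 0x3cf3001), (nat_lit 0x29d5001)], [(nat_lit 0x3c9d001), (nat_lit 0x2992001), (nat_lit 0x3cb0001)], [(nat_lit 0x29b7001), (nat_lit 0x24f7f03cbf002), (nat_lit 0x3cc7001)], [(nat_lit 0x3cc6001), (nat_lit 0x2447203ce2002), (nat_lit 0x29bd001)], [(nat_lit 0x2e68803cd0002), (nat_lit 0x29c5001), (nat_lit 0x3ce7001)], [(nat_lit 0x29ba001), (nat_lit 0x2c86103cc2002), (nat_lit 0x3ccd001)], [(nat_lit 0x3ccc001), (nat_lit 0x3ce5001), (nat_lit 0x29c0001)], [(nat_lit 0x2d1e403ccf002), (nat_lit 0x29c3001), (nat_lit 0x3ce6001)], [(nat_lit 0x29c8001), (nat_lit 0x3cd2001), (nat_lit 0x29c9001)], [(nat_lit 0x2dfa703cf5002), (nat_lit 0x29d8001), (nat_lit 0x2dfa603cfc002)], [(nat_lit 0x29b8001), (nat_lit 0x1e31d03cc0002), (nat_lit 0x3cc9001)], [(nat_lit 0x3cc8001), (nat_lit 0x3ce3001), (nat_lit 0x29be001)], [(nat_lit 0x252b003cd3002), (nat_lit 0x29ca001), (nat_lit 0x3cec001)], [(nat_lit 0x29cf001), (nat_lit 0x3cee001), (nat_lit 0x275f203cf8002)], [(nat_lit 0x275f203cf7002), (nat_lit 0x3cfd001), (nat_lit 0x29da001)], [(nat_lit 0x29cd001), (nat_lit 0x29cc001), (nat_lit 0x3cd5001)], [(nat_lit 0x29d2001), (nat_lit 0x2df2203cf1002), (nat_lit 0x29d3001)], [(nat_lit 0x3cf9001), (nat_lit 0x29dc001), (nat_lit 0x3cff001)], [(nat_lit 0x3cd6001), (nat_lit 0x3cd7001), (nat_lit 0x29ce001)], [(nat_lit 0x3cf0001), (nat_lit 0x29d1001), (nat_lit 0x3cfa001)], [(nat_lit 0x29dd001), (nat_lit 0x3d00001), (nat_lit 0x3d04001)], [(nat_lit 0x3d03001), (nat_lit 0x2dabb03d09002), (nat_lit 0x29e0001)], [(nat_lit 0x3d02001), (nat_lit 0x29df001), (nat_lit 0x3d07001)], [(nat_lit 0x29e2001), (nat_lit 0x297f503d0b002), (nat_lit 0x3d0d001)], [(nat_lit 0x3d0c001), (nat_lit 0x3d10001), (nat_lit 0x29e3001)], [(nat_lit 0x2e4af03d4b002), (nat_lit 0x2a18001), (nat_lit 0x3d65001)], [(nat_lit 0x2a2f001), (nat_lit 0x2e8d503d73002), (nat_lit 0x3d81001)], [(nat_lit 0x3d80001), (nat_lit 0x3d96001), (nat_lit 0x2a3f001)], [(nat_lit 0x2a1b001), (nat_lit 0x3d4d001), (nat_lit 0x3d5a001)], [(nat_lit 0x3d59001), (nat_lit 0x2a81001), (nat_lit 0x2a26001)], [(nat_lit 0x3d7a001), (nat_lit 0x2a3a001), (nat_lit 0x3d94001)], [(nat_lit 0x2a43001), (nat_lit 0x2b60001), (nat_lit 0x2a42001)], [(nat_lit 0x3d88001), (nat_lit 0x2a47001), (nat_lit 0x3d9c001)], [(nat_lit 0x2ddb103d5b002), (nat_lit 0x3d6c001), (nat_lit 0x2a27001)], [(nat_lit 0x2a51001), (nat_lit 0x2460903da5002), (nat_lit 0x3db4001)], [(nat_lit 0x3db3001), (nat_lit 0x3dbf001), (nat_lit 0x2a61001)], [(nat_lit 0x2a2a001), (nat_lit 0x2a29001), (nat_lit 0x2be6703d5f002)], [(nat_lit 0x2a33001), (nat_lit 0x3d76001), (nat_lit 0x2a34001)], [(nat_lit 0x3d82001), (nat_lit 0x2a40001), (nat_lit 0x2b13a03d97002)], [(nat_lit 0x2a3c001), (nat_lit 0x2bfb603d7c002), (nat_lit 0x2810d03d86002)], [(nat_lit 0x2810d03d85002), (nat_lit 0x3d9a001), (nat_lit 0x2a45001)], [(nat_lit 0x2810f03dae002), (nat_lit 0x2a5a001), (nat_lit 0x3dbc001)], [(nat_lit 0x3d87001), (nat_lit 0x2a46001), (nat_lit 0x3d9b001)], [(nat_lit 0x2e4d403da0002), (nat_lit 0x3dad001), (nat_lit 0x2a59001)], [(nat_lit 0x3d8e001), (nat_lit 0x2a4e001), (nat_lit 0x3da2001)], [(nat_lit 0x3dc3001), (nat_lit 0x2a69001), (nat_lit 0x2b0e001)], [(nat_lit 0x2a6c001), (nat_lit 0x3dc5001), (nat_lit 0x235df03dd4002)], [(nat_lit 0x235df03dd3002), (nat_lit 0x3df2001), (nat_lit 0x2a7b001)], [(nat_lit 0x2dedd03d61002), (nat_lit 0x2a2b001), (nat_lit 0x3d6e001)], [(nat_lit 0x2a35001), (nat_lit 0x3d77001), (nat_lit 0x2a36001)], [(nat_lit 0x25f4e03d83002), (nat_lit 0x2a41001), (nat_lit 0x25f4f03d98002)], [(nat_lit 0x2a6b001), (nat_lit 0x3dc4001), (nat_lit 0x3dd2001)], [(nat_lit 0x3dd1001), (nat_lit 0x3df1001), (nat_lit 0x2a7a001)], [(nat_lit 0x2a38001), (nat_lit 0x3d78001), (nat_lit 0x2a37001)], [(nat_lit 0x2a48001), (nat_lit 0x3d89001), (nat_lit 0x3d9d001)], [(nat_lit 0x3d9e001), (nat_lit 0x2d37803dac002), (nat_lit 0x2a58001)], [(nat_lit 0x3d8d001), (nat_lit 0x2a4d001), (nat_lit 0x3da1001)], [(nat_lit 0x2c71d03dc2002), (nat_lit 0x2a68001), (nat_lit 0x3de9001)], [(nat_lit 0x2a4f001), (nat_lit 0x2e27c03d8f002), (nat_lit 0x277c003da3002)], [(nat_lit 0x2862503da6002), (nat_lit 0x2a52001), (nat_lit 0x3db9001)], [(nat_lit 0x3de0001), (nat_lit 0x2a87001), (nat_lit 0x1e9a603df9002)], [(nat_lit 0x3dc8001), (nat_lit 0x2a6f001), (nat_lit 0x3ded001)], [(nat_lit 0x248d803daa002), (nat_lit 0x2a57001), (nat_lit 0x248d903dab002)], [(nat_lit 0x2a67001), (nat_lit 0x3db8001), (nat_lit 0x2a66001)], [(nat_lit 0x248db03dc9002), (nat_lit 0x2a70001), (nat_lit 0x248dc03dee002)], [(nat_lit 0x2a77001), (nat_lit 0x3dd0001), (nat_lit 0x3dda001)], [(nat_lit 0x3dd9001), (nat_lit 0x2a81001), (nat_lit 0x2a80001)], [(nat_lit 0x3ddf001), (nat_lit 0x2a86001), (nat_lit 0x3df8001)], [(nat_lit 0x2a8a001), (nat_lit 0x3de2001), (nat_lit 0x2a8b001)], [(nat_lit 0x3e0b001), (nat_lit 0x2a9b001), (nat_lit 0x3e1b001)], [(nat_lit 0x2a70003dc7002), (nat_lit 0x2a6e001), (nat_lit 0x3dec001)], [(nat_lit 0x2a76001), (nat_lit 0x2ec4603dcf002), (nat_lit 0x2b9a803dd8002)], [(nat_lit 0x2b9a803dd7002), (nat_lit 0x3df3001), (nat_lit 0x2a7f001)], [(nat_lit 0x2e7c203dcb002), (nat_lit 0x2e88903dcd002), (nat_lit 0x2a74001)], [(nat_lit 0x3de5001), (nat_lit 0x2a8f001), (nat_lit 0x2d79303dfe002)], [(nat_lit 0x2aa0001), (nat_lit 0x3e0e001), (nat_lit 0x2a9f001)], [(nat_lit 0x3e21001), (nat_lit 0x2aac001), (nat_lit 0x3e41001)], [(nat_lit 0x2a90001), (nat_lit 0x3de6001), (nat_lit 0x2cb9d03dff002)], [(nat_lit 0x2cb9d03e00002), (nat_lit 0x2d0b503e0f002), (nat_lit 0x2aa1001)], [(nat_lit 0x2aad001), (nat_lit 0x3e22001), (nat_lit 0x29f2c03e2c002)], [(nat_lit 0x2d5c503dcc002), (nat_lit 0x2a73001), (nat_lit 0x3def001)], [(nat_lit 0x2d6c503ddd002), (nat_lit 0x3df5001), (nat_lit 0x2a83001)], [(nat_lit 0x2c4fb03de4002), (nat_lit 0x2a8e001), (nat_lit 0x3dfd001)], [(nat_lit 0x2a9e001), (nat_lit 0x3e0d001), (nat_lit 0x2a9d001)], [(nat_lit 0x2d86003df7002), (nat_lit 0x3e09001), (nat_lit 0x2a99001)], [(nat_lit 0x3de1001), (nat_lit 0x2a89001), (nat_lit 0x3dfc001)], [(nat_lit 0x2c01703e02002), (nat_lit 0x3e10001), (nat_lit 0x2aa2001)], [(nat_lit 0x2a93001), (nat_lit 0x3de8001), (nat_lit 0x3e03001)], [(nat_lit 0x3e04001), (nat_lit 0x3e11001), (nat_lit 0x2aa3001)], [(nat_lit 0x2902703e24002), (nat_lit 0x2aaf001), (nat_lit 0x3e43001)], [(nat_lit 0x2dd9203e12002), (nat_lit 0x3e1d001), (nat_lit 0x2aa4001)], [(nat_lit 0x2df3703e06002), (nat_lit 0x2a96001), (nat_lit 0x2df3803e1a002)], [(nat_lit 0x2aa8001), (nat_lit 0x3e15001), (nat_lit 0x2aa7001)], [(nat_lit 0x3e25001), (nat_lit 0x2ab0001), (nat_lit 0x3e44001)], [(nat_lit 0x3e26001), (nat_lit 0x2ab1001), (nat_lit 0x3e45001)], [(nat_lit 0x2ab6001), (nat_lit 0x3e2a001), (nat_lit 0x3e30001)], [(nat_lit 0x3e2f001), (nat_lit 0x3e49001), (nat_lit 0x2abd001)], [(nat_lit 0x2a97001), (nat_lit 0x2d57403e07002), (nat_lit 0x3e17001)], [(nat_lit 0x3e16001), (nat_lit 0x3e1e001), (nat_lit 0x2aa9001)], [(nat_lit 0x2a98001), (nat_lit 0x3e08001), (nat_lit 0x3e19001)], [(nat_lit 0x3e18001), (nat_lit 0x3e1f001), (nat_lit 0x2aaa001)], [(nat_lit 0x2717703e29002), (nat_lit 0x2ab5001), (nat_lit 0x27a8103e46002)], [(nat_lit 0x2abb001), (nat_lit 0x3e2e001), (nat_lit 0x2aba001)], [(nat_lit 0x3e33001), (nat_lit 0x2ac1001), (nat_lit 0x2ea4a03e4d002)], [(nat_lit 0x2ab3001), (nat_lit 0x3e27001), (nat_lit 0x2ab2001)], [(nat_lit 0x2b7be03e4f002), (nat_lit 0x25df703e5b002), (nat_lit 0x2ad5001)], [(nat_lit 0x3e32001), (nat_lit 0x2ac0001), (nat_lit 0x3e4c001)], [(nat_lit 0x2ac3001), (nat_lit 0x3e34001), (nat_lit 0x2ac4001)], [(nat_lit 0x3e5c001), (nat_lit 0x2ad6001), (nat_lit 0x3e66001)], [(nat_lit 0x2ac8001), (nat_lit 0x3e38001), (nat_lit 0x3e52001)], [(nat_lit 0x3e53001), (nat_lit 0x2414b03e5f002), (nat_lit 0x2ad9001)], [(nat_lit 0x3e3c001), (nat_lit 0x2acc001), (nat_lit 0x28b6103e57002)], [(nat_lit 0x2ae5001), (nat_lit 0x3e6a001), (nat_lit 0x3e7b001)], [(nat_lit 0x3e7a001), (nat_lit 0x3ea1001), (nat_lit 0x2af7001)], [(nat_lit 0x3e31001), (nat_lit 0x2abf001), (nat_lit 0x27fa303e4b002)], [(nat_lit 0x2ac7001), (nat_lit 0x3e36001), (nat_lit 0x3e50001)], [(nat_lit 0x3e51001), (nat_lit 0x3e5e001), (nat_lit 0x2ad8001)], [(nat_lit 0x2dfc803e3b002), (nat_lit 0x2acb001), (nat_lit 0x3e56001)], [(nat_lit 0x2ae4001), (nat_lit 0x3e69001), (nat_lit 0x26f3603e79002)], [(nat_lit 0x26f3603e78002), (nat_lit 0x3e9f001), (nat_lit 0x2af6001)], [(nat_lit 0x3e37001), (nat_lit 0x2aca001), (nat_lit 0x3e3a001)], [(nat_lit 0x2b10203e3f002), (nat_lit 0x2ad0001), (nat_lit 0x2ac0d03e59002)], [(nat_lit 0x2ae1001), (nat_lit 0x2930703e63002), (nat_lit 0x2ae0001)], [(nat_lit 0x2ac9001), (nat_lit 0x2beb403e39002), (nat_lit 0x3e54001)], [(nat_lit 0x3e55001), (nat_lit 0x2beb603e60002), (nat_lit 0x2ada001)], [(nat_lit 0x27a4f03e3d002), (nat_lit 0x2acd001), (nat_lit 0x3e58001)], [(nat_lit 0x2ae6001), (nat_lit 0x2c13703e6b002), (nat_lit 0x3e7d001)], [(nat_lit 0x3e7c001), (nat_lit 0x3ea2001), (nat_lit 0x2af8001)], [(nat_lit 0x2ade001), (nat_lit 0x27ffa03e61002), (nat_lit 0x2add001)], [(nat_lit 0x3e6c001), (nat_lit 0x2ae7001), (nat_lit 0x26f4803e98002)], [(nat_lit 0x2ad1001), (nat_lit 0x289d503e5a002), (nat_lit 0x3e65001)], [(nat_lit 0x3e64001), (nat_lit 0x3e68001), (nat_lit 0x2ae2001)], [(nat_lit 0x2862f03e72002), (nat_lit 0x2aef001), (nat_lit 0x2862e03e9c002)], [(nat_lit 0x2afc001), (nat_lit 0x3e7f001), (nat_lit 0x2afb001)], [(nat_lit 0x3e8b001), (nat_lit 0x2b08001), (nat_lit 0x3ea9001)], [(nat_lit 0x3e6d001), (nat_lit 0x2ae9001), (nat_lit 0x3e9a001)], [(nat_lit 0x2af0001), (nat_lit 0x2e69903e73002), (nat_lit 0x3e81001)], [(nat_lit 0x3e80001), (nat_lit 0x3ea3001), (nat_lit 0x2afd001)], [(nat_lit 0x2af2001), (nat_lit 0x3e75001), (nat_lit 0x3e85001)], [(nat_lit 0x3e84001), (nat_lit 0x3ea5001), (nat_lit 0x2aff001)], [(nat_lit 0x3e76001), (nat_lit 0x2af4001), (nat_lit 0x2d19803e9d002)], [(nat_lit 0x2b01001), (nat_lit 0x3e86001), (nat_lit 0x2b00001)], [(nat_lit 0x3e77001), (nat_lit 0x2af5001), (nat_lit 0x3e9e001)], [(nat_lit 0x2b03001), (nat_lit 0x3e87001), (nat_lit 0x2b02001)], [(nat_lit 0x2b06001), (nat_lit 0x3e89001), (nat_lit 0x20ca503ea6002)], [(nat_lit 0x3e8f001), (nat_lit 0x2b0d001), (nat_lit 0x2b0e001)], [(nat_lit 0x2b26001), (nat_lit 0x3ec6001), (nat_lit 0x3ed0001)], [(nat_lit 0x3ed1001), (nat_lit 0x3ee3001), (nat_lit 0x2b38001)], [(nat_lit 0x2b15001), (nat_lit 0x1682503eb6002), (nat_lit 0x3ec0001)], [(nat_lit 0x3ebf001), (nat_lit 0x3ecb001), (nat_lit 0x2b1f001)], [(nat_lit 0x3ec9001), (nat_lit 0x2b29001), (nat_lit 0x3ed4001)], [(nat_lit 0x2b05001), (nat_lit 0x3e88001), (nat_lit 0x2b04001)], [(nat_lit 0x3e8e001), (nat_lit 0x2b0c001), (nat_lit 0x3ead001)], [(nat_lit 0x2b5ec03e91002), (nat_lit 0x2b0f001), (nat_lit 0x258a303eae002)], [(nat_lit 0x2b1b001), (nat_lit 0x3ebb001), (nat_lit 0x2b1a001)], [(nat_lit 0x3ec4001), (nat_lit 0x2b24001), (nat_lit 0x3ece001)], [(nat_lit 0x2e8f103e92002), (nat_lit 0x2b10001), (nat_lit 0x3eaf001)], [(nat_lit 0x2b1b303ec1002), (nat_lit 0x3ecc001), (nat_lit 0x2b20001)], [(nat_lit 0x2b2b001), (nat_lit 0x3ed6001), (nat_lit 0x3ee5001)], [(nat_lit 0x3ee4001), (nat_lit 0x3efe001), (nat_lit 0x2b39001)], [(nat_lit 0x3edb001), (nat_lit 0x2b30001), (nat_lit 0x3efa001)], [(nat_lit 0x2b48001), (nat_lit 0x2a24303ef2002), (nat_lit 0x3f05001)], [(nat_lit 0x3f06001), (nat_lit 0x2b60001), (nat_lit 0x2b5f001)], [(nat_lit 0x3ed7001), (nat_lit 0x2b2c001), (nat_lit 0x3ed8001)], [(nat_lit 0x2b3b001), (nat_lit 0x2e1cf03ee6002), (nat_lit 0x2b3a001)], [(nat_lit 0x2b2d001), (nat_lit 0x3ed9001), (nat_lit 0x3ee8001)], [(nat_lit 0x3ee7001), (nat_lit 0x3eff001), (nat_lit 0x2b3c001)], [(nat_lit 0x3edd001), (nat_lit 0x2b32001), (nat_lit 0x3efb001)], [(nat_lit 0x2b65001), (nat_lit 0x3f1e001), (nat_lit 0x2b64001)], [(nat_lit 0x3f26001), (nat_lit 0x2b6d001), (nat_lit 0x3f31001)], [(nat_lit 0x2e08d03f0f002), (nat_lit 0x3f1d001), (nat_lit 0x2b63001)], [(nat_lit 0x2dd4a03ef9002), (nat_lit 0x2b51001), (nat_lit 0x2dd4b03f11002)], [(nat_lit 0x2b6f001), (nat_lit 0x3f28001), (nat_lit 0x2ded203f34002)], [(nat_lit 0x2ded203f35002), (nat_lit 0x2b7a803f4b002), (nat_lit 0x2b89001)], [(nat_lit 0x2b54001), (nat_lit 0x3f13001), (nat_lit 0x3f22001)], [(nat_lit 0x3f21001), (nat_lit 0x3f2f001), (nat_lit 0x2b67001)], [(nat_lit 0x2b33001), (nat_lit 0x3ede001), (nat_lit 0x3eed001)], [(nat_lit 0x3eec001), (nat_lit 0x2093903f01002), (nat_lit 0x2b40001)], [(nat_lit 0x2b56001), (nat_lit 0x2b55001), (nat_lit 0x3f14001)], [(nat_lit 0x2b69001), (nat_lit 0x22c1303f23002), (nat_lit 0x2b68001)], [(nat_lit 0x3f2a001), (nat_lit 0x2b71001), (nat_lit 0x3f37001)], [(nat_lit 0x2b7b001), (nat_lit 0x3f40001), (nat_lit 0x1f99203f4f002)], [(nat_lit 0x3f15001), (nat_lit 0x27a1703f17002), (nat_lit 0x2b59001)], [(nat_lit 0x3f2c001), (nat_lit 0x2b73001), (nat_lit 0x3f39001)], [(nat_lit 0x2b7d001), (nat_lit 0x2247003f42002), (nat_lit 0x3f53001)], [(nat_lit 0x3f52001), (nat_lit 0xf1ea03f6e002), (nat_lit 0x2b8d001)], [(nat_lit 0x2b46403f47002), (nat_lit 0x2b83001), (nat_lit 0x2b46503f6a002)], [(nat_lit 0x2b94001), (nat_lit 0x2a7f203f5b002), (nat_lit 0x2b93001)], [(nat_lit 0x224bc03f9f002), (nat_lit 0x2bc4001), (nat_lit 0x2c31a03fad002)], [(nat_lit 0x2bd0001), (nat_lit 0x3fba001), (nat_lit 0x3fbf001)], [(nat_lit 0x3fbe001), (nat_lit 0x3fe3001), (nat_lit 0x2bd4001)], [(nat_lit 0x2b6b001), (nat_lit 0x3f24001), (nat_lit 0x2b6a001)], [(nat_lit 0x3f2b001), (nat_lit 0x2b72001), (nat_lit 0x3f38001)], [(nat_lit 0x2b7c001), (nat_lit 0x3f41001), (nat_lit 0x3f51001)], [(nat_lit 0x3f50001), (nat_lit 0x3f6d001), (nat_lit 0x2b8c001)], [(nat_lit 0x3f46001), (nat_lit 0x2b82001), (nat_lit 0x3f69001)], [(nat_lit 0x2b92001), (nat_lit 0x25a3803f5a002), (nat_lit 0x2b91001)], [(nat_lit 0x2b5b001), (nat_lit 0x290f603f18002), (nat_lit 0x2b5a001)], [(nat_lit 0x2baa001), (nat_lit 0x3f88001), (nat_lit 0x2bab001)], [(nat_lit 0x2a4c903f9b002), (nat_lit 0x2bc1001), (nat_lit 0x2a37503fa9002)], [(nat_lit 0x2bd1001), (nat_lit 0x3fbb001), (nat_lit 0x3fc1001)], [(nat_lit 0x3fc0001), (nat_lit 0x2e09203fe4002), (nat_lit 0x2bd5001)], [(nat_lit 0x3f19001), (nat_lit 0x2b5c001), (nat_lit 0x2762b03f2d002)], [(nat_lit 0x2b28603f56002), (nat_lit 0x290fa03f70002), (nat_lit 0x2b8f001)], [(nat_lit 0x2b78001), (nat_lit 0x3f3d001), (nat_lit 0x3f4d001)], [(nat_lit 0x3f4c001), (nat_lit 0x3f6b001), (nat_lit 0x2b8a001)], [(nat_lit 0x3f45001), (nat_lit 0x2b81001), (nat_lit 0x1e9d903f68002)], [(nat_lit 0x2b97001), (nat_lit 0x3f5e001), (nat_lit 0x3f74001)], [(nat_lit 0x3f75001), (nat_lit 0x3f8a001), (nat_lit 0x2bae001)], [(nat_lit 0x3f3e001), (nat_lit 0x2b9e001), (nat_lit 0x23e6e03f63002)], [(nat_lit 0x2bb4001), (nat_lit 0x3f8e001), (nat_lit 0x2bb3001)], [(nat_lit 0x2defc03fa2002), (nat_lit 0x2bc7001), (nat_lit 0x3fb1001)], [(nat_lit 0x3f84001), (nat_lit 0x2ba7001), (nat_lit 0x3fa4001)], [(nat_lit 0x256b003fb8002), (nat_lit 0x2bce001), (nat_lit 0x3fe1001)], [(nat_lit 0x2d33303f3a002), (nat_lit 0x2b75001), (nat_lit 0x2db8903f67002)], [(nat_lit 0x2b84001), (nat_lit 0x3f48001), (nat_lit 0x2b85001)], [(nat_lit 0x3f5c001), (nat_lit 0x2b95001), (nat_lit 0x3f72001)], [(nat_lit 0x2b9d001), (nat_lit 0x3f62001), (nat_lit 0x3f7a001)], [(nat_lit 0x3f7b001), (nat_lit 0x1ea7403f8d002), (nat_lit 0x2bb2001)], [(nat_lit 0x3fa1001), (nat_lit 0x2bc6001), (nat_lit 0x3fb0001)], [(nat_lit 0x2b77001), (nat_lit 0x2b76001), (nat_lit 0x3f3b001)], [(nat_lit 0x2b86001), (nat_lit 0x28cbd03f49002), (nat_lit 0x2b87001)], [(nat_lit 0x2b80001), (nat_lit 0x3f44001), (nat_lit 0x3f59001)], [(nat_lit 0x3f58001), (nat_lit 0x2891503f71002), (nat_lit 0x2b90001)], [(nat_lit 0x3f61001), (nat_lit 0x2b9b001), (nat_lit 0x1e9ad03f79002)], [(nat_lit 0x2bb0001), (nat_lit 0x3f8b001), (nat_lit 0x2baf001)], [(nat_lit 0x3f9d001), (nat_lit 0x2bc3001), (nat_lit 0x3fab001)], [(nat_lit 0x3f3c001), (nat_lit 0x277de03f64002), (nat_lit 0x2b9f001)], [(nat_lit 0x3f65001), (nat_lit 0x2ba0001), (nat_lit 0x3f7c001)], [(nat_lit 0x2bb6001), (nat_lit 0x2e1f203f8f002), (nat_lit 0x2bb5001)], [(nat_lit 0x2bdb001), (nat_lit 0x3fc8001), (nat_lit 0x3fec001)], [(nat_lit 0x3fed001), (nat_lit 0x400b001), (nat_lit 0x2bfd001)], [(nat_lit 0x3fb3001), (nat_lit 0x2bc9001), (nat_lit 0x1f22a03fdb002)], [(nat_lit 0x2bd3001), (nat_lit 0x2172403fbd002), (nat_lit 0x3fc5001)], [(nat_lit 0x3fc4001), (nat_lit 0x1f22d03fe6002), (nat_lit 0x2bd7001)], [(nat_lit 0x234a503f66002), (nat_lit 0x2ba1001), (nat_lit 0x238e203f7d002)], [(nat_lit 0x2bb8001), (nat_lit 0x3f90001), (nat_lit 0x2bb7001)], [(nat_lit 0x3fb5001), (nat_lit 0x2bcb001), (nat_lit 0x3fde001)], [(nat_lit 0x2ba9001), (nat_lit 0x3f87001), (nat_lit 0x3f9a001)], [(nat_lit 0x3f99001), (nat_lit 0x3fa8001), (nat_lit 0x2bc0001)], [(nat_lit 0x3fb9001), (nat_lit 0x2bcf001), (nat_lit 0x3fe2001)], [(nat_lit 0x2bdc001), (nat_lit 0x3fc9001), (nat_lit 0x2ec2e03fee002)], [(nat_lit 0x3f7e001), (nat_lit 0x2ba2001), (nat_lit 0x21c0003fa3002)], [(nat_lit 0x401b001), (nat_lit 0x2c10001), (nat_lit 0x401f001)], [(nat_lit 0x2ba3001), (nat_lit 0x3f7f001), (nat_lit 0x3f92001)], [(nat_lit 0x3f91001), (nat_lit 0x3fa5001), (nat_lit 0x2bb9001)], [(nat_lit 0x3fb6001), (nat_lit 0x2bcc001), (nat_lit 0x3fdf001)], [(nat_lit 0x2bd9001), (nat_lit 0x3fc6001), (nat_lit 0x3fe8001)], [(nat_lit 0x3fe9001), (nat_lit 0x4009001), (nat_lit 0x2bfb001)], [(nat_lit 0x3f80001), (nat_lit 0x2be0001), (nat_lit 0x3fcc001)], [(nat_lit 0x2bf9001), (nat_lit 0x4008001), (nat_lit 0x2bfa001)], [(nat_lit 0x4021001), (nat_lit 0x2c13001), (nat_lit 0x4053001)], [(nat_lit 0x2be2001), (nat_lit 0x3fce001), (nat_lit 0x3ff4001)], [(nat_lit 0x3ff5001), (nat_lit 0x2a5b30400e002), (nat_lit 0x2c00001)], [(nat_lit 0x2ba4001), (nat_lit 0x28ef203f81002), (nat_lit 0x3f94001)], [(nat_lit 0x3f93001), (nat_lit 0x3fa6001), (nat_lit 0x2bba001)], [(nat_lit 0x2bbc001), (nat_lit 0x3f95001), (nat_lit 0x2bbb001)], [(nat_lit 0x3fb7001), (nat_lit 0x2bcd001), (nat_lit 0x3fe0001)], [(nat_lit 0x4003001), (nat_lit 0x2bf1001), (nat_lit 0x401c001)], [(nat_lit 0x2c21001), (nat_lit 0x277270402e002), (nat_lit 0x403d001)], [(nat_lit 0x403c001), (nat_lit 0x247d804062002), (nat_lit 0x2c2a001)], [(nat_lit 0x2c50403fcf002), (nat_lit 0x2be4001), (nat_lit 0x2c9a603ff7002)], [(nat_lit 0x2c02001), (nat_lit 0x400f001), (nat_lit 0x2c01001)], [(nat_lit 0x4023001), (nat_lit 0x2c15001), (nat_lit 0x4054001)], [(nat_lit 0x2be6001), (nat_lit 0x219b003fd1002), (nat_lit 0x2d77203ff8002)], [(nat_lit 0x2d77203ff9002), (nat_lit 0x4010001), (nat_lit 0x2c03001)], [(nat_lit 0x2c1d001), (nat_lit 0x246b00402a002), (nat_lit 0x4035001)], [(nat_lit 0x4034001), (nat_lit 0x405e001), (nat_lit 0x2c26001)], [(nat_lit 0x2c07001), (nat_lit 0x4012001), (nat_lit 0x2c06001)], [(nat_lit 0x2bef001), (nat_lit 0x2ba2304001002), (nat_lit 0x4018001)], [(nat_lit 0x4017001), (nat_lit 0x401e001), (nat_lit 0x2c0e001)], [(nat_lit 0x3fd3001), (nat_lit 0x2be7001), (nat_lit 0x3ffa001)], [(nat_lit 0x2c1e001), (nat_lit 0x402b001), (nat_lit 0x4037001)], [(nat_lit 0x4036001), (nat_lit 0x405f001), (nat_lit 0x2c27001)], [(nat_lit 0x3fd6001), (nat_lit 0x2bea001), (nat_lit 0x3ffc001)], [(nat_lit 0x2c09001), (nat_lit 0x2ad3204013002), (nat_lit 0x2c08001)], [(nat_lit 0x2c20904024002), (nat_lit 0x2c17001), (nat_lit 0x4056001)], [(nat_lit 0x2bf0001), (nat_lit 0x2bf8704002002), (nat_lit 0x2c9810401a002)], [(nat_lit 0x2d2e804028002), (nat_lit 0x2c1b001), (nat_lit 0x2d2e90405b002)], [(nat_lit 0x2bed001), (nat_lit 0x2bec001), (nat_lit 0x3fd8001)], [(nat_lit 0x2c0c001), (nat_lit 0x4015001), (nat_lit 0x2c0b001)], [(nat_lit 0x2c20001), (nat_lit 0x2e9440402d002), (nat_lit 0x403b001)], [(nat_lit 0x403a001), (nat_lit 0x2e37a04061002), (nat_lit 0x2c29001)], [(nat_lit 0x403f001), (nat_lit 0x2c2d001), (nat_lit 0x4063001)], [(nat_lit 0x2c30001), (nat_lit 0x4042001), (nat_lit 0x2c31001)], [(nat_lit 0x3fd9001), (nat_lit 0x4040001), (nat_lit 0x2c2e001)], [(nat_lit 0x2e56b04041002), (nat_lit 0x2c2f001), (nat_lit 0x2e56a04064002)], [(nat_lit 0x2c33001), (nat_lit 0x2ae3d04044002), (nat_lit 0x2c34001)], [(nat_lit 0x4077001), (nat_lit 0x2c45001), (nat_lit 0x4086001)], [(nat_lit 0x404a001), (nat_lit 0x2c3a001), (nat_lit 0x406e001)], [(nat_lit 0x2c43001), (nat_lit 0x22b9104076002), (nat_lit 0x4082001)], [(nat_lit 0x4081001), (nat_lit 0x27f9004088002), (nat_lit 0x2c53001)], [(nat_lit 0x2c8a80404b002), (nat_lit 0x2c3b001), (nat_lit 0x2c8a90406f002)], [(nat_lit 0x2c4b001), (nat_lit 0x407c001), (nat_lit 0x2c4a001)], [(nat_lit 0x4083001), (nat_lit 0x2c55001), (nat_lit 0x4089001)], [(nat_lit 0x2c3e001), (nat_lit 0x404e001), (nat_lit 0x26d3a04070002)], [(nat_lit 0x2c58001), (nat_lit 0x26b370408c002), (nat_lit 0x4095001)], [(nat_lit 0x4094001), (nat_lit 0x40b5001), (nat_lit 0x2c60001)], [(nat_lit 0x2c4d001), (nat_lit 0x407d001), (nat_lit 0x2c4c001)], [(nat_lit 0x4084001), (nat_lit 0x2c56001), (nat_lit 0x408a001)], [(nat_lit 0x2c40001), (nat_lit 0x4050001), (nat_lit 0x4072001)], [(nat_lit 0x4073001), (nat_lit 0x407f001), (nat_lit 0x2c4f001)], [(nat_lit 0x4051001), (nat_lit 0x2c41001), (nat_lit 0x4074001)], [(nat_lit 0x2c51001), (nat_lit 0x4080001), (nat_lit 0x2c50001)], [(nat_lit 0x2c5c001), (nat_lit 0x4090001), (nat_lit 0x2cb5d0409d002)], [(nat_lit 0x2cb5d0409c002), (nat_lit 0x2d8ac040b9002), (nat_lit 0x2c67001)], [(nat_lit 0x40a6001), (nat_lit 0x2c6f001), (nat_lit 0x40c0001)], [(nat_lit 0x2c73001), (nat_lit 0x14acf040aa002), (nat_lit 0x40c5001)], [(nat_lit 0x40c6001), (nat_lit 0x2973b040d3002), (nat_lit 0x2c81001)], [(nat_lit 0x2c5d001), (nat_lit 0x4091001), (nat_lit 0x409f001)], [(nat_lit 0x409e001), (nat_lit 0x2da36040ba002), (nat_lit 0x2c68001)], [(nat_lit 0x2c74001), (nat_lit 0x40ab001), (nat_lit 0x40c7001)], [(nat_lit 0x40c8001), (nat_lit 0x20608040d5002), (nat_lit 0x2c82001)], [(nat_lit 0x2c6c001), (nat_lit 0x2d5c6040a3002), (nat_lit 0x40bc001)], [(nat_lit 0x40bd001), (nat_lit 0x2c489040d2002), (nat_lit 0x2c80001)], [(nat_lit 0x40a9001), (nat_lit 0x2c72001), (nat_lit 0x40c4001)], [(nat_lit 0x2c76001), (nat_lit 0x2d70e040ad002), (nat_lit 0x40ca001)], [(nat_lit 0x40cb001), (nat_lit 0x2d710040d7002), (nat_lit 0x2c85001)], [(nat_lit 0x2d5c6040a4002), (nat_lit 0x2c78001), (nat_lit 0x2a58d040ae002)], [(nat_lit 0x2c7d001), (nat_lit 0x40ce001), (nat_lit 0x40db001)], [(nat_lit 0x40da001), (nat_lit 0x2cc6001), (nat_lit 0x2c8c001)], [(nat_lit 0x2a021040f0002), (nat_lit 0x2c9b001), (nat_lit 0x2a02204113002)], [(nat_lit 0x2ca7001), (nat_lit 0x40fd001), (nat_lit 0x2ca6001)], [(nat_lit 0x4108001), (nat_lit 0x2cb2001), (nat_lit 0x411c001)], [(nat_lit 0x2c33604092002), (nat_lit 0x2c5e001), (nat_lit 0x2c337040b4002)], [(nat_lit 0x2c6a001), (nat_lit 0x2d702040a0002), (nat_lit 0x2c69001)], [(nat_lit 0x40a8001), (nat_lit 0x2c71001), (nat_lit 0x40c3001)], [(nat_lit 0x2c92001), (nat_lit 0x40de001), (nat_lit 0x40e5001)], [(nat_lit 0x40e6001), (nat_lit 0x40f8001), (nat_lit 0x2ca3001)], [(nat_lit 0x2c5f001), (nat_lit 0x4093001), (nat_lit 0x40a2001)], [(nat_lit 0x40a1001), (nat_lit 0x40bb001), (nat_lit 0x2c6b001)], [(nat_lit 0x2d877040ac002), (nat_lit 0x2c75001), (nat_lit 0x2d878040c9002)], [(nat_lit 0x2c84001), (nat_lit 0x2cb0d040d6002), (nat_lit 0x2c83001)], [(nat_lit 0x2c99001), (nat_lit 0x2eb58040ee002), (nat_lit 0x40fa001)], [(nat_lit 0x40f9001), (nat_lit 0x2eb5a04116002), (nat_lit 0x2ca4001)], [(nat_lit 0x40b0001), (nat_lit 0x2c7a001), (nat_lit 0x40cd001)], [(nat_lit 0x2c8b001), (nat_lit 0x40d9001), (nat_lit 0x2c8a001)], [(nat_lit 0x40df001), (nat_lit 0x2c95001), (nat_lit 0x40ea001)], [(nat_lit 0x40ed001), (nat_lit 0x2c98001), (nat_lit 0x4112001)], [(nat_lit 0x2c9c001), (nat_lit 0x2a799040f1002), (nat_lit 0x40ff001)], [(nat_lit 0x40fe001), (nat_lit 0x4118001), (nat_lit 0x2ca8001)], [(nat_lit 0x2ca1001), (nat_lit 0x40f6001), (nat_lit 0x4105001)], [(nat_lit 0x4104001), (nat_lit 0x2e9c10411a002), (nat_lit 0x2cb0001)], [(nat_lit 0x410e001), (nat_lit 0x2cb9001), (nat_lit 0x4121001)], [(nat_lit 0x2cc3001), (nat_lit 0x412b001), (nat_lit 0x2cc2001)], [(nat_lit 0x2c86a04131002), (nat_lit 0x2ccd001), (nat_lit 0x4135001)], [(nat_lit 0x2c7c001), (nat_lit 0x40b1001), (nat_lit 0x2c7b001)], [(nat_lit 0x40e0001), (nat_lit 0x2c96001), (nat_lit 0x40eb001)], [(nat_lit 0x2c9a001), (nat_lit 0x40ef001), (nat_lit 0x40fc001)], [(nat_lit 0x40fb001), (nat_lit 0x4117001), (nat_lit 0x2ca5001)], [(nat_lit 0x40cf001), (nat_lit 0x2c7e001), (nat_lit 0x40e2001)], [(nat_lit 0x40dd001), (nat_lit 0x2c90001), (nat_lit 0x40e4001)], [(nat_lit 0x2c9d001), (nat_lit 0x40f2001), (nat_lit 0x2da8c04101002)], [(nat_lit 0x2da8c04100002), (nat_lit 0x4119001), (nat_lit 0x2ca9001)], [(nat_lit 0x2becf040f5002), (nat_lit 0x2ca0001), (nat_lit 0x2b46e04115002)], [(nat_lit 0x2caf001), (nat_lit 0x4103001), (nat_lit 0x2cae001)], [(nat_lit 0x410b001), (nat_lit 0x2cb6001), (nat_lit 0x411f001)], [(nat_lit 0x3289001), (nat_lit 0x2cb8001), (nat_lit 0x410d001)], [(nat_lit 0x2cbf001), (nat_lit 0x412a001), (nat_lit 0x2cc0001)], [(nat_lit 0x4130001), (nat_lit 0x2ccc001), (nat_lit 0x4134001)], [(nat_lit 0x2cbb001), (nat_lit 0x410f001), (nat_lit 0x4124001)], [(nat_lit 0x4125001), (nat_lit 0x2cc6001), (nat_lit 0x2cc5001)], [(nat_lit 0x4111001), (nat_lit 0x2cbd001), (nat_lit 0x2942d04127002)], [(nat_lit 0x2cca001), (nat_lit 0x2b9540412d002), (nat_lit 0x2cc9001)], [(nat_lit 0x2cd2904137002), (nat_lit 0x2ccf001), (nat_lit 0x4155001)], [(nat_lit 0x2cb3001), (nat_lit 0x2ea9e04109002), (nat_lit 0x2ea9f0411d002)], [(nat_lit 0x40f4001), (nat_lit 0x2c9f001), (nat_lit 0x2ec8504114002)], [(nat_lit 0x2cad001), (nat_lit 0x4102001), (nat_lit 0x2cac001)], [(nat_lit 0x2ca2001), (nat_lit 0x40f7001), (nat_lit 0x4107001)], [(nat_lit 0x4106001), (nat_lit 0x411b001), (nat_lit 0x2cb1001)], [(nat_lit 0x2e8de0410c002), (nat_lit 0x2cb7001), (nat_lit 0x4120001)], [(nat_lit 0x2e7da04110002), (nat_lit 0x2cbc001), (nat_lit 0x4126001)], [(nat_lit 0x2cc8001), (nat_lit 0x412c001), (nat_lit 0x2cc7001)], [(nat_lit 0x2ce9304132002), (nat_lit 0x2cce001), (nat_lit 0x2cb9404136002)], [(nat_lit 0x2079d04138002), (nat_lit 0x2cd0001), (nat_lit 0x4156001)], [(nat_lit 0x2079f0413d002), (nat_lit 0x4158001), (nat_lit 0x2cd7001)], [(nat_lit 0x2e80904129002), (nat_lit 0x2cd2001), (nat_lit 0x4139001)], [(nat_lit 0x2cd9001), (nat_lit 0x2c4240413f002), (nat_lit 0x2cd8001)], [(nat_lit 0x414a001), (nat_lit 0x2ce8001), (nat_lit 0x4163001)], [(nat_lit 0x2cf2001), (nat_lit 0x416b001), (nat_lit 0x2cf3001)], [(nat_lit 0x2cd5001), (nat_lit 0x2e89d0413b002), (nat_lit 0x2cd4001)], [(nat_lit 0x2d20604143002), (nat_lit 0x2cde001), (nat_lit 0x2d2070415c002)], [(nat_lit 0x2ce7001), (nat_lit 0x4149001), (nat_lit 0x2d20904162002)], [(nat_lit 0x4141001), (nat_lit 0x2cdb001), (nat_lit 0x415a001)], [(nat_lit 0x2ce5001), (nat_lit 0x4147001), (nat_lit 0x415e001)], [(nat_lit 0x415f001), (nat_lit 0x416f001), (nat_lit 0x2cf7001)], [(nat_lit 0x414d001), (nat_lit 0x2ceb001), (nat_lit 0x4167001)], [(nat_lit 0x413c001), (nat_lit 0x2cd6001), (nat_lit 0x4157001)], [(nat_lit 0x4177001), (nat_lit 0x2d04001), (nat_lit 0x4180001)], [(nat_lit 0x2e15c0414f002), (nat_lit 0x2cf1001), (nat_lit 0x4154001)], [(nat_lit 0x2cff001), (nat_lit 0x4172001), (nat_lit 0x2cfe001)], [(nat_lit 0x4179001), (nat_lit 0x2d06001), (nat_lit 0x4182001)], [(nat_lit 0x418a001), (nat_lit 0x2d10001), (nat_lit 0x41a9001)], [(nat_lit 0x2d20001), (nat_lit 0x4194001), (nat_lit 0x2d1f001)], [(nat_lit 0x419c001), (nat_lit 0x2d2b001), (nat_lit 0x41b3001)], [(nat_lit 0x2a7710414b002), (nat_lit 0x2ce9001), (nat_lit 0x4164001)], [(nat_lit 0x2cee001), (nat_lit 0x2ced001), (nat_lit 0x28b2c04150002)], [(nat_lit 0x2dcfc04178002), (nat_lit 0x2d05001), (nat_lit 0x4181001)], [(nat_lit 0x4196001), (nat_lit 0x2d24001), (nat_lit 0x41ac001)], [(nat_lit 0x28b2c04151002), (nat_lit 0x417c001), (nat_lit 0x2d08001)], [(nat_lit 0x4189001), (nat_lit 0x2d0f001), (nat_lit 0x41a8001)], [(nat_lit 0x419b001), (nat_lit 0x2d2a001), (nat_lit 0x272aa041b2002)], [(nat_lit 0x2d2d001), (nat_lit 0x419e001), (nat_lit 0x2a5b5041b6002)], [(nat_lit 0x419f001), (nat_lit 0x2d2f001), (nat_lit 0x1da2e041b8002)], [(nat_lit 0x2d45001), (nat_lit 0x41c8001), (nat_lit 0x206bc041ce002)], [(nat_lit 0x4152001), (nat_lit 0x2cef001), (nat_lit 0x4168001)], [(nat_lit 0x2cf0001), (nat_lit 0x4153001), (nat_lit 0x4169001)], [(nat_lit 0x416a001), (nat_lit 0x4171001), (nat_lit 0x2cfd001)], [(nat_lit 0x2730504184002), (nat_lit 0x2d0a001), (nat_lit 0x41a6001)], [(nat_lit 0x2d19001), (nat_lit 0x418f001), (nat_lit 0x2d18001)], [(nat_lit 0x4197001), (nat_lit 0x2d25001), (nat_lit 0x41ad001)], [(nat_lit 0x4185001), (nat_lit 0x2d0b001), (nat_lit 0x41a7001)], [(nat_lit 0x2d26001), (nat_lit 0x280b104198002), (nat_lit 0x2772a041ae002)], [(nat_lit 0x2d0d001), (nat_lit 0x2c5e304187002), (nat_lit 0x4192001)], [(nat_lit 0x4191001), (nat_lit 0x41aa001), (nat_lit 0x2d1c001)], [(nat_lit 0x2d22001), (nat_lit 0x2bd6304195002), (nat_lit 0x2d21001)], [(nat_lit 0x2d4b001), (nat_lit 0x41d6001), (nat_lit 0x1f26c041de002)], [(nat_lit 0x1f26c041dd002), (nat_lit 0x41f6001), (nat_lit 0x2d53001)], [(nat_lit 0x2f3b001), (nat_lit 0x2e24e04188002), (nat_lit 0x2d0e001)], [(nat_lit 0x2d744041bc002), (nat_lit 0x41c5001), (nat_lit 0x2d40001)], [(nat_lit 0x2d3e001), (nat_lit 0x41c3001), (nat_lit 0x2d3d001)], [(nat_lit 0x41c7001), (nat_lit 0x2d44001), (nat_lit 0x2d0db041cd002)], [(nat_lit 0x2d30001), (nat_lit 0x41a0001), (nat_lit 0x2c6e7041b9002)], [(nat_lit 0x2c6e7041ba002), (nat_lit 0x2abb5041c4002), (nat_lit 0x2d3f001)], [(nat_lit 0x41ca001), (nat_lit 0x2d47001), (nat_lit 0x41d1001)], [(nat_lit 0x2d4c001), (nat_lit 0x41d7001), (nat_lit 0x41e0001)], [(nat_lit 0x41df001), (nat_lit 0x1e026041f7002), (nat_lit 0x2d54001)], [(nat_lit 0x41a1001), (nat_lit 0x2d32001), (nat_lit 0x41a3001)], [(nat_lit 0x2d42001), (nat_lit 0x2451f041c6002), (nat_lit 0x2d41001)], [(nat_lit 0x41cc001), (nat_lit 0x2d49001), (nat_lit 0x23de3041d4002)], [(nat_lit 0x2d33001), (nat_lit 0x41a4001), (nat_lit 0x41bd001)], [(nat_lit 0x41be001), (nat_lit 0x2e85c02d72002), (nat_lit 0x2d43001)], [(nat_lit 0x41e8001), (nat_lit 0x2d5b001), (nat_lit 0x22ef8041fc002)], [(nat_lit 0x41d5001), (nat_lit 0x2d4a001), (nat_lit 0x41f5001)], [(nat_lit 0x2d50001), (nat_lit 0x2e1d1041da002), (nat_lit 0x41e6001)], [(nat_lit 0x41e5001), (nat_lit 0x29ec1041fa002), (nat_lit 0x2d59001)], [(nat_lit 0x2d5d001), (nat_lit 0x41e9001), (nat_lit 0x41ff001)], [(nat_lit 0x4200001), (nat_lit 0x2347e04209002), (nat_lit 0x2d6a001)], [(nat_lit 0x2d7d001), (nat_lit 0x421f001), (nat_lit 0x422f001)], [(nat_lit 0x422e001), (nat_lit 0x424c001), (nat_lit 0x2d8c001)], [(nat_lit 0x2d63001), (nat_lit 0x2d62001), (nat_lit 0x41ef001)], [(nat_lit 0x2e9b004213002), (nat_lit 0x2d7a001), (nat_lit 0x421b001)], [(nat_lit 0x41f0001), (nat_lit 0x4207001), (nat_lit 0x2d68001)], [(nat_lit 0x2e05904214002), (nat_lit 0x2d7b001), (nat_lit 0x421c001)], [(nat_lit 0x276d004257002), (nat_lit 0x276d104267002), (nat_lit 0x2db4001)], [(nat_lit 0x2db2001), (nat_lit 0x29a0f04265002), (nat_lit 0x4270001)], [(nat_lit 0x426f001), (nat_lit 0x427a001), (nat_lit 0x2dc0001)], [(nat_lit 0x41f4001), (nat_lit 0x2d67001), (nat_lit 0x4206001)], [(nat_lit 0x4229001), (nat_lit 0x2d87001), (nat_lit 0x424a001)], [(nat_lit 0x2d99001), (nat_lit 0x4236001), (nat_lit 0x2d98001)], [(nat_lit 0x423c001), (nat_lit 0x2da1001), (nat_lit 0x1ff9704255002)], [(nat_lit 0x2d9d001), (nat_lit 0x23e4d04239002), (nat_lit 0x1ff9904250002)], [(nat_lit 0x1ff9904251002), (nat_lit 0x4266001), (nat_lit 0x2db3001)], [(nat_lit 0x2b4ab0421e002), (nat_lit 0x2d85001), (nat_lit 0x4227001)], [(nat_lit 0x2d95001), (nat_lit 0x4234001), (nat_lit 0x2d94001)], [(nat_lit 0x2d4960423a002), (nat_lit 0x2d9f001), (nat_lit 0x2d49704253002)], [(nat_lit 0x4228001), (nat_lit 0x2d86001), (nat_lit 0x4249001)], [(nat_lit 0x2d97001), (nat_lit 0x4235001), (nat_lit 0x2d96001)], [(nat_lit 0x423b001), (nat_lit 0x2da0001), (nat_lit 0x4254001)], [(nat_lit 0x2da5001), (nat_lit 0x423d001), (nat_lit 0x219600425a002)], [(nat_lit 0x2576a04271002), (nat_lit 0x2dc2001), (nat_lit 0x250e60427c002)], [(nat_lit 0x4285001), (nat_lit 0x2dcb001), (nat_lit 0x42b4001)], [(nat_lit 0x2dd9001), (nat_lit 0x4293001), (nat_lit 0x2dda001)], [(nat_lit 0x2daf001), (nat_lit 0x2dd1d04243002), (nat_lit 0x20c3d04261002)], [(nat_lit 0x25d5504286002), (nat_lit 0x2dcc001), (nat_lit 0x25d54042b5002)], [(nat_lit 0x2dde001), (nat_lit 0x21eb404296002), (nat_lit 0x2ddd001)], [(nat_lit 0x2dca001), (nat_lit 0x2c42304277002), (nat_lit 0x16a9504283002)], [(nat_lit 0x2a2b704240002), (nat_lit 0x2dab001), (nat_lit 0x425c001)], [(nat_lit 0x2db9001), (nat_lit 0x4269001), (nat_lit 0x2db8001)], [(nat_lit 0x28eda0426d002), (nat_lit 0x284e904279002), (nat_lit 0x2dbd001)], [(nat_lit 0x4275001), (nat_lit 0x2dc7001), (nat_lit 0x4280001)], [(nat_lit 0x2dcd001), (nat_lit 0x2e1f304287002), (nat_lit 0x2dce001)], [(nat_lit 0x2de0001), (nat_lit 0x16aaa04297002), (nat_lit 0x2ddf001)], [(nat_lit 0x2dcf001), (nat_lit 0x4288001), (nat_lit 0x2a0ab04299002)], [(nat_lit 0x2df3001), (nat_lit 0x42ac001), (nat_lit 0x42c4001)], [(nat_lit 0x42c5001), (nat_lit 0x42d5001), (nat_lit 0x2e04001)], [(nat_lit 0x4289001), (nat_lit 0x2dd4001), (nat_lit 0x428d001)], [(nat_lit 0x42af001), (nat_lit 0x2df7001), (nat_lit 0x42c7001)], [(nat_lit 0x2dad001), (nat_lit 0x4241001), (nat_lit 0x2cf290425e002)], [(nat_lit 0x2dc0004264002), (nat_lit 0x2db1001), (nat_lit 0x2dc0104278002)], [(nat_lit 0x2dd3001), (nat_lit 0x428c001), (nat_lit 0x429c001)], [(nat_lit 0x429b001), (nat_lit 0x2dd1e042b8002), (nat_lit 0x2de4001)], [(nat_lit 0x42a8001), (nat_lit 0x2def001), (nat_lit 0x42c0001)], [(nat_lit 0x2df4001), (nat_lit 0x22724042ad002), (nat_lit 0x2df5001)], [(nat_lit 0x2e06001), (nat_lit 0x42d6001), (nat_lit 0x2e05001)], [(nat_lit 0x2dd1001), (nat_lit 0x2e1100428a002), (nat_lit 0x2dd0001)], [(nat_lit 0x42a6001), (nat_lit 0x2ded001), (nat_lit 0x42be001)], [(nat_lit 0x2dd5001), (nat_lit 0x278c10428e002), (nat_lit 0x278c20429f002)], [(nat_lit 0x278c20429e002), (nat_lit 0x42b9001), (nat_lit 0x2de7001)], [(nat_lit 0x42ae001), (nat_lit 0x2df6001), (nat_lit 0x2a1e2042c6002)], [(nat_lit 0x2e00001), (nat_lit 0x42d3001), (nat_lit 0x2e01001)], [(nat_lit 0x42e1001), (nat_lit 0x2e12001), (nat_lit 0x42f0001)], [(nat_lit 0x428b001), (nat_lit 0x2dd2001), (nat_lit 0x42b6001)], [(nat_lit 0x2dd7001), (nat_lit 0x4290001), (nat_lit 0x2eab2042a3002)], [(nat_lit 0x2eab2042a2002), (nat_lit 0x42ba001), (nat_lit 0x2de9001)], [(nat_lit 0x297ba042aa002), (nat_lit 0x2df1001), (nat_lit 0x42c2001)], [(nat_lit 0x2df8001), (nat_lit 0x42b0001), (nat_lit 0x2df5d042c8002)], [(nat_lit 0x2df5d042c9002), (nat_lit 0x42d7001), (nat_lit 0x2e07001)], [(nat_lit 0x4291001), (nat_lit 0x2dfa001), (nat_lit 0x42b2001)], [(nat_lit 0x2dfe001), (nat_lit 0x42d1001), (nat_lit 0x2ddc0042de002)], [(nat_lit 0x2ddc0042dd002), (nat_lit 0x2d726042ee002), (nat_lit 0x2e10001)], [(nat_lit 0x42e7001), (nat_lit 0x2e19001), (nat_lit 0x42f9001)], [(nat_lit 0x2e27001), (nat_lit 0x4301001), (nat_lit 0x2e28001)], [(nat_lit 0x2366e0430e002), (nat_lit 0x2e39001), (nat_lit 0x431d001)], [(nat_lit 0x27306042cd002), (nat_lit 0x2dfc001), (nat_lit 0x223ea042ec002)], [(nat_lit 0x2e0c001), (nat_lit 0x42d9001), (nat_lit 0x2e0b001)], [(nat_lit 0x42e4001), (nat_lit 0x2e15001), (nat_lit 0x42f4001)], [(nat_lit 0x2dff001), (nat_lit 0x42d2001), (nat_lit 0x2c3ce042e0002)], [(nat_lit 0x2c3ce042df002), (nat_lit 0x42ef001), (nat_lit 0x2e11001)], [(nat_lit 0x42e8001), (nat_lit 0x2e1a001), (nat_lit 0x2d310042fa002)], [(nat_lit 0x2e2f001), (nat_lit 0x4305001), (nat_lit 0x2e2e001)], [(nat_lit 0x4310001), (nat_lit 0x2e3c001), (nat_lit 0x431f001)], [(nat_lit 0x2e20001), (nat_lit 0x42fe001), (nat_lit 0x4309001)], [(nat_lit 0x4308001), (nat_lit 0x289db02e34002), (nat_lit 0x2e33001)], [(nat_lit 0x1f5a104313002), (nat_lit 0x2e3f001), (nat_lit 0x1f5a004323002)], [(nat_lit 0x2e45001), (nat_lit 0x432c001), (nat_lit 0x2e46001)], [(nat_lit 0x4322001), (nat_lit 0x247e30432e002), (nat_lit 0x2e48001)], [(nat_lit 0x2de700430d002), (nat_lit 0x2e38001), (nat_lit 0x2da370431c002)], [(nat_lit 0x29cfa042e9002), (nat_lit 0x2e1b001), (nat_lit 0x42fb001)], [(nat_lit 0x2e2d001), (nat_lit 0x4304001), (nat_lit 0x2e2c001)], [(nat_lit 0x2e64001), (nat_lit 0x2e3b001), (nat_lit 0x2e51001)], [(nat_lit 0x42eb001), (nat_lit 0x2e1d001), (nat_lit 0x42fc001)], [(nat_lit 0x2e32001), (nat_lit 0x4307001), (nat_lit 0x2e31001)], [(nat_lit 0x2e21001), (nat_lit 0x42ff001), (nat_lit 0x430b001)], [(nat_lit 0x430a001), (nat_lit 0x431b001), (nat_lit 0x2e35001)], [(nat_lit 0x2e40001), (nat_lit 0x4314001), (nat_lit 0x4324001)], [(nat_lit 0x4325001), (nat_lit 0x432f001), (nat_lit 0x2e49001)], [(nat_lit 0x2e1f001), (nat_lit 0x42fd001), (nat_lit 0x2e1e001)], [(nat_lit 0x4300001), (nat_lit 0x2e24001), (nat_lit 0x431a001)], [(nat_lit 0x2e3e001), (nat_lit 0x4312001), (nat_lit 0x4321001)], [(nat_lit 0x2e37001), (nat_lit 0x430c001), (nat_lit 0x2e36001)], [(nat_lit 0x4311001), (nat_lit 0x2e3d001), (nat_lit 0x247e604320002)], [(nat_lit 0x2e50001), (nat_lit 0x4336001), (nat_lit 0x2e51001)], [(nat_lit 0x2e64001), (nat_lit 0x434f001), (nat_lit 0x2e63001)], [(nat_lit 0x4315001), (nat_lit 0x2e41001), (nat_lit 0x4326001)], [(nat_lit 0x29c0204338002), (nat_lit 0x2e53001), (nat_lit 0x29c0404345002)], [(nat_lit 0x4358001), (nat_lit 0x2e70001), (nat_lit 0x436a001)], [(nat_lit 0x2e42001), (nat_lit 0x4316001), (nat_lit 0x4327001)], [(nat_lit 0x4328001), (nat_lit 0x2874204330002), (nat_lit 0x2e4a001)], [(nat_lit 0x247ed0432d002), (nat_lit 0x2e47001), (nat_lit 0x29b310433e002)], [(nat_lit 0x4317001), (nat_lit 0x2e4f001), (nat_lit 0x4335001)], [(nat_lit 0x2e6d001), (nat_lit 0x4354001), (nat_lit 0x2e6c001)], [(nat_lit 0x435c001), (nat_lit 0x2e74001), (nat_lit 0x436e001)], [(nat_lit 0x2e43001), (nat_lit 0x2e05104318002), (nat_lit 0x4329001)], [(nat_lit 0x432a001), (nat_lit 0x4331001), (nat_lit 0x2e4b001)], [(nat_lit 0x2e43104333002), (nat_lit 0x2e4d001), (nat_lit 0x4340001)], [(nat_lit 0x2e52001), (nat_lit 0x4337001), (nat_lit 0x2471204343002)], [(nat_lit 0x432b001), (nat_lit 0x2e44001), (nat_lit 0x433d001)], [(nat_lit 0x2e4e001), (nat_lit 0x2a7b404334002), (nat_lit 0x2a7b504341002)], [(nat_lit 0x2e54001), (nat_lit 0x24d7204339002), (nat_lit 0x4346001)], [(nat_lit 0x4347001), (nat_lit 0x4350001), (nat_lit 0x2e66001)], [(nat_lit 0x2c5630434b002), (nat_lit 0x2e5b001), (nat_lit 0x2cef804367002)], [(nat_lit 0x2e75001), (nat_lit 0x435d001), (nat_lit 0x436f001)], [(nat_lit 0x4370001), (nat_lit 0x4380001), (nat_lit 0x2e87001)], [(nat_lit 0x2e68001), (nat_lit 0x4351001), (nat_lit 0x2e67001)], [(nat_lit 0x278f30435a002), (nat_lit 0x2e72001), (nat_lit 0x278f20436c002)], [(nat_lit 0x2c13104355002), (nat_lit 0x4368001), (nat_lit 0x2e6e001)], [(nat_lit 0x2e56001), (nat_lit 0x1a6c50433a002), (nat_lit 0x4348001)], [(nat_lit 0x4349001), (nat_lit 0x4352001), (nat_lit 0x2e69001)], [(nat_lit 0x26a1b0435f002), (nat_lit 0x2e77001), (nat_lit 0x4373001)], [(nat_lit 0x2e84001), (nat_lit 0x2a74c0437e002), (nat_lit 0x2e85001)], [(nat_lit 0x2e62c04389002), (nat_lit 0x2e93001), (nat_lit 0x439c001)], [(nat_lit 0x2e58001), (nat_lit 0x2e57001), (nat_lit 0x433b001)], [(nat_lit 0x2e6b001), (nat_lit 0x4353001), (nat_lit 0x2e6a001)], [(nat_lit 0x435b001), (nat_lit 0x2e73001), (nat_lit 0x436d001)], [(nat_lit 0x2e76001), (nat_lit 0x435e001), (nat_lit 0x4371001)], [(nat_lit 0x4372001), (nat_lit 0x4381001), (nat_lit 0x2e88001)], [(nat_lit 0x433c001), (nat_lit 0x26ca004364002), (nat_lit 0x2e80001)], [(nat_lit 0x438c001), (nat_lit 0x2e96001), (nat_lit 0x439f001)], [(nat_lit 0x2e9b001), (nat_lit 0x4391001), (nat_lit 0x2d022043a6002)], [(nat_lit 0x2d022043a7002), (nat_lit 0x43bb001), (nat_lit 0x2eb0001)], [(nat_lit 0x2d1e504393002), (nat_lit 0x2e9d001), (nat_lit 0x2cdcc043aa002)], [(nat_lit 0x2ea6001), (nat_lit 0x43b4001), (nat_lit 0x2ea7001)], [(nat_lit 0x2ea2001), (nat_lit 0x24439043b1002), (nat_lit 0x2cd4f043c0002)], [(nat_lit 0x2a536043c6002), (nat_lit 0x2ebb001), (nat_lit 0x43d6001)], [(nat_lit 0x2ebf001), (nat_lit 0x43c9001), (nat_lit 0x2dc45043dc002)], [(nat_lit 0x2dc45043dd002), (nat_lit 0x2216a043eb002), (nat_lit 0x2ed5001)], [(nat_lit 0x2e8c001), (nat_lit 0x2eb4d04384002), (nat_lit 0x2e8b001)], [(nat_lit 0x2e8010438a002), (nat_lit 0x2e94001), (nat_lit 0x2e9af0439d002)], [(nat_lit 0x2e7e001), (nat_lit 0x2e6f204362002), (nat_lit 0x2ecfd04377002)], [(nat_lit 0x2ecfd04378002), (nat_lit 0x4385001), (nat_lit 0x2e8d001)], [(nat_lit 0x2e6f304390002), (nat_lit 0x2e9a001), (nat_lit 0x43a5001)], [(nat_lit 0x2ea4001), (nat_lit 0x43b3001), (nat_lit 0x2ea5001)], [(nat_lit 0x43c2001), (nat_lit 0x2eb7001), (nat_lit 0x43d3001)], [(nat_lit 0x4363001), (nat_lit 0x2e7f001), (nat_lit 0x4379001)], [(nat_lit 0x2e8f001), (nat_lit 0x4386001), (nat_lit 0x2e8e001)], [(nat_lit 0x438b001), (nat_lit 0x2e95001), (nat_lit 0x439e001)], [(nat_lit 0x2e82001), (nat_lit 0x4366001), (nat_lit 0x2e2080437b002)], [(nat_lit 0x2e2080437c002), (nat_lit 0x4387001), (nat_lit 0x2e90001)], [(nat_lit 0x2e9c001), (nat_lit 0x4392001), (nat_lit 0x2ecca043a8002)], [(nat_lit 0x2e9e001), (nat_lit 0x4394001), (nat_lit 0x43ab001)], [(nat_lit 0x43ac001), (nat_lit 0x43bd001), (nat_lit 0x2eb2001)], [(nat_lit 0x43b5001), (nat_lit 0x2ea8001), (nat_lit 0x43d1001)], [(nat_lit 0x2ebe001), (nat_lit 0x43c8001), (nat_lit 0x43da001)], [(nat_lit 0x43db001), (nat_lit 0x43ea001), (nat_lit 0x2ed4001)], [(nat_lit 0x4395001), (nat_lit 0x2ea1001), (nat_lit 0x43b0001)], [(nat_lit 0x2eab001), (nat_lit 0x43b7001), (nat_lit 0x2eac001)], [(nat_lit 0x2ebd001), (nat_lit 0x43c7001), (nat_lit 0x43d8001)], [(nat_lit 0x43d9001), (nat_lit 0x2f22001), (nat_lit 0x2ed3001)], [(nat_lit 0x43ca001), (nat_lit 0x2ec0001), (nat_lit 0x43de001)], [(nat_lit 0x2ece001), (nat_lit 0x43e8001), (nat_lit 0x2ecf001)], [(nat_lit 0x2d284043f6002), (nat_lit 0x2edf001), (nat_lit 0x1fe340440c002)], [(nat_lit 0x2e9f001), (nat_lit 0x4396001), (nat_lit 0x43ad001)], [(nat_lit 0x43ae001), (nat_lit 0x43be001), (nat_lit 0x2eb3001)], [(nat_lit 0x2eb6001), (nat_lit 0x2e5dd043c1002), (nat_lit 0x2eb5001)], [(nat_lit 0x2ec1001), (nat_lit 0x43cb001), (nat_lit 0x43df001)], [(nat_lit 0x43e0001), (nat_lit 0x2e9ae043ec002), (nat_lit 0x2ed6001)], [(nat_lit 0x2c716043e9002), (nat_lit 0x2ed0001), (nat_lit 0x2d09204408002)], [(nat_lit 0x2ee5001), (nat_lit 0x43fb001), (nat_lit 0x4412001)], [(nat_lit 0x4413001), (nat_lit 0x4424001), (nat_lit 0x2efa001)], [(nat_lit 0x2ec8001), (nat_lit 0x43d0001), (nat_lit 0x2e912043e1002)], [(nat_lit 0x2e912043e2002), (nat_lit 0x25dda043ed002), (nat_lit 0x2ed7001)], [(nat_lit 0x43fe001), (nat_lit 0x2ee9001), (nat_lit 0x2eb3f04418002)], [(nat_lit 0x2ef3001), (nat_lit 0x4421001), (nat_lit 0x2ef4001)], [(nat_lit 0x442c001), (nat_lit 0x2f03001), (nat_lit 0x443d001)], [(nat_lit 0x256b2043cd002), (nat_lit 0x43ce001), (nat_lit 0x2ec5001)], [(nat_lit 0x2ee7001), (nat_lit 0x43fc001), (nat_lit 0x4416001)], [(nat_lit 0x4417001), (nat_lit 0x2479804426002), (nat_lit 0x2efc001)], [(nat_lit 0x2502c043e4002), (nat_lit 0x2eca001), (nat_lit 0x4406001)], [(nat_lit 0x2eda001), (nat_lit 0x43f0001), (nat_lit 0x2ed9001)], [(nat_lit 0x43f8001), (nat_lit 0x2ee1001), (nat_lit 0x440e001)], [(nat_lit 0x2ecc001), (nat_lit 0x24a51043e6002), (nat_lit 0x2c467043f3002)], [(nat_lit 0x2c467043f2002), (nat_lit 0x440a001), (nat_lit 0x2edd001)], [(nat_lit 0x2eeb001), (nat_lit 0x2bc2604400002), (nat_lit 0x441a001)], [(nat_lit 0x441b001), (nat_lit 0x2df9804428002), (nat_lit 0x2efe001)], [(nat_lit 0x4397001), (nat_lit 0x2ea0001), (nat_lit 0x2e7fc043af002)], [(nat_lit 0x2ea9001), (nat_lit 0x43b6001), (nat_lit 0x2eaa001)], [(nat_lit 0x2e6fc04415002), (nat_lit 0x2e1e804425002), (nat_lit 0x2efb001)], [(nat_lit 0x2ec9001), (nat_lit 0x43e3001), (nat_lit 0x43ef001)], [(nat_lit 0x43ee001), (nat_lit 0x4409001), (nat_lit 0x2ed8001)], [(nat_lit 0x2d43f043ff002), (nat_lit 0x2eea001), (nat_lit 0x2ea8e04419002)], [(nat_lit 0x2ef5001), (nat_lit 0x2d84704422002), (nat_lit 0x2ef6001)], [(nat_lit 0x2d1ea0442e002), (nat_lit 0x2f04001), (nat_lit 0x299290443f002)], [(nat_lit 0x2ec7001), (nat_lit 0x27b7a043cf002), (nat_lit 0x2ec6001)], [(nat_lit 0x28f31043e5002), (nat_lit 0x2ecb001), (nat_lit 0x4407001)], [(nat_lit 0x2edc001), (nat_lit 0x43f1001), (nat_lit 0x2edb001)], [(nat_lit 0x43f9001), (nat_lit 0x2ee2001), (nat_lit 0x4410001)], [(nat_lit 0x2ecd001), (nat_lit 0x28f37043e7002), (nat_lit 0x2ed3c043f5002)], [(nat_lit 0x43fa001), (nat_lit 0x2ee3001), (nat_lit 0x4411001)], [(nat_lit 0x2eec001), (nat_lit 0x4401001), (nat_lit 0x441c001)], [(nat_lit 0x441d001), (nat_lit 0x29a0d04259002), (nat_lit 0x2eff001)], [(nat_lit 0x4404001), (nat_lit 0x2ef0001), (nat_lit 0x27b7e0441f002)], [(nat_lit 0x442f001), (nat_lit 0x2f05001), (nat_lit 0x4440001)], [(nat_lit 0x2f07001), (nat_lit 0x4431001), (nat_lit 0x4442001)], [(nat_lit 0x4443001), (nat_lit 0x2f22001), (nat_lit 0x2f21001)], [(nat_lit 0x4432001), (nat_lit 0x2f08001), (nat_lit 0x1e93204444002)], [(nat_lit 0x2f18001), (nat_lit 0x2b6d304452002), (nat_lit 0x2f19001)], [(nat_lit 0x445e001), (nat_lit 0x2f2b001), (nat_lit 0x446d001)], [(nat_lit 0x2f01001), (nat_lit 0x4429001), (nat_lit 0x2f00001)], [(nat_lit 0x4430001), (nat_lit 0x2f06001), (nat_lit 0x4441001)], [(nat_lit 0x2f09001), (nat_lit 0x4433001), (nat_lit 0x4445001)], [(nat_lit 0x4446001), (nat_lit 0x4457001), (nat_lit 0x2f24001)], [(nat_lit 0x4450001), (nat_lit 0x2f14001), (nat_lit 0x4469001)], [(nat_lit 0x2c5a304402002), (nat_lit 0x2eed001), (nat_lit 0x2e4920441e002)], [(nat_lit 0x4451001), (nat_lit 0x2f15001), (nat_lit 0x446a001)], [(nat_lit 0x2f31001), (nat_lit 0x2df7b04463002), (nat_lit 0x4475001)], [(nat_lit 0x4476001), (nat_lit 0x4488001), (nat_lit 0x2f44001)], [(nat_lit 0x445f001), (nat_lit 0x2f2c001), (nat_lit 0x446e001)], [(nat_lit 0x2f0f001), (nat_lit 0x4438001), (nat_lit 0x2dc6c04449002)], [(nat_lit 0x4465001), (nat_lit 0x2f33001), (nat_lit 0x4479001)], [(nat_lit 0x2f3c001), (nat_lit 0x2f72001), (nat_lit 0x2f3d001)], [(nat_lit 0x448f001), (nat_lit 0x2f4a001), (nat_lit 0x44a4001)], [(nat_lit 0x2f0b001), (nat_lit 0x4434001), (nat_lit 0x4447001)], [(nat_lit 0x4448001), (nat_lit 0x2c5a704458002), (nat_lit 0x2f25001)], [(nat_lit 0x2f0d001), (nat_lit 0x2f0c001), (nat_lit 0x4435001)], [(nat_lit 0x2f1c001), (nat_lit 0x4453001), (nat_lit 0x2f1d001)], [(nat_lit 0x4460001), (nat_lit 0x2f2d001), (nat_lit 0x446f001)], [(nat_lit 0x2f10001), (nat_lit 0x4439001), (nat_lit 0x444b001)], [(nat_lit 0x444c001), (nat_lit 0x445a001), (nat_lit 0x2f27001)], [(nat_lit 0x4466001), (nat_lit 0x2f34001), (nat_lit 0x447a001)], [(nat_lit 0x2f3e001), (nat_lit 0x4484001), (nat_lit 0x2f3f001)], [(nat_lit 0x2f70001), (nat_lit 0x2f4b001), (nat_lit 0x2f54001)], [(nat_lit 0x4436001), (nat_lit 0x4437001), (nat_lit 0x2f0e001)], [(nat_lit 0x4454001), (nat_lit 0x2f1e001), (nat_lit 0x2e6f70446b002)], [(nat_lit 0x2f32001), (nat_lit 0x4464001), (nat_lit 0x4477001)], [(nat_lit 0x4478001), (nat_lit 0x2388e04489002), (nat_lit 0x2f45001)], [(nat_lit 0x2cd2d0443a002), (nat_lit 0x2f11001), (nat_lit 0x2cd2c0444d002)], [(nat_lit 0x2f1f001), (nat_lit 0x2d0c404455002), (nat_lit 0x2f20001)], [(nat_lit 0x2f12001), (nat_lit 0x2d4130444e002), (nat_lit 0x2d7560445c002)], [(nat_lit 0x2d7560445b002), (nat_lit 0x446c001), (nat_lit 0x2f28001)], [(nat_lit 0x444f001), (nat_lit 0x2f13001), (nat_lit 0x4468001)], [(nat_lit 0x4461001), (nat_lit 0x2f2f001), (nat_lit 0x27ab404472002)], [(nat_lit 0x2a9290447f002), (nat_lit 0x448b001), (nat_lit 0x2f47001)], [(nat_lit 0x4485001), (nat_lit 0x2f40001), (nat_lit 0x44a2001)], [(nat_lit 0x2f51001), (nat_lit 0x4495001), (nat_lit 0x2983c044ac002)], [(nat_lit 0x44a0001), (nat_lit 0x2f5d001), (nat_lit 0x44b4001)], [(nat_lit 0x2dd1c044cd002), (nat_lit 0x2f7d001), (nat_lit 0x2b446044e5002)], [(nat_lit 0x2f50001), (nat_lit 0x4494001), (nat_lit 0x44aa001)], [(nat_lit 0x44ab001), (nat_lit 0x44c0001), (nat_lit 0x2f6d001)], [(nat_lit 0x4490001), (nat_lit 0x2f4c001), (nat_lit 0x44a5001)], [(nat_lit 0x2f39001), (nat_lit 0x2e4f904482002), (nat_lit 0x448e001)], [(nat_lit 0x448d001), (nat_lit 0x2a1cf044a3002), (nat_lit 0x2f49001)], [(nat_lit 0x297e304491002), (nat_lit 0x2f4d001), (nat_lit 0x44a6001)], [(nat_lit 0x2f53001), (nat_lit 0x4497001), (nat_lit 0x2f54001)], [(nat_lit 0x2f70001), (nat_lit 0x28e14044c2002), (nat_lit 0x2f6f001)], [(nat_lit 0x2f38001), (nat_lit 0x4467001), (nat_lit 0x4480001)], [(nat_lit 0x4481001), (nat_lit 0x448c001), (nat_lit 0x2f48001)], [(nat_lit 0x4496001), (nat_lit 0x2f52001), (nat_lit 0x2dd2c044ae002)], [(nat_lit 0x2f3b001), (nat_lit 0x2df1e04483002), (nat_lit 0x2f3a001)], [(nat_lit 0x4492001), (nat_lit 0x2f4e001), (nat_lit 0x44a7001)], [(nat_lit 0x2f55001), (nat_lit 0x2d0a404498002), (nat_lit 0x44af001)], [(nat_lit 0x44b0001), (nat_lit 0x2f72001), (nat_lit 0x2f71001)], [(nat_lit 0x2f4f001), (nat_lit 0x4493001), (nat_lit 0x44a8001)], [(nat_lit 0x44a9001), (nat_lit 0x2e657044bf002), (nat_lit 0x2f6c001)], [(nat_lit 0x2f59001), (nat_lit 0x2f58001), (nat_lit 0x449b001)], [(nat_lit 0x2f67001), (nat_lit 0x44bc001), (nat_lit 0x2f68001)], [(nat_lit 0x44cb001), (nat_lit 0x2f7b001), (nat_lit 0x44e3001)], [(nat_lit 0x2f5e001), (nat_lit 0x44a1001), (nat_lit 0x44b5001)], [(nat_lit 0x44b6001), (nat_lit 0x2ea7c044c4002), (nat_lit 0x2f76001)], [(nat_lit 0x449c001), (nat_lit 0x2e278044b8002), (nat_lit 0x2f60001)], [(nat_lit 0x2bc68044d2002), (nat_lit 0x2f83001), (nat_lit 0x2c675044eb002)], [(nat_lit 0x1e27b04508002), (nat_lit 0x2fa2001), (nat_lit 0x1e2860451a002)], [(nat_lit 0x2fa9001), (nat_lit 0x23eff0450e002), (nat_lit 0x4522001)], [(nat_lit 0x4523001), (nat_lit 0x4532001), (nat_lit 0x2fb9001)], [(nat_lit 0x2e8ce0449a002), (nat_lit 0x2f57001), (nat_lit 0x44b1001)], [(nat_lit 0x2f65001), (nat_lit 0x44bb001), (nat_lit 0x2f66001)], [(nat_lit 0x44ca001), (nat_lit 0x2f7a001), (nat_lit 0x44e2001)], [(nat_lit 0x2f5a001), (nat_lit 0x2e4bc0449d002), (nat_lit 0x2dd2b044b2002)], [(nat_lit 0x44bd001), (nat_lit 0x2f69001), (nat_lit 0x2e9eb044de002)], [(nat_lit 0x2a224044e8002), (nat_lit 0x44fb001), (nat_lit 0x2f93001)], [(nat_lit 0x2f5c001), (nat_lit 0x2f5b001), (nat_lit 0x29f130449e002)], [(nat_lit 0x44cc001), (nat_lit 0x2f7c001), (nat_lit 0x44e4001)], [(nat_lit 0x2f5f001), (nat_lit 0x21f6e044b7002), (nat_lit 0x22105044c6002)], [(nat_lit 0x22105044c5002), (nat_lit 0x2231f044df002), (nat_lit 0x2f77001)], [(nat_lit 0x29f130449f002), (nat_lit 0x28f04044b9002), (nat_lit 0x2f61001)], [(nat_lit 0x27229044ce002), (nat_lit 0x2f7e001), (nat_lit 0x27228044e6002)], [(nat_lit 0x44d3001), (nat_lit 0x2f84001), (nat_lit 0x44ec001)], [(nat_lit 0x2f88001), (nat_lit 0x44d8001), (nat_lit 0x228db044f2002)], [(nat_lit 0x4509001), (nat_lit 0x2fa3001), (nat_lit 0x451b001)], [(nat_lit 0x2faa001), (nat_lit 0x450f001), (nat_lit 0x247e504524002)], [(nat_lit 0x4506001), (nat_lit 0x2fa0001), (nat_lit 0x4518001)], [(nat_lit 0x2fa8001), (nat_lit 0x450d001), (nat_lit 0x4520001)], [(nat_lit 0x4521001), (nat_lit 0x2e00704531002), (nat_lit 0x2fb8001)], [(nat_lit 0x2fad001), (nat_lit 0x4512001), (nat_lit 0x452a001)], [(nat_lit 0x452b001), (nat_lit 0x4536001), (nat_lit 0x2fbd001)], [(nat_lit 0x4515001), (nat_lit 0x2fb0001), (nat_lit 0x452d001)], [(nat_lit 0x4539001), (nat_lit 0x2fc0001), (nat_lit 0x454f001)], [(nat_lit 0x2f82001), (nat_lit 0x44d1001), (nat_lit 0x2f81001)], [(nat_lit 0x2d504044f9002), (nat_lit 0x2f8e001), (nat_lit 0x4516001)], [(nat_lit 0x44d6001), (nat_lit 0x2f86001), (nat_lit 0x29622044ef002)], [(nat_lit 0x2f98001), (nat_lit 0x44fe001), (nat_lit 0x2f97001)], [(nat_lit 0x4507001), (nat_lit 0x2fa1001), (nat_lit 0x4519001)], [(nat_lit 0x2f89001), (nat_lit 0x44d9001), (nat_lit 0x2cbde044f4002)], [(nat_lit 0x2cbde044f5002), (nat_lit 0x4501001), (nat_lit 0x2f9b001)], [(nat_lit 0x450a001), (nat_lit 0x2fa4001), (nat_lit 0x451d001)], [(nat_lit 0x44da001), (nat_lit 0x2f8a001), (nat_lit 0x44f6001)], [(nat_lit 0x2fab001), (nat_lit 0x1e45b04510002), (nat_lit 0x2429104526002)], [(nat_lit 0x4514001), (nat_lit 0x2faf001), (nat_lit 0x2e2e00452c002)], [(nat_lit 0x2fb3001), (nat_lit 0x452f001), (nat_lit 0x2fb4001)], [(nat_lit 0x2293704538002), (nat_lit 0x2fbf001), (nat_lit 0x2261f0454e002)], [(nat_lit 0x2f8d001), (nat_lit 0x44f7001), (nat_lit 0x4505001)], [(nat_lit 0x4504001), (nat_lit 0x4517001), (nat_lit 0x2f9f001)], [(nat_lit 0x44f8001), (nat_lit 0x2fae001), (nat_lit 0x4513001)], [(nat_lit 0x2fb1001), (nat_lit 0x2dc8d0452e002), (nat_lit 0x2fb2001)], [(nat_lit 0x453a001), (nat_lit 0x2fc1001), (nat_lit 0x4550001)], [(nat_lit 0x2fd3001), (nat_lit 0x23fa60454c002), (nat_lit 0x2fd4001)], [(nat_lit 0x2fac001), (nat_lit 0x4511001), (nat_lit 0x4528001)], [(nat_lit 0x4529001), (nat_lit 0x22a5104535002), (nat_lit 0x2fbc001)], [(nat_lit 0x2fcb001), (nat_lit 0x4544001), (nat_lit 0x455c001)], [(nat_lit 0x455d001), (nat_lit 0x4569001), (nat_lit 0x2fe1001)], [(nat_lit 0x4564001), (nat_lit 0x2fdb001), (nat_lit 0x457e001)], [(nat_lit 0x2fe8001), (nat_lit 0x456c001), (nat_lit 0x2fe7001)], [(nat_lit 0x2fc7001), (nat_lit 0x453f001), (nat_lit 0x2356c04556002)], [(nat_lit 0x454a001), (nat_lit 0x2fd1001), (nat_lit 0x29b1704560002)], [(nat_lit 0x2ff1001), (nat_lit 0x4574001), (nat_lit 0x26bc004588002)], [(nat_lit 0x26bc004589002), (nat_lit 0x459c001), (nat_lit 0x2fff001)], [(nat_lit 0x4540001), (nat_lit 0x2fcf001), (nat_lit 0x2d01904548002)], [(nat_lit 0x4572001), (nat_lit 0x2fef001), (nat_lit 0x4586001)], [(nat_lit 0x2ed4204592002), (nat_lit 0x2c4bf045a0002), (nat_lit 0x3003001)], [(nat_lit 0x2ed430457c002), (nat_lit 0x2ff9001), (nat_lit 0x4596001)], [(nat_lit 0x459a001), (nat_lit 0x2ffd001), (nat_lit 0x45b0001)], [(nat_lit 0x4542001), (nat_lit 0x2fc9001), (nat_lit 0x4559001)], [(nat_lit 0x4565001), (nat_lit 0x2fdc001), (nat_lit 0x457f001)], [(nat_lit 0x2ff4001), (nat_lit 0x4577001), (nat_lit 0x458d001)], [(nat_lit 0x458e001), (nat_lit 0x459e001), (nat_lit 0x3001001)], [(nat_lit 0x2fce001), (nat_lit 0x2fcd001), (nat_lit 0x4546001)], [(nat_lit 0x2fe4001), (nat_lit 0x456a001), (nat_lit 0x2fe3001)], [(nat_lit 0x4547001), (nat_lit 0x4549001), (nat_lit 0x2fd0001)], [(nat_lit 0x4573001), (nat_lit 0x2ff0001), (nat_lit 0x4587001)], [(nat_lit 0x2ff7001), (nat_lit 0x457a001), (nat_lit 0x2b01c04593002)], [(nat_lit 0x2b01c04594002), (nat_lit 0x45a1001), (nat_lit 0x3004001)], [(nat_lit 0x2ffa001), (nat_lit 0x457d001), (nat_lit 0x4597001)], [(nat_lit 0x4598001), (nat_lit 0x45a2001), (nat_lit 0x3005001)], [(nat_lit 0x2a77e0459b002), (nat_lit 0x2ffe001), (nat_lit 0x45b1001)], [(nat_lit 0x3006001), (nat_lit 0x45a3001), (nat_lit 0x45b3001)], [(nat_lit 0x45b4001), (nat_lit 0x45c5001), (nat_lit 0x301e001)], [(nat_lit 0x456f001), (nat_lit 0x2feb001), (nat_lit 0x22a5904582002)], [(nat_lit 0x2fca001), (nat_lit 0x22a5a04543002), (nat_lit 0x455a001)], [(nat_lit 0x455b001), (nat_lit 0x4568001), (nat_lit 0x2fe0001)], [(nat_lit 0x2d9af045b7002), (nat_lit 0x45c6001), (nat_lit 0x301f001)], [(nat_lit 0x22a5e045a9002), (nat_lit 0x300c001), (nat_lit 0x2927d045b9002)], [(nat_lit 0x45cb001), (nat_lit 0x3024001), (nat_lit 0x2d358045dd002)], [(nat_lit 0x22a63045bd002), (nat_lit 0x22c24045c8002), (nat_lit 0x3021001)], [(nat_lit 0x45c1001), (nat_lit 0x3017001), (nat_lit 0x45d9001)], [(nat_lit 0x3026001), (nat_lit 0x45cd001), (nat_lit 0x45df001)], [(nat_lit 0x45e0001), (nat_lit 0x45f2001), (nat_lit 0x303e001)], [(nat_lit 0x300d001), (nat_lit 0x45aa001), (nat_lit 0x45ba001)], [(nat_lit 0x45bb001), (nat_lit 0x45c7001), (nat_lit 0x3020001)], [(nat_lit 0x45ae001), (nat_lit 0x3012001), (nat_lit 0x45bf001)], [(nat_lit 0x2286c045a7002), (nat_lit 0x2286d045ad002), (nat_lit 0x3010001)], [(nat_lit 0x2843c045c3002), (nat_lit 0x3019001), (nat_lit 0x2843b045db002)], [(nat_lit 0x3028001), (nat_lit 0x2ea07045cf002), (nat_lit 0x45e3001)], [(nat_lit 0x45e4001), (nat_lit 0x45f4001), (nat_lit 0x3040001)], [(nat_lit 0x45d2001), (nat_lit 0x302d001), (nat_lit 0x45e6001)], [(nat_lit 0x3033001), (nat_lit 0x2b0bb045ec002), (nat_lit 0x3034001)], [(nat_lit 0x45f8001), (nat_lit 0x3044001), (nat_lit 0x225760460e002)], [(nat_lit 0x261aa045a8002), (nat_lit 0x300b001), (nat_lit 0x261ab045b8002)], [(nat_lit 0x3013001), (nat_lit 0x45af001), (nat_lit 0x3014001)], [(nat_lit 0x45ca001), (nat_lit 0x3023001), (nat_lit 0x45dc001)], [(nat_lit 0x45c2001), (nat_lit 0x3018001), (nat_lit 0x45da001)], [(nat_lit 0x3027001), (nat_lit 0x2283c045ce002), (nat_lit 0x45e1001)], [(nat_lit 0x45e2001), (nat_lit 0x45f3001), (nat_lit 0x303f001)], [(nat_lit 0x45d3001), (nat_lit 0x302e001), (nat_lit 0x45e7001)], [(nat_lit 0x3035001), (nat_lit 0x45ed001), (nat_lit 0x3036001)], [(nat_lit 0x3057001), (nat_lit 0x460a001), (nat_lit 0x3058001)], [(nat_lit 0x462a001), (nat_lit 0x306a001), (nat_lit 0x463c001)], [(nat_lit 0x3031001), (nat_lit 0x45d6001), (nat_lit 0x2331e045eb002)], [(nat_lit 0x45ef001), (nat_lit 0x3039001), (nat_lit 0x460d001)], [(nat_lit 0x45d7001), (nat_lit 0x3032001), (nat_lit 0x2b826045d8002)], [(nat_lit 0x303a001), (nat_lit 0x45f0001), (nat_lit 0x303b001)], [(nat_lit 0x305a001), (nat_lit 0x460c001), (nat_lit 0x305b001)], [(nat_lit 0x462c001), (nat_lit 0x306c001), (nat_lit 0x463d001)], [(nat_lit 0x303d001), (nat_lit 0x2dcf6045f1002), (nat_lit 0x303c001)], [(nat_lit 0x23fa2045fe002), (nat_lit 0x304b001), (nat_lit 0x4615001)], [(nat_lit 0x3059001), (nat_lit 0x2b1ae0460b002), (nat_lit 0x461f001)], [(nat_lit 0x4620001), (nat_lit 0x462b001), (nat_lit 0x306b001)], [(nat_lit 0x305c001), (nat_lit 0x4621001), (nat_lit 0x305d001)], [(nat_lit 0x462d001), (nat_lit 0x306d001), (nat_lit 0x463e001)], [(nat_lit 0x3051001), (nat_lit 0x2243e04604002), (nat_lit 0x461b001)], [(nat_lit 0x461c001), (nat_lit 0x4629001), (nat_lit 0x3069001)], [(nat_lit 0x4609001), (nat_lit 0x3056001), (nat_lit 0x461e001)], [(nat_lit 0x462f001), (nat_lit 0x3071001), (nat_lit 0x4641001)], [(nat_lit 0x3072001), (nat_lit 0x4630001), (nat_lit 0x4642001)], [(nat_lit 0x4643001), (nat_lit 0x4651001), (nat_lit 0x308a001)], [(nat_lit 0x307d001), (nat_lit 0x30bc001), (nat_lit 0x307e001)], [(nat_lit 0x4655001), (nat_lit 0x308e001), (nat_lit 0x466f001)], [(nat_lit 0x3050001), (nat_lit 0x2eb5b04603002), (nat_lit 0x4619001)], [(nat_lit 0x461a001), (nat_lit 0x4628001), (nat_lit 0x3068001)], [(nat_lit 0x3054001), (nat_lit 0x3053001), (nat_lit 0x4606001)], [(nat_lit 0x3062001), (nat_lit 0x2c0ed04624002), (nat_lit 0x3063001)], [(nat_lit 0x462e001), (nat_lit 0x3070001), (nat_lit 0x4640001)], [(nat_lit 0x307f001), (nat_lit 0x4639001), (nat_lit 0x3080001)], [(nat_lit 0x30be001), (nat_lit 0x308f001), (nat_lit 0x30ae001)], [(nat_lit 0x4607001), (nat_lit 0x4634001), (nat_lit 0x3076001)], [(nat_lit 0x3092001), (nat_lit 0x2b7f304658002), (nat_lit 0x4671001)], [(nat_lit 0x4672001), (nat_lit 0x4687001), (nat_lit 0x30b1001)], [(nat_lit 0x2dd8f04647002), (nat_lit 0x4653001), (nat_lit 0x308c001)], [(nat_lit 0x464e001), (nat_lit 0x3087001), (nat_lit 0x466d001)], [(nat_lit 0x3096001), (nat_lit 0x465c001), (nat_lit 0x4677001)], [(nat_lit 0x4678001), (nat_lit 0x4689001), (nat_lit 0x30b4001)], [(nat_lit 0x3093001), (nat_lit 0x4659001), (nat_lit 0x4673001)], [(nat_lit 0x4674001), (nat_lit 0x4688001), (nat_lit 0x30b2001)], [(nat_lit 0x307b001), (nat_lit 0x4638001), (nat_lit 0x4648001)], [(nat_lit 0x4649001), (nat_lit 0x4654001), (nat_lit 0x308d001)], [(nat_lit 0x465d001), (nat_lit 0x3097001), (nat_lit 0x221d004679002)], [(nat_lit 0x309f001), (nat_lit 0x4665001), (nat_lit 0x30a0001)], [(nat_lit 0x465e001), (nat_lit 0x3098001), (nat_lit 0x467a001)], [(nat_lit 0x30a1001), (nat_lit 0x4666001), (nat_lit 0x30a2001)], [(nat_lit 0x468d001), (nat_lit 0x30b8001), (nat_lit 0x46aa001)], [(nat_lit 0x309a001), (nat_lit 0x4660001), (nat_lit 0x467d001)], [(nat_lit 0x467e001), (nat_lit 0x2b6da0468b002), (nat_lit 0x30b6001)], [(nat_lit 0x2ac7a04669002), (nat_lit 0x30a5001), (nat_lit 0x4682001)], [(nat_lit 0x30ad001), (nat_lit 0x4685001), (nat_lit 0x30ae001)], [(nat_lit 0x30be001), (nat_lit 0x4692001), (nat_lit 0x30bd001)], [(nat_lit 0x4636001), (nat_lit 0x3079001), (nat_lit 0x4645001)], [(nat_lit 0x258710468e002), (nat_lit 0x30b9001), (nat_lit 0x25f95046ab002)], [(nat_lit 0x3099001), (nat_lit 0x221d80465f002), (nat_lit 0x467b001)], [(nat_lit 0x467c001), (nat_lit 0x281320468a002), (nat_lit 0x30b5001)], [(nat_lit 0x4668001), (nat_lit 0x30a4001), (nat_lit 0x4681001)], [(nat_lit 0x30ac001), (nat_lit 0x4684001), (nat_lit 0x4691001)], [(nat_lit 0x4690001), (nat_lit 0x30bc001), (nat_lit 0x30bb001)], [(nat_lit 0x4697001), (nat_lit 0x30c1001), (nat_lit 0x22604046af002)], [(nat_lit 0x30d0001), (nat_lit 0x46a7001), (nat_lit 0x30d1001)], [(nat_lit 0x27431046c3002), (nat_lit 0x30e0001), (nat_lit 0x27430046e5002)], [(nat_lit 0x2c4d40309c002), (nat_lit 0x309b001), (nat_lit 0x4661001)], [(nat_lit 0x2c62804693002), (nat_lit 0x46ad001), (nat_lit 0x30bf001)], [(nat_lit 0x30d2001), (nat_lit 0x2c62a046a8002), (nat_lit 0x30d3001)], [(nat_lit 0x2c62b046c4002), (nat_lit 0x30e1001), (nat_lit 0x2c62c046e6002)], [(nat_lit 0x2ce7204695002), (nat_lit 0x2ce73046ae002), (nat_lit 0x30c0001)], [(nat_lit 0x2c3ec046cb002), (nat_lit 0x30e9001), (nat_lit 0x2caeb046f1002)], [(nat_lit 0x30f8001), (nat_lit 0x46db001), (nat_lit 0x30f9001)], [(nat_lit 0x2b6cc0470e002), (nat_lit 0x3110001), (nat_lit 0x4728001)], [(nat_lit 0x30ee001), (nat_lit 0x2b9b9046cf002), (nat_lit 0x46f4001)], [(nat_lit 0x46f5001), (nat_lit 0x470a001), (nat_lit 0x310c001)], [(nat_lit 0x2add004702002), (nat_lit 0x4715001), (nat_lit 0x3117001)], [(nat_lit 0x4663001), (nat_lit 0x309d001), (nat_lit 0x2deae0467f002)], [(nat_lit 0x30aa001), (nat_lit 0x4683001), (nat_lit 0x30ab001)], [(nat_lit 0x468f001), (nat_lit 0x30ba001), (nat_lit 0x46ac001)], [(nat_lit 0x30c4001), (nat_lit 0x469a001), (nat_lit 0x2e3b2046b1002)], [(nat_lit 0x2e3b2046b2002), (nat_lit 0x2ac74046bf002), (nat_lit 0x30db001)], [(nat_lit 0x30e5001), (nat_lit 0x2a8cb046c8002), (nat_lit 0x46ea001)], [(nat_lit 0x46eb001), (nat_lit 0x4707001), (nat_lit 0x3109001)], [(nat_lit 0x469b001), (nat_lit 0x30c6001), (nat_lit 0x469e001)], [(nat_lit 0x30d6001), (nat_lit 0x2c630046bc002), (nat_lit 0x30d7001)], [(nat_lit 0x2bdba046c6002), (nat_lit 0x30e3001), (nat_lit 0x46e8001)], [(nat_lit 0x30cc001), (nat_lit 0x46a3001), (nat_lit 0x46b7001)], [(nat_lit 0x46b8001), (nat_lit 0x2c631046c2002), (nat_lit 0x30de001)], [(nat_lit 0x2d65604664002), (nat_lit 0x309e001), (nat_lit 0x4680001)], [(nat_lit 0x30c5001), (nat_lit 0x469c001), (nat_lit 0x46b3001)], [(nat_lit 0x46b4001), (nat_lit 0x46c0001), (nat_lit 0x30dc001)], [(nat_lit 0x2e382046a6002), (nat_lit 0x30cf001), (nat_lit 0x46bb001)], [(nat_lit 0x2ebb5046ed002), (nat_lit 0x4708001), (nat_lit 0x310a001)], [(nat_lit 0x469d001), (nat_lit 0x30c7001), (nat_lit 0x469f001)], [(nat_lit 0x30d8001), (nat_lit 0x2b972046bd002), (nat_lit 0x30d9001)], [(nat_lit 0x46c7001), (nat_lit 0x30e4001), (nat_lit 0x46e9001)], [(nat_lit 0x30cd001), (nat_lit 0x46a5001), (nat_lit 0x46b9001)], [(nat_lit 0x46ba001), (nat_lit 0x313c001), (nat_lit 0x30df001)], [(nat_lit 0x46ca001), (nat_lit 0x30e8001), (nat_lit 0x46f0001)], [(nat_lit 0x30f6001), (nat_lit 0x46d9001), (nat_lit 0x30f7001)], [(nat_lit 0x470d001), (nat_lit 0x310f001), (nat_lit 0x4727001)], [(nat_lit 0x2e09c046b6002), (nat_lit 0x46c1001), (nat_lit 0x30dd001)], [(nat_lit 0x470f001), (nat_lit 0x3111001), (nat_lit 0x4729001)], [(nat_lit 0x46d8001), (nat_lit 0x30f5001), (nat_lit 0x46fd001)], [(nat_lit 0x30cb001), (nat_lit 0x46a2001), (nat_lit 0x30ca001)], [(nat_lit 0x46be001), (nat_lit 0x30da001), (nat_lit 0x46e4001)], [(nat_lit 0x30e7001), (nat_lit 0x46c9001), (nat_lit 0x46ee001)], [(nat_lit 0x46ef001), (nat_lit 0x1b71304709002), (nat_lit 0x310b001)], [(nat_lit 0x46cd001), (nat_lit 0x30eb001), (nat_lit 0x2ce5e046f3002)], [(nat_lit 0x4710001), (nat_lit 0x3112001), (nat_lit 0x1b7220472a002)], [(nat_lit 0x30ed001), (nat_lit 0x46ce001), (nat_lit 0x30ec001)], [(nat_lit 0x46d7001), (nat_lit 0x30f4001), (nat_lit 0x46fc001)], [(nat_lit 0x3105001), (nat_lit 0x46e1001), (nat_lit 0x46ff001)], [(nat_lit 0x4700001), (nat_lit 0x4714001), (nat_lit 0x3116001)], [(nat_lit 0x4723001), (nat_lit 0x3123001), (nat_lit 0x2a6eb04736002)], [(nat_lit 0x312d001), (nat_lit 0x473b001), (nat_lit 0x312e001)], [(nat_lit 0x311b001), (nat_lit 0x4719001), (nat_lit 0x1f5da0472f002)], [(nat_lit 0x1f5da04730002), (nat_lit 0x473f001), (nat_lit 0x3133001)], [(nat_lit 0x1d2f604725002), (nat_lit 0x3125001), (nat_lit 0x1d2f704738002)], [(nat_lit 0x471a001), (nat_lit 0x311c001), (nat_lit 0x471b001)], [(nat_lit 0x3126001), (nat_lit 0x4726001), (nat_lit 0x3127001)], [(nat_lit 0x26f7104742002), (nat_lit 0x3136001), (nat_lit 0x475b001)], [(nat_lit 0x3131001), (nat_lit 0x2a3950473d002), (nat_lit 0x4748001)], [(nat_lit 0x4747001), (nat_lit 0x313c001), (nat_lit 0x313b001)], [(nat_lit 0x474a001), (nat_lit 0x313f001), (nat_lit 0x4764001)], [(nat_lit 0x314b001), (nat_lit 0x4754001), (nat_lit 0x314c001)], [(nat_lit 0x2973c0477c002), (nat_lit 0x3164001), (nat_lit 0x2973b040d4002)], [(nat_lit 0x311e001), (nat_lit 0x471d001), (nat_lit 0x4732001)], [(nat_lit 0x4733001), (nat_lit 0x4740001), (nat_lit 0x3134001)], [(nat_lit 0x313d001), (nat_lit 0x4749001), (nat_lit 0x2c4be04760002)], [(nat_lit 0x2c4be04761002), (nat_lit 0x4777001), (nat_lit 0x315f001)], [(nat_lit 0x471e001), (nat_lit 0x3143001), (nat_lit 0x474c001)], [(nat_lit 0x3153001), (nat_lit 0x4758001), (nat_lit 0x3154001)], [(nat_lit 0x202ce0477e002), (nat_lit 0x3168001), (nat_lit 0x2021704799002)], [(nat_lit 0x3147001), (nat_lit 0x202c404751002), (nat_lit 0x476a001)], [(nat_lit 0x476b001), (nat_lit 0x477b001), (nat_lit 0x3163001)], [(nat_lit 0x4785001), (nat_lit 0x316d001), (nat_lit 0x2a5b40479d002)], [(nat_lit 0x317d001), (nat_lit 0x2ae92031b8002), (nat_lit 0x317e001)], [(nat_lit 0x3121001), (nat_lit 0x3120001), (nat_lit 0x2d9ad04720002)], [(nat_lit 0x3129001), (nat_lit 0x4739001), (nat_lit 0x312a001)], [(nat_lit 0x4743001), (nat_lit 0x3137001), (nat_lit 0x475c001)], [(nat_lit 0x2090c04763002), (nat_lit 0x2274104778002), (nat_lit 0x3160001)], [(nat_lit 0x3151001), (nat_lit 0x4757001), (nat_lit 0x3152001)], [(nat_lit 0x31bd001), (nat_lit 0x3167001), (nat_lit 0x319b001)], [(nat_lit 0x2d9ad04721002), (nat_lit 0x27fe304750002), (nat_lit 0x3146001)], [(nat_lit 0x475a001), (nat_lit 0x3156001), (nat_lit 0x4770001)], [(nat_lit 0x315c001), (nat_lit 0x4774001), (nat_lit 0x25df104784002)], [(nat_lit 0x25df104783002), (nat_lit 0x27b1e0479c002), (nat_lit 0x316c001)], [(nat_lit 0x4752001), (nat_lit 0x3148001), (nat_lit 0x476c001)], [(nat_lit 0x3171001), (nat_lit 0x4788001), (nat_lit 0x479e001)], [(nat_lit 0x479f001), (nat_lit 0x47b1001), (nat_lit 0x318a001)], [(nat_lit 0x2cbe604795002), (nat_lit 0x3181001), (nat_lit 0x1cf1f047aa002)], [(nat_lit 0x27b6c047d6002), (nat_lit 0x47ee001), (nat_lit 0x31b6001)], [(nat_lit 0x4722001), (nat_lit 0x3122001), (nat_lit 0x4735001)], [(nat_lit 0x312b001), (nat_lit 0x2e95e0473a002), (nat_lit 0x312c001)], [(nat_lit 0x4744001), (nat_lit 0x3138001), (nat_lit 0x475d001)], [(nat_lit 0x3145001), (nat_lit 0x28ba20474e002), (nat_lit 0x2be1b04768002)], [(nat_lit 0x2be1b04769002), (nat_lit 0x24c960477a002), (nat_lit 0x3162001)], [(nat_lit 0x4759001), (nat_lit 0x3155001), (nat_lit 0x476f001)], [(nat_lit 0x2830c047bf002), (nat_lit 0x3199001), (nat_lit 0x2671d047df002)], [(nat_lit 0x31a7001), (nat_lit 0x26d85047cc002), (nat_lit 0x31a8001)], [(nat_lit 0x3170001), (nat_lit 0x4787001), (nat_lit 0x316f001)], [(nat_lit 0x4793001), (nat_lit 0x317c001), (nat_lit 0x47a9001)], [(nat_lit 0x3189001), (nat_lit 0x47b0001), (nat_lit 0x47ba001)], [(nat_lit 0x47b9001), (nat_lit 0x29cda047d4002), (nat_lit 0x3193001)], [(nat_lit 0x4789001), (nat_lit 0x3172001), (nat_lit 0x47a0001)], [(nat_lit 0x3182001), (nat_lit 0x4796001), (nat_lit 0x3183001)], [(nat_lit 0x47af001), (nat_lit 0x3188001), (nat_lit 0x20af1047d0002)], [(nat_lit 0x319a001), (nat_lit 0x47c0001), (nat_lit 0x319b001)], [(nat_lit 0x31bd001), (nat_lit 0x47f2001), (nat_lit 0x31bc001)], [(nat_lit 0x317b001), (nat_lit 0x2b77804792002), (nat_lit 0x2cca4047a7002)], [(nat_lit 0x2cca4047a8002), (nat_lit 0x2b237047b5002), (nat_lit 0x318e001)], [(nat_lit 0x2a2d7047c1002), (nat_lit 0x319c001), (nat_lit 0x26742047e0002)], [(nat_lit 0x2d15c047f6002), (nat_lit 0x31c2001), (nat_lit 0x2b1970480d002)], [(nat_lit 0x3174001), (nat_lit 0x3283001), (nat_lit 0x478b001)], [(nat_lit 0x478c001), (nat_lit 0x47b2001), (nat_lit 0x318b001)], [(nat_lit 0x29f4604797002), (nat_lit 0x3184001), (nat_lit 0x251bb047ac002)], [(nat_lit 0x3195001), (nat_lit 0x2b3bf047bc002), (nat_lit 0x2a969047d7002)], [(nat_lit 0x3175001), (nat_lit 0x478d001), (nat_lit 0x2c134047a2002)], [(nat_lit 0x2c134047a3002), (nat_lit 0x47b3001), (nat_lit 0x318c001)], [(nat_lit 0x1758f047da002), (nat_lit 0x47ef001), (nat_lit 0x31b9001)], [(nat_lit 0x3198001), (nat_lit 0x47be001), (nat_lit 0x47dd001)], [(nat_lit 0x47de001), (nat_lit 0x26f44047f1002), (nat_lit 0x31bb001)], [(nat_lit 0x279aa047c3002), (nat_lit 0x319e001), (nat_lit 0x279ab047e2002)], [(nat_lit 0x31ad001), (nat_lit 0x47ce001), (nat_lit 0x31ae001)], [(nat_lit 0x25bb1047f9002), (nat_lit 0x31c4001), (nat_lit 0x4810001)], [(nat_lit 0x31ca001), (nat_lit 0x208d8047ff002), (nat_lit 0x31c9001)], [(nat_lit 0x2ade104809002), (nat_lit 0x31d5001), (nat_lit 0x2ac160481b002)], [(nat_lit 0x1f73304807002), (nat_lit 0x31d3001), (nat_lit 0x1f73204819002)], [(nat_lit 0x16b7f04833002), (nat_lit 0x484b001), (nat_lit 0x31fb001)], [(nat_lit 0x478e001), (nat_lit 0x3176001), (nat_lit 0x47a4001)], [(nat_lit 0x3197001), (nat_lit 0x47bd001), (nat_lit 0x47db001)], [(nat_lit 0x47dc001), (nat_lit 0x47f0001), (nat_lit 0x31ba001)], [(nat_lit 0x47c2001), (nat_lit 0x319d001), (nat_lit 0x47e1001)], [(nat_lit 0x31ab001), (nat_lit 0x47cd001), (nat_lit 0x31ac001)], [(nat_lit 0x47f7001), (nat_lit 0x31c3001), (nat_lit 0x480e001)], [(nat_lit 0x319f001), (nat_lit 0x33f0001), (nat_lit 0x47c4001)], [(nat_lit 0x47c5001), (nat_lit 0x2d488047f3002), (nat_lit 0x31be001)], [(nat_lit 0x31a1001), (nat_lit 0x47c7001), (nat_lit 0x47e3001)], [(nat_lit 0x47e4001), (nat_lit 0x47f4001), (nat_lit 0x31bf001)], [(nat_lit 0x4800001), (nat_lit 0x31cb001), (nat_lit 0x4813001)], [(nat_lit 0x31d6001), (nat_lit 0x480a001), (nat_lit 0x31d7001)], [(nat_lit 0x2e7f504821002), (nat_lit 0x31e2001), (nat_lit 0x483c001)], [(nat_lit 0x31cc001), (nat_lit 0x4801001), (nat_lit 0x2ad0a04814002)], [(nat_lit 0x2701504808002), (nat_lit 0x31d4001), (nat_lit 0x2b77f0481a002)], [(nat_lit 0x31a4001), (nat_lit 0x31a3001), (nat_lit 0x21bff047c8002)], [(nat_lit 0x31b0001), (nat_lit 0x47cf001), (nat_lit 0x31b1001)], [(nat_lit 0x47fb001), (nat_lit 0x31c5001), (nat_lit 0x4812001)], [(nat_lit 0x288e90481c002), (nat_lit 0x31da001), (nat_lit 0x293830483b002)], [(nat_lit 0x2834504837002), (nat_lit 0x484d001), (nat_lit 0x31fd001)], [(nat_lit 0x4805001), (nat_lit 0x31d1001), (nat_lit 0x4816001)], [(nat_lit 0x31e0001), (nat_lit 0x2c2ea04820002), (nat_lit 0x31df001)], [(nat_lit 0x31eb001), (nat_lit 0x482a001), (nat_lit 0x2a39604841002)], [(nat_lit 0x27b450482f002), (nat_lit 0x31f5001), (nat_lit 0x1f7a004846002)], [(nat_lit 0x31a5001), (nat_lit 0x47ca001), (nat_lit 0x47e6001)], [(nat_lit 0x47e7001), (nat_lit 0x2ce41047f5002), (nat_lit 0x31c0001)], [(nat_lit 0x47cb001), (nat_lit 0x31cd001), (nat_lit 0x4802001)], [(nat_lit 0x4823001), (nat_lit 0x31e4001), (nat_lit 0x483e001)], [(nat_lit 0x31d2001), (nat_lit 0x4806001), (nat_lit 0x4817001)], [(nat_lit 0x4818001), (nat_lit 0x3242001), (nat_lit 0x31e1001)], [(nat_lit 0x4828001), (nat_lit 0x31e9001), (nat_lit 0x483f001)], [(nat_lit 0x31f1001), (nat_lit 0x2529303315002), (nat_lit 0x31f2001)], [(nat_lit 0x4851001), (nat_lit 0x3201001), (nat_lit 0x4863001)], [(nat_lit 0x1684004882002), (nat_lit 0x3225001), (nat_lit 0x2eb8b04899002)], [(nat_lit 0x3235001), (nat_lit 0x4891001), (nat_lit 0x3236001)], [(nat_lit 0x48ac001), (nat_lit 0x3247001), (nat_lit 0x48da001)], [(nat_lit 0x320c001), (nat_lit 0x22d5f0485a002), (nat_lit 0x486b001)], [(nat_lit 0x486c001), (nat_lit 0x487a001), (nat_lit 0x321b001)], [(nat_lit 0x485e001), (nat_lit 0x3211001), (nat_lit 0x486f001)], [(nat_lit 0x3223001), (nat_lit 0x4880001), (nat_lit 0x4896001)], [(nat_lit 0x4897001), (nat_lit 0x3242001), (nat_lit 0x3241001)], [(nat_lit 0x4885001), (nat_lit 0x3228001), (nat_lit 0x2d2440489c002)], [(nat_lit 0x3239001), (nat_lit 0x1e03204893002), (nat_lit 0x323a001)], [(nat_lit 0x48ae001), (nat_lit 0x3249001), (nat_lit 0x48dc001)], [(nat_lit 0x3214001), (nat_lit 0x4861001), (nat_lit 0x4871001)], [(nat_lit 0x4872001), (nat_lit 0x487e001), (nat_lit 0x3221001)], [(nat_lit 0x25a8504857002), (nat_lit 0x4859001), (nat_lit 0x320b001)], [(nat_lit 0x295550488f002), (nat_lit 0x3231001), (nat_lit 0x28b5f048a4002)], [(nat_lit 0x2e4ec0485c002), (nat_lit 0x320d001), (nat_lit 0x486d001)], [(nat_lit 0x3215001), (nat_lit 0x4862001), (nat_lit 0x27f6a04873002)], [(nat_lit 0x3229001), (nat_lit 0x4886001), (nat_lit 0x489d001)], [(nat_lit 0x489e001), (nat_lit 0x48a9001), (nat_lit 0x3244001)], [(nat_lit 0x2ea970488e002), (nat_lit 0x3230001), (nat_lit 0x2ea96048a3002)], [(nat_lit 0x324f001), (nat_lit 0x26ded048b2002), (nat_lit 0x48d0001)], [(nat_lit 0x48cf001), (nat_lit 0x48f5001), (nat_lit 0x3270001)], [(nat_lit 0x4887001), (nat_lit 0x322b001), (nat_lit 0x4889001)], [(nat_lit 0x323b001), (nat_lit 0x2b88f04894002), (nat_lit 0x323c001)], [(nat_lit 0x2cc8c048af002), (nat_lit 0x324a001), (nat_lit 0x48dd001)], [(nat_lit 0x3250001), (nat_lit 0x48b3001), (nat_lit 0x2b6c2048d2002)], [(nat_lit 0x2b6c2048d1002), (nat_lit 0x2ac64048f6002), (nat_lit 0x3271001)], [(nat_lit 0x48b6001), (nat_lit 0x3253001), (nat_lit 0x48e1001)], [(nat_lit 0x48c0001), (nat_lit 0x325e001), (nat_lit 0x48e7001)], [(nat_lit 0x322a001), (nat_lit 0x2e51d04888002), (nat_lit 0x2df420489f002)], [(nat_lit 0x2df42048a0002), (nat_lit 0x48aa001), (nat_lit 0x3245001)], [(nat_lit 0x2bfb10488c002), (nat_lit 0x322e001), (nat_lit 0x2c99e048a1002)], [(nat_lit 0x323f001), (nat_lit 0x2c99f048a7002), (nat_lit 0x3240001)], [(nat_lit 0x48b0001), (nat_lit 0x324d001), (nat_lit 0x48e0001)], [(nat_lit 0x3256001), (nat_lit 0x2b53f048b9002), (nat_lit 0x2b540048d8002)], [(nat_lit 0x2e375048c3002), (nat_lit 0x3263001), (nat_lit 0x29854048e8002)], [(nat_lit 0x3251001), (nat_lit 0x48b4001), (nat_lit 0x48d4001)], [(nat_lit 0x48d3001), (nat_lit 0x48f7001), (nat_lit 0x3272001)], [(nat_lit 0x48b7001), (nat_lit 0x3254001), (nat_lit 0x2d553048e2002)], [(nat_lit 0x325f001), (nat_lit 0x2cecc048c1002), (nat_lit 0x3260001)], [(nat_lit 0x2e1370488b002), (nat_lit 0x48bb001), (nat_lit 0x3258001)], [(nat_lit 0x2c919048c5002), (nat_lit 0x3265001), (nat_lit 0x48ea001)], [(nat_lit 0x2b49a048f3002), (nat_lit 0x4900001), (nat_lit 0x327d001)], [(nat_lit 0x3282001), (nat_lit 0x3283001), (nat_lit 0x4905001)], [(nat_lit 0x4906001), (nat_lit 0x492c001), (nat_lit 0x329f001)], [(nat_lit 0x490f001), (nat_lit 0x3291001), (nat_lit 0x22c1d04924002)], [(nat_lit 0x2b519048b8002), (nat_lit 0x3255001), (nat_lit 0x2b518048e3002)], [(nat_lit 0x26333048f1002), (nat_lit 0x2d7aa048ff002), (nat_lit 0x327c001)], [(nat_lit 0x490e001), (nat_lit 0x3290001), (nat_lit 0x4923001)], [(nat_lit 0x329b001), (nat_lit 0x4929001), (nat_lit 0x4937001)], [(nat_lit 0x4936001), (nat_lit 0x4961001), (nat_lit 0x32a9001)], [(nat_lit 0x48c7001), (nat_lit 0x3268001), (nat_lit 0x48eb001)], [(nat_lit 0x327f001), (nat_lit 0x4902001), (nat_lit 0x258f80491a002)], [(nat_lit 0x258f80491b002), (nat_lit 0x492b001), (nat_lit 0x329e001)], [(nat_lit 0x28d3004933002), (nat_lit 0x32a5001), (nat_lit 0x495d001)], [(nat_lit 0x2c78704928002), (nat_lit 0x32ee001), (nat_lit 0x32a8001)], [(nat_lit 0x493c001), (nat_lit 0x32ad001), (nat_lit 0x4963001)], [(nat_lit 0x32b9001), (nat_lit 0x2b51b04947002), (nat_lit 0x32ba001)], [(nat_lit 0x3259001), (nat_lit 0x48bc001), (nat_lit 0x48e4001)], [(nat_lit 0x48e5001), (nat_lit 0x48f9001), (nat_lit 0x3275001)], [(nat_lit 0x4903001), (nat_lit 0x3280001), (nat_lit 0x491c001)], [(nat_lit 0x4930001), (nat_lit 0x32a3001), (nat_lit 0x2b74c0495a002)], [(nat_lit 0x3284001), (nat_lit 0x4907001), (nat_lit 0x491e001)], [(nat_lit 0x491f001), (nat_lit 0x2e5190492d002), (nat_lit 0x32a0001)], [(nat_lit 0x4910001), (nat_lit 0x3292001), (nat_lit 0x2e2b904926002)], [(nat_lit 0x32ab001), (nat_lit 0x493a001), (nat_lit 0x4953001)], [(nat_lit 0x4952001), (nat_lit 0x496e001), (nat_lit 0x32cb001)], [(nat_lit 0x325b001), (nat_lit 0x325a001), (nat_lit 0x48bd001)], [(nat_lit 0x48fb001), (nat_lit 0x3278001), (nat_lit 0x291ea04916002)], [(nat_lit 0x2d31c04904002), (nat_lit 0x3281001), (nat_lit 0x2dc5e0491d002)], [(nat_lit 0x328e001), (nat_lit 0x2b4360490d002), (nat_lit 0x328f001)], [(nat_lit 0x4931001), (nat_lit 0x32a4001), (nat_lit 0x495b001)], [(nat_lit 0x48be001), (nat_lit 0x4908001), (nat_lit 0x3285001)], [(nat_lit 0x32ac001), (nat_lit 0x493b001), (nat_lit 0x4955001)], [(nat_lit 0x4954001), (nat_lit 0x496f001), (nat_lit 0x32cc001)], [(nat_lit 0x3289001), (nat_lit 0x3288001), (nat_lit 0x2d13d0490a002)], [(nat_lit 0x3298001), (nat_lit 0x4913001), (nat_lit 0x3299001)], [(nat_lit 0x4935001), (nat_lit 0x32a7001), (nat_lit 0x495f001)], [(nat_lit 0x4909001), (nat_lit 0x3286001), (nat_lit 0x4920001)], [(nat_lit 0x3296001), (nat_lit 0x4912001), (nat_lit 0x3297001)], [(nat_lit 0x4934001), (nat_lit 0x32a6001), (nat_lit 0x495e001)], [(nat_lit 0x32af001), (nat_lit 0x493d001), (nat_lit 0x2ba5f04957002)], [(nat_lit 0x2ba5f04956002), (nat_lit 0x4970001), (nat_lit 0x32cd001)], [(nat_lit 0x4949001), (nat_lit 0x32bd001), (nat_lit 0x4968001)], [(nat_lit 0x32ca001), (nat_lit 0x2a91504951002), (nat_lit 0x3706001)], [(nat_lit 0x493e001), (nat_lit 0x32b1001), (nat_lit 0x4940001)], [(nat_lit 0x49a1001), (nat_lit 0x32f0001), (nat_lit 0x49ae001)], [(nat_lit 0x4944001), (nat_lit 0x32b5001), (nat_lit 0x4964001)], [(nat_lit 0x497f001), (nat_lit 0x32dc001), (nat_lit 0x2ddd504997002)], [(nat_lit 0x32e3001), (nat_lit 0x4984001), (nat_lit 0x32e4001)], [(nat_lit 0x49a2001), (nat_lit 0x32f2001), (nat_lit 0x49af001)], [(nat_lit 0x32c7001), (nat_lit 0x2b6180494f002), (nat_lit 0x32c8001)], [(nat_lit 0x27e6d04977002), (nat_lit 0x32d4001), (nat_lit 0x4995001)], [(nat_lit 0x32d9001), (nat_lit 0x1e3380497c002), (nat_lit 0x4990001)], [(nat_lit 0x498f001), (nat_lit 0x32ee001), (nat_lit 0x32ed001)], [(nat_lit 0x32e7001), (nat_lit 0x4987001), (nat_lit 0x32e8001)], [(nat_lit 0x16561049a3002), (nat_lit 0x32f3001), (nat_lit 0x16556049b0002)], [(nat_lit 0x32bb001), (nat_lit 0x4948001), (nat_lit 0x32bc001)], [(nat_lit 0x4974001), (nat_lit 0x32d1001), (nat_lit 0x26b0504992002)], [(nat_lit 0x32b3001), (nat_lit 0x32b2001), (nat_lit 0x4941001)], [(nat_lit 0x32c1001), (nat_lit 0x2dce80494c002), (nat_lit 0x32c2001)], [(nat_lit 0x32c9001), (nat_lit 0x4950001), (nat_lit 0x496c001)], [(nat_lit 0x496d001), (nat_lit 0x4978001), (nat_lit 0x32d5001)], [(nat_lit 0x4942001), (nat_lit 0x4943001), (nat_lit 0x32b4001)], [(nat_lit 0x32d7001), (nat_lit 0x1e46d0497a002), (nat_lit 0x275200498c002)], [(nat_lit 0x275200498b002), (nat_lit 0x230800499e002), (nat_lit 0x32eb001)], [(nat_lit 0x4945001), (nat_lit 0x32b6001), (nat_lit 0x4965001)], [(nat_lit 0x32dd001), (nat_lit 0x4980001), (nat_lit 0x4998001)], [(nat_lit 0x4999001), (nat_lit 0x25950049a0002), (nat_lit 0x32ef001)], [(nat_lit 0x3311001), (nat_lit 0x2c385049bf002), (nat_lit 0x3312001)], [(nat_lit 0x330c001), (nat_lit 0x49bc001), (nat_lit 0x49c7001)], [(nat_lit 0x49c8001), (nat_lit 0x49c9001), (nat_lit 0x3316001)], [(nat_lit 0x49ce001), (nat_lit 0x331d001), (nat_lit 0x27ab9049f2002)], [(nat_lit 0x332b001), (nat_lit 0x49da001), (nat_lit 0x332c001)], [(nat_lit 0x49e9001), (nat_lit 0x333a001), (nat_lit 0x49fe001)], [(nat_lit 0x3323001), (nat_lit 0x49d3001), (nat_lit 0x3322001)], [(nat_lit 0x25e28049ec002), (nat_lit 0x4a02001), (nat_lit 0x333e001)], [(nat_lit 0x4a05001), (nat_lit 0x3342001), (nat_lit 0x27abe04a22002)], [(nat_lit 0x4a3a001), (nat_lit 0x3366001), (nat_lit 0x4a5e001)], [(nat_lit 0x3344001), (nat_lit 0x4a06001), (nat_lit 0x4a20001)], [(nat_lit 0x4a1f001), (nat_lit 0x4a36001), (nat_lit 0x3360001)]]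

theorem rows3_ok : okRows data table 191944 6000 rows3 = true := by decide +kernel

theorem rows3_len : rows3.length = 2000 := by decide +kernel

end CfsgLib.CosetEnum.ONJA
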