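/-
Certificate data of a coset enumeration.
-/
import Cfsg.Agent.Lib.CosetEnum.ONJA.Data

set_option autoImplicit false
set_option maxRecDepth 1000000

namespace CfsgLib.CosetEnum.ONJA

open CfsgLib.CosetEnum

/-- Completion of the rows from 8000. -/
noncomputable def rows4 : List (List ℕ) := [[(nat_lit 0x27568049dd002), (nat_lit 0x3331001), (nat_lit 0x49f8001)], [(nat_lit 0x2756704a2f002), (nat_lit 0x2a90d04a3e002), (nat_lit 0x336b001)], [(nat_lit 0x49d5001), (nat_lit 0x3325001), (nat_lit 0x265c5049f4002)], [(nat_lit 0x2672204a1d002), (nat_lit 0x2bd3104a35002), (nat_lit 0x335f001)], [(nat_lit 0x4a11001), (nat_lit 0x334d001), (nat_lit 0x4a2a001)], [(nat_lit 0x335b001), (nat_lit 0x4a1a001), (nat_lit 0x4a30001)], [(nat_lit 0x4a31001), (nat_lit 0x4a3f001), (nat_lit 0x336c001)], [(nat_lit 0x285fe04a08002), (nat_lit 0x3346001), (nat_lit 0x2860004a09002)], [(nat_lit 0x3355001), (nat_lit 0x28a2504a16002), (nat_lit 0x3356001)], [(nat_lit 0x28a2204a3c002), (nat_lit 0x3368001), (nat_lit 0x4a60001)], [(nat_lit 0x3349001), (nat_lit 0x2c66904a0d002), (nat_lit 0x4a26001)], [(nat_lit 0x4a27001), (nat_lit 0x3363001), (nat_lit 0x3362001)], [(nat_lit 0x4a1b001), (nat_lit 0x335d001), (nat_lit 0x4a34001)], [(nat_lit 0x336f001), (nat_lit 0x4a42001), (nat_lit 0x336e001)], [(nat_lit 0x4a50001), (nat_lit 0x337c001), (nat_lit 0x4a67001)], [(nat_lit 0x2cef6049e3002), (nat_lit 0x49fc001), (nat_lit 0x3337001)], [(nat_lit 0x332d001), (nat_lit 0x49db001), (nat_lit 0x332e001)], [(nat_lit 0x3321001), (nat_lit 0x3320001), (nat_lit 0x49d1001)], [(nat_lit 0x332f001), (nat_lit 0x49dc001), (nat_lit 0x3330001)], [(nat_lit 0x49eb001), (nat_lit 0x333c001), (nat_lit 0x4a00001)], [(nat_lit 0x3328001), (nat_lit 0x49d7001), (nat_lit 0x28cff049e8002)], [(nat_lit 0x4a04001), (nat_lit 0x3341001), (nat_lit 0x4a21001)], [(nat_lit 0x334f001), (nat_lit 0x26f8504a13002), (nat_lit 0x3350001)], [(nat_lit 0x4a39001), (nat_lit 0x3365001), (nat_lit 0x4a5c001)], [(nat_lit 0x49d2001), (nat_lit 0x2d481049d4002), (nat_lit 0x3324001)], [(nat_lit 0x49d9001), (nat_lit 0x332a001), (nat_lit 0x49f7001)], [(nat_lit 0x3335001), (nat_lit 0x2ad39049e0002), (nat_lit 0x49f9001)], [(nat_lit 0x49fa001), (nat_lit 0x4a03001), (nat_lit 0x333f001)], [(nat_lit 0x3353001), (nat_lit 0x271bd04a15002), (nat_lit 0x3354001)], [(nat_lit 0x2e0de04a3b002), (nat_lit 0x3367001), (nat_lit 0x2b89804a5f002)], [(nat_lit 0x3348001), (nat_lit 0x4a0b001), (nat_lit 0x4a24001)], [(nat_lit 0x4a25001), (nat_lit 0x4a37001), (nat_lit 0x3361001)], [(nat_lit 0x2d69604a12002), (nat_lit 0x334e001), (nat_lit 0x2d69704a2b002)], [(nat_lit 0x2787404a33002), (nat_lit 0x4a41001), (nat_lit 0x336d001)], [(nat_lit 0x4a0c001), (nat_lit 0x3370001), (nat_lit 0x4a43001)], [(nat_lit 0x3377001), (nat_lit 0x2beb004a4b002), (nat_lit 0x4a59001)], [(nat_lit 0x4a58001), (nat_lit 0x4a6a001), (nat_lit 0x3387001)], [(nat_lit 0x3378001), (nat_lit 0x2e39804a4c002), (nat_lit 0x4a5b001)], [(nat_lit 0x4a5a001), (nat_lit 0x4a6b001), (nat_lit 0x3388001)], [(nat_lit 0x4a47001), (nat_lit 0x3374001), (nat_lit 0x2e1ad04a63002)], [(nat_lit 0x3381001), (nat_lit 0x4a52001), (nat_lit 0x3382001)], [(nat_lit 0x3394001), (nat_lit 0x2ae3804a72002), (nat_lit 0x4a8e001)], [(nat_lit 0x4a8d001), (nat_lit 0x4aab001), (nat_lit 0x33b5001)], [(nat_lit 0x4a4d001), (nat_lit 0x3379001), (nat_lit 0x2cce004a64002)], [(nat_lit 0x3383001), (nat_lit 0x2093a04a53002), (nat_lit 0x3384001)], [(nat_lit 0x276e804a80002), (nat_lit 0x33a1001), (nat_lit 0x4a9d001)], [(nat_lit 0x33b0001), (nat_lit 0x4a89001), (nat_lit 0x2855404aa1002)], [(nat_lit 0x33a6001), (nat_lit 0x4a85001), (nat_lit 0x33a7001)], [(nat_lit 0x1b8cc04ab2002), (nat_lit 0x33bc001), (nat_lit 0x1b8df04ad6002)], [(nat_lit 0x3376001), (nat_lit 0x4a49001), (nat_lit 0x4a57001)], [(nat_lit 0x4a56001), (nat_lit 0x2e1e404a69002), (nat_lit 0x3386001)], [(nat_lit 0x2e1e504a4e002), (nat_lit 0x337a001), (nat_lit 0x2e1e604a65002)], [(nat_lit 0x4a4a001), (nat_lit 0x3397001), (nat_lit 0x2e6f804a76002)], [(nat_lit 0x33a8001), (nat_lit 0x2e90404a86002), (nat_lit 0x33a9001)], [(nat_lit 0x2eb9e04ab3002), (nat_lit 0x33bd001), (nat_lit 0x4ad7001)], [(nat_lit 0x339e001), (nat_lit 0x4a7d001), (nat_lit 0x4a94001)], [(nat_lit 0x4a93001), (nat_lit 0x4aaf001), (nat_lit 0x33b9001)], [(nat_lit 0x4ab9001), (nat_lit 0x33c6001), (nat_lit 0x4adb001)], [(nat_lit 0x3399001), (nat_lit 0x3398001), (nat_lit 0x4a77001)], [(nat_lit 0x33aa001), (nat_lit 0x220d704a87002), (nat_lit 0x33ab001)], [(nat_lit 0x4ab4001), (nat_lit 0x33be001), (nat_lit 0x4ad8001)], [(nat_lit 0x339f001), (nat_lit 0x291fe04a7e002), (nat_lit 0x26c5604a9a002)], [(nat_lit 0x4a78001), (nat_lit 0x4abc001), (nat_lit 0x33ca001)], [(nat_lit 0x4ac0001), (nat_lit 0x33ce001), (nat_lit 0x4ae1001)], [(nat_lit 0x33dc001), (nat_lit 0x2d72d04acc002), (nat_lit 0x33dd001)], [(nat_lit 0x33d5001), (nat_lit 0x2ea9a04ac7002), (nat_lit 0x1e9ac04ad5002)], [(nat_lit 0x2ac9504aec002), (nat_lit 0x33ed001), (nat_lit 0x4b13001)], [(nat_lit 0x33fa001), (nat_lit 0x4af9001), (nat_lit 0x4b18001)], [(nat_lit 0x4b19001), (nat_lit 0x4b2b001), (nat_lit 0x3416001)], [(nat_lit 0x4a46001), (nat_lit 0x3373001), (nat_lit 0x4a62001)], [(nat_lit 0x337f001), (nat_lit 0x4a51001), (nat_lit 0x3380001)], [(nat_lit 0x4a6d001), (nat_lit 0x338c001), (nat_lit 0x2eb3d04a95002)], [(nat_lit 0x4a82001), (nat_lit 0x33a3001), (nat_lit 0x4a9f001)], [(nat_lit 0x2e65e04a75002), (nat_lit 0x339a001), (nat_lit 0x4a79001)], [(nat_lit 0x33ac001), (nat_lit 0x4a88001), (nat_lit 0x33ad001)], [(nat_lit 0x4aca001), (nat_lit 0x33d9001), (nat_lit 0x4ae7001)], [(nat_lit 0x4abd001), (nat_lit 0x33cb001), (nat_lit 0x4adf001)], [(nat_lit 0x33d1001), (nat_lit 0x4ac3001), (nat_lit 0x4ad0001)], [(nat_lit 0x4acf001), (nat_lit 0x26f4e04ae8002), (nat_lit 0x33e2001)], [(nat_lit 0x2e64b04ac1002), (nat_lit 0x33cf001), (nat_lit 0x2ea1404ae2002)], [(nat_lit 0x33de001), (nat_lit 0x4acd001), (nat_lit 0x33df001)], [(nat_lit 0x33ee001), (nat_lit 0x4aed001), (nat_lit 0x2cf8f04b0b002)], [(nat_lit 0x339b001), (nat_lit 0x2ec1d04a7a002), (nat_lit 0x2ec1e04a92002)], [(nat_lit 0x2ec1e04a91002), (nat_lit 0x4aae001), (nat_lit 0x33b8001)], [(nat_lit 0x1ecfc04a84002), (nat_lit 0x33a5001), (nat_lit 0x2ec2004aa0002)], [(nat_lit 0x33b4001), (nat_lit 0x4a8c001), (nat_lit 0x4aa9001)], [(nat_lit 0x4aaa001), (nat_lit 0x4ab8001), (nat_lit 0x33c5001)], [(nat_lit 0x4abb001), (nat_lit 0x33c9001), (nat_lit 0x4ade001)], [(nat_lit 0x33da001), (nat_lit 0x4acb001), (nat_lit 0x33db001)], [(nat_lit 0x480f001), (nat_lit 0x33e8001), (nat_lit 0x47f8001)], [(nat_lit 0x281c504aea002), (nat_lit 0x33ea001), (nat_lit 0x281c404b12002)], [(nat_lit 0x3406001), (nat_lit 0x4b00001), (nat_lit 0x4b1d001)], [(nat_lit 0x4b1e001), (nat_lit 0x4b2d001), (nat_lit 0x341c001)], [(nat_lit 0x4abf001), (nat_lit 0x33cd001), (nat_lit 0x4ae0001)], [(nat_lit 0x33d3001), (nat_lit 0x4ac5001), (nat_lit 0x28c2c04ad2002)], [(nat_lit 0x4ac6001), (nat_lit 0x33d4001), (nat_lit 0x4ae5001)], [(nat_lit 0x33e5001), (nat_lit 0x4ad3001), (nat_lit 0x33e4001)], [(nat_lit 0x4811001), (nat_lit 0x33ec001), (nat_lit 0x25bb1047fa002)], [(nat_lit 0x33ef001), (nat_lit 0x33f0001), (nat_lit 0x4aee001)], [(nat_lit 0x4aef001), (nat_lit 0x4b0c001), (nat_lit 0x3411001)], [(nat_lit 0x4afb001), (nat_lit 0x33fc001), (nat_lit 0x4b1b001)], [(nat_lit 0x2c60d04b20002), (nat_lit 0x4b2e001), (nat_lit 0x341d001)], [(nat_lit 0x33f1001), (nat_lit 0x2b85d04af0002), (nat_lit 0x2b85e04b0e002)], [(nat_lit 0x2b85e04b0d002), (nat_lit 0x4b28001), (nat_lit 0x3412001)], [(nat_lit 0x33f8001), (nat_lit 0x4af7001), (nat_lit 0x2845a04b10002)], [(nat_lit 0x3409001), (nat_lit 0x2d53904b03002), (nat_lit 0x2845d04b23002)], [(nat_lit 0x4b3c001), (nat_lit 0x342a001), (nat_lit 0x4b59001)], [(nat_lit 0x3436001), (nat_lit 0x2884e04b44002), (nat_lit 0x2146304b5f002)], [(nat_lit 0x2146304b60002), (nat_lit 0x4b6c001), (nat_lit 0x3441001)], [(nat_lit 0x4b34001), (nat_lit 0x3423001), (nat_lit 0x2539e04b56002)], [(nat_lit 0x3430001), (nat_lit 0x2e81b04b40002), (nat_lit 0x3431001)], [(nat_lit 0x3428001), (nat_lit 0x4b3a001), (nat_lit 0x4b4e001)], [(nat_lit 0x4b4d001), (nat_lit 0x4b68001), (nat_lit 0x343d001)], [(nat_lit 0x11f0f04b42002), (nat_lit 0x3434001), (nat_lit 0x4b5c001)], [(nat_lit 0x2074b04b86002), (nat_lit 0x3729001), (nat_lit 0x3464001)], [(nat_lit 0x33f9001), (nat_lit 0x4af8001), (nat_lit 0x2c95c04b16002)], [(nat_lit 0x2c95c04b17002), (nat_lit 0x4b2a001), (nat_lit 0x3415001)], [(nat_lit 0x4b04001), (nat_lit 0x340a001), (nat_lit 0x2acb304b25002)], [(nat_lit 0x3421001), (nat_lit 0x4b31001), (nat_lit 0x3420001)], [(nat_lit 0x340d001), (nat_lit 0x4b06001), (nat_lit 0x340c001)], [(nat_lit 0x4b3d001), (nat_lit 0x342b001), (nat_lit 0x4b5a001)], [(nat_lit 0x2d35c04b35002), (nat_lit 0x3424001), (nat_lit 0x2e52604b57002)], [(nat_lit 0x3432001), (nat_lit 0x4b41001), (nat_lit 0x3433001)], [(nat_lit 0x4b6b001), (nat_lit 0x3440001), (nat_lit 0x4b8e001)], [(nat_lit 0x3429001), (nat_lit 0x2dba504b3b002), (nat_lit 0x4b50001)], [(nat_lit 0x4b4f001), (nat_lit 0x2e04904b69002), (nat_lit 0x343e001)], [(nat_lit 0x4b43001), (nat_lit 0x3435001), (nat_lit 0x4b5e001)], [(nat_lit 0x4b07001), (nat_lit 0x340e001), (nat_lit 0x4b26001)], [(nat_lit 0x3427001), (nat_lit 0x2ebbc04b39002), (nat_lit 0x2ebbd04b4c002)], [(nat_lit 0x2ebbd04b4b002), (nat_lit 0x4b67001), (nat_lit 0x343c001)], [(nat_lit 0x4b46001), (nat_lit 0x3439001), (nat_lit 0x2ea9904b65002)], [(nat_lit 0x2dbf904b7d002), (nat_lit 0x3454001), (nat_lit 0x2dbf804b92002)], [(nat_lit 0x3425001), (nat_lit 0x4b36001), (nat_lit 0x4b4a001)], [(nat_lit 0x4b49001), (nat_lit 0x2ea9404b66002), (nat_lit 0x343b001)], [(nat_lit 0x4b37001), (nat_lit 0x3448001), (nat_lit 0x2e8f804b71002)], [(nat_lit 0x3455001), (nat_lit 0x2ebda04b7e002), (nat_lit 0x3456001)], [(nat_lit 0x2e73904b9b002), (nat_lit 0x346a001), (nat_lit 0x2e9f404bbd002)], [(nat_lit 0x4b79001), (nat_lit 0x3450001), (nat_lit 0x4b8f001)], [(nat_lit 0x3438001), (nat_lit 0x24aab04b45002), (nat_lit 0x4b63001)], [(nat_lit 0x4b64001), (nat_lit 0x28c0604b6e002), (nat_lit 0x3443001)], [(nat_lit 0x2d65504bb1002), (nat_lit 0x4bcc001), (nat_lit 0x3488001)], [(nat_lit 0x4ba9001), (nat_lit 0x347f001), (nat_lit 0x4bc4001)], [(nat_lit 0x4b38001), (nat_lit 0x3426001), (nat_lit 0x4b58001)], [(nat_lit 0x342e001), (nat_lit 0x4b3f001), (nat_lit 0x4b52001)], [(nat_lit 0x4b51001), (nat_lit 0x4b6a001), (nat_lit 0x343f001)], [(nat_lit 0x3449001), (nat_lit 0x4b72001), (nat_lit 0x4b8b001)], [(nat_lit 0x4b8a001), (nat_lit 0x4b97001), (nat_lit 0x3466001)], [(nat_lit 0x345d001), (nat_lit 0x4b81001), (nat_lit 0x2498704b93002)], [(nat_lit 0x4b73001), (nat_lit 0x344b001), (nat_lit 0x2bcb504b75002)], [(nat_lit 0x3459001), (nat_lit 0x2d9d204b7f002), (nat_lit 0x345a001)], [(nat_lit 0x2498a04b8c002), (nat_lit 0x246b804b98002), (nat_lit 0x3467001)], [(nat_lit 0x4b7c001), (nat_lit 0x3453001), (nat_lit 0x4b91001)], [(nat_lit 0x4b84001), (nat_lit 0x3462001), (nat_lit 0x4b94001)], [(nat_lit 0x3447001), (nat_lit 0x4b70001), (nat_lit 0x2af3a04b89002)], [(nat_lit 0x2af3a04b88002), (nat_lit 0x2836904b96002), (nat_lit 0x3465001)], [(nat_lit 0x344d001), (nat_lit 0x344c001), (nat_lit 0x4b76001)], [(nat_lit 0x345b001), (nat_lit 0x4b80001), (nat_lit 0x345c001)], [(nat_lit 0x4b9d001), (nat_lit 0x346d001), (nat_lit 0x4bbf001)], [(nat_lit 0x2d81404b85002), (nat_lit 0x3463001), (nat_lit 0x2df6c04b95002)], [(nat_lit 0x4b77001), (nat_lit 0x4ba0001), (nat_lit 0x3471001)], [(nat_lit 0x2af6f04bba002), (nat_lit 0x2e3e304bd1002), (nat_lit 0x348e001)], [(nat_lit 0x3476001), (nat_lit 0x2bdc304ba3002), (nat_lit 0x4bb4001)], [(nat_lit 0x4bb3001), (nat_lit 0x4bcd001), (nat_lit 0x3489001)], [(nat_lit 0x4baa001), (nat_lit 0x3480001), (nat_lit 0x4bc5001)], [(nat_lit 0x3483001), (nat_lit 0x2318404bac002), (nat_lit 0x4bc8001)], [(nat_lit 0x4bc9001), (nat_lit 0x4bd4001), (nat_lit 0x3492001)], [(nat_lit 0x347b001), (nat_lit 0x2c73904ba7002), (nat_lit 0x347c001)], [(nat_lit 0x3474001), (nat_lit 0x4ba2001), (nat_lit 0x4bb0001)], [(nat_lit 0x4baf001), (nat_lit 0x4bcb001), (nat_lit 0x3487001)], [(nat_lit 0x4bab001), (nat_lit 0x3482001), (nat_lit 0x4bc7001)], [(nat_lit 0x3496001), (nat_lit 0x2e49704bd7002), (nat_lit 0x4beb001)], [(nat_lit 0x4bea001), (nat_lit 0x4bff001), (nat_lit 0x34ac001)], [(nat_lit 0x34a5001), (nat_lit 0x2369c04be4002), (nat_lit 0x4bfa001)], [(nat_lit 0x4bfb001), (nat_lit 0x4c03001), (nat_lit 0x34b1001)], [(nat_lit 0x3478001), (nat_lit 0x1a6d604ba5002), (nat_lit 0x4bb6001)], [(nat_lit 0x4bb5001), (nat_lit 0x4bce001), (nat_lit 0x348a001)], [(nat_lit 0x4bd8001), (nat_lit 0x3497001), (nat_lit 0x4bec001)], [(nat_lit 0x27b1904c02002), (nat_lit 0x34b0001), (nat_lit 0x27b1804c23002)], [(nat_lit 0x3499001), (nat_lit 0x4bda001), (nat_lit 0x4bef001)], [(nat_lit 0x4bf0001), (nat_lit 0x2e91d04c01002), (nat_lit 0x34ae001)], [(nat_lit 0x4be0001), (nat_lit 0x349e001), (nat_lit 0x4bf5001)], [(nat_lit 0x34a8001), (nat_lit 0x4be6001), (nat_lit 0x4bfc001)], [(nat_lit 0x4bfd001), (nat_lit 0x4c07001), (nat_lit 0x34b4001)], [(nat_lit 0x3498001), (nat_lit 0x4bd9001), (nat_lit 0x2b94204bed002)], [(nat_lit 0x2b94204bee002), (nat_lit 0x4c00001), (nat_lit 0x34ad001)], [(nat_lit 0x4bdf001), (nat_lit 0x349d001), (nat_lit 0x4bf4001)], [(nat_lit 0x34a6001), (nat_lit 0x4be5001), (nat_lit 0x34a7001)], [(nat_lit 0x4c10001), (nat_lit 0x34bf001), (nat_lit 0x4c28001)], [(nat_lit 0x34cc001), (nat_lit 0x4c17001), (nat_lit 0x4c2d001)], [(nat_lit 0x4c2e001), (nat_lit 0x4c39001), (nat_lit 0x34df001)], [(nat_lit 0x34c4001), (nat_lit 0x4c14001), (nat_lit 0x34c5001)], [(nat_lit 0x4c22001), (nat_lit 0x34db001), (nat_lit 0x4c34001)], [(nat_lit 0x4be3001), (nat_lit 0x34a2001), (nat_lit 0x2658b04bf9002)], [(nat_lit 0x349a001), (nat_lit 0x2b18d04bdb002), (nat_lit 0x16a9904bf1002)], [(nat_lit 0x4be1001), (nat_lit 0x349f001), (nat_lit 0x4bf6001)], [(nat_lit 0x34a9001), (nat_lit 0x4be7001), (nat_lit 0x3635001)], [(nat_lit 0x2b18d04bdc002), (nat_lit 0x34b8001), (nat_lit 0x2bc0604c0b002)], [(nat_lit 0x34bb001), (nat_lit 0x4c0e001), (nat_lit 0x4c1f001)], [(nat_lit 0x4c1e001), (nat_lit 0x4c33001), (nat_lit 0x34d8001)], [(nat_lit 0x4c12001), (nat_lit 0x34c1001), (nat_lit 0x4c2a001)], [(nat_lit 0x34ce001), (nat_lit 0x4c19001), (nat_lit 0x34cf001)], [(nat_lit 0x4c3a001), (nat_lit 0x34e1001), (nat_lit 0x2975e04c5a002)], [(nat_lit 0x4bdd001), (nat_lit 0x349b001), (nat_lit 0x2e9ed04bf2002)], [(nat_lit 0x34aa001), (nat_lit 0x2ec1704be8002), (nat_lit 0x2ec1904bfe002)], [(nat_lit 0x2ebee04c0d002), (nat_lit 0x34ba001), (nat_lit 0x2ebef04c27002)], [(nat_lit 0x34ca001), (nat_lit 0x4c16001), (nat_lit 0x34cb001)], [(nat_lit 0x4c38001), (nat_lit 0x34de001), (nat_lit 0x4c58001)], [(nat_lit 0x4c11001), (nat_lit 0x34c0001), (nat_lit 0x4c29001)], [(nat_lit 0x2c76504c09002), (nat_lit 0x34b9001), (nat_lit 0x4c0c001)], [(nat_lit 0x34c8001), (nat_lit 0x4c15001), (nat_lit 0x34c9001)], [(nat_lit 0x2b67404c37002), (nat_lit 0x34dd001), (nat_lit 0x2553704c57002)], [(nat_lit 0x34bc001), (nat_lit 0x4c0f001), (nat_lit 0x4c21001)], [(nat_lit 0x4c20001), (nat_lit 0x225cb034da002), (nat_lit 0x34d9001)], [(nat_lit 0x29c6704c13002), (nat_lit 0x34c2001), (nat_lit 0x28cce04c2b002)], [(nat_lit 0x34d0001), (nat_lit 0x4c1a001), (nat_lit 0x34d1001)], [(nat_lit 0x4c3b001), (nat_lit 0x34e2001), (nat_lit 0x4c5b001)], [(nat_lit 0x2ed2004c1b002), (nat_lit 0x34d4001), (nat_lit 0x4c2f001)], [(nat_lit 0x34e5001), (nat_lit 0x4c3c001), (nat_lit 0x34e4001)], [(nat_lit 0x4c47001), (nat_lit 0x34f1001), (nat_lit 0x4c60001)], [(nat_lit 0x34e7001), (nat_lit 0x2ed8404c3e002), (nat_lit 0x4c50001)], [(nat_lit 0x4c4f001), (nat_lit 0x4c6b001), (nat_lit 0x34fb001)], [(nat_lit 0x4c44001), (nat_lit 0x34ed001), (nat_lit 0x4c5d001)], [(nat_lit 0x34f7001), (nat_lit 0x4c4b001), (nat_lit 0x4c63001)], [(nat_lit 0x4c64001), (nat_lit 0x2a49204c71002), (nat_lit 0x3502001)], [(nat_lit 0x34d5001), (nat_lit 0x4c1c001), (nat_lit 0x4c30001)], [(nat_lit 0x4c31001), (nat_lit 0x4c3d001), (nat_lit 0x34e6001)], [(nat_lit 0x4c43001), (nat_lit 0x34ec001), (nat_lit 0x4c5c001)], [(nat_lit 0x2ac7b04c62002), (nat_lit 0x4c70001), (nat_lit 0x3501001)], [(nat_lit 0x4c1d001), (nat_lit 0x34eb001), (nat_lit 0x4c42001)], [(nat_lit 0x34fa001), (nat_lit 0x2498b04c4e002), (nat_lit 0x4c69001)], [(nat_lit 0x4c6a001), (nat_lit 0x4c74001), (nat_lit 0x3505001)], [(nat_lit 0x2c49c04c89002), (nat_lit 0x3522001), (nat_lit 0x2ba5e04c97002)], [(nat_lit 0x34ea001), (nat_lit 0x34e9001), (nat_lit 0x4c40001)], [(nat_lit 0x34f2001), (nat_lit 0x2605004c48002), (nat_lit 0x34f3001)], [(nat_lit 0x4c55001), (nat_lit 0x34ff001), (nat_lit 0x2653c04c6f002)], [(nat_lit 0x34f0001), (nat_lit 0x2e26a04c46002), (nat_lit 0x4c54001)], [(nat_lit 0x4c53001), (nat_lit 0x233a204c6e002), (nat_lit 0x34fe001)], [(nat_lit 0x2e72904c76002), (nat_lit 0x3507001), (nat_lit 0x4c8d001)], [(nat_lit 0x3513001), (nat_lit 0x4c7f001), (nat_lit 0x3514001)], [(nat_lit 0x2cb9b03550002), (nat_lit 0x3521001), (nat_lit 0x353d001)], [(nat_lit 0x4c41001), (nat_lit 0x1b4a304c75002), (nat_lit 0x3506001)], [(nat_lit 0x4c79001), (nat_lit 0x350b001), (nat_lit 0x4c8f001)], [(nat_lit 0x3517001), (nat_lit 0x4c80001), (nat_lit 0x3518001)], [(nat_lit 0x3529001), (nat_lit 0x4c9e001), (nat_lit 0x4cb6001)], [(nat_lit 0x4cb5001), (nat_lit 0x24f1404cd3002), (nat_lit 0x3545001)], [(nat_lit 0x3538001), (nat_lit 0x4cac001), (nat_lit 0x2ec0304cc0002)], [(nat_lit 0x2e6bd04c7b002), (nat_lit 0x350e001), (nat_lit 0x4c90001)], [(nat_lit 0x3519001), (nat_lit 0x4c81001), (nat_lit 0x4c8b001)], [(nat_lit 0x4c8a001), (nat_lit 0x4c98001), (nat_lit 0x3523001)], [(nat_lit 0x3509001), (nat_lit 0x4c78001), (nat_lit 0x4c86001)], [(nat_lit 0x4c85001), (nat_lit 0x2e6ab04c95002), (nat_lit 0x351f001)], [(nat_lit 0x4c7d001), (nat_lit 0x3510001), (nat_lit 0x4c92001)], [(nat_lit 0x351b001), (nat_lit 0x4c83001), (nat_lit 0x351c001)], [(nat_lit 0x4c9a001), (nat_lit 0x3525001), (nat_lit 0x4cc1001)], [(nat_lit 0x350d001), (nat_lit 0x4c7a001), (nat_lit 0x350c001)], [(nat_lit 0x4c9f001), (nat_lit 0x352a001), (nat_lit 0x4cc4001)], [(nat_lit 0x3535001), (nat_lit 0x4caa001), (nat_lit 0x3536001)], [(nat_lit 0x4ca9001), (nat_lit 0x3534001), (nat_lit 0x4cc9001)], [(nat_lit 0x353c001), (nat_lit 0x2cb9c04caf002), (nat_lit 0x353d001)], [(nat_lit 0x23ab404cb9002), (nat_lit 0x23ab504cd5002), (nat_lit 0x3547001)], [(nat_lit 0x353a001), (nat_lit 0x2651e04cae002), (nat_lit 0x353b001)], [(nat_lit 0x280ef04cd9002), (nat_lit 0x354e001), (nat_lit 0x4cfc001)], [(nat_lit 0x3539001), (nat_lit 0x4cad001), (nat_lit 0x4ccb001)], [(nat_lit 0x4ccc001), (nat_lit 0x246d40354d002), (nat_lit 0x354c001)], [(nat_lit 0x3559001), (nat_lit 0x4cde001), (nat_lit 0x3558001)], [(nat_lit 0x2246804ceb002), (nat_lit 0x3568001), (nat_lit 0x221ff04d04002)], [(nat_lit 0x2bced04ce2002), (nat_lit 0x3560001), (nat_lit 0x1cc5204cfe002)], [(nat_lit 0x356c001), (nat_lit 0x1cc5704cee002), (nat_lit 0x356d001)], [(nat_lit 0x4d11001), (nat_lit 0x357b001), (nat_lit 0x4d32001)], [(nat_lit 0x34e8001), (nat_lit 0x2e19a04c3f002), (nat_lit 0x4c52001)], [(nat_lit 0x4c51001), (nat_lit 0x4c6d001), (nat_lit 0x34fd001)], [(nat_lit 0x4c45001), (nat_lit 0x34ef001), (nat_lit 0x4c5f001)], [(nat_lit 0x34f9001), (nat_lit 0x4c4d001), (nat_lit 0x4c67001)], [(nat_lit 0x4c68001), (nat_lit 0x4c73001), (nat_lit 0x3504001)], [(nat_lit 0x2e1a204c87002), (nat_lit 0x4c96001), (nat_lit 0x3520001)], [(nat_lit 0x4c7e001), (nat_lit 0x3511001), (nat_lit 0x4c93001)], [(nat_lit 0x351d001), (nat_lit 0x4c84001), (nat_lit 0x351e001)], [(nat_lit 0x2c40e04c9b002), (nat_lit 0x3526001), (nat_lit 0x4cc2001)], [(nat_lit 0x353e001), (nat_lit 0x2e10904cb0002), (nat_lit 0x26d5e04ccd002)], [(nat_lit 0x2e10b04cdf002), (nat_lit 0x355d001), (nat_lit 0x2e10c04cfd002)], [(nat_lit 0x356a001), (nat_lit 0x4ced001), (nat_lit 0x356b001)], [(nat_lit 0x2c40b04d10002), (nat_lit 0x357a001), (nat_lit 0x2c40a04d31002)], [(nat_lit 0x2c91a04cbd002), (nat_lit 0x4cd7001), (nat_lit 0x3549001)], [(nat_lit 0x2d32804cab002), (nat_lit 0x3537001), (nat_lit 0x4cca001)], [(nat_lit 0x4cec001), (nat_lit 0x3569001), (nat_lit 0x4d05001)], [(nat_lit 0x2cc8d04cf6002), (nat_lit 0x4d0c001), (nat_lit 0x3576001)], [(nat_lit 0x4cb2001), (nat_lit 0x3541001), (nat_lit 0x2bd5c04cd1002)], [(nat_lit 0x3555001), (nat_lit 0x4cdc001), (nat_lit 0x3554001)], [(nat_lit 0x2cc4004ca4002), (nat_lit 0x352f001), (nat_lit 0x2c28604cc5002)], [(nat_lit 0x353f001), (nat_lit 0x4cb1001), (nat_lit 0x4cce001)], [(nat_lit 0x4ccf001), (nat_lit 0x4cda001), (nat_lit 0x3552001)], [(nat_lit 0x4cb3001), (nat_lit 0x3542001), (nat_lit 0x4cd2001)], [(nat_lit 0x3557001), (nat_lit 0x4cdd001), (nat_lit 0x3556001)], [(nat_lit 0x355f001), (nat_lit 0x4ce1001), (nat_lit 0x4cf5001)], [(nat_lit 0x4cf4001), (nat_lit 0x2a81004d0b002), (nat_lit 0x3575001)], [(nat_lit 0x356f001), (nat_lit 0x4cf0001), (nat_lit 0x221d104d08002)], [(nat_lit 0x221d104d09002), (nat_lit 0x4d13001), (nat_lit 0x357d001)], [(nat_lit 0x2b58604cf8002), (nat_lit 0x4d0d001), (nat_lit 0x3577001)], [(nat_lit 0x3566001), (nat_lit 0x4ce9001), (nat_lit 0x29d3004d01002)], [(nat_lit 0x4cf2001), (nat_lit 0x3572001), (nat_lit 0x4d0a001)], [(nat_lit 0x3587001), (nat_lit 0x4d1b001), (nat_lit 0x4d2e001)], [(nat_lit 0x4d2d001), (nat_lit 0x297e404d44002), (nat_lit 0x359d001)], [(nat_lit 0x4cea001), (nat_lit 0x3580001), (nat_lit 0x4d15001)], [(nat_lit 0x358b001), (nat_lit 0x4d1f001), (nat_lit 0x358c001)], [(nat_lit 0x4d2f001), (nat_lit 0x359e001), (nat_lit 0x24eac04d45002)], [(nat_lit 0x3581001), (nat_lit 0x2865f04d16002), (nat_lit 0x4d2a001)], [(nat_lit 0x4d29001), (nat_lit 0x35c4001), (nat_lit 0x359b001)], [(nat_lit 0x28ef604d1e002), (nat_lit 0x358a001), (nat_lit 0x4d38001)], [(nat_lit 0x3594001), (nat_lit 0x27b4304d24002), (nat_lit 0x3595001)], [(nat_lit 0x3565001), (nat_lit 0x2da9704ce8002), (nat_lit 0x2d23504cfb002)], [(nat_lit 0x2d23504cfa002), (nat_lit 0x4d0e001), (nat_lit 0x3578001)], [(nat_lit 0x3591001), (nat_lit 0x2655204d22002), (nat_lit 0x4d39001)], [(nat_lit 0x4d3a001), (nat_lit 0x4d4a001), (nat_lit 0x35a2001)], [(nat_lit 0x4d1d001), (nat_lit 0x3589001), (nat_lit 0x4d37001)], [(nat_lit 0x3592001), (nat_lit 0x4d23001), (nat_lit 0x3593001)], [(nat_lit 0x292fa04d4b002), (nat_lit 0x35a3001), (nat_lit 0x4d6b001)], [(nat_lit 0x4d17001), (nat_lit 0x3582001), (nat_lit 0x2ed3b04d34002)], [(nat_lit 0x358d001), (nat_lit 0x2ed1104d20002), (nat_lit 0x358e001)], [(nat_lit 0x4d30001), (nat_lit 0x359f001), (nat_lit 0x4d46001)], [(nat_lit 0x3586001), (nat_lit 0x4d1a001), (nat_lit 0x4d2c001)], [(nat_lit 0x4d2b001), (nat_lit 0x1b71704d43002), (nat_lit 0x359c001)], [(nat_lit 0x3597001), (nat_lit 0x4d26001), (nat_lit 0x4d3d001)], [(nat_lit 0x4d3e001), (nat_lit 0x1b6ef04d4e002), (nat_lit 0x35a6001)], [(nat_lit 0x4d18001), (nat_lit 0x3583001), (nat_lit 0x4d35001)], [(nat_lit 0x358f001), (nat_lit 0x4d21001), (nat_lit 0x3590001)], [(nat_lit 0x4d48001), (nat_lit 0x35a0001), (nat_lit 0x2c92604d6a002)], [(nat_lit 0x3585001), (nat_lit 0x4d19001), (nat_lit 0x3584001)], [(nat_lit 0x2bf1604d3c002), (nat_lit 0x4d4d001), (nat_lit 0x35a5001)], [(nat_lit 0x2e37d04d27002), (nat_lit 0x3599001), (nat_lit 0x2e37c04d41002)], [(nat_lit 0x35a9001), (nat_lit 0x4d50001), (nat_lit 0x35a8001)], [(nat_lit 0x2cdbb04d5a002), (nat_lit 0x35b5001), (nat_lit 0x2cdbc04d71002)], [(nat_lit 0x35ab001), (nat_lit 0x2bf4c04d52002), (nat_lit 0x4d64001)], [(nat_lit 0x4d63001), (nat_lit 0x2bf4e04d7b002), (nat_lit 0x35c1001)], [(nat_lit 0x4d57001), (nat_lit 0x35b2001), (nat_lit 0x2b4d804d6f002)], [(nat_lit 0x4d28001), (nat_lit 0x359a001), (nat_lit 0x1e89c04d42002)], [(nat_lit 0x35ac001), (nat_lit 0x4d53001), (nat_lit 0x4d66001)], [(nat_lit 0x4d65001), (nat_lit 0x4d7c001), (nat_lit 0x35c2001)], [(nat_lit 0x4d58001), (nat_lit 0x35b3001), (nat_lit 0x1e89804d70002)], [(nat_lit 0x35ae001), (nat_lit 0x35ad001), (nat_lit 0x4d54001)], [(nat_lit 0x35b6001), (nat_lit 0x21a5404d5b002), (nat_lit 0x35b7001)], [(nat_lit 0x35b4001), (nat_lit 0x1e28d04d59002), (nat_lit 0x1e28004d68002)], [(nat_lit 0x1e28004d67002), (nat_lit 0x35c4001), (nat_lit 0x35c3001)], [(nat_lit 0x4d88001), (nat_lit 0x35d1001), (nat_lit 0x4dad001)], [(nat_lit 0x35e0001), (nat_lit 0x2e1d504d94002), (nat_lit 0x35e1001)], [(nat_lit 0x4da6001), (nat_lit 0x35f4001), (nat_lit 0x4dbc001)], [(nat_lit 0x4d89001), (nat_lit 0x35d2001), (nat_lit 0x24f9704dae002)], [(nat_lit 0x35e2001), (nat_lit 0x249d204d95002), (nat_lit 0x35e3001)], [(nat_lit 0x4da8001), (nat_lit 0x35f6001), (nat_lit 0x4dbe001)], [(nat_lit 0x35d7001), (nat_lit 0x4d8d001), (nat_lit 0x4da2001)], [(nat_lit 0x4da1001), (nat_lit 0x4db8001), (nat_lit 0x35f0001)], [(nat_lit 0x2d01404d99002), (nat_lit 0x35e9001), (nat_lit 0x2d01504db4002)], [(nat_lit 0x3603001), (nat_lit 0x4dca001), (nat_lit 0x4de9001)], [(nat_lit 0x4de8001), (nat_lit 0x4e0c001), (nat_lit 0x361d001)], [(nat_lit 0x4d56001), (nat_lit 0x35af001), (nat_lit 0x4d6e001)], [(nat_lit 0x35bb001), (nat_lit 0x2eaca04d5c002), (nat_lit 0x251e504d74002)], [(nat_lit 0x35bd001), (nat_lit 0x2cb0e04d5e002), (nat_lit 0x4d77001)], [(nat_lit 0x4d78001), (nat_lit 0x4d83001), (nat_lit 0x35cb001)], [(nat_lit 0x35e6001), (nat_lit 0x4d97001), (nat_lit 0x4db2001)], [(nat_lit 0x4db3001), (nat_lit 0x4dc0001), (nat_lit 0x35f8001)], [(nat_lit 0x35dc001), (nat_lit 0x4d92001), (nat_lit 0x35dd001)], [(nat_lit 0x35d5001), (nat_lit 0x4d8b001), (nat_lit 0x2279904da0002)], [(nat_lit 0x2279904d9f002), (nat_lit 0x4db7001), (nat_lit 0x35ef001)], [(nat_lit 0x35be001), (nat_lit 0x4d60001), (nat_lit 0x4d79001)], [(nat_lit 0x4d7a001), (nat_lit 0x4d84001), (nat_lit 0x35cc001)], [(nat_lit 0x35e4001), (nat_lit 0x4d96001), (nat_lit 0x35e5001)], [(nat_lit 0x255f404da9002), (nat_lit 0x35f7001), (nat_lit 0x2586b04dbf002)], [(nat_lit 0x35d8001), (nat_lit 0x247af04d8e002), (nat_lit 0x2ea9804da4002)], [(nat_lit 0x4d9a001), (nat_lit 0x35ea001), (nat_lit 0x4db5001)], [(nat_lit 0x3604001), (nat_lit 0x208d704dcb002), (nat_lit 0x1499a04deb002)], [(nat_lit 0x35da001), (nat_lit 0x35d9001), (nat_lit 0x4d8f001)], [(nat_lit 0x35eb001), (nat_lit 0x4d9b001), (nat_lit 0x35ec001)], [(nat_lit 0x4dc2001), (nat_lit 0x35fa001), (nat_lit 0x4ded001)], [(nat_lit 0x35fc001), (nat_lit 0x4dc3001), (nat_lit 0x4de1001)], [(nat_lit 0x4de0001), (nat_lit 0x4e08001), (nat_lit 0x3619001)], [(nat_lit 0x4d90001), (nat_lit 0x4d9c001), (nat_lit 0x35ed001)], [(nat_lit 0x360b001), (nat_lit 0x4dd1001), (nat_lit 0x243da04df5002)], [(nat_lit 0x243da04df6002), (nat_lit 0x23f0c04e0f002), (nat_lit 0x3620001)], [(nat_lit 0x2b42004dc4002), (nat_lit 0x35fd001), (nat_lit 0x4dee001)], [(nat_lit 0x2c86b04de2002), (nat_lit 0x4e09001), (nat_lit 0x361a001)], [(nat_lit 0x4dcd001), (nat_lit 0x3606001), (nat_lit 0x2d1f404df1002)], [(nat_lit 0x35ce001), (nat_lit 0x205bf04d85002), (nat_lit 0x35cd001)], [(nat_lit 0x4d91001), (nat_lit 0x35db001), (nat_lit 0x4db1001)], [(nat_lit 0x35d4001), (nat_lit 0x2eb5c04d8a002), (nat_lit 0x2e93404d9e002)], [(nat_lit 0x2ea2604d8c002), (nat_lit 0x35d6001), (nat_lit 0x2e59804db0002)], [(nat_lit 0x35e7001), (nat_lit 0x4d98001), (nat_lit 0x35e8001)], [(nat_lit 0x4dc1001), (nat_lit 0x35f9001), (nat_lit 0x4dec001)], [(nat_lit 0x3601001), (nat_lit 0x4dc8001), (nat_lit 0x4de5001)], [(nat_lit 0x4de4001), (nat_lit 0x4e0a001), (nat_lit 0x361b001)], [(nat_lit 0x4dcf001), (nat_lit 0x3609001), (nat_lit 0x4df3001)], [(nat_lit 0x2ab9304dfa002), (nat_lit 0x2cf3d04e12002), (nat_lit 0x3623001)], [(nat_lit 0x3613001), (nat_lit 0x4dd8001), (nat_lit 0x4dfe001)], [(nat_lit 0x4dff001), (nat_lit 0x4e15001), (nat_lit 0x3627001)], [(nat_lit 0x4dd9001), (nat_lit 0x362d001), (nat_lit 0x196c904e1a002)], [(nat_lit 0x363a001), (nat_lit 0x16ab004e25002), (nat_lit 0x363b001)], [(nat_lit 0x4e3e001), (nat_lit 0x3646001), (nat_lit 0x4e65001)], [(nat_lit 0x3634001), (nat_lit 0x4e1f001), (nat_lit 0x3635001)], [(nat_lit 0x4e46001), (nat_lit 0x364e001), (nat_lit 0x4e6a001)], [(nat_lit 0x365b001), (nat_lit 0x4e51001), (nat_lit 0x365c001)], [(nat_lit 0x2e56c04e7c002), (nat_lit 0x366d001), (nat_lit 0x4e9f001)], [(nat_lit 0x2d97904dde002), (nat_lit 0x4e07001), (nat_lit 0x3618001)], [(nat_lit 0x2d66504dc6002), (nat_lit 0x35ff001), (nat_lit 0x2cd5704def002)], [(nat_lit 0x3607001), (nat_lit 0x4dce001), (nat_lit 0x3608001)], [(nat_lit 0x2b84704e0e002), (nat_lit 0x361f001), (nat_lit 0x2b13904e2f002)], [(nat_lit 0x3602001), (nat_lit 0x4dc9001), (nat_lit 0x4de7001)], [(nat_lit 0x4de6001), (nat_lit 0x2de2a04e0b002), (nat_lit 0x361c001)], [(nat_lit 0x3610001), (nat_lit 0x360f001), (nat_lit 0x4dd5001)], [(nat_lit 0x3626001), (nat_lit 0x217d404e14002), (nat_lit 0x3625001)], [(nat_lit 0x4e23001), (nat_lit 0x3638001), (nat_lit 0x4e33001)], [(nat_lit 0x3615001), (nat_lit 0x4ddb001), (nat_lit 0x4e01001)], [(nat_lit 0x4e02001), (nat_lit 0x4e17001), (nat_lit 0x362a001)], [(nat_lit 0x4e1d001), (nat_lit 0x3631001), (nat_lit 0x4e32001)], [(nat_lit 0x363e001), (nat_lit 0x2d7ab04e27002), (nat_lit 0x363f001)], [(nat_lit 0x4e42001), (nat_lit 0x364a001), (nat_lit 0x4e67001)], [(nat_lit 0x4dd6001), (nat_lit 0x4dd7001), (nat_lit 0x3612001)], [(nat_lit 0x4e1c001), (nat_lit 0x362f001), (nat_lit 0x4e30001)], [(nat_lit 0x2bb3b04e37002), (nat_lit 0x4e40001), (nat_lit 0x3648001)], [(nat_lit 0x288b904dda002), (nat_lit 0x3614001), (nat_lit 0x292a204e00002)], [(nat_lit 0x3629001), (nat_lit 0x4e16001), (nat_lit 0x3628001)], [(nat_lit 0x3617001), (nat_lit 0x4ddd001), (nat_lit 0x4e05001)], [(nat_lit 0x4e06001), (nat_lit 0x2ba2204e19002), (nat_lit 0x362c001)], [(nat_lit 0x2d14e04e22002), (nat_lit 0x364d001), (nat_lit 0x4e45001)], [(nat_lit 0x3651001), (nat_lit 0x2e0cd04e48002), (nat_lit 0x4e61001)], [(nat_lit 0x4e60001), (nat_lit 0x4e78001), (nat_lit 0x3669001)], [(nat_lit 0x2e0d004e4f002), (nat_lit 0x3657001), (nat_lit 0x4e6d001)], [(nat_lit 0x365e001), (nat_lit 0x4e53001), (nat_lit 0x365f001)], [(nat_lit 0x4e7f001), (nat_lit 0x3670001), (nat_lit 0x4ea1001)], [(nat_lit 0x362e001), (nat_lit 0x4e1b001), (nat_lit 0x2e9ef04e2c002)], [(nat_lit 0x2e9ef04e2b002), (nat_lit 0x2e9f104e3c002), (nat_lit 0x3644001)], [(nat_lit 0x2e0d904e5c002), (nat_lit 0x4e76001), (nat_lit 0x3667001)], [(nat_lit 0x4e4d001), (nat_lit 0x3655001), (nat_lit 0x4e6b001)], [(nat_lit 0x3653001), (nat_lit 0x2a72e04e4b002), (nat_lit 0x2a22b04e63002)], [(nat_lit 0x2a22b04e62002), (nat_lit 0x4e7a001), (nat_lit 0x366b001)], [(nat_lit 0x4e2a001), (nat_lit 0x3643001), (nat_lit 0x4e3b001)], [(nat_lit 0x3650001), (nat_lit 0x4e47001), (nat_lit 0x4e5f001)], [(nat_lit 0x4e5e001), (nat_lit 0x2bf3404e77002), (nat_lit 0x3668001)], [(nat_lit 0x2baef04e4e002), (nat_lit 0x3656001), (nat_lit 0x2242d04e6c002)], [(nat_lit 0x365d001), (nat_lit 0x2d78104e52002), (nat_lit 0x2df2b04e6f002)], [(nat_lit 0x3665001), (nat_lit 0x4e59001), (nat_lit 0x2d20f04e74002)], [(nat_lit 0x2d20f04e75002), (nat_lit 0x4e84001), (nat_lit 0x3675001)], [(nat_lit 0x4e8a001), (nat_lit 0x367c001), (nat_lit 0x4ea4001)], [(nat_lit 0x368b001), (nat_lit 0x21dd304e95002), (nat_lit 0x1656404ea9002)], [(nat_lit 0x1656404eaa002), (nat_lit 0x4eb1001), (nat_lit 0x3695001)], [(nat_lit 0x4e5a001), (nat_lit 0x3666001), (nat_lit 0x4e5b001)], [(nat_lit 0x3678001), (nat_lit 0x4e86001), (nat_lit 0x3677001)], [(nat_lit 0x2a72b04e97002), (nat_lit 0x4ead001), (nat_lit 0x368f001)], [(nat_lit 0x4eb7001), (nat_lit 0x369d001), (nat_lit 0x4ee7001)], [(nat_lit 0x36ae001), (nat_lit 0x4ec2001), (nat_lit 0x36af001)], [(nat_lit 0x4ee0001), (nat_lit 0x36cb001), (nat_lit 0x4efc001)], [(nat_lit 0x2e7f604eb5002), (nat_lit 0x369a001), (nat_lit 0x4ee4001)], [(nat_lit 0x2eaef04ed4002), (nat_lit 0x4ef6001), (nat_lit 0x36c0001)], [(nat_lit 0x4d55001), (nat_lit 0x4ecb001), (nat_lit 0x36b9001)], [(nat_lit 0x3688001), (nat_lit 0x2e67104e93002), (nat_lit 0x3689001)], [(nat_lit 0x4e9c001), (nat_lit 0x3693001), (nat_lit 0x4eaf001)], [(nat_lit 0x2b0e304eb8002), (nat_lit 0x369e001), (nat_lit 0x2b55904ee8002)], [(nat_lit 0x36b0001), (nat_lit 0x4ec4001), (nat_lit 0x36b1001)], [(nat_lit 0x4efd001), (nat_lit 0x36cc001), (nat_lit 0x1655b04f28002)], [(nat_lit 0x4eb6001), (nat_lit 0x369b001), (nat_lit 0x4ee5001)], [(nat_lit 0x36aa001), (nat_lit 0x4ec0001), (nat_lit 0x36ab001)], [(nat_lit 0x36a7001), (nat_lit 0x4ebe001), (nat_lit 0x4edd001)], [(nat_lit 0x4edc001), (nat_lit 0x36c6001), (nat_lit 0x36c5001)], [(nat_lit 0x4ec9001), (nat_lit 0x36b7001), (nat_lit 0x4eef001)], [(nat_lit 0x36e8001), (nat_lit 0x1b71f04f17002), (nat_lit 0x36e9001)], [(nat_lit 0x4f40001), (nat_lit 0x36f8001), (nat_lit 0x4f65001)], [(nat_lit 0x36ba001), (nat_lit 0x3858001), (nat_lit 0x4ecc001)], [(nat_lit 0x4ecd001), (nat_lit 0x4f03001), (nat_lit 0x36d2001)], [(nat_lit 0x1b72904f0d002), (nat_lit 0x36de001), (nat_lit 0x1b71904f2d002)], [(nat_lit 0x36e7001), (nat_lit 0x4f16001), (nat_lit 0x2733104f27002)], [(nat_lit 0x36b8001), (nat_lit 0x2e6c004eca002), (nat_lit 0x236c304ef0002)], [(nat_lit 0x236c304ef1002), (nat_lit 0x4f02001), (nat_lit 0x36d1001)], [(nat_lit 0x4f0f001), (nat_lit 0x36e0001), (nat_lit 0x4f2f001)], [(nat_lit 0x36ea001), (nat_lit 0x14acd04f18002), (nat_lit 0x4f34001)], [(nat_lit 0x4f35001), (nat_lit 0x4f42001), (nat_lit 0x36f9001)], [(nat_lit 0x36be001), (nat_lit 0x36bd001), (nat_lit 0x4ed0001)], [(nat_lit 0x36d8001), (nat_lit 0x2e67d04f07002), (nat_lit 0x36d7001)], [(nat_lit 0x4f15001), (nat_lit 0x36e6001), (nat_lit 0x2675204f33002)], [(nat_lit 0x36e1001), (nat_lit 0x4f10001), (nat_lit 0x4f23001)], [(nat_lit 0x4f22001), (nat_lit 0x4f3d001), (nat_lit 0x36f3001)], [(nat_lit 0x4ed1001), (nat_lit 0x4f08001), (nat_lit 0x36d9001)], [(nat_lit 0x2a19a04f11002), (nat_lit 0x36e2001), (nat_lit 0x4f30001)], [(nat_lit 0x2b5b604f1d002), (nat_lit 0x36f0001), (nat_lit 0x4f3a001)], [(nat_lit 0x3704001), (nat_lit 0x283df04f4a002), (nat_lit 0x4f5d001)], [(nat_lit 0x4f5c001), (nat_lit 0x4f72001), (nat_lit 0x3721001)], [(nat_lit 0x3719001), (nat_lit 0x4f59001), (nat_lit 0x4f6f001)], [(nat_lit 0x4f70001), (nat_lit 0x3729001), (nat_lit 0x3728001)], [(nat_lit 0x4f64001), (nat_lit 0x3726001), (nat_lit 0x4f77001)], [(nat_lit 0x36db001), (nat_lit 0x4f0a001), (nat_lit 0x4f1f001)], [(nat_lit 0x4f1e001), (nat_lit 0x4f3b001), (nat_lit 0x36f1001)], [(nat_lit 0x2e45d04f13002), (nat_lit 0x36e4001), (nat_lit 0x4f31001)], [(nat_lit 0x36ec001), (nat_lit 0x4f1a001), (nat_lit 0x29e4a04f38002)], [(nat_lit 0x29e4a04f39002), (nat_lit 0x4f44001), (nat_lit 0x36fb001)], [(nat_lit 0x4f0b001), (nat_lit 0x3703001), (nat_lit 0x4f49001)], [(nat_lit 0x3711001), (nat_lit 0x4f56001), (nat_lit 0x3712001)], [(nat_lit 0x4f62001), (nat_lit 0x3724001), (nat_lit 0x4f75001)], [(nat_lit 0x3705001), (nat_lit 0x4f4b001), (nat_lit 0x3706001)], [(nat_lit 0x2da8e04f4e002), (nat_lit 0x3709001), (nat_lit 0x2da8b04f6a002)], [(nat_lit 0x371a001), (nat_lit 0x37d6001), (nat_lit 0x371b001)], [(nat_lit 0x4f7a001), (nat_lit 0x372a001), (nat_lit 0x4fa8001)], [(nat_lit 0x2cb8a04f9c002), (nat_lit 0x2c09004fbc002), (nat_lit 0x374f001)], [(nat_lit 0x36ee001), (nat_lit 0x36ed001), (nat_lit 0x2872904f1b002)], [(nat_lit 0x36fe001), (nat_lit 0x4f46001), (nat_lit 0x36fd001)], [(nat_lit 0x4f4c001), (nat_lit 0x3707001), (nat_lit 0x4f67001)], [(nat_lit 0x3717001), (nat_lit 0x4f58001), (nat_lit 0x3718001)], [(nat_lit 0x4f78001), (nat_lit 0x3727001), (nat_lit 0x4fa6001)], [(nat_lit 0x27e6e04fa0002), (nat_lit 0x2b47c04fbe002), (nat_lit 0x3751001)], [(nat_lit 0x4f53001), (nat_lit 0x370e001), (nat_lit 0x4f6c001)], [(nat_lit 0x371f001), (nat_lit 0x2544a04f5b002), (nat_lit 0x3720001)], [(nat_lit 0x292d104f7c002), (nat_lit 0x372c001), (nat_lit 0x3784001)], [(nat_lit 0x373a001), (nat_lit 0x4f87001), (nat_lit 0x4fa3001)], [(nat_lit 0x4fa2001), (nat_lit 0x4fbf001), (nat_lit 0x3752001)], [(nat_lit 0x2cfa804f55002), (nat_lit 0x3710001), (nat_lit 0x4f6e001)], [(nat_lit 0x3736001), (nat_lit 0x4f83001), (nat_lit 0x4f9f001)], [(nat_lit 0x4f9e001), (nat_lit 0x4fbd001), (nat_lit 0x3750001)], [(nat_lit 0x2ac6f04f5e002), (nat_lit 0x4f73001), (nat_lit 0x3722001)], [(nat_lit 0x4f52001), (nat_lit 0x370d001), (nat_lit 0x4f6b001)], [(nat_lit 0x371d001), (nat_lit 0x4f5a001), (nat_lit 0x371e001)], [(nat_lit 0x4f7b001), (nat_lit 0x372b001), (nat_lit 0x4fa9001)], [(nat_lit 0x372f001), (nat_lit 0x2606404f7e002), (nat_lit 0x2606504f97002)], [(nat_lit 0x2606504f96002), (nat_lit 0x4fb9001), (nat_lit 0x374c001)], [(nat_lit 0x4f86001), (nat_lit 0x3739001), (nat_lit 0x2606804fac002)], [(nat_lit 0x4f91001), (nat_lit 0x3748001), (nat_lit 0x1f81304fb5002)], [(nat_lit 0x37b3001), (nat_lit 0x3768001), (nat_lit 0x3799001)], [(nat_lit 0x2a51f04f81002), (nat_lit 0x4f93001), (nat_lit 0x374a001)], [(nat_lit 0x376e001), (nat_lit 0x4fd5001), (nat_lit 0x11bcc04fe0002)], [(nat_lit 0x4ff1001), (nat_lit 0x3779001), (nat_lit 0x5028001)], [(nat_lit 0x378d001), (nat_lit 0x5007001), (nat_lit 0x378e001)], [(nat_lit 0x292d304ffb002), (nat_lit 0x3783001), (nat_lit 0x3784001)], [(nat_lit 0x3797001), (nat_lit 0x500c001), (nat_lit 0x502d001)], [(nat_lit 0x502e001), (nat_lit 0x21a3905041002), (nat_lit 0x37b1001)], [(nat_lit 0x373e001), (nat_lit 0x4f89001), (nat_lit 0x373f001)], [(nat_lit 0x2883504fa5002), (nat_lit 0x3754001), (nat_lit 0x4fc1001)], [(nat_lit 0x3769001), (nat_lit 0x4fd2001), (nat_lit 0x2e9bd04fdc002)], [(nat_lit 0x3749001), (nat_lit 0x4f92001), (nat_lit 0x2d7cb04fb6002)], [(nat_lit 0x4fca001), (nat_lit 0x3760001), (nat_lit 0x4fe6001)], [(nat_lit 0x376c001), (nat_lit 0x2bfdb04fd4002), (nat_lit 0x376d001)], [(nat_lit 0x4ff2001), (nat_lit 0x377a001), (nat_lit 0x2e5cc05029002)], [(nat_lit 0x378f001), (nat_lit 0x5008001), (nat_lit 0x3790001)], [(nat_lit 0x5025001), (nat_lit 0x37ac001), (nat_lit 0x503c001)], [(nat_lit 0x3781001), (nat_lit 0x4ff9001), (nat_lit 0x2844f0501b002)], [(nat_lit 0x3798001), (nat_lit 0x22a190500d002), (nat_lit 0x3799001)], [(nat_lit 0x37b3001), (nat_lit 0x2ebb105042002), (nat_lit 0x37b2001)], [(nat_lit 0x3763001), (nat_lit 0x4fcd001), (nat_lit 0x4fd8001)], [(nat_lit 0x4fd7001), (nat_lit 0x4fea001), (nat_lit 0x3771001)], [(nat_lit 0x4ff4001), (nat_lit 0x377c001), (nat_lit 0x2de050502a002)], [(nat_lit 0x3791001), (nat_lit 0x5009001), (nat_lit 0x3792001)], [(nat_lit 0x5026001), (nat_lit 0x37ae001), (nat_lit 0x2cd1c0503e002)], [(nat_lit 0x3787001), (nat_lit 0x3f85001), (nat_lit 0x4fff001)], [(nat_lit 0x5000001), (nat_lit 0x501e001), (nat_lit 0x37a8001)], [(nat_lit 0x500f001), (nat_lit 0x379b001), (nat_lit 0x5030001)], [(nat_lit 0x37bd001), (nat_lit 0x504c001), (nat_lit 0x505f001)], [(nat_lit 0x505e001), (nat_lit 0x37d6001), (nat_lit 0x37d5001)], [(nat_lit 0x2d04704f9a002), (nat_lit 0x4fbb001), (nat_lit 0x374e001)], [(nat_lit 0x4f8a001), (nat_lit 0x3740001), (nat_lit 0x4fae001)], [(nat_lit 0x4fce001), (nat_lit 0x3764001), (nat_lit 0x4fe9001)], [(nat_lit 0x377d001), (nat_lit 0x2ea1704ff5002), (nat_lit 0x5015001)], [(nat_lit 0x5014001), (nat_lit 0x5034001), (nat_lit 0x37a3001)], [(nat_lit 0x2ea5004ffa002), (nat_lit 0x3782001), (nat_lit 0x502c001)], [(nat_lit 0x3795001), (nat_lit 0x2e4bb0500b002), (nat_lit 0x3796001)], [(nat_lit 0x2ea4605040002), (nat_lit 0x37b0001), (nat_lit 0x5070001)], [(nat_lit 0x3788001), (nat_lit 0x5001001), (nat_lit 0x5020001)], [(nat_lit 0x501f001), (nat_lit 0x2de9405039002), (nat_lit 0x37a9001)], [(nat_lit 0x2e3bb05010002), (nat_lit 0x379c001), (nat_lit 0x2e4f705031002)], [(nat_lit 0x2e97305060002), (nat_lit 0x2de9e0507b002), (nat_lit 0x37d7001)], [(nat_lit 0x5002001), (nat_lit 0x378a001), (nat_lit 0x2968d05004002)], [(nat_lit 0x379e001), (nat_lit 0x291b205012002), (nat_lit 0x379f001)], [(nat_lit 0x3765001), (nat_lit 0x4fcf001), (nat_lit 0x20af004fda002)], [(nat_lit 0x3789001), (nat_lit 0x5003001), (nat_lit 0x2de0405022002)], [(nat_lit 0x3767001), (nat_lit 0x3766001), (nat_lit 0x24ed704fd0002)], [(nat_lit 0x376f001), (nat_lit 0x4fd6001), (nat_lit 0x3770001)], [(nat_lit 0x4fe1001), (nat_lit 0x3778001), (nat_lit 0x4ff0001)], [(nat_lit 0x377f001), (nat_lit 0x4ff7001), (nat_lit 0x5017001)], [(nat_lit 0x5016001), (nat_lit 0x5035001), (nat_lit 0x37a4001)], [(nat_lit 0x37c0001), (nat_lit 0x2a88e0504e002), (nat_lit 0x5064001)], [(nat_lit 0x5063001), (nat_lit 0x247df0507d002), (nat_lit 0x37d9001)], [(nat_lit 0x5049001), (nat_lit 0x37ba001), (nat_lit 0x5073001)], [(nat_lit 0x37c9001), (nat_lit 0x5053001), (nat_lit 0x37ca001)], [(nat_lit 0x2502e050b1002), (nat_lit 0x22303050ce002), (nat_lit 0x3811001)], [(nat_lit 0x37c1001), (nat_lit 0x504f001), (nat_lit 0x5066001)], [(nat_lit 0x5065001), (nat_lit 0x231660507e002), (nat_lit 0x37da001)], [(nat_lit 0x505b001), (nat_lit 0x37d3001), (nat_lit 0x5079001)], [(nat_lit 0x5069001), (nat_lit 0x37dd001), (nat_lit 0x23c2805081002)], [(nat_lit 0x37ec001), (nat_lit 0x2e67b0508e002), (nat_lit 0x50a4001)], [(nat_lit 0x50a3001), (nat_lit 0x2dfe1050c3002), (nat_lit 0x3808001)], [(nat_lit 0x2df780509b002), (nat_lit 0x37fd001), (nat_lit 0x50bb001)], [(nat_lit 0x381e001), (nat_lit 0x50dc001), (nat_lit 0x50f3001)], [(nat_lit 0x50f2001), (nat_lit 0x511b001), (nat_lit 0x383b001)], [(nat_lit 0x2eaed0505a002), (nat_lit 0x5086001), (nat_lit 0x37e3001)], [(nat_lit 0x508c001), (nat_lit 0x37ea001), (nat_lit 0x50b7001)], [(nat_lit 0x2a77d050af002), (nat_lit 0x1ecbb050cb002), (nat_lit 0x3810001)], [(nat_lit 0x5067001), (nat_lit 0x37db001), (nat_lit 0x507f001)], [(nat_lit 0x37ed001), (nat_lit 0x2ecd70508f002), (nat_lit 0x2c3a9050a6002)], [(nat_lit 0x2c3a9050a5002), (nat_lit 0x2c3aa050c4002), (nat_lit 0x3809001)], [(nat_lit 0x381f001), (nat_lit 0x50dd001), (nat_lit 0x1d2dd050f6002)], [(nat_lit 0x1d2dd050f5002), (nat_lit 0x511c001), (nat_lit 0x383c001)], [(nat_lit 0x37b8001), (nat_lit 0x37b7001), (nat_lit 0x2c17b05046002)], [(nat_lit 0x37c7001), (nat_lit 0x2951b05052002), (nat_lit 0x37c8001)], [(nat_lit 0x2951c05068002), (nat_lit 0x37dc001), (nat_lit 0x5080001)], [(nat_lit 0x2862405078002), (nat_lit 0x27c5805084002), (nat_lit 0x37e1001)], [(nat_lit 0x2951e05089002), (nat_lit 0x37e7001), (nat_lit 0x50b5001)], [(nat_lit 0x37f7001), (nat_lit 0x5098001), (nat_lit 0x37f8001)], [(nat_lit 0x1eca0050ad002), (nat_lit 0x380e001), (nat_lit 0x50c9001)], [(nat_lit 0x2c17b05047002), (nat_lit 0x2b72005093002), (nat_lit 0x37f0001)], [(nat_lit 0x3802001), (nat_lit 0x29f010509f002), (nat_lit 0x3803001)], [(nat_lit 0x50b3001), (nat_lit 0x3812001), (nat_lit 0x50cf001)], [(nat_lit 0x37f2001), (nat_lit 0x29f0405094002), (nat_lit 0x2af50050ac002)], [(nat_lit 0x2af50050ab002), (nat_lit 0x50c7001), (nat_lit 0x380c001)], [(nat_lit 0x3822001), (nat_lit 0x50e0001), (nat_lit 0x1d2f3050fb002)], [(nat_lit 0x1d2f3050fa002), (nat_lit 0x5120001), (nat_lit 0x3840001)], [(nat_lit 0x5088001), (nat_lit 0x37e6001), (nat_lit 0x50b4001)], [(nat_lit 0x37f5001), (nat_lit 0x5097001), (nat_lit 0x37f6001)], [(nat_lit 0x37ee001), (nat_lit 0x5090001), (nat_lit 0x14996050a8002)], [(nat_lit 0x2e6b40509d002), (nat_lit 0x37ff001), (nat_lit 0x50bd001)], [(nat_lit 0x50ae001), (nat_lit 0x380f001), (nat_lit 0x50ca001)], [(nat_lit 0x3804001), (nat_lit 0x50a0001), (nat_lit 0x3805001)], [(nat_lit 0x50d0001), (nat_lit 0x3813001), (nat_lit 0x50ff001)], [(nat_lit 0x382e001), (nat_lit 0x50e7001), (nat_lit 0x5107001)], [(nat_lit 0x5108001), (nat_lit 0x227f205124002), (nat_lit 0x3844001)], [(nat_lit 0x3816001), (nat_lit 0x3815001), (nat_lit 0x50d2001)], [(nat_lit 0x3823001), (nat_lit 0x290f7050e1002), (nat_lit 0x3824001)], [(nat_lit 0x27c32050fc002), (nat_lit 0x3841001), (nat_lit 0x27c3105121002)], [(nat_lit 0x384d001), (nat_lit 0x512b001), (nat_lit 0x384c001)], [(nat_lit 0x3875001), (nat_lit 0x385f001), (nat_lit 0x2462003863002)], [(nat_lit 0x50d3001), (nat_lit 0x2a1ad050d4002), (nat_lit 0x3817001)], [(nat_lit 0x26f0c050e2002), (nat_lit 0x3825001), (nat_lit 0x2c7ff05104002)], [(nat_lit 0x3830001), (nat_lit 0x50e9001), (nat_lit 0x510b001)], [(nat_lit 0x510c001), (nat_lit 0x5126001), (nat_lit 0x3846001)], [(nat_lit 0x50d9001), (nat_lit 0x381c001), (nat_lit 0x5103001)], [(nat_lit 0x382b001), (nat_lit 0x50e6001), (nat_lit 0x382c001)], [(nat_lit 0x3837001), (nat_lit 0x28c47050ee002), (nat_lit 0x2334e05115002)], [(nat_lit 0x512f001), (nat_lit 0x3851001), (nat_lit 0x5150001)], [(nat_lit 0x386e001), (nat_lit 0x218d505144002), (nat_lit 0x5157001)], [(nat_lit 0x5158001), (nat_lit 0x5160001), (nat_lit 0x387a001)], [(nat_lit 0x1fecc050d6002), (nat_lit 0x3819001), (nat_lit 0x5101001)], [(nat_lit 0x513a001), (nat_lit 0x385e001), (nat_lit 0x5154001)], [(nat_lit 0x3838001), (nat_lit 0x23fb1050ef002), (nat_lit 0x27f7005117002)], [(nat_lit 0x3875001), (nat_lit 0x514e001), (nat_lit 0x3874001)], [(nat_lit 0x16b7c05110002), (nat_lit 0x2e19d05128002), (nat_lit 0x3848001)], [(nat_lit 0x387b001), (nat_lit 0x5161001), (nat_lit 0x2143105175002)], [(nat_lit 0x5167001), (nat_lit 0x3881001), (nat_lit 0x518b001)], [(nat_lit 0x4f66001), (nat_lit 0x389b001), (nat_lit 0x4f41001)], [(nat_lit 0x5163001), (nat_lit 0x387d001), (nat_lit 0x297fd0518a002)], [(nat_lit 0x3888001), (nat_lit 0x2cb500516d002), (nat_lit 0x3889001)], [(nat_lit 0x5181001), (nat_lit 0x389a001), (nat_lit 0x5198001)], [(nat_lit 0x3885001), (nat_lit 0x516b001), (nat_lit 0xf1de0517f002)], [(nat_lit 0xf1de0517e002), (nat_lit 0x5196001), (nat_lit 0x3898001)], [(nat_lit 0x2731405172002), (nat_lit 0x3890001), (nat_lit 0x518f001)], [(nat_lit 0x3853001), (nat_lit 0x2226d05131002), (nat_lit 0x281c605146002)], [(nat_lit 0x281c605145002), (nat_lit 0x5159001), (nat_lit 0x386f001)], [(nat_lit 0x2da4f05139002), (nat_lit 0x385d001), (nat_lit 0x2eb4f05153002)], [(nat_lit 0x386c001), (nat_lit 0x5143001), (nat_lit 0x386d001)], [(nat_lit 0x1655b04f29002), (nat_lit 0x3879001), (nat_lit 0x4efe001)], [(nat_lit 0x3857001), (nat_lit 0x3858001), (nat_lit 0x5135001)], [(nat_lit 0x5136001), (nat_lit 0x5147001), (nat_lit 0x3870001)], [(nat_lit 0x5140001), (nat_lit 0x3868001), (nat_lit 0x5155001)], [(nat_lit 0x387f001), (nat_lit 0x2b1bc05165002), (nat_lit 0x5179001)], [(nat_lit 0x5178001), (nat_lit 0x5193001), (nat_lit 0x3895001)], [(nat_lit 0x1f28d05162002), (nat_lit 0x387c001), (nat_lit 0x1f28e05189002)], [(nat_lit 0x3886001), (nat_lit 0x1f2110516c002), (nat_lit 0x3887001)], [(nat_lit 0x5180001), (nat_lit 0x3899001), (nat_lit 0x5197001)], [(nat_lit 0x3883001), (nat_lit 0x5169001), (nat_lit 0x2d1ca0517d002)], [(nat_lit 0x2074905170002), (nat_lit 0x388d001), (nat_lit 0x518e001)], [(nat_lit 0x11f100519b002), (nat_lit 0x51a7001), (nat_lit 0x38aa001)], [(nat_lit 0x515f001), (nat_lit 0x3878001), (nat_lit 0x5188001)], [(nat_lit 0x387e001), (nat_lit 0x270db05164002), (nat_lit 0x5177001)], [(nat_lit 0x5176001), (nat_lit 0x5192001), (nat_lit 0x3894001)], [(nat_lit 0x388c001), (nat_lit 0x516f001), (nat_lit 0x22e2e05183002)], [(nat_lit 0x22e2e05182002), (nat_lit 0x11f1005199002), (nat_lit 0x389c001)], [(nat_lit 0x221fe0516a002), (nat_lit 0x3884001), (nat_lit 0x220340518d002)], [(nat_lit 0x3891001), (nat_lit 0xf1eb05173002), (nat_lit 0x2cd4e05185002)], [(nat_lit 0x2cd4e05184002), (nat_lit 0x5190001), (nat_lit 0x389d001)], [(nat_lit 0x38a6001), (nat_lit 0x51a2001), (nat_lit 0x51b1001)], [(nat_lit 0x51b0001), (nat_lit 0x51bb001), (nat_lit 0x38b3001)], [(nat_lit 0x2ea60051a6002), (nat_lit 0x38a9001), (nat_lit 0x2ea61051b7002)], [(nat_lit 0x38b6001), (nat_lit 0x51bd001), (nat_lit 0x38b5001)], [(nat_lit 0x38a7001), (nat_lit 0x51a3001), (nat_lit 0x51b4001)], [(nat_lit 0x51b5001), (nat_lit 0x2ea65051bc002), (nat_lit 0x38b4001)], [(nat_lit 0x2ea66051be002), (nat_lit 0x38b7001), (nat_lit 0x2ea67051cf002)], [(nat_lit 0x51a4001), (nat_lit 0x38bb001), (nat_lit 0x51c1001)], [(nat_lit 0x2eae4051c7002), (nat_lit 0x2ea0d051d2002), (nat_lit 0x38ca001)], [(nat_lit 0x38c6001), (nat_lit 0x2e879051c5002), (nat_lit 0x38c7001)], [(nat_lit 0x51cc001), (nat_lit 0x38cd001), (nat_lit 0x51d5001)], [(nat_lit 0x38d1001), (nat_lit 0x51d9001), (nat_lit 0x2d628051e2002)], [(nat_lit 0x2d628051e1002), (nat_lit 0x2ddf5051eb002), (nat_lit 0x38dc001)], [(nat_lit 0x38ba001), (nat_lit 0x38b9001), (nat_lit 0x2e5fd051bf002)], [(nat_lit 0x38c2001), (nat_lit 0x2e9c2051c4002), (nat_lit 0x38c3001)], [(nat_lit 0x51cb001), (nat_lit 0x38cc001), (nat_lit 0x51d4001)], [(nat_lit 0x2e5fd051c0002), (nat_lit 0x2e5fe051c2002), (nat_lit 0x38bd001)], [(nat_lit 0x2e4d2051ce002), (nat_lit 0x38cf001), (nat_lit 0x2e4d3051d7002)], [(nat_lit 0x51da001), (nat_lit 0x38d3001), (nat_lit 0x51e6001)], [(nat_lit 0x38d9001), (nat_lit 0x51de001), (nat_lit 0x51e5001)], [(nat_lit 0x51e4001), (nat_lit 0x2e4a9051ef002), (nat_lit 0x38e1001)], [(nat_lit 0x2e3f0051ff002), (nat_lit 0x2e10105212002), (nat_lit 0x38f8001)], [(nat_lit 0x38e4001), (nat_lit 0x2e0ef051f2002), (nat_lit 0x51fe001)], [(nat_lit 0x51fd001), (nat_lit 0x5210001), (nat_lit 0x38f6001)], [(nat_lit 0x38ed001), (nat_lit 0x2eb40051f6002), (nat_lit 0x2eb4105204002)], [(nat_lit 0x51f3001), (nat_lit 0x38e5001), (nat_lit 0x2eb430520a002)], [(nat_lit 0x38ee001), (nat_lit 0x2eb44051f7002), (nat_lit 0x38ef001)], [(nat_lit 0x38e8001), (nat_lit 0x51f4001), (nat_lit 0x38e7001)], [(nat_lit 0x2bd80051fa002), (nat_lit 0x38f3001), (nat_lit 0x2a2ec0520d002)], [(nat_lit 0x38ff001), (nat_lit 0x2087605208002), (nat_lit 0x5215001)], [(nat_lit 0x5216001), (nat_lit 0x5224001), (nat_lit 0x390f001)], [(nat_lit 0x522c001), (nat_lit 0x3914001), (nat_lit 0x220e30523b002)], [(nat_lit 0x51fc001), (nat_lit 0x38f5001), (nat_lit 0x520f001)], [(nat_lit 0x3901001), (nat_lit 0x5219001), (nat_lit 0x5227001)], [(nat_lit 0x5226001), (nat_lit 0x5238001), (nat_lit 0x3911001)], [(nat_lit 0x3919001), (nat_lit 0x523e001), (nat_lit 0x3918001)], [(nat_lit 0x5248001), (nat_lit 0x3926001), (nat_lit 0x525b001)], [(nat_lit 0x5243001), (nat_lit 0x3920001), (nat_lit 0x5259001)], [(nat_lit 0x3929001), (nat_lit 0x29f600524b002), (nat_lit 0x392a001)], [(nat_lit 0x2a49305254002), (nat_lit 0x3938001), (nat_lit 0x5263001)], [(nat_lit 0x2119d051fb002), (nat_lit 0x38f4001), (nat_lit 0x2bc340520e002)], [(nat_lit 0x3900001), (nat_lit 0x2ecf005209002), (nat_lit 0x5217001)], [(nat_lit 0x5218001), (nat_lit 0x5225001), (nat_lit 0x3910001)], [(nat_lit 0x3902001), (nat_lit 0x2e6df0521a002), (nat_lit 0x2e6e005229002)], [(nat_lit 0x2e6e005228002), (nat_lit 0x2e6e105239002), (nat_lit 0x3912001)], [(nat_lit 0x390c001), (nat_lit 0x2e30c05221002), (nat_lit 0x5232001)], [(nat_lit 0x5233001), (nat_lit 0x5240001), (nat_lit 0x391c001)], [(nat_lit 0x3903001), (nat_lit 0x28e4d0521b002), (nat_lit 0x522b001)], [(nat_lit 0x522a001), (nat_lit 0x523a001), (nat_lit 0x3913001)], [(nat_lit 0x521f001), (nat_lit 0x3907001), (nat_lit 0x5230001)], [(nat_lit 0x390d001), (nat_lit 0x2db2205222002), (nat_lit 0x5234001)], [(nat_lit 0x5235001), (nat_lit 0x2db2405241002), (nat_lit 0x391d001)], [(nat_lit 0x390e001), (nat_lit 0x5223001), (nat_lit 0x5236001)], [(nat_lit 0x5237001), (nat_lit 0x2b00d05242002), (nat_lit 0x391e001)], [(nat_lit 0x5244001), (nat_lit 0x3921001), (nat_lit 0x2d9540525a002)], [(nat_lit 0x392b001), (nat_lit 0x396e001), (nat_lit 0x392c001)], [(nat_lit 0x3928001), (nat_lit 0x524a001), (nat_lit 0x2d98105253002)], [(nat_lit 0x2d98105252002), (nat_lit 0x5262001), (nat_lit 0x3937001)], [(nat_lit 0x392d001), (nat_lit 0x2ddbf0524c002), (nat_lit 0x392e001)], [(nat_lit 0x524e001), (nat_lit 0x3930001), (nat_lit 0x2ed6a0525f002)], [(nat_lit 0x393e001), (nat_lit 0x5257001), (nat_lit 0x2ed6c0526a002)], [(nat_lit 0x2ed6805246002), (nat_lit 0x3924001), (nat_lit 0x5247001)], [(nat_lit 0x3932001), (nat_lit 0x2ed6e05250002), (nat_lit 0x3933001)], [(nat_lit 0x2ed6f05269002), (nat_lit 0x5276001), (nat_lit 0x3959001)], [(nat_lit 0x2ed710526c002), (nat_lit 0x3942001), (nat_lit 0x2ed720527f002)], [(nat_lit 0x3949001), (nat_lit 0x526f001), (nat_lit 0x394a001)], [(nat_lit 0x5288001), (nat_lit 0x3962001), (nat_lit 0x2ed9d052a2002)], [(nat_lit 0x524f001), (nat_lit 0x3931001), (nat_lit 0x2ed6005260002)], [(nat_lit 0x393f001), (nat_lit 0x526b001), (nat_lit 0x5279001)], [(nat_lit 0x5278001), (nat_lit 0x2ed7705284002), (nat_lit 0x395c001)], [(nat_lit 0x2ed7805256002), (nat_lit 0x393c001), (nat_lit 0x2ed7905267002)], [(nat_lit 0x3947001), (nat_lit 0x526e001), (nat_lit 0x3948001)], [(nat_lit 0x527e001), (nat_lit 0x3961001), (nat_lit 0x5287001)], [(nat_lit 0x3945001), (nat_lit 0x526d001), (nat_lit 0x2ed180527b002)], [(nat_lit 0x2ed180527a002), (nat_lit 0x5285001), (nat_lit 0x395f001)], [(nat_lit 0x2e81e0527c002), (nat_lit 0x2e81f05286002), (nat_lit 0x3960001)], [(nat_lit 0x2e38005271002), (nat_lit 0x3952001), (nat_lit 0x5280001)], [(nat_lit 0x3957001), (nat_lit 0x5274001), (nat_lit 0x5282001)], [(nat_lit 0x5283001), (nat_lit 0x396e001), (nat_lit 0x396d001)], [(nat_lit 0x5293001), (nat_lit 0x3975001), (nat_lit 0x52a6001)], [(nat_lit 0x5272001), (nat_lit 0x3954001), (nat_lit 0x2eb3605281002)], [(nat_lit 0x2e3bf05294002), (nat_lit 0x3976001), (nat_lit 0x52a7001)], [(nat_lit 0x2ed7e05251002), (nat_lit 0x3934001), (nat_lit 0x2ed7f05261002)], [(nat_lit 0x394f001), (nat_lit 0x2eca205270002), (nat_lit 0x3950001)], [(nat_lit 0x528a001), (nat_lit 0x3964001), (nat_lit 0x52a4001)], [(nat_lit 0x3986001), (nat_lit 0x2e9a3052b4002), (nat_lit 0x2e9a4052cc002)], [(nat_lit 0x2e9a4052cb002), (nat_lit 0x2e9a5052e7002), (nat_lit 0x39a3001)], [(nat_lit 0x393b001), (nat_lit 0x2e29205255002), (nat_lit 0x2dc0805265002)], [(nat_lit 0x2dc0805266002), (nat_lit 0x5275001), (nat_lit 0x3958001)], [(nat_lit 0x5289001), (nat_lit 0x3963001), (nat_lit 0x52a3001)], [(nat_lit 0x3977001), (nat_lit 0x2236805295002), (nat_lit 0x3978001)], [(nat_lit 0x529b001), (nat_lit 0x397f001), (nat_lit 0x2cb6b052ad002)], [(nat_lit 0x3970001), (nat_lit 0x5290001), (nat_lit 0x529a001)], [(nat_lit 0x5299001), (nat_lit 0x52ac001), (nat_lit 0x397e001)], [(nat_lit 0x5296001), (nat_lit 0x397a001), (nat_lit 0x52aa001)], [(nat_lit 0x3987001), (nat_lit 0x52b5001), (nat_lit 0x1b8d5052ce002)], [(nat_lit 0x1b8d5052cd002), (nat_lit 0x1b8c5052e8002), (nat_lit 0x39a4001)], [(nat_lit 0x5291001), (nat_lit 0x3971001), (nat_lit 0x25cbb05292002)], [(nat_lit 0x397c001), (nat_lit 0x5298001), (nat_lit 0x397d001)], [(nat_lit 0x3984001), (nat_lit 0x52a0001), (nat_lit 0x52b0001)], [(nat_lit 0x52b1001), (nat_lit 0x39d2001), (nat_lit 0x39a1001)], [(nat_lit 0x52b9001), (nat_lit 0x398b001), (nat_lit 0x52db001)], [(nat_lit 0x3990001), (nat_lit 0x52bd001), (nat_lit 0x3991001)], [(nat_lit 0x2e89a052d9002), (nat_lit 0x39ab001), (nat_lit 0x52ef001)], [(nat_lit 0x3989001), (nat_lit 0x2a38d052b7002), (nat_lit 0x2de45052d2002)], [(nat_lit 0x529f001), (nat_lit 0x3983001), (nat_lit 0x52af001)], [(nat_lit 0x398d001), (nat_lit 0x52bb001), (nat_lit 0x398e001)], [(nat_lit 0x52d6001), (nat_lit 0x39a9001), (nat_lit 0x52ec001)], [(nat_lit 0x3985001), (nat_lit 0x52a1001), (nat_lit 0x265c4052b2002)], [(nat_lit 0x398c001), (nat_lit 0x52ba001), (nat_lit 0x52d4001)], [(nat_lit 0x52d3001), (nat_lit 0x52ea001), (nat_lit 0x39a7001)], [(nat_lit 0x25c25052c7002), (nat_lit 0x399d001), (nat_lit 0x25535052e3002)], [(nat_lit 0x5303001), (nat_lit 0x39c4001), (nat_lit 0x2631905323002)], [(nat_lit 0x39be001), (nat_lit 0x2e541052fe002), (nat_lit 0x530e001)], [(nat_lit 0x530d001), (nat_lit 0x2ed5f05326002), (nat_lit 0x39d3001)], [(nat_lit 0x2bdc505308002), (nat_lit 0x39cc001), (nat_lit 0x5325001)], [(nat_lit 0x29a4d052fd002), (nat_lit 0x39bd001), (nat_lit 0x2a45105320002)], [(nat_lit 0x5316001), (nat_lit 0x39db001), (nat_lit 0x532e001)], [(nat_lit 0x39ba001), (nat_lit 0x52fb001), (nat_lit 0x530c001)], [(nat_lit 0x530b001), (nat_lit 0x39d2001), (nat_lit 0x39d1001)], [(nat_lit 0x25c8b05300002), (nat_lit 0x39c0001), (nat_lit 0x2557d05321002)], [(nat_lit 0x39cd001), (nat_lit 0x5309001), (nat_lit 0x39ce001)], [(nat_lit 0x26ab805317002), (nat_lit 0x39dc001), (nat_lit 0x532f001)], [(nat_lit 0x52b8001), (nat_lit 0x398a001), (nat_lit 0x52da001)], [(nat_lit 0x3993001), (nat_lit 0x3992001), (nat_lit 0x2291e052bf002)], [(nat_lit 0x2ed3e05302002), (nat_lit 0x39c3001), (nat_lit 0x5322001)], [(nat_lit 0x25d3f052e2002), (nat_lit 0x52f9001), (nat_lit 0x39b8001)], [(nat_lit 0x52fc001), (nat_lit 0x39bc001), (nat_lit 0x531f001)], [(nat_lit 0x39c8001), (nat_lit 0x5306001), (nat_lit 0x39c9001)], [(nat_lit 0x5315001), (nat_lit 0x39da001), (nat_lit 0x532d001)], [(nat_lit 0x52c4001), (nat_lit 0x399a001), (nat_lit 0x221dc052e0002)], [(nat_lit 0x39b4001), (nat_lit 0x52f6001), (nat_lit 0x39b3001)], [(nat_lit 0x5304001), (nat_lit 0x39c5001), (nat_lit 0x5324001)], [(nat_lit 0x39bf001), (nat_lit 0x52ff001), (nat_lit 0x5310001)], [(nat_lit 0x530f001), (nat_lit 0x5327001), (nat_lit 0x39d4001)], [(nat_lit 0x39c1001), (nat_lit 0x279be05301002), (nat_lit 0x5312001)], [(nat_lit 0x5311001), (nat_lit 0x5328001), (nat_lit 0x39d5001)], [(nat_lit 0x5332001), (nat_lit 0x39e3001), (nat_lit 0x2914805363002)], [(nat_lit 0x39f5001), (nat_lit 0x533f001), (nat_lit 0x39f6001)], [(nat_lit 0x535a001), (nat_lit 0x3a0f001), (nat_lit 0x5377001)], [(nat_lit 0x277680535d002), (nat_lit 0x5379001), (nat_lit 0x3a11001)], [(nat_lit 0x281bc0536f002), (nat_lit 0x537e001), (nat_lit 0x3a16001)], [(nat_lit 0x538c001), (nat_lit 0x3a27001), (nat_lit 0x53a9001)], [(nat_lit 0x39cf001), (nat_lit 0x530a001), (nat_lit 0x39d0001)], [(nat_lit 0x2d54e05318002), (nat_lit 0x39dd001), (nat_lit 0x2d72a05330002)], [(nat_lit 0x39e4001), (nat_lit 0x5333001), (nat_lit 0x5350001)], [(nat_lit 0x534f001), (nat_lit 0x5370001), (nat_lit 0x3a08001)], [(nat_lit 0x5335001), (nat_lit 0x39e8001), (nat_lit 0x291c305365002)], [(nat_lit 0x39f9001), (nat_lit 0x5342001), (nat_lit 0x39fa001)], [(nat_lit 0x535f001), (nat_lit 0x3a12001), (nat_lit 0x537a001)], [(nat_lit 0x39df001), (nat_lit 0x5319001), (nat_lit 0x39de001)], [(nat_lit 0x2112c05334002), (nat_lit 0x39e6001), (nat_lit 0x5364001)], [(nat_lit 0x39f7001), (nat_lit 0x2ed3f05340002), (nat_lit 0x535c001)], [(nat_lit 0x535b001), (nat_lit 0x2da4d05378002), (nat_lit 0x3a10001)], [(nat_lit 0x39f3001), (nat_lit 0x2a89a0533e002), (nat_lit 0x39f4001)], [(nat_lit 0x294a905359002), (nat_lit 0x3a0e001), (nat_lit 0x294a805376002)], [(nat_lit 0x2ea8005355002), (nat_lit 0x5373001), (nat_lit 0x3a0b001)], [(nat_lit 0x5344001), (nat_lit 0x39fc001), (nat_lit 0x5369001)], [(nat_lit 0x5339001), (nat_lit 0x39ec001), (nat_lit 0x5366001)], [(nat_lit 0x39f0001), (nat_lit 0x2415d0533b002), (nat_lit 0x5358001)], [(nat_lit 0x5357001), (nat_lit 0x5374001), (nat_lit 0x3a0c001)], [(nat_lit 0x2880105348002), (nat_lit 0x3a02001), (nat_lit 0x288020536b002)], [(nat_lit 0x3a1a001), (nat_lit 0x2e62405382002), (nat_lit 0x5397001)], [(nat_lit 0x5396001), (nat_lit 0x3c6f001), (nat_lit 0x3a35001)], [(nat_lit 0x2415d0533c002), (nat_lit 0x3a18001), (nat_lit 0x2466d05380002)], [(nat_lit 0x3a20001), (nat_lit 0x26b5005388002), (nat_lit 0x2e4ef05399002)], [(nat_lit 0x2e4ef05398002), (nat_lit 0x2ea0a03a5a002), (nat_lit 0x3a36001)], [(nat_lit 0x27772053b4002), (nat_lit 0x3a40001), (nat_lit 0x27774053d2002)], [(nat_lit 0x39f1001), (nat_lit 0x2bb420533d002), (nat_lit 0x39f2001)], [(nat_lit 0x2a8e205353002), (nat_lit 0x2b33705372002), (nat_lit 0x3a0a001)], [(nat_lit 0x5343001), (nat_lit 0x39fb001), (nat_lit 0x5368001)], [(nat_lit 0x2a48f05360002), (nat_lit 0x3a13001), (nat_lit 0x276280537b002)], [(nat_lit 0x3a41001), (nat_lit 0x2d923053b5002), (nat_lit 0x27095053c6002)], [(nat_lit 0x1ff18053b9002), (nat_lit 0x3a45001), (nat_lit 0x1ff17053d3002)], [(nat_lit 0x3a4c001), (nat_lit 0x53be001), (nat_lit 0x3a4d001)], [(nat_lit 0x53cd001), (nat_lit 0x3a5e001), (nat_lit 0x53dd001)], [(nat_lit 0x39ee001), (nat_lit 0x533a001), (nat_lit 0x39ed001)], [(nat_lit 0x26c5805347002), (nat_lit 0x3a01001), (nat_lit 0x255ba0536a002)], [(nat_lit 0x3a19001), (nat_lit 0x2768105381002), (nat_lit 0x5395001)], [(nat_lit 0x5394001), (nat_lit 0x2e379053ab002), (nat_lit 0x3a34001)], [(nat_lit 0x53a0001), (nat_lit 0x3a3c001), (nat_lit 0x21762053b1002)], [(nat_lit 0x53e1001), (nat_lit 0x3a62001), (nat_lit 0x53ef001)], [(nat_lit 0x3a66001), (nat_lit 0x53e5001), (nat_lit 0x28698053ee002)], [(nat_lit 0x28698053ed002), (nat_lit 0x2ba90053f5002), (nat_lit 0x3a6b001)], [(nat_lit 0x5390001), (nat_lit 0x3a30001), (nat_lit 0x2e3da053aa002)], [(nat_lit 0x3a43001), (nat_lit 0x2869c053b7002), (nat_lit 0x53ca001)], [(nat_lit 0x53c9001), (nat_lit 0x53da001), (nat_lit 0x3a5b001)], [(nat_lit 0x3a54001), (nat_lit 0x2869f053c1002), (nat_lit 0x53d1001)], [(nat_lit 0x53d0001), (nat_lit 0x53e0001), (nat_lit 0x3a61001)], [(nat_lit 0x53c3001), (nat_lit 0x3a56001), (nat_lit 0x53d7001)], [(nat_lit 0x3a64001), (nat_lit 0x53e3001), (nat_lit 0x29b8d053ea002)], [(nat_lit 0x3a31001), (nat_lit 0x5391001), (nat_lit 0x53a2001)], [(nat_lit 0x53a1001), (nat_lit 0x53b2001), (nat_lit 0x3a3d001)], [(nat_lit 0x3a33001), (nat_lit 0x3a32001), (nat_lit 0x2e79305392002)], [(nat_lit 0x3a3f001), (nat_lit 0x53b3001), (nat_lit 0x3a3e001)], [(nat_lit 0x2eabf053bc002), (nat_lit 0x3a49001), (nat_lit 0x53d6001)], [(nat_lit 0x3a44001), (nat_lit 0x53b8001), (nat_lit 0x53cc001)], [(nat_lit 0x53cb001), (nat_lit 0x53db001), (nat_lit 0x3a5c001)], [(nat_lit 0x2e79305393002), (nat_lit 0x2e794053c2002), (nat_lit 0x3a55001)], [(nat_lit 0x2e795053c4002), (nat_lit 0x3a57001), (nat_lit 0x53d8001)], [(nat_lit 0x3a65001), (nat_lit 0x53e4001), (nat_lit 0x53ec001)], [(nat_lit 0x53eb001), (nat_lit 0x53f4001), (nat_lit 0x3a6a001)], [(nat_lit 0x2e3f2053e6002), (nat_lit 0x3a67001), (nat_lit 0x53f0001)], [(nat_lit 0x2ec8a05448002), (nat_lit 0x5456001), (nat_lit 0x3ab8001)], [(nat_lit 0x5436001), (nat_lit 0x3aa8001), (nat_lit 0x544c001)], [(nat_lit 0x3abb001), (nat_lit 0x3c02001), (nat_lit 0x3aba001)], [(nat_lit 0x5462001), (nat_lit 0x3ac7001), (nat_lit 0x5477001)], [(nat_lit 0x3aa2001), (nat_lit 0x3aa1001), (nat_lit 0x5431001)], [(nat_lit 0x3aa7001), (nat_lit 0x2e93b05435002), (nat_lit 0x2ecf80544a002)], [(nat_lit 0x2ecf80544b002), (nat_lit 0x2e93d05457002), (nat_lit 0x3ab9001)], [(nat_lit 0x5458001), (nat_lit 0x3abc001), (nat_lit 0x5473001)], [(nat_lit 0x3ac8001), (nat_lit 0x2e94105463002), (nat_lit 0x3ac9001)], [(nat_lit 0x546d001), (nat_lit 0x3ad4001), (nat_lit 0x547e001)], [(nat_lit 0x5432001), (nat_lit 0x545a001), (nat_lit 0x3abe001)], [(nat_lit 0x5465001), (nat_lit 0x3acc001), (nat_lit 0x5478001)], [(nat_lit 0x3ad8001), (nat_lit 0x2c04d05471002), (nat_lit 0x2bb4105483002)], [(nat_lit 0x3ac4001), (nat_lit 0x2dcb20545f002), (nat_lit 0x546a001)], [(nat_lit 0x5469001), (nat_lit 0x547c001), (nat_lit 0x3ad1001)], [(nat_lit 0x5459001), (nat_lit 0x3abd001), (nat_lit 0x2a64305474002)], [(nat_lit 0x3aca001), (nat_lit 0x5464001), (nat_lit 0x3acb001)], [(nat_lit 0x546f001), (nat_lit 0x3ad5001), (nat_lit 0x5480001)], [(nat_lit 0x3ac2001), (nat_lit 0x545d001), (nat_lit 0x3ac1001)], [(nat_lit 0x3ada001), (nat_lit 0x5486001), (nat_lit 0x54a3001)], [(nat_lit 0x54a2001), (nat_lit 0x54be001), (nat_lit 0x3afa001)], [(nat_lit 0x29c4905460002), (nat_lit 0x3ac5001), (nat_lit 0x29c4a05476002)], [(nat_lit 0x285500545e002), (nat_lit 0x3ac3001), (nat_lit 0x5475001)], [(nat_lit 0x2ae0a05482002), (nat_lit 0x549e001), (nat_lit 0x3af7001)], [(nat_lit 0x3ae2001), (nat_lit 0x548f001), (nat_lit 0x3ae3001)], [(nat_lit 0x2cd2a054a4002), (nat_lit 0x54c0001), (nat_lit 0x3afc001)], [(nat_lit 0x2baf805491002), (nat_lit 0x3ae6001), (nat_lit 0x2c50f054b2002)], [(nat_lit 0x3ae7001), (nat_lit 0x5492001), (nat_lit 0x3ae8001)], [(nat_lit 0x54ac001), (nat_lit 0x3b01001), (nat_lit 0x54c5001)], [(nat_lit 0x3adf001), (nat_lit 0x548b001), (nat_lit 0x54a7001)], [(nat_lit 0x54a6001), (nat_lit 0x2e370054c1002), (nat_lit 0x3afd001)], [(nat_lit 0x3af3001), (nat_lit 0x29c280549b002), (nat_lit 0x29c29054ba002)], [(nat_lit 0x29c29054bb002), (nat_lit 0x54c9001), (nat_lit 0x3b0b001)], [(nat_lit 0x3b11001), (nat_lit 0x29c2b054cb002), (nat_lit 0x3b10001)], [(nat_lit 0x54d6001), (nat_lit 0x3b1e001), (nat_lit 0x29c2d054ec002)], [(nat_lit 0x3b36001), (nat_lit 0x2cca5054fe002), (nat_lit 0x29a3405511002)], [(nat_lit 0x5506001), (nat_lit 0x3b42001), (nat_lit 0x551d001)], [(nat_lit 0x3b48001), (nat_lit 0x5509001), (nat_lit 0x2ed4705521002)], [(nat_lit 0x2ed4705522002), (nat_lit 0x5530001), (nat_lit 0x3b58001)], [(nat_lit 0x548d001), (nat_lit 0x3ae0001), (nat_lit 0x54b1001)], [(nat_lit 0x2ace5054b6002), (nat_lit 0x54c7001), (nat_lit 0x3b09001)], [(nat_lit 0x29250054d5002), (nat_lit 0x3b1d001), (nat_lit 0x54eb001)], [(nat_lit 0x3aec001), (nat_lit 0x5494001), (nat_lit 0x54ae001)], [(nat_lit 0x54ad001), (nat_lit 0x54c6001), (nat_lit 0x3b04001)], [(nat_lit 0x2bd6f054e2002), (nat_lit 0x54f3001), (nat_lit 0x3b2b001)], [(nat_lit 0x5495001), (nat_lit 0x3b13001), (nat_lit 0x54cd001)], [(nat_lit 0x2d572054de002), (nat_lit 0x54f1001), (nat_lit 0x3b27001)], [(nat_lit 0x3ae1001), (nat_lit 0x548e001), (nat_lit 0x54a9001)], [(nat_lit 0x54a8001), (nat_lit 0x54c2001), (nat_lit 0x3afe001)], [(nat_lit 0x3b12001), (nat_lit 0x2d5a7054cc002), (nat_lit 0x2ce9d054da002)], [(nat_lit 0x2b070054d7002), (nat_lit 0x3b1f001), (nat_lit 0x54ed001)], [(nat_lit 0x3b30001), (nat_lit 0x54e5001), (nat_lit 0x29125054f7002)], [(nat_lit 0x29125054f8002), (nat_lit 0x1d0ea0550b002), (nat_lit 0x3b4c001)], [(nat_lit 0x2e2e4054d3002), (nat_lit 0x3b1a001), (nat_lit 0x54e9001)], [(nat_lit 0x548c001), (nat_lit 0x3b14001), (nat_lit 0x2d483054ce002)], [(nat_lit 0x3b25001), (nat_lit 0x54db001), (nat_lit 0x3b24001)], [(nat_lit 0x54e4001), (nat_lit 0x3b2e001), (nat_lit 0x54f5001)], [(nat_lit 0x3b18001), (nat_lit 0x54d1001), (nat_lit 0x54e1001)], [(nat_lit 0x54e0001), (nat_lit 0x2d521054f2002), (nat_lit 0x3b2a001)], [(nat_lit 0x54fb001), (nat_lit 0x3b33001), (nat_lit 0x551b001)], [(nat_lit 0x3b3c001), (nat_lit 0x2e20205503002), (nat_lit 0x3b3d001)], [(nat_lit 0x5515001), (nat_lit 0x3b53001), (nat_lit 0x552b001)], [(nat_lit 0x2ed0f0550e002), (nat_lit 0x2ec9f05528002), (nat_lit 0x3b4f001)], [(nat_lit 0x2eb08054fc002), (nat_lit 0x3b34001), (nat_lit 0x551c001)], [(nat_lit 0x3b3e001), (nat_lit 0x2eb0a05504002), (nat_lit 0x3b3f001)], [(nat_lit 0x5516001), (nat_lit 0x3b54001), (nat_lit 0x2e9b60552c002)], [(nat_lit 0x3b15001), (nat_lit 0x54cf001), (nat_lit 0x54dd001)], [(nat_lit 0x54dc001), (nat_lit 0x54f0001), (nat_lit 0x3b26001)], [(nat_lit 0x3b40001), (nat_lit 0x2e7f805505002), (nat_lit 0x3b41001)], [(nat_lit 0x3b39001), (nat_lit 0x5500001), (nat_lit 0x5514001)], [(nat_lit 0x5513001), (nat_lit 0x2ecb90552a002), (nat_lit 0x3b52001)], [(nat_lit 0x2ecba05508002), (nat_lit 0x3b44001), (nat_lit 0x2ecbb05520002)], [(nat_lit 0x2eb8205519002), (nat_lit 0x552f001), (nat_lit 0x3b57001)], [(nat_lit 0x5532001), (nat_lit 0x3b5c001), (nat_lit 0x2eb8105554002)], [(nat_lit 0x3b66001), (nat_lit 0x2e4bf0553c002), (nat_lit 0x3b67001)], [(nat_lit 0x3b69001), (nat_lit 0x553e001), (nat_lit 0x3b6a001)], [(nat_lit 0x554b001), (nat_lit 0x3b79001), (nat_lit 0x555f001)], [(nat_lit 0x3b5f001), (nat_lit 0x2e12c05535002), (nat_lit 0x5548001)], [(nat_lit 0x5547001), (nat_lit 0x2e4c20555c002), (nat_lit 0x3b75001)], [(nat_lit 0x3b73001), (nat_lit 0x5544001), (nat_lit 0x5553001)], [(nat_lit 0x5552001), (nat_lit 0x2d90d052a9002), (nat_lit 0x3b82001)], [(nat_lit 0x5564001), (nat_lit 0x3b85001), (nat_lit 0x557e001)], [(nat_lit 0x3b93001), (nat_lit 0x556d001), (nat_lit 0x3b94001)], [(nat_lit 0x5578001), (nat_lit 0x3ba4001), (nat_lit 0x5587001)], [(nat_lit 0x3b5e001), (nat_lit 0x5534001), (nat_lit 0x2d8b705546002)], [(nat_lit 0x2d8b705545002), (nat_lit 0x555b001), (nat_lit 0x3b74001)], [(nat_lit 0x5541001), (nat_lit 0x3b70001), (nat_lit 0x2ea560555a002)], [(nat_lit 0x3b7f001), (nat_lit 0x554d001), (nat_lit 0x3b7e001)], [(nat_lit 0x556a001), (nat_lit 0x3b8f001), (nat_lit 0x5581001)], [(nat_lit 0x2d3a105549002), (nat_lit 0x555d001), (nat_lit 0x3b76001)], [(nat_lit 0x553f001), (nat_lit 0x3b6c001), (nat_lit 0x5559001)], [(nat_lit 0x557c001), (nat_lit 0x3bac001), (nat_lit 0x5591001)], [(nat_lit 0x3bb6001), (nat_lit 0x559a001), (nat_lit 0x3bb7001)], [(nat_lit 0x3b71001), (nat_lit 0x2a89c05542002), (nat_lit 0x2a89d0554f002)], [(nat_lit 0x3b90001), (nat_lit 0x556b001), (nat_lit 0x3b91001)], [(nat_lit 0x5567001), (nat_lit 0x3b89001), (nat_lit 0x557f001)], [(nat_lit 0x3b6d001), (nat_lit 0x5540001), (nat_lit 0x3b6e001)], [(nat_lit 0x554c001), (nat_lit 0x3b7b001), (nat_lit 0x5561001)], [(nat_lit 0x233ca05592002), (nat_lit 0x3bad001), (nat_lit 0x2380b055b9002)], [(nat_lit 0x3bb8001), (nat_lit 0x559b001), (nat_lit 0x3bb9001)], [(nat_lit 0x2c051055b2002), (nat_lit 0x3bd0001), (nat_lit 0x55ca001)], [(nat_lit 0x5579001), (nat_lit 0x3ba7001), (nat_lit 0x5589001)], [(nat_lit 0x3bbf001), (nat_lit 0x27bd00559f002), (nat_lit 0x27bd1055b8002)], [(nat_lit 0x55a4001), (nat_lit 0x3bc5001), (nat_lit 0x55c3001)], [(nat_lit 0x3bf1001), (nat_lit 0x55dd001), (nat_lit 0x27bd503bf2002)], [(nat_lit 0x557a001), (nat_lit 0x3ba8001), (nat_lit 0x558a001)], [(nat_lit 0x272a6055ad002), (nat_lit 0x55c7001), (nat_lit 0x3bcd001)], [(nat_lit 0x3bbe001), (nat_lit 0x559d001), (nat_lit 0x25414055b6002)], [(nat_lit 0x25414055b5002), (nat_lit 0x55cc001), (nat_lit 0x3bd3001)], [(nat_lit 0x2b15d055a3002), (nat_lit 0x3bc4001), (nat_lit 0x2b15c055c2002)], [(nat_lit 0x260ea055f0002), (nat_lit 0x3c02001), (nat_lit 0x3c01001)], [(nat_lit 0x559e001), (nat_lit 0x3bc8001), (nat_lit 0x55a7001)], [(nat_lit 0x3be2001), (nat_lit 0x55d3001), (nat_lit 0x3be1001)], [(nat_lit 0x22614055e3002), (nat_lit 0x3bf8001), (nat_lit 0x2c800055ff002)], [(nat_lit 0x3c14001), (nat_lit 0x2437c05611002), (nat_lit 0x3c15001)], [(nat_lit 0x5599001), (nat_lit 0x2af2b05613002), (nat_lit 0x3c1a001)], [(nat_lit 0x556e001), (nat_lit 0x3b97001), (nat_lit 0x5582001)], [(nat_lit 0x3baa001), (nat_lit 0x557b001), (nat_lit 0x558d001)], [(nat_lit 0x558e001), (nat_lit 0x2e120055a9002), (nat_lit 0x3bca001)], [(nat_lit 0x5594001), (nat_lit 0x3bb0001), (nat_lit 0x55ba001)], [(nat_lit 0x3bc0001), (nat_lit 0x55a0001), (nat_lit 0x2d2eb055bb002)], [(nat_lit 0x2d2eb055bc002), (nat_lit 0x2b879055cd002), (nat_lit 0x3bd7001)], [(nat_lit 0x2e214055de002), (nat_lit 0x3bf3001), (nat_lit 0x55fa001)], [(nat_lit 0x2ccd5055e1002), (nat_lit 0x3bf6001), (nat_lit 0x2ccd6055fd002)], [(nat_lit 0x3c09001), (nat_lit 0x55f7001), (nat_lit 0x2ccd805609002)], [(nat_lit 0x55e2001), (nat_lit 0x3bf7001), (nat_lit 0x55fe001)], [(nat_lit 0x3c0a001), (nat_lit 0x560a001), (nat_lit 0x29b2305620002)], [(nat_lit 0x29b230561f002), (nat_lit 0x2962a0563e002), (nat_lit 0x3c27001)], [(nat_lit 0x3bb3001), (nat_lit 0x3bb2001), (nat_lit 0x5596001)], [(nat_lit 0x3bba001), (nat_lit 0x559c001), (nat_lit 0x3bbb001)], [(nat_lit 0x5597001), (nat_lit 0x55d4001), (nat_lit 0x3be3001)], [(nat_lit 0x24b84055e4002), (nat_lit 0x3bf9001), (nat_lit 0x5600001)], [(nat_lit 0x3c0b001), (nat_lit 0x2299e0560b002), (nat_lit 0x299a105622002)], [(nat_lit 0x299a105621002), (nat_lit 0x1bdf30563f002), (nat_lit 0x3c28001)], [(nat_lit 0x2a3c8055d6002), (nat_lit 0x3be8001), (nat_lit 0x55f8001)], [(nat_lit 0x3bfc001), (nat_lit 0x55e7001), (nat_lit 0x3bfb001)], [(nat_lit 0x3c0d001), (nat_lit 0x2abba0560d002), (nat_lit 0x2c54005624002)], [(nat_lit 0x3bb5001), (nat_lit 0x3bb4001), (nat_lit 0x5598001)], [(nat_lit 0x55b4001), (nat_lit 0x3bd2001), (nat_lit 0x55cb001)], [(nat_lit 0x3bc3001), (nat_lit 0x55a2001), (nat_lit 0x55c0001)], [(nat_lit 0x55c1001), (nat_lit 0x2ebba055cf002), (nat_lit 0x3bdb001)], [(nat_lit 0x55a6001), (nat_lit 0x3bc7001), (nat_lit 0x55c5001)], [(nat_lit 0x3bdf001), (nat_lit 0x55d1001), (nat_lit 0x3bde001)], [(nat_lit 0x2e852055df002), (nat_lit 0x3bf4001), (nat_lit 0x2e851055fb002)], [(nat_lit 0x3be5001), (nat_lit 0x55d5001), (nat_lit 0x3be4001)], [(nat_lit 0x55f4001), (nat_lit 0x3c06001), (nat_lit 0x5607001)], [(nat_lit 0x3c0e001), (nat_lit 0x560e001), (nat_lit 0x5626001)], [(nat_lit 0x5625001), (nat_lit 0x5641001), (nat_lit 0x3c2a001)], [(nat_lit 0x2ed35055e8002), (nat_lit 0x2eabd05602002), (nat_lit 0x3bfd001)], [(nat_lit 0x3bed001), (nat_lit 0x55da001), (nat_lit 0x2d24b055ef002)], [(nat_lit 0x2d24b055ee002), (nat_lit 0x2e0f005604002), (nat_lit 0x3c00001)], [(nat_lit 0x2e6b0055f5002), (nat_lit 0x3c07001), (nat_lit 0x5608001)], [(nat_lit 0x3c0f001), (nat_lit 0x560f001), (nat_lit 0x5628001)], [(nat_lit 0x5627001), (nat_lit 0x2ea2905642002), (nat_lit 0x3c2b001)], [(nat_lit 0x55db001), (nat_lit 0x3c08001), (nat_lit 0x55f6001)], [(nat_lit 0x3c12001), (nat_lit 0x2ed6d05610002), (nat_lit 0x3c13001)], [(nat_lit 0x5629001), (nat_lit 0x3c2d001), (nat_lit 0x1ff1605643002)], [(nat_lit 0x5614001), (nat_lit 0x3c1b001), (nat_lit 0x5633001)], [(nat_lit 0x3c32001), (nat_lit 0x562d001), (nat_lit 0x3c31001)], [(nat_lit 0x5658001), (nat_lit 0x3c4a001), (nat_lit 0x5670001)], [(nat_lit 0x2e63105615002), (nat_lit 0x3c1c001), (nat_lit 0x2e63205634002)], [(nat_lit 0x3c34001), (nat_lit 0x562e001), (nat_lit 0x3c33001)], [(nat_lit 0x2e9df05638002), (nat_lit 0x2e9e005648002), (nat_lit 0x3c38001)], [(nat_lit 0x2e9e105657002), (nat_lit 0x3c49001), (nat_lit 0x2e9e20566f002)], [(nat_lit 0x3c18001), (nat_lit 0x2e9e305612002), (nat_lit 0x3c19001)], [(nat_lit 0x562c001), (nat_lit 0x3c30001), (nat_lit 0x5646001)], [(nat_lit 0x3c52001), (nat_lit 0x2e2bd0565e002), (nat_lit 0x3c53001)], [(nat_lit 0x566a001), (nat_lit 0x3c5e001), (nat_lit 0x567b001)], [(nat_lit 0x3c43001), (nat_lit 0x2da0805652002), (nat_lit 0x5665001)], [(nat_lit 0x5664001), (nat_lit 0x5678001), (nat_lit 0x3c59001)], [(nat_lit 0x2e0230562b002), (nat_lit 0x3c2f001), (nat_lit 0x5645001)], [(nat_lit 0x2c4fa05684002), (nat_lit 0x3c65001), (nat_lit 0x56a8001)], [(nat_lit 0x3c6d001), (nat_lit 0x3c6f001), (nat_lit 0x3c6e001)], [(nat_lit 0x56a4001), (nat_lit 0x3c88001), (nat_lit 0x56bb001)], [(nat_lit 0x27f1005619002), (nat_lit 0x3c1f001), (nat_lit 0x5636001)], [(nat_lit 0x2bdb905668002), (nat_lit 0x567a001), (nat_lit 0x3c5d001)], [(nat_lit 0x5616001), (nat_lit 0x3c1d001), (nat_lit 0x2a65605635002)], [(nat_lit 0x3c36001), (nat_lit 0x562f001), (nat_lit 0x3c35001)], [(nat_lit 0x5659001), (nat_lit 0x3c4c001), (nat_lit 0x2c02805671002)], [(nat_lit 0x3c21001), (nat_lit 0x561a001), (nat_lit 0x5639001)], [(nat_lit 0x563a001), (nat_lit 0x5649001), (nat_lit 0x3c39001)], [(nat_lit 0x565b001), (nat_lit 0x3c4e001), (nat_lit 0x5672001)], [(nat_lit 0x3c62001), (nat_lit 0x566c001), (nat_lit 0x567f001)], [(nat_lit 0x5680001), (nat_lit 0x569b001), (nat_lit 0x3c80001)], [(nat_lit 0x561c001), (nat_lit 0x3c23001), (nat_lit 0x563b001)], [(nat_lit 0x3c70001), (nat_lit 0x568c001), (nat_lit 0x3c71001)], [(nat_lit 0x56a5001), (nat_lit 0x3c89001), (nat_lit 0x56bc001)], [(nat_lit 0x3c3d001), (nat_lit 0x2cc0f0564c002), (nat_lit 0x2ed9105660002)], [(nat_lit 0x565d001), (nat_lit 0x3c51001), (nat_lit 0x5675001)], [(nat_lit 0x3c64001), (nat_lit 0x5683001), (nat_lit 0x2a64e0569e002)], [(nat_lit 0x3c58001), (nat_lit 0x5663001), (nat_lit 0x3c57001)], [(nat_lit 0x2ce000568d002), (nat_lit 0x3c72001), (nat_lit 0x2ca01056a9002)], [(nat_lit 0x3c78001), (nat_lit 0x5693001), (nat_lit 0x56ae001)], [(nat_lit 0x56af001), (nat_lit 0x56be001), (nat_lit 0x3c92001)], [(nat_lit 0x56cc001), (nat_lit 0x3ca1001), (nat_lit 0x56e6001)], [(nat_lit 0x289770565c002), (nat_lit 0x3c50001), (nat_lit 0x2848905674002)], [(nat_lit 0x3c63001), (nat_lit 0x280bf0566d002), (nat_lit 0x5681001)], [(nat_lit 0x5682001), (nat_lit 0x2c18c0569c002), (nat_lit 0x3c81001)], [(nat_lit 0x3c47001), (nat_lit 0x3c46001), (nat_lit 0x5655001)], [(nat_lit 0x566b001), (nat_lit 0x3c61001), (nat_lit 0x567e001)], [(nat_lit 0x5656001), (nat_lit 0x268da0568b002), (nat_lit 0x3c6c001)], [(nat_lit 0x5692001), (nat_lit 0x3c77001), (nat_lit 0x56ad001)], [(nat_lit 0x3c91001), (nat_lit 0x56bd001), (nat_lit 0x3c90001)], [(nat_lit 0x2e88a056ce002), (nat_lit 0x3ca5001), (nat_lit 0x56e9001)], [(nat_lit 0x56cd001), (nat_lit 0x3ca2001), (nat_lit 0x56e8001)], [(nat_lit 0x3cb8001), (nat_lit 0x2e057056e1002), (nat_lit 0x21e2f056fa002)], [(nat_lit 0x21e2f056fb002), (nat_lit 0x2c90605711002), (nat_lit 0x3cd9001)], [(nat_lit 0x3c6a001), (nat_lit 0x281a603c6b002), (nat_lit 0x2421405689002)], [(nat_lit 0x242140568a002), (nat_lit 0x56a3001), (nat_lit 0x3c87001)], [(nat_lit 0x243190568e002), (nat_lit 0x3c73001), (nat_lit 0x56aa001)], [(nat_lit 0x3c79001), (nat_lit 0x2431a05694002), (nat_lit 0x56b0001)], [(nat_lit 0x56b1001), (nat_lit 0x1b45a056bf002), (nat_lit 0x3c93001)], [(nat_lit 0x3c7a001), (nat_lit 0x5695001), (nat_lit 0x56b2001)], [(nat_lit 0x56b3001), (nat_lit 0x56c1001), (nat_lit 0x3c95001)], [(nat_lit 0x3cbb001), (nat_lit 0x2c0c6056e3002), (nat_lit 0x5700001)], [(nat_lit 0x5701001), (nat_lit 0x25de505713002), (nat_lit 0x3cdc001)], [(nat_lit 0x3c9a001), (nat_lit 0x2c4fc056c6002), (nat_lit 0x2b717056d3002)], [(nat_lit 0x3c9e001), (nat_lit 0x28509056c9002), (nat_lit 0x2dbcd056d9002)], [(nat_lit 0x2dbcd056d8002), (nat_lit 0x1a302056f1002), (nat_lit 0x3cb1001)], [(nat_lit 0x2e464056dd002), (nat_lit 0x3cb4001), (nat_lit 0x2dea5056f4002)], [(nat_lit 0x3cbc001), (nat_lit 0x1bd99056e4002), (nat_lit 0x227e805702002)], [(nat_lit 0x227e805703002), (nat_lit 0x1a2bf05714002), (nat_lit 0x3cdd001)], [(nat_lit 0x3caf001), (nat_lit 0x2a3ce056d5002), (nat_lit 0x3cae001)], [(nat_lit 0x286b9056da002), (nat_lit 0x56f2001), (nat_lit 0x3cb2001)], [(nat_lit 0x56de001), (nat_lit 0x3cb5001), (nat_lit 0x286bc056f6002)], [(nat_lit 0x2d6dc056df002), (nat_lit 0x3cb6001), (nat_lit 0x2d6dd056f7002)], [(nat_lit 0x3cbe001), (nat_lit 0x2cddf05704002), (nat_lit 0x5718001)], [(nat_lit 0x5717001), (nat_lit 0x2e4900572c002), (nat_lit 0x3cdf001)], [(nat_lit 0x3cc5001), (nat_lit 0x2c0b905708002), (nat_lit 0x571c001)], [(nat_lit 0x571b001), (nat_lit 0x3d08001), (nat_lit 0x3ce1001)], [(nat_lit 0x3ce9001), (nat_lit 0x2dfc905733002), (nat_lit 0x3ce8001)], [(nat_lit 0x573b001), (nat_lit 0x3cf3001), (nat_lit 0x574b001)], [(nat_lit 0x3c9d001), (nat_lit 0x1e348056c8002), (nat_lit 0x56d7001)], [(nat_lit 0x56d6001), (nat_lit 0x56f0001), (nat_lit 0x3cb0001)], [(nat_lit 0x3cc6001), (nat_lit 0x256aa05709002), (nat_lit 0x3cc7001)], [(nat_lit 0x2e88505726002), (nat_lit 0x5732001), (nat_lit 0x3ce7001)], [(nat_lit 0x3ccc001), (nat_lit 0x570b001), (nat_lit 0x3ccd001)], [(nat_lit 0x5720001), (nat_lit 0x3ce5001), (nat_lit 0x2aef705730002)], [(nat_lit 0x2d64005724002), (nat_lit 0x2d64105731002), (nat_lit 0x3ce6001)], [(nat_lit 0x2de080570c002), (nat_lit 0x3cd2001), (nat_lit 0x2eb4205727002)], [(nat_lit 0x3cc8001), (nat_lit 0x570a001), (nat_lit 0x3cc9001)], [(nat_lit 0x571e001), (nat_lit 0x3ce3001), (nat_lit 0x572e001)], [(nat_lit 0x25d0505729002), (nat_lit 0x5735001), (nat_lit 0x3cec001)], [(nat_lit 0x5737001), (nat_lit 0x3cee001), (nat_lit 0x5748001)], [(nat_lit 0x5744001), (nat_lit 0x3cfd001), (nat_lit 0x29d5205752002)], [(nat_lit 0x3cd6001), (nat_lit 0x570e001), (nat_lit 0x3cd5001)], [(nat_lit 0x3cf9001), (nat_lit 0x573f001), (nat_lit 0x5746001)], [(nat_lit 0x5745001), (nat_lit 0x26f2e05754002), (nat_lit 0x3cff001)], [(nat_lit 0x570f001), (nat_lit 0x3cd7001), (nat_lit 0x572b001)], [(nat_lit 0x3cf0001), (nat_lit 0x5739001), (nat_lit 0x286c505741002)], [(nat_lit 0x286c505740002), (nat_lit 0x286c605750002), (nat_lit 0x3cfa001)], [(nat_lit 0x286c705747002), (nat_lit 0x3d00001), (nat_lit 0x286c805755002)], [(nat_lit 0x3d03001), (nat_lit 0x2912405757002), (nat_lit 0x3d04001)], [(nat_lit 0x3d02001), (nat_lit 0x2b12b05756002), (nat_lit 0x2b12c0575a002)], [(nat_lit 0x2b12c05759002), (nat_lit 0x3d08001), (nat_lit 0x3d07001)], [(nat_lit 0x3d0c001), (nat_lit 0x2d68805760002), (nat_lit 0x3d0d001)], [(nat_lit 0x2dd2a05763002), (nat_lit 0x3d10001), (nat_lit 0x2dd2905766002)], [(nat_lit 0x2e6f4057b3002), (nat_lit 0x57c5001), (nat_lit 0x3d65001)], [(nat_lit 0x3d80001), (nat_lit 0x57da001), (nat_lit 0x3d81001)], [(nat_lit 0x3dbd001), (nat_lit 0x3d96001), (nat_lit 0x2810f03daf002)], [(nat_lit 0x57a5001), (nat_lit 0x3d4d001), (nat_lit 0x57bf001)], [(nat_lit 0x3d59001), (nat_lit 0x57ac001), (nat_lit 0x3d5a001)], [(nat_lit 0x3d7a001), (nat_lit 0x57d6001), (nat_lit 0x2e0da057eb002)], [(nat_lit 0x2e0da057ea002), (nat_lit 0x211ae05806002), (nat_lit 0x3d94001)], [(nat_lit 0x3d88001), (nat_lit 0x57de001), (nat_lit 0x57f3001)], [(nat_lit 0x57f2001), (nat_lit 0x226bc0580b002), (nat_lit 0x3d9c001)], [(nat_lit 0x2b17d057b8002), (nat_lit 0x3d6c001), (nat_lit 0x2b17c057cb002)], [(nat_lit 0x3db3001), (nat_lit 0x5817001), (nat_lit 0x3db4001)], [(nat_lit 0x5820001), (nat_lit 0x3dbf001), (nat_lit 0x5833001)], [(nat_lit 0x2a1e9057d2002), (nat_lit 0x3d76001), (nat_lit 0x2147b057fa002)], [(nat_lit 0x3d82001), (nat_lit 0x2df1d057db002), (nat_lit 0x2b670057ed002)], [(nat_lit 0x57ef001), (nat_lit 0x3d9a001), (nat_lit 0x5809001)], [(nat_lit 0x3dbd001), (nat_lit 0x581f001), (nat_lit 0x3dbc001)], [(nat_lit 0x3d87001), (nat_lit 0x2e4f8057dd002), (nat_lit 0x57f1001)], [(nat_lit 0x57f0001), (nat_lit 0x580a001), (nat_lit 0x3d9b001)], [(nat_lit 0x5813001), (nat_lit 0x3dad001), (nat_lit 0x582b001)], [(nat_lit 0x3d8e001), (nat_lit 0x2d0ff057e3002), (nat_lit 0x57f8001)], [(nat_lit 0x57f7001), (nat_lit 0x2e0990580d002), (nat_lit 0x3da2001)], [(nat_lit 0x3dc3001), (nat_lit 0x2ec4305822002), (nat_lit 0x3e90001)], [(nat_lit 0x2c7bb05824002), (nat_lit 0x3dc5001), (nat_lit 0x2499905839002)], [(nat_lit 0x585c001), (nat_lit 0x3df2001), (nat_lit 0x5872001)], [(nat_lit 0x2db62057ba002), (nat_lit 0x57cd001), (nat_lit 0x3d6e001)], [(nat_lit 0x57d3001), (nat_lit 0x3d77001), (nat_lit 0x57fb001)], [(nat_lit 0x5823001), (nat_lit 0x3dc4001), (nat_lit 0x28cf805838002)], [(nat_lit 0x3dd1001), (nat_lit 0x5845001), (nat_lit 0x3dd2001)], [(nat_lit 0x585b001), (nat_lit 0x3df1001), (nat_lit 0x5871001)], [(nat_lit 0x57d4001), (nat_lit 0x3d78001), (nat_lit 0x57fc001)], [(nat_lit 0x2c22c057df002), (nat_lit 0x3d89001), (nat_lit 0x5801001)], [(nat_lit 0x3d9e001), (nat_lit 0x2cecd057f4002), (nat_lit 0x3d9d001)], [(nat_lit 0x3d8d001), (nat_lit 0x2e52a057e1002), (nat_lit 0x2e10d057f6002)], [(nat_lit 0x2e10d057f5002), (nat_lit 0x580c001), (nat_lit 0x3da1001)], [(nat_lit 0x2cbe705837002), (nat_lit 0x5853001), (nat_lit 0x3de9001)], [(nat_lit 0x286450581b002), (nat_lit 0x582f001), (nat_lit 0x3db9001)], [(nat_lit 0x3de0001), (nat_lit 0x2841a0584b002), (nat_lit 0x1e9d805865002)], [(nat_lit 0x3dc8001), (nat_lit 0x5827001), (nat_lit 0x583e001)], [(nat_lit 0x583f001), (nat_lit 0x5857001), (nat_lit 0x3ded001)], [(nat_lit 0x581a001), (nat_lit 0x3db8001), (nat_lit 0x582e001)], [(nat_lit 0x2dc9805844002), (nat_lit 0x3dd0001), (nat_lit 0x2dc9905862002)], [(nat_lit 0x3dd9001), (nat_lit 0x23c7f05849002), (nat_lit 0x3dda001)], [(nat_lit 0x3ddf001), (nat_lit 0x2e9400584a002), (nat_lit 0x5860001)], [(nat_lit 0x585f001), (nat_lit 0x2e92205875002), (nat_lit 0x3df8001)], [(nat_lit 0x2ce9b0584d002), (nat_lit 0x3de2001), (nat_lit 0x5869001)], [(nat_lit 0x3e0b001), (nat_lit 0x5881001), (nat_lit 0x588b001)], [(nat_lit 0x588a001), (nat_lit 0x58a4001), (nat_lit 0x3e1b001)], [(nat_lit 0x2a7010583d002), (nat_lit 0x5856001), (nat_lit 0x3dec001)], [(nat_lit 0x585d001), (nat_lit 0x3df3001), (nat_lit 0x5873001)], [(nat_lit 0x3de5001), (nat_lit 0x584e001), (nat_lit 0x2da8a0586e002)], [(nat_lit 0x5883001), (nat_lit 0x3e0e001), (nat_lit 0x589e001)], [(nat_lit 0x3e21001), (nat_lit 0x2dc1705891002), (nat_lit 0x58aa001)], [(nat_lit 0x58ab001), (nat_lit 0x2b5b5058c8002), (nat_lit 0x3e41001)], [(nat_lit 0x584f001), (nat_lit 0x3de6001), (nat_lit 0x2ddf605850002)], [(nat_lit 0x5892001), (nat_lit 0x3e22001), (nat_lit 0x58ac001)], [(nat_lit 0x2d9d605841002), (nat_lit 0x2d9d705858002), (nat_lit 0x3def001)], [(nat_lit 0x585e001), (nat_lit 0x3df5001), (nat_lit 0x5874001)], [(nat_lit 0x2c9d50586d002), (nat_lit 0x2c9d605879002), (nat_lit 0x3dfd001)], [(nat_lit 0x5882001), (nat_lit 0x3e0d001), (nat_lit 0x589d001)], [(nat_lit 0x2d1570587f002), (nat_lit 0x3e09001), (nat_lit 0x2d0f70589b002)], [(nat_lit 0x3de1001), (nat_lit 0x2d1580584c002), (nat_lit 0x2d15905867002)], [(nat_lit 0x2d15905868002), (nat_lit 0x5878001), (nat_lit 0x3dfc001)], [(nat_lit 0x2bb0205884002), (nat_lit 0x3e10001), (nat_lit 0x58a0001)], [(nat_lit 0x5852001), (nat_lit 0x3de8001), (nat_lit 0x2caf50586f002)], [(nat_lit 0x3e04001), (nat_lit 0x587b001), (nat_lit 0x3e03001)], [(nat_lit 0x5885001), (nat_lit 0x3e11001), (nat_lit 0x27b66058a1002)], [(nat_lit 0x2951f058b0002), (nat_lit 0x58cc001), (nat_lit 0x3e43001)], [(nat_lit 0x588e001), (nat_lit 0x3e1d001), (nat_lit 0x58a5001)], [(nat_lit 0x5887001), (nat_lit 0x3e15001), (nat_lit 0x58a3001)], [(nat_lit 0x3e25001), (nat_lit 0x5895001), (nat_lit 0x58b1001)], [(nat_lit 0x58b2001), (nat_lit 0x58cd001), (nat_lit 0x3e44001)], [(nat_lit 0x3e26001), (nat_lit 0x2cee505896002), (nat_lit 0x58b3001)], [(nat_lit 0x58b4001), (nat_lit 0x2ed73058ce002), (nat_lit 0x3e45001)], [(nat_lit 0x58b7001), (nat_lit 0x3e2a001), (nat_lit 0x58d3001)], [(nat_lit 0x3e2f001), (nat_lit 0x262c0058ba002), (nat_lit 0x3e30001)], [(nat_lit 0x58d2001), (nat_lit 0x3e49001), (nat_lit 0x2e850058e7002)], [(nat_lit 0x3e16001), (nat_lit 0x5888001), (nat_lit 0x3e17001)], [(nat_lit 0x24e5a0588f002), (nat_lit 0x3e1e001), (nat_lit 0x2ed92058a6002)], [(nat_lit 0x587e001), (nat_lit 0x3e08001), (nat_lit 0x28cd20589a002)], [(nat_lit 0x3e18001), (nat_lit 0x2724305889002), (nat_lit 0x3e19001)], [(nat_lit 0x5890001), (nat_lit 0x3e1f001), (nat_lit 0x58a7001)], [(nat_lit 0x2d687058b9002), (nat_lit 0x3e2e001), (nat_lit 0x2dbed058d5002)], [(nat_lit 0x3e33001), (nat_lit 0x58be001), (nat_lit 0x2eb75058da002)], [(nat_lit 0x276a605897002), (nat_lit 0x3e27001), (nat_lit 0x276a7058b5002)], [(nat_lit 0x3e32001), (nat_lit 0x58bc001), (nat_lit 0x2905f058d8002)], [(nat_lit 0x2905f058d9002), (nat_lit 0x58ea001), (nat_lit 0x3e4c001)], [(nat_lit 0x26dc8058bf002), (nat_lit 0x3e34001), (nat_lit 0x58dc001)], [(nat_lit 0x3e5c001), (nat_lit 0x58f5001), (nat_lit 0x58fc001)], [(nat_lit 0x58fb001), (nat_lit 0x5910001), (nat_lit 0x3e66001)], [(nat_lit 0x58bd001), (nat_lit 0x3e38001), (nat_lit 0x28664058c3002)], [(nat_lit 0x3e53001), (nat_lit 0x27c93058ed002), (nat_lit 0x3e52001)], [(nat_lit 0x3e3c001), (nat_lit 0x58c5001), (nat_lit 0x28665058e0002)], [(nat_lit 0x5901001), (nat_lit 0x3e6a001), (nat_lit 0x5914001)], [(nat_lit 0x3e7a001), (nat_lit 0x26f5503ea8002), (nat_lit 0x3e7b001)], [(nat_lit 0x25cba0593c002), (nat_lit 0x3ea1001), (nat_lit 0x25cb905957002)], [(nat_lit 0x3e31001), (nat_lit 0x2800d058bb002), (nat_lit 0x2800e058d6002)], [(nat_lit 0x3e37001), (nat_lit 0x3e36001), (nat_lit 0x2d00b058c1002)], [(nat_lit 0x3e51001), (nat_lit 0x58ec001), (nat_lit 0x3e50001)], [(nat_lit 0x29778058f7002), (nat_lit 0x3e5e001), (nat_lit 0x2a15d0590b002)], [(nat_lit 0x2e2e5058df002), (nat_lit 0x27398058ef002), (nat_lit 0x3e56001)], [(nat_lit 0x5900001), (nat_lit 0x3e69001), (nat_lit 0x5913001)], [(nat_lit 0x3eaa001), (nat_lit 0x3e9f001), (nat_lit 0x3ea0001)], [(nat_lit 0x2d00b058c2002), (nat_lit 0x2d1f1058c4002), (nat_lit 0x3e3a001)], [(nat_lit 0x3e55001), (nat_lit 0x58ee001), (nat_lit 0x3e54001)], [(nat_lit 0x27f11058e3002), (nat_lit 0x58f1001), (nat_lit 0x3e58001)], [(nat_lit 0x3e7c001), (nat_lit 0x273ac05774002), (nat_lit 0x3e7d001)], [(nat_lit 0x593d001), (nat_lit 0x3ea2001), (nat_lit 0x5958001)], [(nat_lit 0x3e6c001), (nat_lit 0x5903001), (nat_lit 0x273b005916002)], [(nat_lit 0x3e64001), (nat_lit 0x58fa001), (nat_lit 0x3e65001)], [(nat_lit 0x58ff001), (nat_lit 0x3e68001), (nat_lit 0x5912001)], [(nat_lit 0x5922001), (nat_lit 0x3e7f001), (nat_lit 0x5945001)], [(nat_lit 0x3e8b001), (nat_lit 0x273b80592b002), (nat_lit 0x3ea0001)], [(nat_lit 0x3eaa001), (nat_lit 0x273b90595c002), (nat_lit 0x3ea9001)], [(nat_lit 0x3e6d001), (nat_lit 0x5904001), (nat_lit 0x5917001)], [(nat_lit 0x5918001), (nat_lit 0x5936001), (nat_lit 0x3e9a001)], [(nat_lit 0x3e80001), (nat_lit 0x5923001), (nat_lit 0x3e81001)], [(nat_lit 0x593e001), (nat_lit 0x3ea3001), (nat_lit 0x5959001)], [(nat_lit 0x591d001), (nat_lit 0x3e75001), (nat_lit 0x2b29a05943002)], [(nat_lit 0x3e84001), (nat_lit 0x5925001), (nat_lit 0x3e85001)], [(nat_lit 0x593f001), (nat_lit 0x3ea5001), (nat_lit 0x595b001)], [(nat_lit 0x3e76001), (nat_lit 0x591e001), (nat_lit 0x2d60005939002)], [(nat_lit 0x28a3d05926002), (nat_lit 0x3e86001), (nat_lit 0x5946001)], [(nat_lit 0x3e77001), (nat_lit 0x591f001), (nat_lit 0x593b001)], [(nat_lit 0x593a001), (nat_lit 0x5956001), (nat_lit 0x3e9e001)], [(nat_lit 0x5927001), (nat_lit 0x3e87001), (nat_lit 0x289f005947002)], [(nat_lit 0x5920001), (nat_lit 0x3e89001), (nat_lit 0x5929001)], [(nat_lit 0x3e8f001), (nat_lit 0x592e001), (nat_lit 0x3e90001)], [(nat_lit 0x596d001), (nat_lit 0x3ec6001), (nat_lit 0x598b001)], [(nat_lit 0x3ed1001), (nat_lit 0x5979001), (nat_lit 0x3ed0001)], [(nat_lit 0x2cc2c0599e002), (nat_lit 0x3ee3001), (nat_lit 0x1cf27059c4002)], [(nat_lit 0x3ebf001), (nat_lit 0x596b001), (nat_lit 0x3ec0001)], [(nat_lit 0x2700f05972002), (nat_lit 0x3ecb001), (nat_lit 0x2679f0598d002)], [(nat_lit 0x3ec9001), (nat_lit 0x596f001), (nat_lit 0x597d001)], [(nat_lit 0x597c001), (nat_lit 0x1975b05994002), (nat_lit 0x3ed4001)], [(nat_lit 0x5928001), (nat_lit 0x3e88001), (nat_lit 0x2850105948002)], [(nat_lit 0x3e8e001), (nat_lit 0x29dda0592d002), (nat_lit 0x594d001)], [(nat_lit 0x594e001), (nat_lit 0x595f001), (nat_lit 0x3ead001)], [(nat_lit 0x29cec05967002), (nat_lit 0x3ebb001), (nat_lit 0x2930d05986002)], [(nat_lit 0x3ec4001), (nat_lit 0x2dbb70596c002), (nat_lit 0x5976001)], [(nat_lit 0x5975001), (nat_lit 0x5990001), (nat_lit 0x3ece001)], [(nat_lit 0x2d43e05951002), (nat_lit 0x5960001), (nat_lit 0x3eaf001)], [(nat_lit 0x2cec705973002), (nat_lit 0x3ecc001), (nat_lit 0x598e001)], [(nat_lit 0x3ed7001), (nat_lit 0x3ed6001), (nat_lit 0x597f001)], [(nat_lit 0x3ee4001), (nat_lit 0x599f001), (nat_lit 0x3ee5001)], [(nat_lit 0x59b2001), (nat_lit 0x3efe001), (nat_lit 0x59cc001)], [(nat_lit 0x3edb001), (nat_lit 0x2a3c905983002), (nat_lit 0x5997001)], [(nat_lit 0x5998001), (nat_lit 0x59ac001), (nat_lit 0x3efa001)], [(nat_lit 0x3f06001), (nat_lit 0x59bb001), (nat_lit 0x3f05001)], [(nat_lit 0x5980001), (nat_lit 0x5981001), (nat_lit 0x3ed8001)], [(nat_lit 0x25bf105982002), (nat_lit 0x3ed9001), (nat_lit 0x2550205995002)], [(nat_lit 0x3ee7001), (nat_lit 0x2e948059a0002), (nat_lit 0x3ee8001)], [(nat_lit 0x59b3001), (nat_lit 0x3eff001), (nat_lit 0x26b68059cd002)], [(nat_lit 0x3edd001), (nat_lit 0x599a001), (nat_lit 0x59ae001)], [(nat_lit 0x59ad001), (nat_lit 0x59ca001), (nat_lit 0x3efb001)], [(nat_lit 0x2d630059de002), (nat_lit 0x3f1e001), (nat_lit 0x5a0a001)], [(nat_lit 0x3f26001), (nat_lit 0x2d1d1059e3002), (nat_lit 0x59f1001)], [(nat_lit 0x59f0001), (nat_lit 0x5a14001), (nat_lit 0x3f31001)], [(nat_lit 0x59dd001), (nat_lit 0x3f1d001), (nat_lit 0x2dd4e05a09002)], [(nat_lit 0x2d97f059e4002), (nat_lit 0x3f28001), (nat_lit 0x2d98005a0e002)], [(nat_lit 0x234c9059d7002), (nat_lit 0x3f13001), (nat_lit 0x2483f05a04002)], [(nat_lit 0x3f21001), (nat_lit 0x25ca9059df002), (nat_lit 0x3f22001)], [(nat_lit 0x59ed001), (nat_lit 0x3f2f001), (nat_lit 0x5a11001)], [(nat_lit 0x2caf90599b002), (nat_lit 0x3ede001), (nat_lit 0x59c2001)], [(nat_lit 0x3eec001), (nat_lit 0x59a3001), (nat_lit 0x3eed001)], [(nat_lit 0x3f15001), (nat_lit 0x2e263059d8002), (nat_lit 0x3f14001)], [(nat_lit 0x3f2a001), (nat_lit 0x59e7001), (nat_lit 0x59f7001)], [(nat_lit 0x59f6001), (nat_lit 0x5a16001), (nat_lit 0x3f37001)], [(nat_lit 0x5a01001), (nat_lit 0x3f40001), (nat_lit 0x5a1a001)], [(nat_lit 0x3f2c001), (nat_lit 0x2c026059e9002), (nat_lit 0x59fb001)], [(nat_lit 0x59fa001), (nat_lit 0x5a18001), (nat_lit 0x3f39001)], [(nat_lit 0x3f52001), (nat_lit 0x2246505a28002), (nat_lit 0x3f53001)], [(nat_lit 0x5a9e001), (nat_lit 0x3fba001), (nat_lit 0x5ac3001)], [(nat_lit 0x3fbe001), (nat_lit 0x5ac7001), (nat_lit 0x3fbf001)], [(nat_lit 0xf1dd05ae6002), (nat_lit 0x3fe3001), (nat_lit 0xf1e005b02002)], [(nat_lit 0x2dfdf059e1002), (nat_lit 0x3f24001), (nat_lit 0x1da3c05a0c002)], [(nat_lit 0x3f2b001), (nat_lit 0x1ea7d059e8002), (nat_lit 0x59f9001)], [(nat_lit 0x59f8001), (nat_lit 0x5a17001), (nat_lit 0x3f38001)], [(nat_lit 0x5a02001), (nat_lit 0x3f41001), (nat_lit 0x5a1b001)], [(nat_lit 0x3f50001), (nat_lit 0x2dc3c05a27002), (nat_lit 0x3f51001)], [(nat_lit 0x2dc3b05a3f002), (nat_lit 0x3f6d001), (nat_lit 0x5a5e001)], [(nat_lit 0x3f46001), (nat_lit 0x2e35405a20002), (nat_lit 0x5a3c001)], [(nat_lit 0x5a3b001), (nat_lit 0x2aacf05a5a002), (nat_lit 0x3f69001)], [(nat_lit 0x5a73001), (nat_lit 0x3f88001), (nat_lit 0x5aa0001)], [(nat_lit 0x5a9f001), (nat_lit 0x3fbb001), (nat_lit 0x5ac4001)], [(nat_lit 0x3fc0001), (nat_lit 0x2d9b603fdd002), (nat_lit 0x3fc1001)], [(nat_lit 0x3f19001), (nat_lit 0x295df059da002), (nat_lit 0x27abd059eb002)], [(nat_lit 0x3f3e001), (nat_lit 0x3f3d001), (nat_lit 0x240bb059ff002)], [(nat_lit 0x3f4c001), (nat_lit 0x5a25001), (nat_lit 0x3f4d001)], [(nat_lit 0x2736a05a3d002), (nat_lit 0x3f6b001), (nat_lit 0x2b12105a5c002)], [(nat_lit 0x3f45001), (nat_lit 0x5a1f001), (nat_lit 0x1ea1705a3a002)], [(nat_lit 0x266bb05a2f002), (nat_lit 0x3f5e001), (nat_lit 0x5a56001)], [(nat_lit 0x3f75001), (nat_lit 0x5a47001), (nat_lit 0x3f74001)], [(nat_lit 0x3fac001), (nat_lit 0x3f8a001), (nat_lit 0x3f9e001)], [(nat_lit 0x5a77001), (nat_lit 0x3f8e001), (nat_lit 0x2c9c805aa4002)], [(nat_lit 0x2e23105a95002), (nat_lit 0x22f4705ab3002), (nat_lit 0x3fb1001)], [(nat_lit 0x3f84001), (nat_lit 0x3f85001), (nat_lit 0x2d38305a70002)], [(nat_lit 0x2d38305a71002), (nat_lit 0x2d8f505a88002), (nat_lit 0x3fa4001)], [(nat_lit 0x2593d05ac0002), (nat_lit 0x5ae5001), (nat_lit 0x3fe1001)], [(nat_lit 0x5a21001), (nat_lit 0x3f48001), (nat_lit 0x2e38d05a51002)], [(nat_lit 0x3f5c001), (nat_lit 0x2b1a105a2d002), (nat_lit 0x5a44001)], [(nat_lit 0x5a43001), (nat_lit 0x5a63001), (nat_lit 0x3f72001)], [(nat_lit 0x2ce85059fd002), (nat_lit 0x3f62001), (nat_lit 0x2ce8605a32002)], [(nat_lit 0x3f7b001), (nat_lit 0x2babe05a4e002), (nat_lit 0x3f7a001)], [(nat_lit 0x3fa1001), (nat_lit 0x220e905a84002), (nat_lit 0x267fa05a94002)], [(nat_lit 0x267fa05a93002), (nat_lit 0x29cd105ab2002), (nat_lit 0x3fb0001)], [(nat_lit 0x3f3c001), (nat_lit 0x27c90059fe002), (nat_lit 0x3f3b001)], [(nat_lit 0x5a1e001), (nat_lit 0x3f44001), (nat_lit 0x5a50001)], [(nat_lit 0x3f58001), (nat_lit 0x5a2b001), (nat_lit 0x3f59001)], [(nat_lit 0x3f61001), (nat_lit 0x5a31001), (nat_lit 0x1e9e105a4d002)], [(nat_lit 0x29c2a05a75002), (nat_lit 0x3f8b001), (nat_lit 0x5aa1001)], [(nat_lit 0x3f9d001), (nat_lit 0x5a81001), (nat_lit 0x3f9e001)], [(nat_lit 0x3fac001), (nat_lit 0x1e18905a8e002), (nat_lit 0x3fab001)], [(nat_lit 0x3f65001), (nat_lit 0x28d0c05a35002), (nat_lit 0x5a58001)], [(nat_lit 0x5a59001), (nat_lit 0x5a69001), (nat_lit 0x3f7c001)], [(nat_lit 0x5acc001), (nat_lit 0x3fc8001), (nat_lit 0x5af8001)], [(nat_lit 0x3fed001), (nat_lit 0x27d7a05aec002), (nat_lit 0x3fec001)], [(nat_lit 0x5b17001), (nat_lit 0x400b001), (nat_lit 0x2219005b46002)], [(nat_lit 0x3fb3001), (nat_lit 0x2902505a97002), (nat_lit 0x1f20f05ab5002)], [(nat_lit 0x3fc4001), (nat_lit 0x252db05ac9002), (nat_lit 0x3fc5001)], [(nat_lit 0x5a79001), (nat_lit 0x3f90001), (nat_lit 0x5aa6001)], [(nat_lit 0x3fb5001), (nat_lit 0x2acbc05a99002), (nat_lit 0x5ab9001)], [(nat_lit 0x5aba001), (nat_lit 0x5ae2001), (nat_lit 0x3fde001)], [(nat_lit 0x2329705a38002), (nat_lit 0x3f87001), (nat_lit 0x5a72001)], [(nat_lit 0x3f99001), (nat_lit 0x2329905a7f002), (nat_lit 0x3f9a001)], [(nat_lit 0x270b805a8b002), (nat_lit 0x3fa8001), (nat_lit 0x5aae001)], [(nat_lit 0x3fb9001), (nat_lit 0x5a9d001), (nat_lit 0x5ac1001)], [(nat_lit 0x5ac2001), (nat_lit 0x2e8160405a002), (nat_lit 0x3fe2001)], [(nat_lit 0x5ace001), (nat_lit 0x3fc9001), (nat_lit 0x5af9001)], [(nat_lit 0x3f7e001), (nat_lit 0x5a6b001), (nat_lit 0x21ca005a87002)], [(nat_lit 0x401b001), (nat_lit 0x5b21001), (nat_lit 0x5b28001)], [(nat_lit 0x5b27001), (nat_lit 0x1da8b05b56002), (nat_lit 0x401f001)], [(nat_lit 0x3f80001), (nat_lit 0x3f7f001), (nat_lit 0x5a6c001)], [(nat_lit 0x3f91001), (nat_lit 0x2c68505a7a002), (nat_lit 0x3f92001)], [(nat_lit 0x5a89001), (nat_lit 0x3fa5001), (nat_lit 0x2b71d05aab002)], [(nat_lit 0x3fb6001), (nat_lit 0x5a9a001), (nat_lit 0x5abb001)], [(nat_lit 0x5abc001), (nat_lit 0x2bc7305ae3002), (nat_lit 0x3fdf001)], [(nat_lit 0x2be9a05aca002), (nat_lit 0x3fc6001), (nat_lit 0x2be9905af6002)], [(nat_lit 0x3fe9001), (nat_lit 0x5aea001), (nat_lit 0x3fe8001)], [(nat_lit 0x5b14001), (nat_lit 0x4009001), (nat_lit 0x5b43001)], [(nat_lit 0x5a6d001), (nat_lit 0x2d00405ad2002), (nat_lit 0x3fcc001)], [(nat_lit 0x2d8a405b13002), (nat_lit 0x4008001), (nat_lit 0x2d8a505b42002)], [(nat_lit 0x4021001), (nat_lit 0x2d8a605b2a002), (nat_lit 0x5b59001)], [(nat_lit 0x5b5a001), (nat_lit 0x2d8a805b80002), (nat_lit 0x4053001)], [(nat_lit 0x2df0105ad3002), (nat_lit 0x3fce001), (nat_lit 0x2df0205afa002)], [(nat_lit 0x3ff5001), (nat_lit 0x2df7d05af1002), (nat_lit 0x3ff4001)], [(nat_lit 0x3f93001), (nat_lit 0x292ac05a7b002), (nat_lit 0x3f94001)], [(nat_lit 0x21c9305a8a002), (nat_lit 0x3fa6001), (nat_lit 0x21dc705aac002)], [(nat_lit 0x5a7c001), (nat_lit 0x3f95001), (nat_lit 0x1a2ec05aa7002)], [(nat_lit 0x3fb7001), (nat_lit 0x5a9b001), (nat_lit 0x5abd001)], [(nat_lit 0x5abe001), (nat_lit 0x5ae4001), (nat_lit 0x3fe0001)], [(nat_lit 0x4003001), (nat_lit 0x5b11001), (nat_lit 0x5b23001)], [(nat_lit 0x5b22001), (nat_lit 0x1a2c505b53002), (nat_lit 0x401c001)], [(nat_lit 0x403c001), (nat_lit 0x24a8e05b3d002), (nat_lit 0x403d001)], [(nat_lit 0x5b19001), (nat_lit 0x400f001), (nat_lit 0x5b4b001)], [(nat_lit 0x4023001), (nat_lit 0x5b2c001), (nat_lit 0x5b5c001)], [(nat_lit 0x5b5d001), (nat_lit 0x5b81001), (nat_lit 0x4054001)], [(nat_lit 0x2cea405b1a002), (nat_lit 0x4010001), (nat_lit 0x24c3005b4c002)], [(nat_lit 0x4034001), (nat_lit 0x5b39001), (nat_lit 0x4035001)], [(nat_lit 0x2d8b505b89002), (nat_lit 0x405e001), (nat_lit 0x2a13c05ba6002)], [(nat_lit 0x2902605b1b002), (nat_lit 0x4012001), (nat_lit 0x5b4e001)], [(nat_lit 0x4017001), (nat_lit 0x2c94a05b20002), (nat_lit 0x4018001)], [(nat_lit 0x5b26001), (nat_lit 0x401e001), (nat_lit 0x5b55001)], [(nat_lit 0x3fd3001), (nat_lit 0x2e2dd05ad8002), (nat_lit 0x5afc001)], [(nat_lit 0x5afd001), (nat_lit 0x5b0c001), (nat_lit 0x3ffa001)], [(nat_lit 0x5b32001), (nat_lit 0x402b001), (nat_lit 0x5b68001)], [(nat_lit 0x4036001), (nat_lit 0x5b3a001), (nat_lit 0x4037001)], [(nat_lit 0x5b8a001), (nat_lit 0x405f001), (nat_lit 0x2180405ba7002)], [(nat_lit 0x3fd6001), (nat_lit 0x2ba6205adc002), (nat_lit 0x5b00001)], [(nat_lit 0x5b01001), (nat_lit 0x5b0e001), (nat_lit 0x3ffc001)], [(nat_lit 0x2c6fe05b5f002), (nat_lit 0x1d98705b83002), (nat_lit 0x4056001)], [(nat_lit 0x3fd9001), (nat_lit 0x2dc8205adf002), (nat_lit 0x3fd8001)], [(nat_lit 0x2e2fd05b1e002), (nat_lit 0x4015001), (nat_lit 0x2e2fe05b51002)], [(nat_lit 0x403a001), (nat_lit 0x5b3c001), (nat_lit 0x403b001)], [(nat_lit 0x403f001), (nat_lit 0x5b6d001), (nat_lit 0x5b8e001)], [(nat_lit 0x5b8d001), (nat_lit 0x2e62205bab002), (nat_lit 0x4063001)], [(nat_lit 0x5b71001), (nat_lit 0x4042001), (nat_lit 0x5b95001)], [(nat_lit 0x5b6e001), (nat_lit 0x4040001), (nat_lit 0x2b4d305b94002)], [(nat_lit 0x4077001), (nat_lit 0x5bb9001), (nat_lit 0x5bc9001)], [(nat_lit 0x5bc8001), (nat_lit 0x25f0405be4002), (nat_lit 0x4086001)], [(nat_lit 0x404a001), (nat_lit 0x223e105b76002), (nat_lit 0x5b9c001)], [(nat_lit 0x5b9d001), (nat_lit 0x40c1001), (nat_lit 0x406e001)], [(nat_lit 0x4081001), (nat_lit 0x26b4405bc3002), (nat_lit 0x4082001)], [(nat_lit 0x2b32c05bbe002), (nat_lit 0x407c001), (nat_lit 0x5bde001)], [(nat_lit 0x4083001), (nat_lit 0x5bc4001), (nat_lit 0x5bcd001)], [(nat_lit 0x5bcc001), (nat_lit 0x5be9001), (nat_lit 0x4089001)], [(nat_lit 0x2cd6105b78002), (nat_lit 0x404e001), (nat_lit 0x5b7a001)], [(nat_lit 0x4094001), (nat_lit 0x5bf3001), (nat_lit 0x4095001)], [(nat_lit 0x5c09001), (nat_lit 0x40b5001), (nat_lit 0x5c21001)], [(nat_lit 0x29dd405bbf002), (nat_lit 0x407d001), (nat_lit 0x2a7e205bdf002)], [(nat_lit 0x4084001), (nat_lit 0x2b23605bc5002), (nat_lit 0x5bcf001)], [(nat_lit 0x5bce001), (nat_lit 0x2c13305bea002), (nat_lit 0x408a001)], [(nat_lit 0x2be1405b7b002), (nat_lit 0x4050001), (nat_lit 0x2c81e05ba1002)], [(nat_lit 0x4073001), (nat_lit 0x2026c05bb5002), (nat_lit 0x4072001)], [(nat_lit 0x5bc1001), (nat_lit 0x407f001), (nat_lit 0x5be1001)], [(nat_lit 0x4051001), (nat_lit 0x5b7d001), (nat_lit 0x276ac05ba2002)], [(nat_lit 0x276ac05ba3002), (nat_lit 0x1a2fd05bb6002), (nat_lit 0x4074001)], [(nat_lit 0x5bc2001), (nat_lit 0x4080001), (nat_lit 0x2516605be2002)], [(nat_lit 0x5b7e001), (nat_lit 0x4090001), (nat_lit 0x2cd3705bd6002)], [(nat_lit 0x40a6001), (nat_lit 0x14ad805bfe002), (nat_lit 0x5c15001)], [(nat_lit 0x5c16001), (nat_lit 0x40c1001), (nat_lit 0x40c0001)], [(nat_lit 0x40c6001), (nat_lit 0x5c2c001), (nat_lit 0x40c5001)], [(nat_lit 0x2e28e05bd4002), (nat_lit 0x4091001), (nat_lit 0x5bd7001)], [(nat_lit 0x409e001), (nat_lit 0x5bf8001), (nat_lit 0x409f001)], [(nat_lit 0x5c02001), (nat_lit 0x40ab001), (nat_lit 0x2e5b705c1d002)], [(nat_lit 0x40c8001), (nat_lit 0x2e86d040e9002), (nat_lit 0x40c7001)], [(nat_lit 0x40bd001), (nat_lit 0x2c48a05c0f002), (nat_lit 0x40bc001)], [(nat_lit 0x40a9001), (nat_lit 0x5c01001), (nat_lit 0x2d2ce05c1a002)], [(nat_lit 0x2d2ce05c1b002), (nat_lit 0x2d2cf05c2b002), (nat_lit 0x40c4001)], [(nat_lit 0x40cb001), (nat_lit 0x5c2d001), (nat_lit 0x40ca001)], [(nat_lit 0x5c30001), (nat_lit 0x40ce001), (nat_lit 0x5c51001)], [(nat_lit 0x40da001), (nat_lit 0x5c38001), (nat_lit 0x40db001)], [(nat_lit 0x2b7eb05c6a002), (nat_lit 0x40fd001), (nat_lit 0x2bd9505c90002)], [(nat_lit 0x4108001), (nat_lit 0x2d0c005c70002), (nat_lit 0x2d1d305c84002)], [(nat_lit 0x2d1d305c83002), (nat_lit 0x2408305ca2002), (nat_lit 0x411c001)], [(nat_lit 0x40a8001), (nat_lit 0x2888b05c00002), (nat_lit 0x5c18001)], [(nat_lit 0x5c19001), (nat_lit 0x2c82305c2a002), (nat_lit 0x40c3001)], [(nat_lit 0x2eb5505c3b002), (nat_lit 0x40de001), (nat_lit 0x2eb5605c57002)], [(nat_lit 0x40e6001), (nat_lit 0x5c42001), (nat_lit 0x40e5001)], [(nat_lit 0x2ea1605c67002), (nat_lit 0x40f8001), (nat_lit 0x2e68a05c8f002)], [(nat_lit 0x5bd8001), (nat_lit 0x4093001), (nat_lit 0x2e57605bf2002)], [(nat_lit 0x40a1001), (nat_lit 0x5bfa001), (nat_lit 0x40a2001)], [(nat_lit 0x5c0e001), (nat_lit 0x40bb001), (nat_lit 0x5c27001)], [(nat_lit 0x40f9001), (nat_lit 0x5c68001), (nat_lit 0x40fa001)], [(nat_lit 0x40b0001), (nat_lit 0x2e49605c05002), (nat_lit 0x5c1e001)], [(nat_lit 0x5c1f001), (nat_lit 0x2609c05c2f002), (nat_lit 0x40cd001)], [(nat_lit 0x5c37001), (nat_lit 0x40d9001), (nat_lit 0x5c55001)], [(nat_lit 0x40df001), (nat_lit 0x1da9105c3c002), (nat_lit 0x5c44001)], [(nat_lit 0x5c43001), (nat_lit 0x21e7a05c5b002), (nat_lit 0x40ea001)], [(nat_lit 0x40ed001), (nat_lit 0x2b72305c49002), (nat_lit 0x2c18005c5e002)], [(nat_lit 0x2c18005c5f002), (nat_lit 0x5c79001), (nat_lit 0x4112001)], [(nat_lit 0x40fe001), (nat_lit 0x5c6b001), (nat_lit 0x40ff001)], [(nat_lit 0x2e9e505c7e002), (nat_lit 0x4118001), (nat_lit 0x2e9e405c9c002)], [(nat_lit 0x5c65001), (nat_lit 0x40f6001), (nat_lit 0x2a49105c8e002)], [(nat_lit 0x4104001), (nat_lit 0x5c6e001), (nat_lit 0x4105001)], [(nat_lit 0x410e001), (nat_lit 0x5c74001), (nat_lit 0x5c8c001)], [(nat_lit 0x5c8b001), (nat_lit 0x5ca5001), (nat_lit 0x4121001)], [(nat_lit 0x2aefc05cab002), (nat_lit 0x412b001), (nat_lit 0x2b6a305cbd002)], [(nat_lit 0x2cd2e05cb4002), (nat_lit 0x5cc3001), (nat_lit 0x4135001)], [(nat_lit 0x2ce4b05c06002), (nat_lit 0x40b1001), (nat_lit 0x2e9f505c20002)], [(nat_lit 0x40e0001), (nat_lit 0x242f605c3d002), (nat_lit 0x5c46001)], [(nat_lit 0x5c45001), (nat_lit 0x5c5c001), (nat_lit 0x40eb001)], [(nat_lit 0x5c4a001), (nat_lit 0x40ef001), (nat_lit 0x2609d05c60002)], [(nat_lit 0x40fb001), (nat_lit 0x5c69001), (nat_lit 0x40fc001)], [(nat_lit 0x5c7c001), (nat_lit 0x4117001), (nat_lit 0x2db8e05c9a002)], [(nat_lit 0x40cf001), (nat_lit 0x27306042ce002), (nat_lit 0x5c31001)], [(nat_lit 0x5c32001), (nat_lit 0x5c3f001), (nat_lit 0x40e2001)], [(nat_lit 0x40dd001), (nat_lit 0x2c4b305c3a002), (nat_lit 0x5c41001)], [(nat_lit 0x5c40001), (nat_lit 0x5c59001), (nat_lit 0x40e4001)], [(nat_lit 0x5c4d001), (nat_lit 0x40f2001), (nat_lit 0x5c62001)], [(nat_lit 0x5c80001), (nat_lit 0x4119001), (nat_lit 0x5c9e001)], [(nat_lit 0x2d22d05c6d002), (nat_lit 0x4103001), (nat_lit 0x2d5b805c93002)], [(nat_lit 0x410b001), (nat_lit 0x2e0be05c71002), (nat_lit 0x5c88001)], [(nat_lit 0x5c87001), (nat_lit 0x24fc305ca4002), (nat_lit 0x411f001)], [(nat_lit 0x2d13d0490b002), (nat_lit 0x5c73001), (nat_lit 0x410d001)], [(nat_lit 0x5caa001), (nat_lit 0x412a001), (nat_lit 0x5cbc001)], [(nat_lit 0x4130001), (nat_lit 0x5caf001), (nat_lit 0x2d01805cb3002)], [(nat_lit 0x2d01805cb2002), (nat_lit 0x5cc2001), (nat_lit 0x4134001)], [(nat_lit 0x5c75001), (nat_lit 0x410f001), (nat_lit 0x5c94001)], [(nat_lit 0x4125001), (nat_lit 0x5c8d001), (nat_lit 0x4124001)], [(nat_lit 0x4111001), (nat_lit 0x5c78001), (nat_lit 0x2daa405c97002)], [(nat_lit 0x2d1e905cc6002), (nat_lit 0x2cb5f05cde002), (nat_lit 0x4155001)], [(nat_lit 0x40f4001), (nat_lit 0x2ea0205c4f002), (nat_lit 0x2ec3c05c63002)], [(nat_lit 0x5c6c001), (nat_lit 0x4102001), (nat_lit 0x2ed0405c92002)], [(nat_lit 0x2ea0205c50002), (nat_lit 0x40f7001), (nat_lit 0x2ea0305c66002)], [(nat_lit 0x4106001), (nat_lit 0x2ebed05c6f002), (nat_lit 0x4107001)], [(nat_lit 0x5c82001), (nat_lit 0x411b001), (nat_lit 0x2ea0605ca1002)], [(nat_lit 0x2ea5105c89002), (nat_lit 0x2dd3d04166002), (nat_lit 0x4120001)], [(nat_lit 0x2e98d05c96002), (nat_lit 0x5ca6001), (nat_lit 0x4126001)], [(nat_lit 0x2db4905cac002), (nat_lit 0x412c001), (nat_lit 0x2db4a05cbe002)], [(nat_lit 0x207f805cc8002), (nat_lit 0x28c6a05cdf002), (nat_lit 0x4156001)], [(nat_lit 0x5ce1001), (nat_lit 0x4158001), (nat_lit 0x5cf3001)], [(nat_lit 0x2e9b105ca9002), (nat_lit 0x5cb9001), (nat_lit 0x4139001)], [(nat_lit 0x414a001), (nat_lit 0x2db4405cd5002), (nat_lit 0x5cea001)], [(nat_lit 0x5ceb001), (nat_lit 0x2db4605cf7002), (nat_lit 0x4163001)], [(nat_lit 0x2db4705cfc002), (nat_lit 0x416b001), (nat_lit 0x5d19001)], [(nat_lit 0x5cd4001), (nat_lit 0x4149001), (nat_lit 0x5ce9001)], [(nat_lit 0x4141001), (nat_lit 0x5ccf001), (nat_lit 0x2d54d05ce5002)], [(nat_lit 0x2d54d05ce4002), (nat_lit 0x2cd4b05cf4002), (nat_lit 0x415a001)], [(nat_lit 0x5cd0001), (nat_lit 0x4147001), (nat_lit 0x2b98005cd3002)], [(nat_lit 0x415f001), (nat_lit 0x5cf5001), (nat_lit 0x415e001)], [(nat_lit 0x2b98205cff002), (nat_lit 0x416f001), (nat_lit 0x2b98305d1d002)], [(nat_lit 0x414d001), (nat_lit 0x5cd8001), (nat_lit 0x5cee001)], [(nat_lit 0x5cef001), (nat_lit 0x2984e05cf9002), (nat_lit 0x4167001)], [(nat_lit 0x413c001), (nat_lit 0x2de1705cbb002), (nat_lit 0x5ccb001)], [(nat_lit 0x5ccc001), (nat_lit 0x2de1905ce0002), (nat_lit 0x4157001)], [(nat_lit 0x4177001), (nat_lit 0x2e43a05d05002), (nat_lit 0x5d0a001)], [(nat_lit 0x5d09001), (nat_lit 0x2e43c05d25002), (nat_lit 0x4180001)], [(nat_lit 0x2e43905cda002), (nat_lit 0x5cdd001), (nat_lit 0x4154001)], [(nat_lit 0x5d02001), (nat_lit 0x4172001), (nat_lit 0x5d20001)], [(nat_lit 0x4179001), (nat_lit 0x2d5d605d07002), (nat_lit 0x5d0e001)], [(nat_lit 0x5d0d001), (nat_lit 0x5d27001), (nat_lit 0x4182001)], [(nat_lit 0x418a001), (nat_lit 0x2e0400418b002), (nat_lit 0x5d15001)], [(nat_lit 0x5d16001), (nat_lit 0x5d48001), (nat_lit 0x41a9001)], [(nat_lit 0x2d91705d36002), (nat_lit 0x4194001), (nat_lit 0x5d5d001)], [(nat_lit 0x419c001), (nat_lit 0x2d64e05d3c002), (nat_lit 0x5d57001)], [(nat_lit 0x5d56001), (nat_lit 0x5d69001), (nat_lit 0x41b3001)], [(nat_lit 0x2ac9605ced002), (nat_lit 0x2b6f905cf8002), (nat_lit 0x4164001)], [(nat_lit 0x2e05a05d0b002), (nat_lit 0x5d26001), (nat_lit 0x4181001)], [(nat_lit 0x4196001), (nat_lit 0x2739905d37002), (nat_lit 0x5d4b001)], [(nat_lit 0x5d4a001), (nat_lit 0x5d65001), (nat_lit 0x41ac001)], [(nat_lit 0x2952705d08002), (nat_lit 0x417c001), (nat_lit 0x2902f05d23002)], [(nat_lit 0x4189001), (nat_lit 0x5d13001), (nat_lit 0x5d2d001)], [(nat_lit 0x5d2e001), (nat_lit 0x5d47001), (nat_lit 0x41a8001)], [(nat_lit 0x419b001), (nat_lit 0x27e8405d3b002), (nat_lit 0x280ac05d55002)], [(nat_lit 0x5d14001), (nat_lit 0x419e001), (nat_lit 0x2aad105d3d002)], [(nat_lit 0x419f001), (nat_lit 0x5d3e001), (nat_lit 0x2e3ac05d60002)], [(nat_lit 0x5d76001), (nat_lit 0x41c8001), (nat_lit 0x1b36605d96002)], [(nat_lit 0x4152001), (nat_lit 0x5cdb001), (nat_lit 0x5cf0001)], [(nat_lit 0x5cf1001), (nat_lit 0x2adcf05cfa002), (nat_lit 0x4168001)], [(nat_lit 0x2779e05cdc002), (nat_lit 0x4153001), (nat_lit 0x5cf2001)], [(nat_lit 0x416a001), (nat_lit 0x5cfb001), (nat_lit 0x4169001)], [(nat_lit 0x5d01001), (nat_lit 0x4171001), (nat_lit 0x5d1f001)], [(nat_lit 0x2778d05d29002), (nat_lit 0x2778e05d45002), (nat_lit 0x41a6001)], [(nat_lit 0x26dc705d32002), (nat_lit 0x418f001), (nat_lit 0x5d5a001)], [(nat_lit 0x4197001), (nat_lit 0x5d38001), (nat_lit 0x5d4e001)], [(nat_lit 0x5d4d001), (nat_lit 0x5d66001), (nat_lit 0x41ad001)], [(nat_lit 0x4185001), (nat_lit 0x5d10001), (nat_lit 0x2d8bf05d2a002)], [(nat_lit 0x2d8bf05d2b002), (nat_lit 0x5d46001), (nat_lit 0x41a7001)], [(nat_lit 0x4191001), (nat_lit 0x5d34001), (nat_lit 0x4192001)], [(nat_lit 0x2a1e005d49002), (nat_lit 0x41aa001), (nat_lit 0x29cd905d63002)], [(nat_lit 0x2d52705d85002), (nat_lit 0x41d6001), (nat_lit 0x2d71305d9c002)], [(nat_lit 0x1f2d305dac002), (nat_lit 0x41f6001), (nat_lit 0x5dba001)], [(nat_lit 0x26c1005d74002), (nat_lit 0x41c5001), (nat_lit 0x2640905d95002)], [(nat_lit 0x5d72001), (nat_lit 0x41c3001), (nat_lit 0x5d93001)], [(nat_lit 0x41c7001), (nat_lit 0x5d75001), (nat_lit 0x2cc2f05d7c002)], [(nat_lit 0x41a1001), (nat_lit 0x41a0001), (nat_lit 0x5d3f001)], [(nat_lit 0x41ca001), (nat_lit 0x5d78001), (nat_lit 0x5d81001)], [(nat_lit 0x5d80001), (nat_lit 0x2c52205d98002), (nat_lit 0x41d1001)], [(nat_lit 0x5d86001), (nat_lit 0x41d7001), (nat_lit 0x5d9d001)], [(nat_lit 0x41df001), (nat_lit 0x2e39d05d8c002), (nat_lit 0x41e0001)], [(nat_lit 0x5d40001), (nat_lit 0x247bf05d42002), (nat_lit 0x41a3001)], [(nat_lit 0x41cc001), (nat_lit 0x2451305d7a002), (nat_lit 0x2402905d83002)], [(nat_lit 0x5d43001), (nat_lit 0x41a4001), (nat_lit 0x5d62001)], [(nat_lit 0x41be001), (nat_lit 0x24b6105d6d002), (nat_lit 0x41bd001)], [(nat_lit 0x41e8001), (nat_lit 0x5da3001), (nat_lit 0x2310a05db2002)], [(nat_lit 0x41d5001), (nat_lit 0x2dcbf05d84002), (nat_lit 0x5d9a001)], [(nat_lit 0x5d9b001), (nat_lit 0x5dab001), (nat_lit 0x41f5001)], [(nat_lit 0x41e5001), (nat_lit 0x2aded05da1002), (nat_lit 0x41e6001)], [(nat_lit 0x2c46f05d8a002), (nat_lit 0x41e9001), (nat_lit 0x5da4001)], [(nat_lit 0x4200001), (nat_lit 0x5db3001), (nat_lit 0x41ff001)], [(nat_lit 0x2ebd505dd9002), (nat_lit 0x421f001), (nat_lit 0x2ebd605df5002)], [(nat_lit 0x422e001), (nat_lit 0x5de7001), (nat_lit 0x422f001)], [(nat_lit 0x2eab905e1f002), (nat_lit 0x424c001), (nat_lit 0x5e34001)], [(nat_lit 0x41f0001), (nat_lit 0x2e36005da6002), (nat_lit 0x41ef001)], [(nat_lit 0x2eaff05dd3002), (nat_lit 0x5df3001), (nat_lit 0x421b001)], [(nat_lit 0x5dc3001), (nat_lit 0x4207001), (nat_lit 0x2e36205de9002)], [(nat_lit 0x2e36305dd5002), (nat_lit 0x5df4001), (nat_lit 0x421c001)], [(nat_lit 0x426f001), (nat_lit 0x5e49001), (nat_lit 0x4270001)], [(nat_lit 0x5e52001), (nat_lit 0x427a001), (nat_lit 0x5e73001)], [(nat_lit 0x41f4001), (nat_lit 0x2ac0a05daa002), (nat_lit 0x5db8001)], [(nat_lit 0x5db9001), (nat_lit 0x5dc2001), (nat_lit 0x4206001)], [(nat_lit 0x4229001), (nat_lit 0x2b37c05de3002), (nat_lit 0x5e01001)], [(nat_lit 0x5e02001), (nat_lit 0x2dfea05e1e002), (nat_lit 0x424a001)], [(nat_lit 0x5e0b001), (nat_lit 0x4236001), (nat_lit 0x2d01b05e2a002)], [(nat_lit 0x423c001), (nat_lit 0x2d8b305e10002), (nat_lit 0x2001205e27002)], [(nat_lit 0x2d09905e42002), (nat_lit 0x4266001), (nat_lit 0x5e68001)], [(nat_lit 0x2b9f005dd8002), (nat_lit 0x2d4e305de0002), (nat_lit 0x4227001)], [(nat_lit 0x5e09001), (nat_lit 0x4234001), (nat_lit 0x2d02805e28002)], [(nat_lit 0x4228001), (nat_lit 0x5de1001), (nat_lit 0x260ff05dff002)], [(nat_lit 0x260ff05e00002), (nat_lit 0x5e1d001), (nat_lit 0x4249001)], [(nat_lit 0x5e0a001), (nat_lit 0x4235001), (nat_lit 0x5e29001)], [(nat_lit 0x423b001), (nat_lit 0x254d005e0f002), (nat_lit 0x5e25001)], [(nat_lit 0x5e24001), (nat_lit 0x290e005e39002), (nat_lit 0x4254001)], [(nat_lit 0x5de2001), (nat_lit 0x423d001), (nat_lit 0x5e11001)], [(nat_lit 0x4285001), (nat_lit 0x5e5a001), (nat_lit 0x5e7a001)], [(nat_lit 0x5e7b001), (nat_lit 0x1f9c805e9e002), (nat_lit 0x42b4001)], [(nat_lit 0x5e67001), (nat_lit 0x4293001), (nat_lit 0x5e84001)], [(nat_lit 0x2a7c105e2f002), (nat_lit 0x27d1505e3b002), (nat_lit 0x425c001)], [(nat_lit 0x2ecb705e45002), (nat_lit 0x4269001), (nat_lit 0x5e6c001)], [(nat_lit 0x4275001), (nat_lit 0x2e06605e4e002), (nat_lit 0x5e59001)], [(nat_lit 0x5e58001), (nat_lit 0x5e79001), (nat_lit 0x4280001)], [(nat_lit 0x4289001), (nat_lit 0x4288001), (nat_lit 0x5e5d001)], [(nat_lit 0x2a42005e96002), (nat_lit 0x42ac001), (nat_lit 0x2a42105ec2002)], [(nat_lit 0x42c5001), (nat_lit 0x5eb3001), (nat_lit 0x42c4001)], [(nat_lit 0x42f1001), (nat_lit 0x42d5001), (nat_lit 0x42e2001)], [(nat_lit 0x5e5e001), (nat_lit 0x2620905e62002), (nat_lit 0x428d001)], [(nat_lit 0x42af001), (nat_lit 0x29dc005e99002), (nat_lit 0x5eb7001)], [(nat_lit 0x5eb6001), (nat_lit 0x23a6405ed1002), (nat_lit 0x42c7001)], [(nat_lit 0x5e15001), (nat_lit 0x4241001), (nat_lit 0x5e30001)], [(nat_lit 0x2df6505e40002), (nat_lit 0x428c001), (nat_lit 0x2e07705e61002)], [(nat_lit 0x429b001), (nat_lit 0x5e8a001), (nat_lit 0x429c001)], [(nat_lit 0x42a8001), (nat_lit 0x5e92001), (nat_lit 0x5eac001)], [(nat_lit 0x5eab001), (nat_lit 0x5ecc001), (nat_lit 0x42c0001)], [(nat_lit 0x2c99605ed9002), (nat_lit 0x42d6001), (nat_lit 0x5f05001)], [(nat_lit 0x42a6001), (nat_lit 0x2d5f605e90002), (nat_lit 0x25bf505ea8002)], [(nat_lit 0x25bf505ea7002), (nat_lit 0x2cc0a05ecb002), (nat_lit 0x42be001)], [(nat_lit 0x2825b05ea1002), (nat_lit 0x42b9001), (nat_lit 0x5ec6001)], [(nat_lit 0x42ae001), (nat_lit 0x2874605e98002), (nat_lit 0x2a6ea05eb5002)], [(nat_lit 0x5ed7001), (nat_lit 0x42d3001), (nat_lit 0x5f02001)], [(nat_lit 0x42e1001), (nat_lit 0x2a93205edf002), (nat_lit 0x42e2001)], [(nat_lit 0x42f1001), (nat_lit 0x5eeb001), (nat_lit 0x42f0001)], [(nat_lit 0x428b001), (nat_lit 0x2db1805e60002), (nat_lit 0x2e1db05e80002)], [(nat_lit 0x2e1db05e81002), (nat_lit 0x1f14b05ea0002), (nat_lit 0x42b6001)], [(nat_lit 0x4291001), (nat_lit 0x4290001), (nat_lit 0x5e64001)], [(nat_lit 0x5ea2001), (nat_lit 0x42ba001), (nat_lit 0x5ec7001)], [(nat_lit 0x292d205eaf002), (nat_lit 0x5ece001), (nat_lit 0x42c2001)], [(nat_lit 0x2b0e005e9a002), (nat_lit 0x42b0001), (nat_lit 0x5ec4001)], [(nat_lit 0x2db8e05c9b002), (nat_lit 0x42d7001), (nat_lit 0x5c7d001)], [(nat_lit 0x5e65001), (nat_lit 0x5e9c001), (nat_lit 0x42b2001)], [(nat_lit 0x2e19c05ed5002), (nat_lit 0x42d1001), (nat_lit 0x5f00001)], [(nat_lit 0x42e7001), (nat_lit 0x2e19b05ee3002), (nat_lit 0x5ef3001)], [(nat_lit 0x5ef2001), (nat_lit 0x5f10001), (nat_lit 0x42f9001)], [(nat_lit 0x1c48705efe002), (nat_lit 0x4301001), (nat_lit 0x5f17001)], [(nat_lit 0x23cec05f2d002), (nat_lit 0x2845205f47002), (nat_lit 0x431d001)], [(nat_lit 0x5eda001), (nat_lit 0x42d9001), (nat_lit 0x5f06001)], [(nat_lit 0x42e4001), (nat_lit 0x5ee1001), (nat_lit 0x5ef0001)], [(nat_lit 0x5eef001), (nat_lit 0x2e76205f0e002), (nat_lit 0x42f4001)], [(nat_lit 0x5ed6001), (nat_lit 0x42d2001), (nat_lit 0x5f01001)], [(nat_lit 0x2d21905eea002), (nat_lit 0x42ef001), (nat_lit 0x5f0b001)], [(nat_lit 0x42e8001), (nat_lit 0x2d74805ee4002), (nat_lit 0x2d74905ef5002)], [(nat_lit 0x5f1b001), (nat_lit 0x4305001), (nat_lit 0x5f3f001)], [(nat_lit 0x4310001), (nat_lit 0x2eb5205f22002), (nat_lit 0x5f32001)], [(nat_lit 0x5f31001), (nat_lit 0x5f49001), (nat_lit 0x431f001)], [(nat_lit 0x1f66c05efb002), (nat_lit 0x42fe001), (nat_lit 0x5f14001)], [(nat_lit 0x4308001), (nat_lit 0x5f1d001), (nat_lit 0x4309001)], [(nat_lit 0x5f4e001), (nat_lit 0x432c001), (nat_lit 0x5f6c001)], [(nat_lit 0x4322001), (nat_lit 0x25ce005f35002), (nat_lit 0x4321001)], [(nat_lit 0x2a1fa05ef6002), (nat_lit 0x5f11001), (nat_lit 0x42fb001)], [(nat_lit 0x5f1a001), (nat_lit 0x4304001), (nat_lit 0x5f3e001)], [(nat_lit 0x42eb001), (nat_lit 0x5ee7001), (nat_lit 0x5ef9001)], [(nat_lit 0x5ef8001), (nat_lit 0x2dff505f12002), (nat_lit 0x42fc001)], [(nat_lit 0x5f1c001), (nat_lit 0x4307001), (nat_lit 0x5f41001)], [(nat_lit 0x5ee8001), (nat_lit 0x42ff001), (nat_lit 0x5efc001)], [(nat_lit 0x430a001), (nat_lit 0x242f705f1e002), (nat_lit 0x430b001)], [(nat_lit 0x5f2c001), (nat_lit 0x431b001), (nat_lit 0x5f45001)], [(nat_lit 0x5f26001), (nat_lit 0x4314001), (nat_lit 0x5f44001)], [(nat_lit 0x4325001), (nat_lit 0x242f305f38002), (nat_lit 0x4324001)], [(nat_lit 0x2e2d905f4f002), (nat_lit 0x432f001), (nat_lit 0x5f6e001)], [(nat_lit 0x5efa001), (nat_lit 0x42fd001), (nat_lit 0x24d8005f13002)], [(nat_lit 0x4300001), (nat_lit 0x24a9905efd002), (nat_lit 0x5f15001)], [(nat_lit 0x5f16001), (nat_lit 0x5f2b001), (nat_lit 0x431a001)], [(nat_lit 0x5f24001), (nat_lit 0x4312001), (nat_lit 0x5f43001)], [(nat_lit 0x5f1f001), (nat_lit 0x430c001), (nat_lit 0x5f42001)], [(nat_lit 0x4311001), (nat_lit 0x5f23001), (nat_lit 0x24aa205f34002)], [(nat_lit 0x5f55001), (nat_lit 0x4336001), (nat_lit 0x5f71001)], [(nat_lit 0x5f66001), (nat_lit 0x434f001), (nat_lit 0x5f79001)], [(nat_lit 0x4315001), (nat_lit 0x5f27001), (nat_lit 0x24aa405f3a002)], [(nat_lit 0x24aa405f39002), (nat_lit 0x2a34e05f4b002), (nat_lit 0x4326001)], [(nat_lit 0x4358001), (nat_lit 0x5f80001), (nat_lit 0x5f94001)], [(nat_lit 0x5f93001), (nat_lit 0x5fab001), (nat_lit 0x436a001)], [(nat_lit 0x4317001), (nat_lit 0x4316001), (nat_lit 0x5f28001)], [(nat_lit 0x4328001), (nat_lit 0x2961f05f3b002), (nat_lit 0x4327001)], [(nat_lit 0x5f29001), (nat_lit 0x5f54001), (nat_lit 0x4335001)], [(nat_lit 0x28f7f05f6b002), (nat_lit 0x4354001), (nat_lit 0x24aaf05f7e002)], [(nat_lit 0x435c001), (nat_lit 0x5f83001), (nat_lit 0x5f9c001)], [(nat_lit 0x5f9b001), (nat_lit 0x2ecbe05faf002), (nat_lit 0x436e001)], [(nat_lit 0x432a001), (nat_lit 0x2dcf505f3c002), (nat_lit 0x4329001)], [(nat_lit 0x2d51005f51002), (nat_lit 0x4331001), (nat_lit 0x29b0905f70002)], [(nat_lit 0x2e68905f5e002), (nat_lit 0x5f76001), (nat_lit 0x4340001)], [(nat_lit 0x2ea1505f56002), (nat_lit 0x4337001), (nat_lit 0x5f72001)], [(nat_lit 0x432b001), (nat_lit 0x1a6d305f3d002), (nat_lit 0x5f4c001)], [(nat_lit 0x5f4d001), (nat_lit 0x5f59001), (nat_lit 0x433d001)], [(nat_lit 0x4347001), (nat_lit 0x26f3405f61002), (nat_lit 0x4346001)], [(nat_lit 0x2e26905f67002), (nat_lit 0x4350001), (nat_lit 0x2e59505f7a002)], [(nat_lit 0x5f84001), (nat_lit 0x435d001), (nat_lit 0x2cf7d05fa2002)], [(nat_lit 0x4370001), (nat_lit 0x2c43405f9d002), (nat_lit 0x436f001)], [(nat_lit 0x2d62f05fb7002), (nat_lit 0x4380001), (nat_lit 0x2d62e05ff5002)], [(nat_lit 0x5f68001), (nat_lit 0x4351001), (nat_lit 0x5f7b001)], [(nat_lit 0x5f90001), (nat_lit 0x4368001), (nat_lit 0x5fa9001)], [(nat_lit 0x4349001), (nat_lit 0x2113b05f62002), (nat_lit 0x4348001)], [(nat_lit 0x5f69001), (nat_lit 0x4352001), (nat_lit 0x2ed4c05f7c002)], [(nat_lit 0x26e4a05f9f002), (nat_lit 0x5fb0001), (nat_lit 0x4373001)], [(nat_lit 0x2e84305fd5002), (nat_lit 0x294bd06003002), (nat_lit 0x439c001)], [(nat_lit 0x433c001), (nat_lit 0x2cf4e05f58002), (nat_lit 0x433b001)], [(nat_lit 0x5f6a001), (nat_lit 0x4353001), (nat_lit 0x5f7d001)], [(nat_lit 0x435b001), (nat_lit 0x5f82001), (nat_lit 0x5f9a001)], [(nat_lit 0x5f99001), (nat_lit 0x5fae001), (nat_lit 0x436d001)], [(nat_lit 0x2d96505f85002), (nat_lit 0x435e001), (nat_lit 0x2e08c05fa3002)], [(nat_lit 0x4372001), (nat_lit 0x2c6f205f9e002), (nat_lit 0x4371001)], [(nat_lit 0x2b79005fb8002), (nat_lit 0x4381001), (nat_lit 0x22dcd05ff6002)], [(nat_lit 0x438c001), (nat_lit 0x5fc1001), (nat_lit 0x5fdc001)], [(nat_lit 0x5fdb001), (nat_lit 0x6006001), (nat_lit 0x439f001)], [(nat_lit 0x5fc6001), (nat_lit 0x4391001), (nat_lit 0x2bc9705ffd002)], [(nat_lit 0x6012001), (nat_lit 0x43bb001), (nat_lit 0x1e91206039002)], [(nat_lit 0x5fef001), (nat_lit 0x43b4001), (nat_lit 0x2dae30600a002)], [(nat_lit 0x2aa4f0602b002), (nat_lit 0x2ce1a043d7002), (nat_lit 0x43d6001)], [(nat_lit 0x1ff560601e002), (nat_lit 0x43c9001), (nat_lit 0x603f001)], [(nat_lit 0x5fbb001), (nat_lit 0x4385001), (nat_lit 0x2ed7505ff9002)], [(nat_lit 0x2e8d605fe1002), (nat_lit 0x6008001), (nat_lit 0x43a5001)], [(nat_lit 0x5fee001), (nat_lit 0x43b3001), (nat_lit 0x6009001)], [(nat_lit 0x43c2001), (nat_lit 0x6017001), (nat_lit 0x6026001)], [(nat_lit 0x6025001), (nat_lit 0x6043001), (nat_lit 0x43d3001)], [(nat_lit 0x4363001), (nat_lit 0x2c65805f8b002), (nat_lit 0x5fa4001)], [(nat_lit 0x5fa5001), (nat_lit 0x2960805fb3002), (nat_lit 0x4379001)], [(nat_lit 0x2960905fbc002), (nat_lit 0x4386001), (nat_lit 0x2960a05ffa002)], [(nat_lit 0x438b001), (nat_lit 0x2960b05fc0002), (nat_lit 0x5fda001)], [(nat_lit 0x5fd9001), (nat_lit 0x2ed4606005002), (nat_lit 0x439e001)], [(nat_lit 0x2c65805f8c002), (nat_lit 0x4366001), (nat_lit 0x2c65705f8e002)], [(nat_lit 0x2b3e705fbd002), (nat_lit 0x4387001), (nat_lit 0x2765a05ffb002)], [(nat_lit 0x5fc7001), (nat_lit 0x4392001), (nat_lit 0x5ffe001)], [(nat_lit 0x4395001), (nat_lit 0x4394001), (nat_lit 0x2931705fca002)], [(nat_lit 0x43ac001), (nat_lit 0x2eb4a05fe6002), (nat_lit 0x43ab001)], [(nat_lit 0x2b40e06014002), (nat_lit 0x43bd001), (nat_lit 0x2b40d0603b002)], [(nat_lit 0x43b5001), (nat_lit 0x2d0ae05ff0002), (nat_lit 0x600b001)], [(nat_lit 0x600c001), (nat_lit 0x2bd4206023002), (nat_lit 0x43d1001)], [(nat_lit 0x601d001), (nat_lit 0x43c8001), (nat_lit 0x603e001)], [(nat_lit 0x43db001), (nat_lit 0x2695c0602e002), (nat_lit 0x43da001)], [(nat_lit 0x443e001), (nat_lit 0x43ea001), (nat_lit 0x442d001)], [(nat_lit 0x2931705fcb002), (nat_lit 0x27abc05fea002), (nat_lit 0x43b0001)], [(nat_lit 0x5ff2001), (nat_lit 0x43b7001), (nat_lit 0x1e88a0600e002)], [(nat_lit 0x601c001), (nat_lit 0x43c7001), (nat_lit 0x603d001)], [(nat_lit 0x43d9001), (nat_lit 0x602d001), (nat_lit 0x43d8001)], [(nat_lit 0x43ca001), (nat_lit 0x601f001), (nat_lit 0x6031001)], [(nat_lit 0x6030001), (nat_lit 0x6045001), (nat_lit 0x43de001)], [(nat_lit 0x283da06036002), (nat_lit 0x43e8001), (nat_lit 0x283db0604b002)], [(nat_lit 0x5fcc001), (nat_lit 0x4396001), (nat_lit 0x5fff001)], [(nat_lit 0x43ae001), (nat_lit 0x2e8dc05fe7002), (nat_lit 0x43ad001)], [(nat_lit 0x2e1e906015002), (nat_lit 0x43be001), (nat_lit 0x603c001)], [(nat_lit 0x2e35205fed002), (nat_lit 0x43cb001), (nat_lit 0x2e35306020002)], [(nat_lit 0x43e0001), (nat_lit 0x2e42d06032002), (nat_lit 0x43df001)], [(nat_lit 0x2e55506059002), (nat_lit 0x43fb001), (nat_lit 0x256f806082002)], [(nat_lit 0x4413001), (nat_lit 0x6072001), (nat_lit 0x4412001)], [(nat_lit 0x6092001), (nat_lit 0x4424001), (nat_lit 0x2e086060bb002)], [(nat_lit 0x2ec0006022002), (nat_lit 0x43d0001), (nat_lit 0x2eb3b06041002)], [(nat_lit 0x43fe001), (nat_lit 0x605c001), (nat_lit 0x2ec3906075002)], [(nat_lit 0x2eac80607c002), (nat_lit 0x4421001), (nat_lit 0x2e64a0608f002)], [(nat_lit 0x442c001), (nat_lit 0x2d9de06098002), (nat_lit 0x442d001)], [(nat_lit 0x443e001), (nat_lit 0x60a8001), (nat_lit 0x443d001)], [(nat_lit 0x6021001), (nat_lit 0x43ce001), (nat_lit 0x6040001)], [(nat_lit 0x605a001), (nat_lit 0x43fc001), (nat_lit 0x27d8106083002)], [(nat_lit 0x4417001), (nat_lit 0x6073001), (nat_lit 0x4416001)], [(nat_lit 0x2535306048002), (nat_lit 0x2535506062002), (nat_lit 0x4406001)], [(nat_lit 0x2535606050002), (nat_lit 0x43f0001), (nat_lit 0x2535706080002)], [(nat_lit 0x43f8001), (nat_lit 0x6056001), (nat_lit 0x2ea820606d002)], [(nat_lit 0x2ea820606c002), (nat_lit 0x2ecca0440f002), (nat_lit 0x440e001)], [(nat_lit 0x6066001), (nat_lit 0x440a001), (nat_lit 0x6089001)], [(nat_lit 0x441b001), (nat_lit 0x6076001), (nat_lit 0x441a001)], [(nat_lit 0x4397001), (nat_lit 0x2e9a105fcd002), (nat_lit 0x2e9a205fe9002)], [(nat_lit 0x5ff1001), (nat_lit 0x43b6001), (nat_lit 0x600d001)], [(nat_lit 0x2ce3206033002), (nat_lit 0x43e3001), (nat_lit 0x2ce3306046002)], [(nat_lit 0x43ee001), (nat_lit 0x604f001), (nat_lit 0x43ef001)], [(nat_lit 0x6065001), (nat_lit 0x4409001), (nat_lit 0x6088001)], [(nat_lit 0x2941e0604a002), (nat_lit 0x6063001), (nat_lit 0x4407001)], [(nat_lit 0x2a95e06051002), (nat_lit 0x43f1001), (nat_lit 0x2942106081002)], [(nat_lit 0x43f9001), (nat_lit 0x6057001), (nat_lit 0x606f001)], [(nat_lit 0x606e001), (nat_lit 0x608d001), (nat_lit 0x4410001)], [(nat_lit 0x43fa001), (nat_lit 0x24d9406058002), (nat_lit 0x6071001)], [(nat_lit 0x6070001), (nat_lit 0x608e001), (nat_lit 0x4411001)], [(nat_lit 0x605d001), (nat_lit 0x4401001), (nat_lit 0x6086001)], [(nat_lit 0x441d001), (nat_lit 0x2805106077002), (nat_lit 0x441c001)], [(nat_lit 0x4404001), (nat_lit 0x605f001), (nat_lit 0x280530607b002)], [(nat_lit 0x442f001), (nat_lit 0x6099001), (nat_lit 0x2b4c9060aa002)], [(nat_lit 0x2b4c9060a9002), (nat_lit 0x2d487060c7002), (nat_lit 0x4440001)], [(nat_lit 0x609b001), (nat_lit 0x4431001), (nat_lit 0x1e885060c0002)], [(nat_lit 0x4443001), (nat_lit 0x1e18e060ad002), (nat_lit 0x4442001)], [(nat_lit 0x4432001), (nat_lit 0x609c001), (nat_lit 0x1e913060af002)], [(nat_lit 0x445e001), (nat_lit 0x60d9001), (nat_lit 0x60e8001)], [(nat_lit 0x60e7001), (nat_lit 0x6109001), (nat_lit 0x446d001)], [(nat_lit 0x6096001), (nat_lit 0x4429001), (nat_lit 0x60bf001)], [(nat_lit 0x4430001), (nat_lit 0x609a001), (nat_lit 0x60ac001)], [(nat_lit 0x60ab001), (nat_lit 0x2e54c060c8002), (nat_lit 0x4441001)], [(nat_lit 0x2e8a306061002), (nat_lit 0x4433001), (nat_lit 0x609d001)], [(nat_lit 0x4446001), (nat_lit 0x2e8a5060b0002), (nat_lit 0x4445001)], [(nat_lit 0x60d6001), (nat_lit 0x4457001), (nat_lit 0x6100001)], [(nat_lit 0x4450001), (nat_lit 0x60b8001), (nat_lit 0x2e463060cd002)], [(nat_lit 0x2e463060ce002), (nat_lit 0x1f13d04471002), (nat_lit 0x4469001)], [(nat_lit 0x4451001), (nat_lit 0x2eaac060b9002), (nat_lit 0x60cf001)], [(nat_lit 0x60d0001), (nat_lit 0x2eaae060e3002), (nat_lit 0x446a001)], [(nat_lit 0x4476001), (nat_lit 0x60f1001), (nat_lit 0x4475001)], [(nat_lit 0x2e29e06114002), (nat_lit 0x4488001), (nat_lit 0x6144001)], [(nat_lit 0x445f001), (nat_lit 0x2e584060da002), (nat_lit 0x60ea001)], [(nat_lit 0x60e9001), (nat_lit 0x2df610610a002), (nat_lit 0x446e001)], [(nat_lit 0x60a1001), (nat_lit 0x4438001), (nat_lit 0x60c3001)], [(nat_lit 0x4465001), (nat_lit 0x60df001), (nat_lit 0x60f4001)], [(nat_lit 0x60f3001), (nat_lit 0x2e7220610d002), (nat_lit 0x4479001)], [(nat_lit 0x448f001), (nat_lit 0x2dda90611b002), (nat_lit 0x2d9ee0612c002)], [(nat_lit 0x2d9ee0612b002), (nat_lit 0x614e001), (nat_lit 0x44a4001)], [(nat_lit 0x609e001), (nat_lit 0x4434001), (nat_lit 0x60c1001)], [(nat_lit 0x4448001), (nat_lit 0x60b1001), (nat_lit 0x4447001)], [(nat_lit 0x4436001), (nat_lit 0x609f001), (nat_lit 0x4435001)], [(nat_lit 0x2d18d060d3002), (nat_lit 0x4453001), (nat_lit 0x2b657060fd002)], [(nat_lit 0x4460001), (nat_lit 0x60db001), (nat_lit 0x60ec001)], [(nat_lit 0x60eb001), (nat_lit 0x610b001), (nat_lit 0x446f001)], [(nat_lit 0x2d5a9060a2002), (nat_lit 0x4439001), (nat_lit 0x2cc88060c4002)], [(nat_lit 0x444c001), (nat_lit 0x60b3001), (nat_lit 0x444b001)], [(nat_lit 0x60d8001), (nat_lit 0x445a001), (nat_lit 0x2ac0006103002)], [(nat_lit 0x4466001), (nat_lit 0x60e0001), (nat_lit 0x2a1d8060f6002)], [(nat_lit 0x2a1d8060f5002), (nat_lit 0x29ccb0610e002), (nat_lit 0x447a001)], [(nat_lit 0x60fb001), (nat_lit 0x4484001), (nat_lit 0x610f001)], [(nat_lit 0x60a0001), (nat_lit 0x4437001), (nat_lit 0x60c2001)], [(nat_lit 0x4454001), (nat_lit 0x2e4e2060d4002), (nat_lit 0x2e4b5060e5002)], [(nat_lit 0x2e00e060de002), (nat_lit 0x4464001), (nat_lit 0x2e00d06105002)], [(nat_lit 0x4478001), (nat_lit 0x2b283060f2002), (nat_lit 0x4477001)], [(nat_lit 0x2e9b9060e6002), (nat_lit 0x446c001), (nat_lit 0x6108001)], [(nat_lit 0x444f001), (nat_lit 0x60b6001), (nat_lit 0x60cb001)], [(nat_lit 0x60cc001), (nat_lit 0x60e2001), (nat_lit 0x4468001)], [(nat_lit 0x4461001), (nat_lit 0x2894c060dc002), (nat_lit 0x27f73060ee002)], [(nat_lit 0x2e04806118002), (nat_lit 0x448b001), (nat_lit 0x6148001)], [(nat_lit 0x4485001), (nat_lit 0x2b54b060fc002), (nat_lit 0x2b38106110002)], [(nat_lit 0x2b38106111002), (nat_lit 0x2ea210612a002), (nat_lit 0x44a2001)], [(nat_lit 0x2a73406121002), (nat_lit 0x4495001), (nat_lit 0x2aef60614b002)], [(nat_lit 0x44a0001), (nat_lit 0x2b8b606128002), (nat_lit 0x613b001)], [(nat_lit 0x613a001), (nat_lit 0x2b8b806153002), (nat_lit 0x44b4001)], [(nat_lit 0x2bb9606120002), (nat_lit 0x4494001), (nat_lit 0x614a001)], [(nat_lit 0x44ab001), (nat_lit 0x2e2f206134002), (nat_lit 0x44aa001)], [(nat_lit 0x615b001), (nat_lit 0x44c0001), (nat_lit 0x619a001)], [(nat_lit 0x4490001), (nat_lit 0x611c001), (nat_lit 0x612e001)], [(nat_lit 0x612d001), (nat_lit 0x2b1130614f002), (nat_lit 0x44a5001)], [(nat_lit 0x448d001), (nat_lit 0x611a001), (nat_lit 0x448e001)], [(nat_lit 0x29ccf0612f002), (nat_lit 0x2983b06150002), (nat_lit 0x44a6001)], [(nat_lit 0x6123001), (nat_lit 0x4497001), (nat_lit 0x28c000614c002)], [(nat_lit 0x2ccb3060e1002), (nat_lit 0x4467001), (nat_lit 0x2ccb406106002)], [(nat_lit 0x4481001), (nat_lit 0x60f9001), (nat_lit 0x4480001)], [(nat_lit 0x2d32706119002), (nat_lit 0x448c001), (nat_lit 0x6149001)], [(nat_lit 0x4496001), (nat_lit 0x2ccb906122002), (nat_lit 0x2e08106136002)], [(nat_lit 0x4492001), (nat_lit 0x2dbb30611e002), (nat_lit 0x6132001)], [(nat_lit 0x6131001), (nat_lit 0x2dbb506151002), (nat_lit 0x44a7001)], [(nat_lit 0x44b0001), (nat_lit 0x6137001), (nat_lit 0x44af001)], [(nat_lit 0x60b7001), (nat_lit 0x4493001), (nat_lit 0x611f001)], [(nat_lit 0x44a9001), (nat_lit 0x2e4dc06133002), (nat_lit 0x44a8001)], [(nat_lit 0x449c001), (nat_lit 0x2e75806125002), (nat_lit 0x449b001)], [(nat_lit 0x2e72c06141002), (nat_lit 0x44bc001), (nat_lit 0x2e72d06158002)], [(nat_lit 0x44cb001), (nat_lit 0x2e4ee06163002), (nat_lit 0x6180001)], [(nat_lit 0x617f001), (nat_lit 0x2d767061a5002), (nat_lit 0x44e3001)], [(nat_lit 0x2aa2a06129002), (nat_lit 0x44a1001), (nat_lit 0x2b47a0614d002)], [(nat_lit 0x44b6001), (nat_lit 0x613c001), (nat_lit 0x44b5001)], [(nat_lit 0x4523001), (nat_lit 0x61d3001), (nat_lit 0x4522001)], [(nat_lit 0x61df001), (nat_lit 0x4532001), (nat_lit 0x61fc001)], [(nat_lit 0x2e6ea06138002), (nat_lit 0x6152001), (nat_lit 0x44b1001)], [(nat_lit 0x6140001), (nat_lit 0x44bb001), (nat_lit 0x6157001)], [(nat_lit 0x44ca001), (nat_lit 0x6162001), (nat_lit 0x617e001)], [(nat_lit 0x617d001), (nat_lit 0x61a4001), (nat_lit 0x44e2001)], [(nat_lit 0x44bd001), (nat_lit 0x29d2906142002), (nat_lit 0x2eb3506159002)], [(nat_lit 0x61ae001), (nat_lit 0x44fb001), (nat_lit 0x61e2001)], [(nat_lit 0x44cc001), (nat_lit 0x22a7a06164002), (nat_lit 0x6182001)], [(nat_lit 0x6181001), (nat_lit 0x294be061a6002), (nat_lit 0x44e4001)], [(nat_lit 0x44d3001), (nat_lit 0x616c001), (nat_lit 0x618c001)], [(nat_lit 0x618b001), (nat_lit 0x61a9001), (nat_lit 0x44ec001)], [(nat_lit 0x616d001), (nat_lit 0x44d8001), (nat_lit 0x6173001)], [(nat_lit 0x4509001), (nat_lit 0x61b9001), (nat_lit 0x256c3061cd002)], [(nat_lit 0x256c3061cc002), (nat_lit 0x1e2860451c002), (nat_lit 0x451b001)], [(nat_lit 0x24a62061bf002), (nat_lit 0x450f001), (nat_lit 0x25041061ed002)], [(nat_lit 0x4506001), (nat_lit 0x61b6001), (nat_lit 0x2e455061c9002)], [(nat_lit 0x2e455061c8002), (nat_lit 0x61f1001), (nat_lit 0x4518001)], [(nat_lit 0x61bd001), (nat_lit 0x450d001), (nat_lit 0x61eb001)], [(nat_lit 0x4521001), (nat_lit 0x61d2001), (nat_lit 0x4520001)], [(nat_lit 0x61c2001), (nat_lit 0x4512001), (nat_lit 0x61ef001)], [(nat_lit 0x452b001), (nat_lit 0x26d70061d7002), (nat_lit 0x452a001)], [(nat_lit 0x2b9c4061ff002), (nat_lit 0x4536001), (nat_lit 0x2af5e0622c002)], [(nat_lit 0x4515001), (nat_lit 0x61c5001), (nat_lit 0x61db001)], [(nat_lit 0x61da001), (nat_lit 0x61f7001), (nat_lit 0x452d001)], [(nat_lit 0x4539001), (nat_lit 0x2dd4906202002), (nat_lit 0x2d5760621a002)], [(nat_lit 0x2d57606219002), (nat_lit 0x6233001), (nat_lit 0x454f001)], [(nat_lit 0x6169001), (nat_lit 0x44d1001), (nat_lit 0x61a1001)], [(nat_lit 0x2d918061ad002), (nat_lit 0x21852061c6002), (nat_lit 0x4516001)], [(nat_lit 0x44d6001), (nat_lit 0x6170001), (nat_lit 0x29b1b0618f002)], [(nat_lit 0x61b1001), (nat_lit 0x44fe001), (nat_lit 0x28741061e5002)], [(nat_lit 0x4507001), (nat_lit 0x21ad9061b7002), (nat_lit 0x61cb001)], [(nat_lit 0x61ca001), (nat_lit 0x61f2001), (nat_lit 0x4519001)], [(nat_lit 0x6171001), (nat_lit 0x44d9001), (nat_lit 0x6174001)], [(nat_lit 0x2eab1061b4002), (nat_lit 0x4501001), (nat_lit 0x61e8001)], [(nat_lit 0x450a001), (nat_lit 0x61ba001), (nat_lit 0x61cf001)], [(nat_lit 0x61ce001), (nat_lit 0x2e5a7061f3002), (nat_lit 0x451d001)], [(nat_lit 0x44da001), (nat_lit 0x6175001), (nat_lit 0x6194001)], [(nat_lit 0x6193001), (nat_lit 0x26438061ab002), (nat_lit 0x44f6001)], [(nat_lit 0x4514001), (nat_lit 0x1e467061c4002), (nat_lit 0x2e2de061d9002)], [(nat_lit 0x27b89061dd002), (nat_lit 0x452f001), (nat_lit 0x61f9001)], [(nat_lit 0x44f8001), (nat_lit 0x44f7001), (nat_lit 0x6195001)], [(nat_lit 0x4504001), (nat_lit 0x61b5001), (nat_lit 0x4505001)], [(nat_lit 0x61c7001), (nat_lit 0x4517001), (nat_lit 0x61f0001)], [(nat_lit 0x6196001), (nat_lit 0x61c3001), (nat_lit 0x4513001)], [(nat_lit 0x453a001), (nat_lit 0x2455b06203002), (nat_lit 0x621c001)], [(nat_lit 0x621b001), (nat_lit 0x2455d06234002), (nat_lit 0x4550001)], [(nat_lit 0x61c1001), (nat_lit 0x4511001), (nat_lit 0x61ee001)], [(nat_lit 0x4529001), (nat_lit 0x235b7061d6002), (nat_lit 0x4528001)], [(nat_lit 0x2e8c706208002), (nat_lit 0x4544001), (nat_lit 0x2e8c80620e002)], [(nat_lit 0x455d001), (nat_lit 0x2e45906226002), (nat_lit 0x455c001)], [(nat_lit 0x6240001), (nat_lit 0x4569001), (nat_lit 0x6276001)], [(nat_lit 0x4564001), (nat_lit 0x22b820623b002), (nat_lit 0x6254001)], [(nat_lit 0x6253001), (nat_lit 0x45b2001), (nat_lit 0x457e001)], [(nat_lit 0x2b29b06242002), (nat_lit 0x456c001), (nat_lit 0x6279001)], [(nat_lit 0x4540001), (nat_lit 0x453f001), (nat_lit 0x2cb6506209002)], [(nat_lit 0x454a001), (nat_lit 0x6212001), (nat_lit 0x2a00306229002)], [(nat_lit 0x6249001), (nat_lit 0x4574001), (nat_lit 0x627a001)], [(nat_lit 0x628f001), (nat_lit 0x459c001), (nat_lit 0x62a8001)], [(nat_lit 0x4572001), (nat_lit 0x6247001), (nat_lit 0x2c61506262002)], [(nat_lit 0x2c61506261002), (nat_lit 0x2884306285002), (nat_lit 0x4586001)], [(nat_lit 0x2515c0626c002), (nat_lit 0x6289001), (nat_lit 0x4596001)], [(nat_lit 0x459a001), (nat_lit 0x6270001), (nat_lit 0x628b001)], [(nat_lit 0x628c001), (nat_lit 0x2579d0629e002), (nat_lit 0x45b0001)], [(nat_lit 0x4542001), (nat_lit 0x265040620c002), (nat_lit 0x6224001)], [(nat_lit 0x6223001), (nat_lit 0x275d706237002), (nat_lit 0x4559001)], [(nat_lit 0x4565001), (nat_lit 0x623c001), (nat_lit 0x6256001)], [(nat_lit 0x6255001), (nat_lit 0x261330627f002), (nat_lit 0x457f001)], [(nat_lit 0x2d1eb0624c002), (nat_lit 0x4577001), (nat_lit 0x627c001)], [(nat_lit 0x458e001), (nat_lit 0x6269001), (nat_lit 0x458d001)], [(nat_lit 0x2925106292002), (nat_lit 0x459e001), (nat_lit 0x29529062ab002)], [(nat_lit 0x4547001), (nat_lit 0x620f001), (nat_lit 0x4546001)], [(nat_lit 0x6241001), (nat_lit 0x456a001), (nat_lit 0x6277001)], [(nat_lit 0x2a7a406211002), (nat_lit 0x4549001), (nat_lit 0x2a7a50622e002)], [(nat_lit 0x4573001), (nat_lit 0x2a6b406248002), (nat_lit 0x6264001)], [(nat_lit 0x6263001), (nat_lit 0x6286001), (nat_lit 0x4587001)], [(nat_lit 0x624f001), (nat_lit 0x457a001), (nat_lit 0x2b61d0627e002)], [(nat_lit 0x2660206295002), (nat_lit 0x45a1001), (nat_lit 0x26601062af002)], [(nat_lit 0x46a4001), (nat_lit 0x457d001), (nat_lit 0x6252001)], [(nat_lit 0x4598001), (nat_lit 0x626e001), (nat_lit 0x4597001)], [(nat_lit 0x6296001), (nat_lit 0x45a2001), (nat_lit 0x62b0001)], [(nat_lit 0x2a2770628e002), (nat_lit 0x45b2001), (nat_lit 0x45b1001)], [(nat_lit 0x6297001), (nat_lit 0x45a3001), (nat_lit 0x62b1001)], [(nat_lit 0x45b4001), (nat_lit 0x629f001), (nat_lit 0x45b3001)], [(nat_lit 0x62bd001), (nat_lit 0x45c5001), (nat_lit 0x62e9001)], [(nat_lit 0x456f001), (nat_lit 0x22c1b06245002), (nat_lit 0x22c1c0625c002)], [(nat_lit 0x455b001), (nat_lit 0x6225001), (nat_lit 0x455a001)], [(nat_lit 0x623f001), (nat_lit 0x4568001), (nat_lit 0x6275001)], [(nat_lit 0x62be001), (nat_lit 0x45c6001), (nat_lit 0x62ea001)], [(nat_lit 0x45cb001), (nat_lit 0x2acfb062c2002), (nat_lit 0x2d792062d7002)], [(nat_lit 0x45c1001), (nat_lit 0x62a7001), (nat_lit 0x62b9001)], [(nat_lit 0x62ba001), (nat_lit 0x62cf001), (nat_lit 0x45d9001)], [(nat_lit 0x62c4001), (nat_lit 0x45cd001), (nat_lit 0x62ed001)], [(nat_lit 0x45e0001), (nat_lit 0x22572062da002), (nat_lit 0x45df001)], [(nat_lit 0x24932062fc002), (nat_lit 0x45f2001), (nat_lit 0x632d001)], [(nat_lit 0x629b001), (nat_lit 0x45aa001), (nat_lit 0x62b3001)], [(nat_lit 0x45bb001), (nat_lit 0x62a3001), (nat_lit 0x45ba001)], [(nat_lit 0x62bf001), (nat_lit 0x45c7001), (nat_lit 0x62eb001)], [(nat_lit 0x45ae001), (nat_lit 0x629c001), (nat_lit 0x2b814062a6002)], [(nat_lit 0x2b814062a5002), (nat_lit 0x62b7001), (nat_lit 0x45bf001)], [(nat_lit 0x45e4001), (nat_lit 0x62dc001), (nat_lit 0x45e3001)], [(nat_lit 0x22a1f062ff002), (nat_lit 0x45f4001), (nat_lit 0x22a2006330002)], [(nat_lit 0x45d2001), (nat_lit 0x4698001), (nat_lit 0x2b981062c7002)], [(nat_lit 0x2b981062c8002), (nat_lit 0x29817062df002), (nat_lit 0x45e6001)], [(nat_lit 0x45f8001), (nat_lit 0x2c54a06303002), (nat_lit 0x2c01906316002)], [(nat_lit 0x2de150629d002), (nat_lit 0x45af001), (nat_lit 0x2503f062b4002)], [(nat_lit 0x45ca001), (nat_lit 0x288a6062c1002), (nat_lit 0x62d5001)], [(nat_lit 0x62d4001), (nat_lit 0x22843062f1002), (nat_lit 0x45dc001)], [(nat_lit 0x45c2001), (nat_lit 0x22402062bb002), (nat_lit 0x62d1001)], [(nat_lit 0x62d0001), (nat_lit 0x22008062ef002), (nat_lit 0x45da001)], [(nat_lit 0x45e2001), (nat_lit 0x62db001), (nat_lit 0x45e1001)], [(nat_lit 0x62fd001), (nat_lit 0x45f3001), (nat_lit 0x632e001)], [(nat_lit 0x45d3001), (nat_lit 0x255bf062c9002), (nat_lit 0x62e1001)], [(nat_lit 0x62e0001), (nat_lit 0x62f5001), (nat_lit 0x45e7001)], [(nat_lit 0x1c489062e5002), (nat_lit 0x45ed001), (nat_lit 0x62f7001)], [(nat_lit 0x2e18e06311002), (nat_lit 0x460a001), (nat_lit 0x2e18d06337002)], [(nat_lit 0x462a001), (nat_lit 0x1bd9d0634b002), (nat_lit 0x635e001)], [(nat_lit 0x635d001), (nat_lit 0x6382001), (nat_lit 0x463c001)], [(nat_lit 0x45d7001), (nat_lit 0x45d6001), (nat_lit 0x2bd5b062cc002)], [(nat_lit 0x45ef001), (nat_lit 0x2e386062e6002), (nat_lit 0x2e080062f9002)], [(nat_lit 0x2e080062fa002), (nat_lit 0x2e6a906314002), (nat_lit 0x460d001)], [(nat_lit 0x62e7001), (nat_lit 0x45f0001), (nat_lit 0x62fb001)], [(nat_lit 0x6313001), (nat_lit 0x460c001), (nat_lit 0x6339001)], [(nat_lit 0x462c001), (nat_lit 0x634d001), (nat_lit 0x2eb6706360002)], [(nat_lit 0x2eb670635f002), (nat_lit 0x6383001), (nat_lit 0x463d001)], [(nat_lit 0x241f90631e002), (nat_lit 0x2c1dd0633e002), (nat_lit 0x4615001)], [(nat_lit 0x4620001), (nat_lit 0x632a001), (nat_lit 0x461f001)], [(nat_lit 0x634c001), (nat_lit 0x462b001), (nat_lit 0x637c001)], [(nat_lit 0x632b001), (nat_lit 0x4621001), (nat_lit 0x6343001)], [(nat_lit 0x462d001), (nat_lit 0x634e001), (nat_lit 0x27bb606362002)], [(nat_lit 0x27bb606361002), (nat_lit 0x6384001), (nat_lit 0x463e001)], [(nat_lit 0x461c001), (nat_lit 0x6327001), (nat_lit 0x461b001)], [(nat_lit 0x2258e0634a002), (nat_lit 0x4629001), (nat_lit 0x2258f0637b002)], [(nat_lit 0x4609001), (nat_lit 0x2bf9e06310002), (nat_lit 0x6329001)], [(nat_lit 0x6328001), (nat_lit 0x466e001), (nat_lit 0x461e001)], [(nat_lit 0x462f001), (nat_lit 0x295fc06350002), (nat_lit 0x6366001)], [(nat_lit 0x6365001), (nat_lit 0x6388001), (nat_lit 0x4641001)], [(nat_lit 0x25ee106351002), (nat_lit 0x4630001), (nat_lit 0x25ee20637d002)], [(nat_lit 0x4643001), (nat_lit 0x6367001), (nat_lit 0x4642001)], [(nat_lit 0x25ee406395002), (nat_lit 0x4651001), (nat_lit 0x46da001)], [(nat_lit 0x4655001), (nat_lit 0x2b4b906399002), (nat_lit 0x63ae001)], [(nat_lit 0x63ad001), (nat_lit 0x63d2001), (nat_lit 0x466f001)], [(nat_lit 0x461a001), (nat_lit 0x6326001), (nat_lit 0x4619001)], [(nat_lit 0x2a24606349002), (nat_lit 0x4628001), (nat_lit 0x2a74f0637a002)], [(nat_lit 0x4607001), (nat_lit 0x630e001), (nat_lit 0x4606001)], [(nat_lit 0x462e001), (nat_lit 0x634f001), (nat_lit 0x6364001)], [(nat_lit 0x6363001), (nat_lit 0x6387001), (nat_lit 0x4640001)], [(nat_lit 0x635a001), (nat_lit 0x4639001), (nat_lit 0x2986306381002)], [(nat_lit 0x6355001), (nat_lit 0x4634001), (nat_lit 0x637e001)], [(nat_lit 0x4672001), (nat_lit 0x63b0001), (nat_lit 0x4671001)], [(nat_lit 0x63dc001), (nat_lit 0x4687001), (nat_lit 0x264a00640e002)], [(nat_lit 0x21ed706397002), (nat_lit 0x4653001), (nat_lit 0x21ed8063c8002)], [(nat_lit 0x464e001), (nat_lit 0x6371001), (nat_lit 0x6390001)], [(nat_lit 0x6391001), (nat_lit 0x466e001), (nat_lit 0x466d001)], [(nat_lit 0x21edc0639e002), (nat_lit 0x465c001), (nat_lit 0x21edd063cd002)]]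

theorem rows4_ok : okRows data table 191944 8000 rows4 = true := by decide +kernel

theorem rows4_len : rows4.length = 2000 := by decide +kernel

end CfsgLib.CosetEnum.ONJA
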